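import Mathlib.GroupTheory.Commutator.Basic
import Mathlib.GroupTheory.OrderOfElement
import Mathlib.GroupTheory.Nilpotent
import Mathlib.GroupTheory.Subgroup.Centralizer
import Mathlib.GroupTheory.PGroup
import Mathlib.GroupTheory.Abelianization.Defs
import Mathlib.Data.Nat.Choose.Dvd
import Mathlib.GroupTheory.Perm.Cycle.Type

set_option autoImplicit false

namespace CfsgLib.OddLocal

open Subgroup

universe u
variable {G : Type u} [Group G]

/-- An element of order coprime to `#N` that stabilizes `1 ≤ N` modulo `z` fixes. -/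
theorem conj_eq_of_stabilizes (N : Subgroup G) (a h : G) (hz : a * h * a⁻¹ * h⁻¹ ∈ N)
    (hfix : a * (a * h * a⁻¹ * h⁻¹) * a⁻¹ = a * h * a⁻¹ * h⁻¹)
    (hcop : (orderOf a).Coprime (Nat.card N)) : a * h * a⁻¹ = h := by
  set z := a * h * a⁻¹ * h⁻¹ with hzdef
  have hza : Commute a z := by
    have := mul_inv_eq_iff_eq_mul.mp hfix
    exact this
  have hi : ∀ i : ℕ, a ^ i * h * (a ^ i)⁻¹ = z ^ i * h := by
    intro i
    induction i with
    | zero => simp
    | succ i ih =>
      have e1 : a ^ (i + 1) * h * (a ^ (i + 1))⁻¹ = a * (a ^ i * h * (a ^ i)⁻¹) * a⁻¹ := by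
        rw [pow_succ']; group
      rw [e1, ih, pow_succ]
      have e2 : a * (z ^ i * h) * a⁻¹ = (a * z ^ i * a⁻¹) * (a * h * a⁻¹) := by group
      rw [e2, (hza.pow_right i).eq, mul_inv_cancel_right, hzdef]
      group
  have h1 := hi (orderOf a)
  rw [pow_orderOf_eq_one] at h1
  have hz1 : z ^ orderOf a = 1 := mul_right_cancel (b := h) (by rw [← h1]; simp)
  have hz2 : z = 1 := by
    rw [← orderOf_eq_one_iff]
    exact Nat.eq_one_of_dvd_coprimes hcop (orderOf_dvd_of_pow_eq_one hz1)
      (Subgroup.orderOf_dvd_natCard N hz)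
  calc a * h * a⁻¹ = z * h := by rw [hzdef]; group
    _ = h := by rw [hz2, one_mul]

/-- A subgroup `A` of order coprime to `#H` acting trivially on `N` and on `H` modulo `N` centralizes `H`. -/
theorem le_centralizer_of_stabilizes {H N A : Subgroup G} (hNH : N ≤ H)
    (hcop : (Nat.card A).Coprime (Nat.card H))
    (h1 : A ≤ Subgroup.centralizer (N : Set G)) (h2 : ∀ a ∈ A, ∀ h ∈ H, a * h * a⁻¹ * h⁻¹ ∈ N) :
    A ≤ Subgroup.centralizer (H : Set G) := by
  intro a ha
  rw [Subgroup.mem_centralizer_iff]
  intro h hh
  have hz := h2 a ha h hh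
  have := conj_eq_of_stabilizes N a h hz
    (mul_inv_eq_iff_eq_mul.mpr ((Subgroup.mem_centralizer_iff.mp (h1 ha) _ hz).symm))
    (((hcop.coprime_dvd_left (Subgroup.orderOf_dvd_natCard A ha))).coprime_dvd_right
      (Subgroup.card_dvd_of_le hNH))
  exact (mul_inv_eq_iff_eq_mul.mp this).symm

/-- If the fixed points of a coprime action on a nilpotent group contain their own centralizer, the action is trivial. -/
theorem le_centralizer_of_centralizer_fixed_le [Finite G] {H A : Subgroup G}
    (hH : Group.IsNilpotent H) (hA : A ≤ Subgroup.normalizer (H : Set G))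
    (hcop : (Nat.card A).Coprime (Nat.card H))
    (hC : H ⊓ Subgroup.centralizer (((H ⊓ Subgroup.centralizer (A : Set G)) : Subgroup G) : Set G)
      ≤ H ⊓ Subgroup.centralizer (A : Set G)) :
    A ≤ Subgroup.centralizer (H : Set G) := by
  set C := H ⊓ Subgroup.centralizer (A : Set G) with hCdef
  have hCH : C ≤ H := inf_le_left
  have hfix : ∀ a ∈ A, ∀ c ∈ C, a * c = c * a := fun a ha c hc =>
    Subgroup.mem_centralizer_iff.mp hc.2 a ha
  let N := H ⊓ Subgroup.normalizer (C : Set G)
  have hstab : ∀ a ∈ A, ∀ n ∈ N, a * n * a⁻¹ * n⁻¹ ∈ C := by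
    intro a ha n hn
    have hanH : a * n * a⁻¹ ∈ H := (Subgroup.mem_normalizer_iff.mp (hA ha) n).mp hn.1
    have hconj : ∀ c ∈ C, (a * n * a⁻¹) * c * (a * n * a⁻¹)⁻¹ = n * c * n⁻¹ := by
      intro c hc
      have e1 : a⁻¹ * c * a = c := by rw [mul_assoc, ← hfix a ha c hc, inv_mul_cancel_left]
      have hnc : n * c * n⁻¹ ∈ C := (Subgroup.mem_normalizer_iff.mp hn.2 c).mp hc
      calc (a * n * a⁻¹) * c * (a * n * a⁻¹)⁻¹
          = a * (n * (a⁻¹ * c * a) * n⁻¹) * a⁻¹ := by group
        _ = a * (n * c * n⁻¹) * a⁻¹ := by rw [e1]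
        _ = n * c * n⁻¹ := by rw [hfix a ha _ hnc, mul_inv_cancel_right]
    refine hC ⟨H.mul_mem hanH (H.inv_mem hn.1), Subgroup.mem_centralizer_iff.mpr fun c hc => ?_⟩
    have hcn : n⁻¹ * c * n ∈ C := by
      have := (Subgroup.mem_normalizer_iff.mp ((Subgroup.normalizer _).inv_mem hn.2) c).mp hc
      simpa using this
    have h := hconj _ hcn
    have e2 : n * (n⁻¹ * c * n) * n⁻¹ = c := by group
    rw [e2] at h
    have h' : (a * n * a⁻¹ * n⁻¹) * c * (a * n * a⁻¹ * n⁻¹)⁻¹ = c := by
      calc _ = (a * n * a⁻¹) * (n⁻¹ * c * n) * (a * n * a⁻¹)⁻¹ := by group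
        _ = c := h
    exact (mul_inv_eq_iff_eq_mul.mp h').symm
  have hN : A ≤ Subgroup.centralizer (N : Set G) :=
    le_centralizer_of_stabilizes (le_inf hCH Subgroup.le_normalizer)
      (hcop.coprime_dvd_right (Subgroup.card_dvd_of_le inf_le_left))
      (fun a ha => Subgroup.mem_centralizer_iff.mpr fun c hc => (hfix a ha c hc).symm) hstab
  have hNC : N ≤ C := le_inf inf_le_left (Subgroup.le_centralizer_iff.mp hN)
  have hCeq : C.subgroupOf H = ⊤ := by
    apply normalizerCondition_iff_only_full_group_self_normalizing.mp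
      Group.normalizerCondition_of_isNilpotent
    refine le_antisymm (fun x hx => ?_) Subgroup.le_normalizer
    refine Subgroup.mem_subgroupOf.mpr (hNC ⟨x.2, ?_⟩)
    show (x : G) ∈ Subgroup.normalizer (C : Set G)
    rw [Subgroup.mem_normalizer_iff]
    intro c
    by_cases hc : c ∈ H
    · exact Subgroup.mem_normalizer_iff.mp hx ⟨c, hc⟩
    · refine iff_of_false (fun h => hc (hCH h)) (fun h => hc ?_)
      have h' := H.mul_mem (H.mul_mem (H.inv_mem x.2) (hCH h)) x.2
      simpa [mul_assoc] using h'
  have hHC : H ≤ Subgroup.centralizer (A : Set G) :=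
    (Subgroup.subgroupOf_eq_top.mp hCeq).trans inf_le_right
  exact Subgroup.le_centralizer_iff.mp hHC

/-- A `p'`-group fixing every element of order `p` of a `p`-group (`p` odd) centralizes it. -/
theorem le_centralizer_of_fixes_order_p [Finite G] {p : ℕ} [hp : Fact p.Prime] (hp2 : p ≠ 2)
    {R A : Subgroup G} (hR : IsPGroup p R) (hA : A ≤ Subgroup.normalizer (R : Set G))
    (hcop : (Nat.card A).Coprime p)
    (hfix : ∀ x ∈ R, x ^ p = 1 → ∀ a ∈ A, a * x * a⁻¹ = x) :
    A ≤ Subgroup.centralizer (R : Set G) := by
  induction h : Nat.card R using Nat.strong_induction_on generalizing R with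
  | _ n ih =>
    subst h
    have hcopR : (Nat.card A).Coprime (Nat.card R) := by
      obtain ⟨m, hm⟩ := IsPGroup.iff_card.mp hR
      rw [hm]
      exact hcop.pow_right m
    have hsmall : ∀ S : Subgroup G, S ≤ R → S ≠ R → A ≤ Subgroup.normalizer (S : Set G) →
        A ≤ Subgroup.centralizer (S : Set G) := fun S hS hne hAS =>
      ih (Nat.card S) (lt_of_le_of_ne (Nat.le_of_dvd Nat.card_pos (Subgroup.card_dvd_of_le hS))
        (fun h => hne (Subgroup.eq_of_le_of_card_ge hS h.ge))) (hR.to_le hS) hAS
        (fun x hx => hfix x (hS hx)) rfl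
    by_cases htriv : ⁅A, R⁆ = ⊥
    · exact Subgroup.commutator_eq_bot_iff_le_centralizer.mp htriv
    have hAA : A ≤ Subgroup.normalizer ((⁅A, R⁆ : Subgroup G) : Set G) := by
      intro a ha
      rw [Subgroup.mem_normalizer_iff_map_conj_eq, Subgroup.map_commutator,
        Subgroup.mem_normalizer_iff_map_conj_eq.mp (hA ha),
        Subgroup.mem_normalizer_iff_map_conj_eq.mp (Subgroup.le_normalizer ha)]
    have hle : ⁅A, R⁆ ≤ R := by
      rw [Subgroup.commutator_le]
      intro a ha r hr
      exact R.mul_mem ((Subgroup.mem_normalizer_iff.mp (hA ha) r).mp hr) (R.inv_mem hr)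
    have hmem : ∀ a ∈ A, ∀ r ∈ R, a * r * a⁻¹ * r⁻¹ ∈ ⁅A, R⁆ := fun a ha r hr =>
      Subgroup.commutator_mem_commutator ha hr
    by_cases hne : ⁅A, R⁆ = R
    · have hRn : R ≠ ⊥ := fun h => htriv (le_bot_iff.mp (h ▸ hle))
      have : Group.IsNilpotent R := hR.isNilpotent
      have hlt : ⁅R, R⁆ ≠ R := by
        intro h
        have : Nontrivial R := (Subgroup.nontrivial_iff_ne_bot R).mpr hRn
        have hh : commutator R = ⊤ := by
          apply Subgroup.map_injective R.subtype_injective
          rw [← MonoidHom.range_eq_map, Subgroup.range_subtype, _root_.commutator_def,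
            Subgroup.map_commutator, ← MonoidHom.range_eq_map, Subgroup.range_subtype, h]
        have := Group.IsSolvable.commutator_lt_top_of_nontrivial (G := R)
        exact this.ne hh
      have hDle : ⁅R, R⁆ ≤ R := Subgroup.commutator_le.mpr fun a ha b hb =>
        R.mul_mem (R.mul_mem (R.mul_mem ha hb) (R.inv_mem ha)) (R.inv_mem hb)
      have hnormD : A ≤ Subgroup.normalizer ((⁅R, R⁆ : Subgroup G) : Set G) := by
        intro a ha
        rw [Subgroup.mem_normalizer_iff_map_conj_eq, Subgroup.map_commutator,
          Subgroup.mem_normalizer_iff_map_conj_eq.mp (hA ha)]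
      have hAD := hsmall _ hDle hlt hnormD
      -- `[R', A] = 1` and `R = [A, R]` make `R'` central
      have hDcent : ∀ d ∈ ⁅R, R⁆, ∀ r ∈ R, r * d = d * r := by
        have key : ⁅⁅A, R⁆, ⁅R, R⁆⁆ = ⊥ := by
          apply Subgroup.commutator_commutator_eq_bot_of_rotate
          · rw [Subgroup.commutator_eq_bot_iff_le_centralizer]
            refine le_trans ?_ (Subgroup.le_centralizer_iff.mp hAD)
            rw [Subgroup.commutator_le]
            exact fun r hr d hd => Subgroup.commutator_mem_commutator hr (hDle hd)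
          · rw [Subgroup.commutator_comm ⁅R, R⁆ A,
              Subgroup.commutator_eq_bot_iff_le_centralizer.mpr hAD,
              Subgroup.commutator_bot_left]
        rw [hne, Subgroup.commutator_eq_bot_iff_le_centralizer] at key
        exact fun d hd r hr => (Subgroup.mem_centralizer_iff.mp (key hr) d hd).symm
      -- the subgroup generated by `p`-th powers and `R'` is proper, invariant
      have hpow : ∀ a ∈ A, ∀ r ∈ R, a * r ^ p * a⁻¹ = r ^ p := by
        let Φ : Subgroup G := Subgroup.closure {x | ∃ r ∈ R, x = r ^ p} ⊔ ⁅R, R⁆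
        have hΦle : Φ ≤ R := sup_le ((Subgroup.closure_le R).mpr (by
          rintro _ ⟨r, hr, rfl⟩; exact R.pow_mem hr p)) hDle
        have hΦne : Φ ≠ R := by
          intro heq
          let T : Subgroup R := (powMonoidHom p : Abelianization R →* Abelianization R).range.comap
            Abelianization.of
          have hT : Φ ≤ T.map R.subtype := sup_le ((Subgroup.closure_le _).mpr (by
              rintro _ ⟨r, hr, rfl⟩
              exact ⟨⟨r, hr⟩ ^ p, ⟨Abelianization.of ⟨r, hr⟩, (map_pow Abelianization.of _ _).symm⟩, rfl⟩)) (by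
              have hm : (commutator R).map R.subtype = ⁅R, R⁆ := by
                rw [_root_.commutator_def, Subgroup.map_commutator, ← MonoidHom.range_eq_map,
                  Subgroup.range_subtype]
              refine hm ▸ Subgroup.map_mono fun x hx => ?_
              rw [← Abelianization.ker_of, MonoidHom.mem_ker] at hx
              exact Subgroup.mem_comap.mpr (hx.symm ▸ Subgroup.one_mem _))
          have hof : Function.Surjective (Abelianization.of : R →* Abelianization R) :=
            fun z => QuotientGroup.mk'_surjective _ z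
          have : Finite (Abelianization R) := Finite.of_surjective _ hof
          have hsurj : Function.Surjective (powMonoidHom p : Abelianization R →* Abelianization R) := by
            intro z
            obtain ⟨x, rfl⟩ := hof z
            have hxΦ : (x : G) ∈ Φ := heq.symm ▸ x.2
            obtain ⟨y, hy, hyx⟩ := hT hxΦ
            have : y = x := Subtype.ext hyx
            exact this ▸ hy
          have hQ : IsPGroup p (Abelianization R) :=
            hR.of_surjective Abelianization.of hof
          rcases hQ.card_eq_or_dvd with h1 | h1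
          · apply hlt
            have : commutator R = ⊤ := by
              rw [← Abelianization.ker_of, eq_top_iff]
              intro x _
              have := (Nat.card_eq_one_iff_unique.mp h1).1
              exact MonoidHom.mem_ker.mpr (Subsingleton.elim _ _)
            rw [← R.range_subtype, MonoidHom.range_eq_map, ← Subgroup.map_commutator,
              ← _root_.commutator_def, this]
          · obtain ⟨z, hz⟩ := exists_prime_orderOf_dvd_card' (G := Abelianization R) p h1
            have hz1 : z = 1 := Finite.injective_iff_surjective.mpr hsurj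
              (by simp [powMonoidHom_apply, ← hz, pow_orderOf_eq_one] : powMonoidHom p z = powMonoidHom p 1)
            exact hp.out.ne_one (by rw [← hz, hz1, orderOf_one])
        have hΦn : A ≤ Subgroup.normalizer (Φ : Set G) := by
          intro a ha
          rw [Subgroup.mem_normalizer_iff_map_conj_eq, Subgroup.map_sup,
            Subgroup.mem_normalizer_iff_map_conj_eq.mp (hnormD ha), MonoidHom.map_closure]
          congr 2
          ext y
          constructor
          · rintro ⟨_, ⟨r, hr, rfl⟩, rfl⟩
            exact ⟨a * r * a⁻¹, (Subgroup.mem_normalizer_iff.mp (hA ha) r).mp hr, conj_pow.symm⟩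
          · rintro ⟨r, hr, rfl⟩
            refine ⟨(a⁻¹ * r * a) ^ p, ⟨_, ?_, rfl⟩, ?_⟩
            · refine (Subgroup.mem_normalizer_iff.mp (hA ha) _).mpr ?_
              simpa [mul_assoc] using hr
            · show a * (a⁻¹ * r * a) ^ p * a⁻¹ = r ^ p
              rw [← conj_pow]; congr 1; group
        intro a ha r hr
        exact mul_inv_eq_iff_eq_mul.mpr (Subgroup.mem_centralizer_iff.mp
          (hsmall Φ hΦle hΦne hΦn ha) _
          (Subgroup.mem_sup_left (Subgroup.subset_closure ⟨r, hr, rfl⟩))).symm
      -- hence every `[a, r]` has order dividing `p`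
      refine le_centralizer_of_stabilizes (N := R ⊓ Subgroup.centralizer (A : Set G)) inf_le_left
        hcopR (Subgroup.le_centralizer_iff.mp inf_le_right) ?_
      intro a ha r hr
      have hy : a * r * a⁻¹ ∈ R := (Subgroup.mem_normalizer_iff.mp (hA ha) r).mp hr
      refine ⟨hle (hmem a ha r hr), Subgroup.mem_centralizer_iff.mpr fun b hb => ?_⟩
      have hxp : (a * r * a⁻¹ * r⁻¹) ^ p = 1 := by
        set y := a * r * a⁻¹ with hy_def
        have hyp : y ^ p = r ^ p := by rw [hy_def, conj_pow]; exact hpow a ha r hr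
        set c := r⁻¹ * y * r * y⁻¹ with hc_def
        have hcD : c ∈ ⁅R, R⁆ := by
          have := Subgroup.commutator_mem_commutator (H₁ := R) (H₂ := R) (R.inv_mem hr) hy
          rwa [commutatorElement_def, inv_inv] at this
        have hcy : Commute y c := hDcent c hcD y hy
        have hcr : Commute r c := hDcent c hcD r hr
        have hswap : r⁻¹ * y = c * y * r⁻¹ := by rw [hc_def]; group
        have hswapn : ∀ k : ℕ, r⁻¹ * y ^ k = c ^ k * y ^ k * r⁻¹ := by
          intro k
          induction k with
          | zero => simp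
          | succ k ihk =>
            rw [pow_succ, ← mul_assoc, ihk, mul_assoc (c ^ k * y ^ k) r⁻¹ y, hswap, pow_succ]
            calc c ^ k * y ^ k * (c * y * r⁻¹) = c ^ k * (y ^ k * c) * y * r⁻¹ := by group
              _ = c ^ k * (c * y ^ k) * y * r⁻¹ := by rw [(hcy.pow_left k).eq]
              _ = c ^ k * c * (y ^ k * y) * r⁻¹ := by group
        have hcp : c ^ p = 1 := by
          have h1 := hswapn p
          rw [hyp] at h1
          have h2 : r⁻¹ * r ^ p = r ^ p * r⁻¹ := (Commute.inv_left (Commute.self_pow r p)).eq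
          rw [h2, mul_assoc] at h1
          have := mul_right_cancel (b := r ^ p * r⁻¹) (h1.symm.trans (one_mul _).symm)
          exact this
        have hpc : ∀ k : ℕ, (y * r⁻¹) ^ k = c ^ (Nat.choose k 2) * y ^ k * (r⁻¹) ^ k := by
          intro k
          induction k with
          | zero => simp
          | succ k ihk =>
            have hm : (r⁻¹) ^ k * y = c ^ k * y * (r⁻¹) ^ k := by
              clear ihk
              induction k with
              | zero => simp
              | succ k ihk =>
                calc (r⁻¹) ^ (k + 1) * y = r⁻¹ * ((r⁻¹) ^ k * y) := by rw [pow_succ', mul_assoc]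
                  _ = r⁻¹ * c ^ k * y * (r⁻¹) ^ k := by rw [ihk]; group
                  _ = c ^ k * r⁻¹ * y * (r⁻¹) ^ k := by
                    rw [((Commute.inv_left hcr).pow_right k).eq]
                  _ = c ^ k * (r⁻¹ * y) * (r⁻¹) ^ k := by group
                  _ = c ^ k * c * y * (r⁻¹ * (r⁻¹) ^ k) := by rw [hswap]; group
                  _ = c ^ (k + 1) * y * (r⁻¹) ^ (k + 1) := by rw [← pow_succ', ← pow_succ]
            calc (y * r⁻¹) ^ (k + 1) = (y * r⁻¹) ^ k * (y * r⁻¹) := pow_succ _ _
              _ = c ^ Nat.choose k 2 * y ^ k * ((r⁻¹) ^ k * y) * r⁻¹ := by rw [ihk]; group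
              _ = c ^ Nat.choose k 2 * (y ^ k * c ^ k) * y * ((r⁻¹) ^ k * r⁻¹) := by rw [hm]; group
              _ = c ^ Nat.choose k 2 * (c ^ k * y ^ k) * y * ((r⁻¹) ^ k * r⁻¹) := by
                rw [((hcy.pow_left k).pow_right k).eq]
              _ = c ^ Nat.choose k 2 * c ^ k * (y ^ k * y) * ((r⁻¹) ^ k * r⁻¹) := by group
              _ = c ^ Nat.choose (k + 1) 2 * y ^ (k + 1) * (r⁻¹) ^ (k + 1) := by
                rw [← pow_add, ← pow_succ, ← pow_succ, Nat.choose_succ_succ' k 1, Nat.choose_one_right,
                  Nat.add_comm k (Nat.choose k 2)]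
        rw [hpc p, hyp, inv_pow, mul_inv_cancel_right]
        obtain ⟨m, hm⟩ : p ∣ Nat.choose p 2 :=
          Nat.Prime.dvd_choose_self hp.out (by norm_num) (lt_of_le_of_ne hp.out.two_le (Ne.symm hp2))
        rw [hm, pow_mul, hcp, one_pow]
      exact mul_inv_eq_iff_eq_mul.mp (hfix _ (hle (hmem a ha r hr)) hxp b hb)
    · exact le_centralizer_of_stabilizes hle hcopR
        (hsmall _ hle hne hAA) hmem

end CfsgLib.OddLocal
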