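import Mathlib.GroupTheory.PGroup
import Mathlib.GroupTheory.Subgroup.Centralizer
import Mathlib.GroupTheory.QuotientGroup.Basic
import Mathlib.GroupTheory.GroupAction.Quotient
import Mathlib.GroupTheory.GroupAction.ConjAct
import Mathlib.GroupTheory.Sylow

set_option autoImplicit false

namespace CfsgLib.OddLocal

open Subgroup

universe u
variable {G : Type u} [Group G]

/-- In a finite `p`-group, a nontrivial normal subgroup meets the centre nontrivially. -/
theorem exists_center_of_normal_ne_bot [Finite G] {p : ℕ} [hp : Fact p.Prime] (hG : IsPGroup p G)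
    (N : Subgroup G) [N.Normal] (hN : N ≠ ⊥) : ∃ x ∈ N, x ≠ 1 ∧ x ∈ Subgroup.center G := by
  have hNp : IsPGroup p N := hG.to_subgroup N
  have : Nontrivial N := (Subgroup.nontrivial_iff_ne_bot N).mpr hN
  obtain ⟨n, hn, hcard⟩ := (hNp.nontrivial_iff_card).mp this
  have hdvd : p ∣ Nat.card N := by rw [hcard]; exact dvd_pow_self p hn.ne'
  have hC : IsPGroup p (ConjAct G) := hG.of_equiv ConjAct.toConjAct
  have h1 : (1 : N) ∈ MulAction.fixedPoints (ConjAct G) N := fun g => smul_one g
  obtain ⟨b, hb, hb1⟩ := hC.exists_fixed_point_of_prime_dvd_card_of_fixed_point N hdvd h1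
  refine ⟨b, b.2, fun h => hb1 (Subtype.ext h.symm), Subgroup.mem_center_iff.mpr fun g => ?_⟩
  have h := congrArg (Subtype.val) (hb (ConjAct.toConjAct g))
  rw [ConjAct.Subgroup.val_conj_smul, ConjAct.toConjAct_smul] at h
  exact mul_inv_eq_iff_eq_mul.mp h

/-- A finite `p`-group has, above any normal subgroup `N` inside a strictly larger normal subgroup `M`,
an element central modulo `N`. -/
theorem exists_central_mod [Finite G] {p : ℕ} [hp : Fact p.Prime] (hG : IsPGroup p G)
    (N M : Subgroup G) [N.Normal] [M.Normal] (hlt : N < M) :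
    ∃ x ∈ M, x ∉ N ∧ ∀ g : G, g * x * g⁻¹ * x⁻¹ ∈ N := by
  let f := QuotientGroup.mk' N
  have : (M.map f).Normal := Subgroup.Normal.map inferInstance f (QuotientGroup.mk'_surjective N)
  have hne : M.map f ≠ ⊥ := by
    rw [Ne, Subgroup.map_eq_bot_iff, QuotientGroup.ker_mk']
    exact hlt.not_ge
  obtain ⟨y, hy, hy1, hyc⟩ := exists_center_of_normal_ne_bot (hG.to_quotient N) (M.map f) hne
  obtain ⟨x, hx, rfl⟩ := hy
  refine ⟨x, hx, fun h => hy1 ((QuotientGroup.eq_one_iff x).mpr h), fun g => ?_⟩
  rw [← QuotientGroup.eq_one_iff (N := N)]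
  show f (g * x * g⁻¹ * x⁻¹) = 1
  rw [map_mul, map_mul, map_mul, map_inv, map_inv, Subgroup.mem_center_iff.mp hyc (f g)]
  group

/-- A finite `p`-group has a self-centralizing normal subgroup above every normal abelian one. -/
theorem exists_normal_self_centralizing [Finite G] {p : ℕ} [hp : Fact p.Prime] (hG : IsPGroup p G)
    (B : Subgroup G) [B.Normal] (hB : IsMulCommutative B) :
    ∃ A : Subgroup G, B ≤ A ∧ A.Normal ∧ IsMulCommutative A ∧
      Subgroup.centralizer (A : Set G) = A := by
  obtain ⟨A, hBA, hA⟩ := Finite.exists_le_maximal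
    (p := fun A : Subgroup G => A.Normal ∧ IsMulCommutative A) (a := B) ⟨inferInstance, hB⟩
  have := hA.prop.1
  have hle : A ≤ Subgroup.centralizer (A : Set G) :=
    Subgroup.le_centralizer_iff_isMulCommutative.mpr hA.prop.2
  refine ⟨A, hBA, hA.prop.1, hA.prop.2, le_antisymm ?_ hle⟩
  by_contra hne
  obtain ⟨x, hx, hxA, hxc⟩ := exists_central_mod hG A _ (lt_of_le_not_ge hle hne)
  have hcomm : IsMulCommutative (A ⊔ Subgroup.zpowers x : Subgroup G) := by
    rw [← Subgroup.closure_eq A, Subgroup.zpowers_eq_closure, ← Subgroup.closure_union]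
    apply Subgroup.isMulCommutative_closure
    intro a ha b hb
    rcases ha with ha | ha <;> rcases hb with hb | hb
    · exact Subgroup.mem_centralizer_iff.mp (hle hb) a ha
    · rw [Set.mem_singleton_iff.mp hb]
      exact Subgroup.mem_centralizer_iff.mp hx a ha
    · rw [Set.mem_singleton_iff.mp ha]
      exact (Subgroup.mem_centralizer_iff.mp hx b hb).symm
    · rw [Set.mem_singleton_iff.mp ha, Set.mem_singleton_iff.mp hb]
  have hn : (A ⊔ Subgroup.zpowers x).Normal := by
    refine ⟨fun n hn g => ?_⟩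
    have h : (A ⊔ Subgroup.zpowers x).map (MulAut.conj g).toMonoidHom ≤ A ⊔ Subgroup.zpowers x := by
      rw [Subgroup.map_sup, MonoidHom.map_zpowers, sup_le_iff]
      refine ⟨?_, ?_⟩
      · rintro _ ⟨a, ha, rfl⟩
        exact Subgroup.mem_sup_left (Subgroup.Normal.conj_mem inferInstance a ha g)
      · rw [Subgroup.zpowers_le]
        have : g * x * g⁻¹ = (g * x * g⁻¹ * x⁻¹) * x := by group
        show g * x * g⁻¹ ∈ A ⊔ Subgroup.zpowers x
        rw [this]
        exact Subgroup.mul_mem_sup (hxc g) (Subgroup.mem_zpowers x)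
    exact h ⟨n, hn, rfl⟩
  exact hxA (hA.le_of_ge ⟨hn, hcomm⟩ le_sup_left (Subgroup.mem_sup_right (Subgroup.mem_zpowers x)))

end CfsgLib.OddLocal
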