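import Cfsg.Agent.Lib.OddLocal.FittingHall

set_option autoImplicit false

namespace CfsgLib.OddLocal

open Subgroup

universe u
variable {G : Type u} [Group G]

theorem card_eq_mul_of_isComplIn [Finite G] {A B M : Subgroup G} (h : Cfsg.IsComplIn A B M) :
    Nat.card M = Nat.card A * Nat.card B := by
  obtain ⟨hA, hB, hinf, hsurj⟩ := h
  let f : A × B → M := fun ab => ⟨(ab.1 : G) * ab.2, M.mul_mem (hA ab.1.2) (hB ab.2.2)⟩
  have hbij : Function.Bijective f := by
    refine ⟨fun x y hxy => ?_, fun m => ?_⟩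
    · exact Subgroup.mul_injective_of_disjoint (disjoint_iff.mpr hinf) (congrArg Subtype.val hxy)
    · obtain ⟨a, ha, b, hb, he⟩ := hsurj m m.2
      exact ⟨(⟨a, ha⟩, ⟨b, hb⟩), Subtype.ext he.symm⟩
  rw [← Nat.card_congr (Equiv.ofBijective f hbij), Nat.card_prod]

theorem relIndex_of_isComplIn [Finite G] {A B M : Subgroup G} (h : Cfsg.IsComplIn A B M) :
    A.relIndex M = Nat.card B := by
  apply Nat.eq_of_mul_eq_mul_left (Nat.card_pos (α := A))
  rw [← card_eq_mul_of_isComplIn h, Subgroup.relIndex,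
    ← Nat.card_congr (Subgroup.subgroupOfEquivOfLe h.1).toEquiv, Subgroup.card_mul_index]

/-- In a finite cyclic group subgroups of equal order are equal. -/
theorem eq_of_card_eq_of_isCyclic [Finite G] [IsCyclic G] {A B : Subgroup G}
    (h : Nat.card A = Nat.card B) : A = B := by
  let _ : CommGroup G := { (inferInstance : Group G) with
    mul_comm := fun a b => (IsCyclic.isMulCommutative (α := G)).is_comm.comm a b }
  have key : ∀ C : Subgroup G, C = (powMonoidHom (Nat.card C) : G →* G).ker := by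
    intro C
    refine Subgroup.eq_of_le_of_card_ge (fun x hx => ?_) ?_
    · exact MonoidHom.mem_ker.mpr (orderOf_dvd_iff_pow_eq_one.mp (Subgroup.orderOf_dvd_natCard C hx))
    · rw [IsCyclic.card_powMonoidHom_ker, Nat.gcd_eq_right (Subgroup.card_subgroup_dvd_card C)]
  rw [key A, key B, h]

section TypeP

variable [Finite G] {M W₁ U W₂ : Subgroup G}

theorem typeP_card (hP : Cfsg.IsTypePWith M W₁ U W₂) :
    (Nat.card (Cfsg.fittingHallOf M)).Coprime (Nat.card U) := by
  have h := fittingHallOf_coprime_relIndex M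
  refine h.coprime_dvd_right ?_
  rw [← Subgroup.relIndex_mul_relIndex (Cfsg.fittingHallOf M) ⁅M, M⁆ M hP.U_compl.1
    (Subgroup.commutator_le.mpr fun a ha b hb =>
      M.mul_mem (M.mul_mem (M.mul_mem ha hb) (M.inv_mem ha)) (M.inv_mem hb)),
    relIndex_of_isComplIn hP.U_compl]
  exact dvd_mul_right _ _

theorem typeP_U_inf_fitting (hP : Cfsg.IsTypePWith M W₁ U W₂) :
    U ⊓ Cfsg.fittingOf M ≤ Subgroup.centralizer (Cfsg.fittingHallOf M : Set G) := by
  refine le_centralizer_of_coprime_of_le_nilpotent (fittingOf_isNilpotent M) inf_le_right ?_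
    ((typeP_card hP).symm.coprime_dvd_left (Subgroup.card_dvd_of_le inf_le_left))
  rw [← hP.fitting_eq]
  exact le_sup_left

/-- `F(M) = H C_U(H)` for type-P data. -/
theorem typeP_fitting (hP : Cfsg.IsTypePWith M W₁ U W₂) :
    Cfsg.fittingOf M =
      Cfsg.fittingHallOf M ⊔ (U ⊓ Subgroup.centralizer (Cfsg.fittingHallOf M : Set G)) := by
  refine le_antisymm (fun f hf => ?_) ?_
  · obtain ⟨h, hh, u, hu, rfl⟩ := hP.U_compl.2.2.2 f (hP.fitting_le hf)
    refine Subgroup.mul_mem_sup hh ⟨hu, typeP_U_inf_fitting hP ⟨hu, ?_⟩⟩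
    have hhF : h ∈ Cfsg.fittingOf M := hP.fitting_eq ▸ Subgroup.mem_sup_left hh
    exact (Subgroup.mul_mem_cancel_left _ hhF).mp hf
  · rw [← hP.fitting_eq]
    refine sup_le le_sup_left (le_sup_of_le_right (le_inf ?_ inf_le_right))
    refine inf_le_left.trans (hP.U_compl.2.1.trans ?_)
    exact Subgroup.commutator_le.mpr fun a ha b hb =>
      M.mul_mem (M.mul_mem (M.mul_mem ha hb) (M.inv_mem ha)) (M.inv_mem hb)

end TypeP

end CfsgLib.OddLocal
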