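import Cfsg.Prelude.Def_OddOrderLocal
import Cfsg.Agent.Lib.Solvable.Fitting

set_option autoImplicit false

namespace CfsgLib.OddLocal

open Subgroup

universe u
variable {G : Type u} [Group G]

/-- In a finite nilpotent group, elements of coprime order commute. -/
theorem commute_of_coprime_of_isNilpotent [Finite G] (h : Group.IsNilpotent G) {x y : G}
    (hcop : (orderOf x).Coprime (orderOf y)) : Commute x y := by
  obtain ⟨φ⟩ := ((Group.isNilpotent_of_finite_tfae (G := G)).out 0 4).mp h
  apply φ.symm.injective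
  funext p P
  rw [map_mul, map_mul]
  show φ.symm x p P * φ.symm y p P = φ.symm y p P * φ.symm x p P
  have hx : orderOf (φ.symm x p P) ∣ orderOf x := orderOf_dvd_of_pow_eq_one (by
    rw [← Pi.pow_apply, ← Pi.pow_apply, ← map_pow, pow_orderOf_eq_one, map_one]; rfl)
  have hy : orderOf (φ.symm y p P) ∣ orderOf y := orderOf_dvd_of_pow_eq_one (by
    rw [← Pi.pow_apply, ← Pi.pow_apply, ← map_pow, pow_orderOf_eq_one, map_one]; rfl)
  have hp : Fact (Nat.Prime (p : ℕ)) := ⟨Nat.prime_of_mem_primeFactors p.2⟩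
  by_cases h1 : φ.symm x p P = 1
  · rw [h1, one_mul, mul_one]
  by_cases h2 : φ.symm y p P = 1
  · rw [h2, one_mul, mul_one]
  exact absurd (Nat.eq_one_of_dvd_coprimes hcop ((P.2.dvd_orderOf h1).trans hx)
    ((P.2.dvd_orderOf h2).trans hy)) hp.out.ne_one

/-- Subgroups of coprime order of a nilpotent subgroup centralize each other. -/
theorem le_centralizer_of_coprime_of_le_nilpotent [Finite G] {A B F : Subgroup G}
    (hF : Group.IsNilpotent F) (hA : A ≤ F) (hB : B ≤ F)
    (hcop : (Nat.card A).Coprime (Nat.card B)) : A ≤ Subgroup.centralizer (B : Set G) := by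
  intro a ha
  rw [Subgroup.mem_centralizer_iff]
  intro b hb
  have := commute_of_coprime_of_isNilpotent hF (x := ⟨b, hB hb⟩) (y := ⟨a, hA ha⟩) (by
    rw [← Subgroup.orderOf_coe, ← Subgroup.orderOf_coe]
    exact (hcop.symm.coprime_dvd_left (Subgroup.orderOf_dvd_natCard B hb)).coprime_dvd_right
      (Subgroup.orderOf_dvd_natCard A ha))
  exact congrArg Subtype.val this.eq

/-- `M_F` is a nilpotent Hall subgroup of `M`. -/
theorem fittingHall_spec (M : Type u) [Group M] [Finite M] :
    Group.IsNilpotent (Cfsg.fittingHall M) ∧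
      (Nat.card (Cfsg.fittingHall M)).Coprime (Cfsg.fittingHall M).index :=
  (CfsgLib.Solvable.sSup_induction_normal
    (P := fun N : Subgroup M => Group.IsNilpotent N ∧ (Nat.card N).Coprime N.index)
    ⟨inferInstance, by simp⟩
    (fun A B hA hB h1 h2 => by
      have := hA; have := hB
      refine ⟨CfsgLib.Solvable.isNilpotent_sup h1.1 h2.1, ?_⟩
      exact (Nat.Coprime.mul_left
        (h1.2.coprime_dvd_right (Subgroup.index_dvd_of_le le_sup_left))
        (h2.2.coprime_dvd_right (Subgroup.index_dvd_of_le le_sup_right))).coprime_dvd_left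
        (CfsgLib.Solvable.card_sup_dvd A B))
    _ fun N hN => ⟨hN.1, hN.2.1, hN.2.2⟩).2

theorem fittingHallOf_le (M : Subgroup G) : Cfsg.fittingHallOf M ≤ M :=
  Subgroup.map_subtype_le _

theorem fittingOf_le (M : Subgroup G) : Cfsg.fittingOf M ≤ M :=
  Subgroup.map_subtype_le _

theorem subgroupOf_fittingHallOf (M : Subgroup G) :
    (Cfsg.fittingHallOf M).subgroupOf M = Cfsg.fittingHall M :=
  Subgroup.comap_map_eq_self_of_injective M.subtype_injective _

theorem fittingHallOf_isNilpotent [Finite G] (M : Subgroup G) :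
    Group.IsNilpotent (Cfsg.fittingHallOf M) :=
  have := (fittingHall_spec M).1
  (Group.isNilpotent_congr (Subgroup.equivMapOfInjective _ M.subtype M.subtype_injective)).mp this

theorem fittingOf_isNilpotent [Finite G] (M : Subgroup G) :
    Group.IsNilpotent (Cfsg.fittingOf M) :=
  have := CfsgLib.Solvable.fittingSubgroup_isNilpotent (G := M)
  (Group.isNilpotent_congr (Subgroup.equivMapOfInjective _ M.subtype M.subtype_injective)).mp this

theorem fittingHallOf_coprime_relIndex [Finite G] (M : Subgroup G) :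
    (Nat.card (Cfsg.fittingHallOf M)).Coprime ((Cfsg.fittingHallOf M).relIndex M) := by
  rw [Cfsg.fittingHallOf, Subgroup.card_map_of_injective M.subtype_injective, Subgroup.relIndex]
  show (Nat.card (Cfsg.fittingHall M)).Coprime
    ((Cfsg.fittingHall M).map M.subtype |>.subgroupOf M).index
  rw [Subgroup.subgroupOf, Subgroup.comap_map_eq_self_of_injective M.subtype_injective]
  exact (fittingHall_spec M).2

theorem le_normalizer_fittingHallOf (M : Subgroup G) :
    M ≤ Subgroup.normalizer (Cfsg.fittingHallOf M : Set G) := by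
  intro m hm
  rw [Subgroup.mem_normalizer_iff]
  intro x
  constructor
  · rintro ⟨y, hy, rfl⟩
    exact ⟨⟨m, hm⟩ * y * ⟨m, hm⟩⁻¹, Subgroup.Normal.conj_mem inferInstance y hy ⟨m, hm⟩, rfl⟩
  · rintro ⟨y, hy, hyx⟩
    refine ⟨⟨m, hm⟩⁻¹ * y * ⟨m, hm⟩, ?_, ?_⟩
    · exact Subgroup.Normal.conj_mem' inferInstance y hy ⟨m, hm⟩
    · show m⁻¹ * (y : G) * m = x
      rw [show (y : G) = m * x * m⁻¹ from hyx]
      group

/-- A normal nilpotent Hall subgroup of `M` lies in `M_F`. -/
theorem le_fittingHallOf (M N : Subgroup G) (hNM : N ≤ M)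
    (hn : M ≤ Subgroup.normalizer (N : Set G)) (hnil : Group.IsNilpotent N)
    (hcop : (Nat.card N).Coprime (N.relIndex M)) : N ≤ Cfsg.fittingHallOf M := by
  have h : N.subgroupOf M ≤ Cfsg.fittingHall M :=
    le_sSup ⟨(Subgroup.normal_subgroupOf_iff_le_normalizer hNM).mpr hn,
      (Group.isNilpotent_congr (Subgroup.subgroupOfEquivOfLe hNM)).mpr hnil, by
      rw [Nat.card_congr (Subgroup.subgroupOfEquivOfLe hNM).toEquiv]
      exact hcop⟩
  have := Subgroup.map_mono (f := M.subtype) h
  rwa [Subgroup.map_subgroupOf_eq_of_le hNM] at this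

end CfsgLib.OddLocal
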