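import Cfsg.Prelude.Def_OddOrderLocal
import Cfsg.Agent.Lib.Solvable.Basic

set_option autoImplicit false

namespace CfsgLib.OddLocal

open Subgroup

universe u
variable {G : Type u} [Group G]

theorem piCore_spec [Finite G] (π : Set ℕ) :
    ∀ p : ℕ, p.Prime → p ∣ Nat.card (Cfsg.piCore π G) → p ∈ π :=
  (CfsgLib.Solvable.sSup_induction_normal
    (P := fun N : Subgroup G => ∀ p : ℕ, p.Prime → p ∣ Nat.card N → p ∈ π)
    (fun p hp h => absurd (Nat.dvd_one.mp (Subgroup.card_bot (G := G) ▸ h)) hp.ne_one)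
    (fun A B _ hB h1 h2 p hp hd => by
      have := hB
      exact (hp.dvd_mul.mp (hd.trans (CfsgLib.Solvable.card_sup_dvd A B))).elim (h1 p hp) (h2 p hp))
    _ fun N hN => ⟨hN.1, hN.2⟩).2

theorem le_piCore {π : Set ℕ} {N : Subgroup G} (hN : N.Normal)
    (h : ∀ p : ℕ, p.Prime → p ∣ Nat.card N → p ∈ π) : N ≤ Cfsg.piCore π G :=
  le_sSup ⟨hN, h⟩

theorem piCoreOf_le (π : Set ℕ) (X : Subgroup G) : Cfsg.piCoreOf π X ≤ X :=
  Subgroup.map_subtype_le _

theorem piCoreOf_spec [Finite G] (π : Set ℕ) (X : Subgroup G) :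
    ∀ p : ℕ, p.Prime → p ∣ Nat.card (Cfsg.piCoreOf π X) → p ∈ π := by
  intro p hp hd
  rw [Cfsg.piCoreOf, Subgroup.card_map_of_injective X.subtype_injective] at hd
  exact piCore_spec π p hp hd

theorem le_piCoreOf {π : Set ℕ} {N X : Subgroup G} (hNX : N ≤ X)
    (hn : X ≤ Subgroup.normalizer (N : Set G))
    (h : ∀ p : ℕ, p.Prime → p ∣ Nat.card N → p ∈ π) : N ≤ Cfsg.piCoreOf π X := by
  have h' : N.subgroupOf X ≤ Cfsg.piCore π X :=
    le_piCore ((Subgroup.normal_subgroupOf_iff_le_normalizer hNX).mpr hn) fun p hp hd =>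
      h p hp (Nat.card_congr (Subgroup.subgroupOfEquivOfLe hNX).toEquiv ▸ hd)
  have := Subgroup.map_mono (f := X.subtype) h'
  rwa [Subgroup.map_subgroupOf_eq_of_le hNX] at this

/-- An automorphism fixing `X` fixes `O_π(X)`. -/
theorem map_conj_piCoreOf [Finite G] (π : Set ℕ) {X : Subgroup G} {g : G}
    (hg : g ∈ Subgroup.normalizer (X : Set G)) :
    g ∈ Subgroup.normalizer (Cfsg.piCoreOf π X : Set G) := by
  have key : ∀ g : G, g ∈ Subgroup.normalizer (X : Set G) →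
      (Cfsg.piCoreOf π X).map (MulAut.conj g).toMonoidHom ≤ Cfsg.piCoreOf π X := by
    intro g hg
    have hX : X.map (MulAut.conj g).toMonoidHom = X := Subgroup.mem_normalizer_iff_map_conj_eq.mp hg
    refine le_piCoreOf ((Subgroup.map_mono (piCoreOf_le π X)).trans hX.le) ?_ fun p hp hd => ?_
    · intro x hx
      rw [← hX] at hx
      obtain ⟨y, hy, rfl⟩ := hx
      have hy' : (MulAut.conj g).toMonoidHom y ∈ (X.map (MulAut.conj g).toMonoidHom) := ⟨y, hy, rfl⟩
      rw [Subgroup.mem_normalizer_iff_map_conj_eq]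
      have hyn : y ∈ Subgroup.normalizer (Cfsg.piCoreOf π X : Set G) := by
        rw [Subgroup.mem_normalizer_iff]
        intro z
        constructor
        · rintro ⟨w, hw, rfl⟩
          exact ⟨⟨y, hy⟩ * w * ⟨y, hy⟩⁻¹, Subgroup.Normal.conj_mem inferInstance w hw _, rfl⟩
        · rintro ⟨w, hw, hwz⟩
          refine ⟨⟨y, hy⟩⁻¹ * w * ⟨y, hy⟩, Subgroup.Normal.conj_mem' inferInstance w hw _, ?_⟩
          show y⁻¹ * (w : G) * y = z
          rw [show (w : G) = y * z * y⁻¹ from hwz]; group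
      have h1 := Subgroup.mem_normalizer_iff_map_conj_eq.mp hyn
      rw [Subgroup.map_map]
      conv_rhs => rw [← h1]
      rw [Subgroup.map_map]
      congr 1
      ext z
      show g * y * g⁻¹ * (g * z * g⁻¹) * (g * y * g⁻¹)⁻¹ = g * (y * z * y⁻¹) * g⁻¹
      group
    · exact piCoreOf_spec π X p hp (by
        rwa [Subgroup.card_map_of_injective (MulAut.conj g).injective] at hd)
  rw [Subgroup.mem_normalizer_iff_map_conj_eq]
  refine le_antisymm (key g hg) fun x hx => ?_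
  refine ⟨g⁻¹ * x * g, key g⁻¹ (inv_mem hg) ⟨x, hx, ?_⟩, ?_⟩
  · show g⁻¹ * x * g⁻¹⁻¹ = g⁻¹ * x * g
    group
  · show g * (g⁻¹ * x * g) * g⁻¹ = x
    group

theorem le_normalizer_piCoreOf [Finite G] (π : Set ℕ) (X : Subgroup G) :
    Subgroup.normalizer (X : Set G) ≤ Subgroup.normalizer (Cfsg.piCoreOf π X : Set G) :=
  fun _ hg => map_conj_piCoreOf π hg

end CfsgLib.OddLocal
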