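import Cfsg.Prelude.Def_OddOrderLocal
import Cfsg.Prelude.Def_LieExceptional
import Cfsg.Agent.Lib.OddLocal.FittingHall
import Cfsg.Agent.Lib.Solvable.Fitting
import Cfsg.Agent.Lib.Solvable.PCore
import Cfsg.Agent.Lib.Solvable.Nilpotent
import Cfsg.Agent.Lib.Solvable.MinNormal
import Cfsg.Agent.Lib.Coprime.Action
import Mathlib.GroupTheory.Sylow

/-!
# CN-groups: basic properties
-/

set_option autoImplicit false

namespace CfsgLib.OddLocal

open Subgroup

universe u

variable {G : Type u} [Group G]

/-- A subgroup in which elements of prime-power orders for different primes commute is nilpotent. -/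
theorem isNilpotent_of_commute [Finite G] (K : Subgroup G)
    (h : ∀ p q : ℕ, p.Prime → q.Prime → p ≠ q → ∀ a ∈ K, ∀ b ∈ K, ∀ i j : ℕ,
      a ^ p ^ i = 1 → b ^ q ^ j = 1 → a * b = b * a) : Group.IsNilpotent K := by
  refine ((Group.isNilpotent_of_finite_tfae (G := K)).out 3 0 rfl rfl).mp ?_
  intro p hp P
  rw [← Subgroup.normalizer_eq_top_iff]
  refine CfsgLib.Solvable.eq_top_of_forall_prime fun q hq hd => ?_
  by_cases hqp : q = p
  · subst hqp
    exact P.not_dvd_index (hd.trans (Subgroup.index_dvd_of_le Subgroup.le_normalizer))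
  · have : Fact q.Prime := ⟨hq⟩
    obtain ⟨Q⟩ := (inferInstance : Nonempty (Sylow q K))
    refine Q.not_dvd_index (hd.trans (Subgroup.index_dvd_of_le ?_))
    intro b hb
    obtain ⟨j, hj⟩ := Q.2 ⟨b, hb⟩
    have hb' : b ∈ Subgroup.centralizer ((P : Subgroup K) : Set K) := by
      rw [Subgroup.mem_centralizer_iff]
      intro a ha
      obtain ⟨i, hi⟩ := P.2 ⟨a, ha⟩
      exact Subtype.ext (h p q hp.out hq (Ne.symm hqp) a.1 a.2 b.1 b.2 i j
        (congrArg (fun z : (P : Subgroup K) => ((z : K) : G)) hi)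
        (congrArg (fun z : (Q : Subgroup K) => ((z : K) : G)) hj))
    exact Subgroup.centralizer_le_normalizer _ hb'

theorem isNilpotent_of_le {A B : Subgroup G} (hB : Group.IsNilpotent B) (h : A ≤ B) :
    Group.IsNilpotent A := by
  have := hB
  exact (Group.isNilpotent_congr (Subgroup.subgroupOfEquivOfLe h)).mp inferInstance

theorem isNilpotent_map {H : Type*} [Group H] (f : G →* H) {A : Subgroup G} (hA : Group.IsNilpotent A) :
    Group.IsNilpotent (A.map f) := by
  have := hA
  exact Group.nilpotent_of_surjective (f.subgroupMap A) (f.subgroupMap_surjective A)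

/-- Elements of coprime prime-power orders in a nilpotent subgroup commute. -/
theorem commute_of_mem_nilpotent [Finite G] {F : Subgroup G} (hF : Group.IsNilpotent F) {a b : G}
    (ha : a ∈ F) (hb : b ∈ F) (hcop : (orderOf a).Coprime (orderOf b)) : a * b = b * a :=
  congrArg Subtype.val (commute_of_coprime_of_isNilpotent hF (x := ⟨a, ha⟩) (y := ⟨b, hb⟩)
    (by rwa [← Subgroup.orderOf_coe, ← Subgroup.orderOf_coe])).eq

theorem coprime_orderOf_of_prime_ne {p q : ℕ} (hp : p.Prime) (hq : q.Prime) (hne : p ≠ q) {a b : G}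
    {i j : ℕ} (ha : a ^ p ^ i = 1) (hb : b ^ q ^ j = 1) : (orderOf a).Coprime (orderOf b) :=
  (((Nat.coprime_primes hp hq).mpr hne).pow i j).coprime_dvd_left (orderOf_dvd_of_pow_eq_one ha)
    |>.coprime_dvd_right (orderOf_dvd_of_pow_eq_one hb)

/-- The `p`-part of a nilpotent subgroup. -/
def pPart (p : ℕ) (H : Subgroup G) : Subgroup G := (Cfsg.pCore p H).map H.subtype

theorem pPart_le (p : ℕ) (H : Subgroup G) : pPart p H ≤ H := Subgroup.map_subtype_le _

theorem pPart_isPGroup [Finite G] (p : ℕ) (H : Subgroup G) : IsPGroup p (pPart p H) :=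
  (CfsgLib.Solvable.pCore_isPGroup p).map _

theorem normalizer_le_normalizer_pPart (p : ℕ) (H : Subgroup G) :
    Subgroup.normalizer (H : Set G) ≤ Subgroup.normalizer (pPart p H : Set G) := by
  intro g hg
  have := CfsgLib.Solvable.pCore_characteristic p H
  let e : H ≃* H :=
    { toFun := fun x => ⟨g * x * g⁻¹, (Subgroup.mem_normalizer_iff.mp hg x).mp x.2⟩
      invFun := fun x => ⟨g⁻¹ * x * g, (Subgroup.mem_normalizer_iff''.mp hg x).mp x.2⟩
      left_inv := fun x => Subtype.ext (by show g⁻¹ * (g * x * g⁻¹) * g = x; group)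
      right_inv := fun x => Subtype.ext (by show g * (g⁻¹ * x * g) * g⁻¹ = x; group)
      map_mul' := fun x y => Subtype.ext (by show g * (x * y) * g⁻¹ = g * x * g⁻¹ * (g * y * g⁻¹); group) }
  have he := Subgroup.characteristic_iff_map_eq.mp this e
  rw [Subgroup.mem_normalizer_iff_map_conj_eq, pPart, Subgroup.map_map]
  conv_rhs => rw [← he, Subgroup.map_map]
  rfl

theorem mem_pPart [Finite G] {p : ℕ} [hp : Fact p.Prime] {H : Subgroup G} (hH : Group.IsNilpotent H)
    {x : G} (hx : x ∈ H) {i : ℕ} (hi : x ^ p ^ i = 1) : x ∈ pPart p H := by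
  refine ⟨⟨x, hx⟩, ?_, rfl⟩
  obtain ⟨P⟩ := (inferInstance : Nonempty (Sylow p H))
  have hle : Cfsg.pCore p H ≤ (P : Subgroup H) := CfsgLib.Solvable.pCore_le_sylow P
  have hidx := CfsgLib.Solvable.isNilpotent_iff_pCore_index.mp hH p hp.out
  have hn := CfsgLib.Solvable.pCore_normal p H
  show (⟨x, hx⟩ : H) ∈ Cfsg.pCore p H
  rw [← QuotientGroup.eq_one_iff, ← orderOf_eq_one_iff]
  refine Nat.eq_one_of_dvd_coprimes (Nat.Coprime.pow_left i (hp.out.coprime_iff_not_dvd.mpr hidx))
    ((orderOf_map_dvd (QuotientGroup.mk' (Cfsg.pCore p H)) _).trans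
      (orderOf_dvd_of_pow_eq_one (Subtype.ext (by simpa using hi)))) ?_
  rw [Subgroup.index_eq_card]
  exact _root_.orderOf_dvd_natCard _

theorem iSup_pPart [Finite G] {H : Subgroup G} (hH : Group.IsNilpotent H) :
    ⨆ p : Nat.Primes, pPart (p : ℕ) H = H := by
  have h := congrArg (Subgroup.map H.subtype) (CfsgLib.Solvable.iSup_pCore_eq_top_of_isNilpotent hH)
  rwa [Subgroup.map_iSup, ← MonoidHom.range_eq_map, Subgroup.range_subtype] at h

/-- A nontrivial nilpotent subgroup has a central element of order `p` for each prime divisor `p`. -/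
theorem exists_central_of_dvd [Finite G] {p : ℕ} [hp : Fact p.Prime] {H : Subgroup G}
    (hH : Group.IsNilpotent H) (hd : p ∣ Nat.card H) :
    ∃ z ∈ H, orderOf z = p ∧ z ∈ Subgroup.centralizer (H : Set G) := by
  have := hH
  have hn := CfsgLib.Solvable.pCore_normal p H
  have h1 : Cfsg.pCore p H ≠ ⊥ := fun h => by
    have := CfsgLib.Solvable.isNilpotent_iff_pCore_index.mp hH p hp.out
    rw [h, Subgroup.index_bot] at this
    exact this hd
  have h2 := CfsgLib.Solvable.normal_inf_center_ne_bot (Cfsg.pCore p H) h1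
  have : Nontrivial ↥(Cfsg.pCore p H ⊓ Subgroup.center H) := (Subgroup.nontrivial_iff_ne_bot _).mpr h2
  have hpg : IsPGroup p ↥(Cfsg.pCore p H ⊓ Subgroup.center H) :=
    (CfsgLib.Solvable.pCore_isPGroup p).to_le inf_le_left
  obtain ⟨n, hn', hcard⟩ := hpg.nontrivial_iff_card.mp this
  obtain ⟨z, hz⟩ := exists_prime_orderOf_dvd_card' (G := ↥(Cfsg.pCore p H ⊓ Subgroup.center H)) p
    (hcard ▸ dvd_pow_self p hn'.ne')
  refine ⟨((z : H) : G), (z : H).2, ?_, ?_⟩
  · rwa [Subgroup.orderOf_coe, Subgroup.orderOf_coe]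
  · exact fun y hy => congrArg Subtype.val (Subgroup.mem_center_iff.mp z.2.2 ⟨y, hy⟩)

theorem exists_pow_orderOf_prime [Finite G] {x : G} (hx : x ≠ 1) :
    ∃ p : ℕ, p.Prime ∧ ∃ k : ℕ, orderOf (x ^ k) = p := by
  obtain ⟨p, hp, hd⟩ := Nat.exists_prime_and_dvd (fun h => hx (orderOf_eq_one_iff.mp h))
  exact ⟨p, hp, orderOf x / p, orderOf_pow_orderOf_div (orderOf_pos x).ne' hd⟩

theorem centralizer_singleton_le_pow (x : G) (k : ℕ) :
    Subgroup.centralizer ({x} : Set G) ≤ Subgroup.centralizer ({x ^ k} : Set G) := fun z hz =>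
  Subgroup.mem_centralizer_singleton_iff.mpr
    ((show Commute z x from Subgroup.mem_centralizer_singleton_iff.mp hz).pow_right k).eq

theorem isCNGroup_subgroup (hCN : Cfsg.IsCNGroup G) (K : Subgroup G) : Cfsg.IsCNGroup K := by
  intro g hg
  have := hCN (g : G) (fun h => hg (Subtype.ext h))
  refine (Group.isNilpotent_congr ((Subgroup.centralizer ({g} : Set K)).equivMapOfInjective
    K.subtype K.subtype_injective)).mpr (isNilpotent_of_le this ?_)
  rintro _ ⟨z, hz, rfl⟩
  exact Subgroup.mem_centralizer_singleton_iff.mpr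
    (congrArg Subtype.val (Subgroup.mem_centralizer_singleton_iff.mp hz))

theorem isCNGroup_of_mulEquiv {H : Type*} [Group H] (e : G ≃* H) (hCN : Cfsg.IsCNGroup G) :
    Cfsg.IsCNGroup H := by
  intro h hh
  have := isNilpotent_map e.toMonoidHom (hCN (e.symm h) (fun h' => hh (by simpa using congrArg e h')))
  refine isNilpotent_of_le this fun z hz => ⟨e.symm z, ?_, e.apply_symm_apply z⟩
  refine Subgroup.mem_centralizer_singleton_iff.mpr (e.injective ?_)
  simp [Subgroup.mem_centralizer_singleton_iff.mp hz]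

/-- The quotient of a CN-group by an abelian normal `p`-subgroup is a CN-group. -/
theorem isCNGroup_quotient_abelian [Finite G] (hCN : Cfsg.IsCNGroup G) {p : ℕ} [hp : Fact p.Prime]
    (N : Subgroup G) [N.Normal] (hNc : IsMulCommutative N) (hNp : IsPGroup p N) :
    Cfsg.IsCNGroup (G ⧸ N) := by
  classical
  by_cases hN1 : N = ⊥
  · subst hN1
    exact isCNGroup_of_mulEquiv QuotientGroup.quotientBot.symm hCN
  set f := QuotientGroup.mk' N with hf
  have hfs : Function.Surjective f := QuotientGroup.mk'_surjective N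
  intro x hx
  obtain ⟨r, hr, k, hk⟩ := exists_pow_orderOf_prime hx
  have : Fact r.Prime := ⟨hr⟩
  refine isNilpotent_of_le ?_ (centralizer_singleton_le_pow x k)
  obtain ⟨y, hy⟩ := hfs (x ^ k)
  have hyr : (f y) ^ r = 1 := by rw [hy, ← hk, pow_orderOf_eq_one]
  have hy1 : f y ≠ 1 := by
    rw [hy]; intro h; rw [h, orderOf_one] at hk; exact hr.one_lt.ne hk
  rw [← hy]
  set K := (Subgroup.centralizer ({f y} : Set (G ⧸ N))).comap f with hKdef
  have hmap : K.map f = Subgroup.centralizer ({f y} : Set (G ⧸ N)) :=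
    Subgroup.map_comap_eq_self_of_surjective hfs _
  obtain ⟨m, hm⟩ := IsPGroup.iff_card.mp hNp
  by_cases hrp : r = p
  · -- `K` itself is nilpotent
    subst hrp
    rw [← hmap]
    refine isNilpotent_map f ?_
    set P0 := (Subgroup.zpowers (f y)).comap f with hP0
    have hzp : IsPGroup r (Subgroup.zpowers (f y)) := IsPGroup.of_card (n := 1) (by
      rw [Nat.card_zpowers, pow_one, hy, hk])
    have hP0p : IsPGroup r P0 := hzp.comap_of_ker_isPGroup _ (by rwa [hf, QuotientGroup.ker_mk'])
    have hNP0 : N ≤ P0 := fun n hn => by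
      show f n ∈ Subgroup.zpowers (f y)
      rw [show f n = 1 from (QuotientGroup.eq_one_iff n).mpr hn]
      exact one_mem _
    have hyP0 : y ∈ P0 := Subgroup.mem_zpowers (f y)
    have hKP0 : K ≤ Subgroup.normalizer (P0 : Set G) := by
      intro a ha
      refine Subgroup.le_normalizer_comap f (show f a ∈ Subgroup.normalizer
        ((Subgroup.zpowers (f y) : Subgroup (G ⧸ N)) : Set (G ⧸ N)) from ?_)
      refine Subgroup.centralizer_le_normalizer _ ?_
      refine Subgroup.mem_centralizer_iff.mpr fun h hh => ?_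
      obtain ⟨j, rfl⟩ := Subgroup.mem_zpowers_iff.mp hh
      exact ((show Commute (f a) (f y) from Subgroup.mem_centralizer_singleton_iff.mp ha).zpow_right j).symm.eq
    set W := N ⊓ Subgroup.centralizer (P0 : Set G)
    have hW : W ≠ ⊥ := by
      have : Group.IsNilpotent P0 := hP0p.isNilpotent
      have h := CfsgLib.Solvable.normal_inf_center_ne_bot (N.subgroupOf P0)
        (fun h => hN1 (by
          have := congrArg (Subgroup.map P0.subtype) h
          rwa [Subgroup.map_subgroupOf_eq_of_le hNP0, Subgroup.map_bot] at this))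
      intro hW
      apply h
      rw [eq_bot_iff]
      rintro ⟨z, hz⟩ ⟨h1, h2⟩
      have : z ∈ W := ⟨h1, fun u hu => congrArg Subtype.val (Subgroup.mem_center_iff.mp h2 ⟨u, hu⟩)⟩
      rw [hW, Subgroup.mem_bot] at this
      exact Subgroup.mem_bot.mpr (Subtype.ext this)
    -- `p'`-elements of `K` centralize `P0`
    have hp' : ∀ b ∈ K, (orderOf b).Coprime r → b ∈ Subgroup.centralizer (P0 : Set G) := by
      intro b hb hord
      obtain ⟨m0, hm0⟩ := IsPGroup.iff_card.mp hP0p
      obtain ⟨n, hn, hcen⟩ := CfsgLib.Coprime.exists_mem_centralizer_of_coset (A := Subgroup.zpowers b)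
        (G := P0) (N := N) (g := y) ((Subgroup.zpowers_le.mpr hb).trans hKP0)
        (le_top.trans (Subgroup.normalizer_eq_top N).ge) hNP0
        (by rw [Nat.card_zpowers, hm0]; exact hord.pow_right m0) (Or.inr (Group.isSolvable_of_comm fun a b => hNc.is_comm.comm a b)) hyP0 (by
          intro a ha
          have haK : a ∈ K := (Subgroup.zpowers_le.mpr hb) ha
          rw [← QuotientGroup.eq_one_iff]
          show f (y⁻¹ * a * y * a⁻¹) = 1
          rw [map_mul, map_mul, map_mul, map_inv, map_inv, mul_assoc (f y)⁻¹,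
            Subgroup.mem_centralizer_singleton_iff.mp haK]
          group)
      have hx' : y * n ≠ 1 := fun h => hy1 (by
        have : f (y * n) = f y := by
          rw [map_mul, show f n = 1 from (QuotientGroup.eq_one_iff n).mpr hn, mul_one]
        rw [← this, h, map_one])
      have hbx : b ∈ Subgroup.centralizer ({y * n} : Set G) := Subgroup.mem_centralizer_singleton_iff.mpr
        (hcen b (Subgroup.mem_zpowers b))
      obtain ⟨⟨w, hwW⟩, hw1⟩ := Subgroup.ne_bot_iff_exists_ne_one.mp hW
      have hwx : w ∈ Subgroup.centralizer ({y * n} : Set G) := Subgroup.mem_centralizer_singleton_iff.mpr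
        (hwW.2 _ (P0.mul_mem hyP0 (hNP0 hn))).symm
      obtain ⟨i, hi⟩ := hNp ⟨w, hwW.1⟩
      have hbw := commute_of_mem_nilpotent (hCN _ hx') hbx hwx ((hord.pow_right i).coprime_dvd_right
        (orderOf_dvd_of_pow_eq_one (by simpa using congrArg Subtype.val hi)))
      have hbN : b ∈ Subgroup.centralizer (N : Set G) := by
        rw [Subgroup.mem_centralizer_iff]
        intro u hu
        obtain ⟨i', hi'⟩ := hNp ⟨u, hu⟩
        exact (commute_of_mem_nilpotent (hCN w fun h => hw1 (Subtype.ext h))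
          (Subgroup.mem_centralizer_singleton_iff.mpr hbw)
          (Subgroup.mem_centralizer_singleton_iff.mpr
            (congrArg Subtype.val (hNc.is_comm.comm (⟨u, hu⟩ : N) ⟨w, hwW.1⟩)))
          ((hord.pow_right i').coprime_dvd_right
            (orderOf_dvd_of_pow_eq_one (by simpa using congrArg Subtype.val hi')))).symm
      rw [Subgroup.mem_centralizer_iff]
      intro u hu
      obtain ⟨j, hj⟩ := Subgroup.mem_zpowers_iff.mp (show f u ∈ Subgroup.zpowers (f y) from hu)
      have hu' : (y * n) ^ (-j) * u ∈ N := by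
        rw [← QuotientGroup.eq_one_iff]
        show f ((y * n) ^ (-j) * u) = 1
        rw [map_mul, map_zpow, map_mul, show f n = 1 from (QuotientGroup.eq_one_iff n).mpr hn, mul_one,
          ← hj, ← zpow_add, neg_add_cancel, zpow_zero]
      have e : u = (y * n) ^ j * ((y * n) ^ (-j) * u) := by group
      rw [e]
      exact (Commute.mul_left (((show Commute b (y * n) from
        Subgroup.mem_centralizer_singleton_iff.mp hbx).zpow_right j).symm) (hbN _ hu')).eq
    refine isNilpotent_of_commute K ?_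
    -- two elements of distinct prime power orders
    have key : ∀ q : ℕ, q.Prime → q ≠ r → ∀ q' : ℕ, q'.Prime → q' ≠ q → ∀ a ∈ K, ∀ b ∈ K, ∀ i j : ℕ,
        a ^ q' ^ i = 1 → b ^ q ^ j = 1 → a * b = b * a := by
      intro q hq hqr q' hq' hne a ha b hb i j hi hj
      have hbc := hp' b hb ((((Nat.coprime_primes hq hp.out).mpr hqr).pow_left j).coprime_dvd_left
        (orderOf_dvd_of_pow_eq_one hj))
      suffices h : ∃ w ∈ P0, w ≠ 1 ∧ a * w = w * a by
        obtain ⟨w, hw, hw1, haw⟩ := h
        exact commute_of_mem_nilpotent (hCN w hw1) (Subgroup.mem_centralizer_singleton_iff.mpr haw)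
          (Subgroup.mem_centralizer_singleton_iff.mpr (hbc w hw).symm)
          (coprime_orderOf_of_prime_ne hq' hq hne hi hj)
      by_cases hq'r : q' = r
      · subst hq'r
        have hza : IsPGroup q' (Subgroup.zpowers a) := by
          obtain ⟨l, -, hl⟩ := (Nat.dvd_prime_pow hp.out).mp (orderOf_dvd_of_pow_eq_one hi)
          exact IsPGroup.of_card (n := l) (by rw [Nat.card_zpowers, hl])
        set T := P0 ⊔ Subgroup.zpowers a
        have hTp : IsPGroup q' T :=
          hP0p.to_sup_of_normal_left' hza ((Subgroup.zpowers_le.mpr ha).trans hKP0)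
        have : Group.IsNilpotent T := hTp.isNilpotent
        have hNT : N ≤ T := hNP0.trans le_sup_left
        have h := CfsgLib.Solvable.normal_inf_center_ne_bot (N.subgroupOf T)
          (fun h => hN1 (by
            have := congrArg (Subgroup.map T.subtype) h
            rwa [Subgroup.map_subgroupOf_eq_of_le hNT, Subgroup.map_bot] at this))
        obtain ⟨⟨z, hz1, hz2⟩, hz⟩ := Subgroup.ne_bot_iff_exists_ne_one.mp h
        refine ⟨z, hNP0 hz1, fun h => hz (Subtype.ext (Subtype.ext h)), ?_⟩
        exact congrArg Subtype.val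
          (Subgroup.mem_center_iff.mp hz2 ⟨a, le_sup_right (a := P0) (Subgroup.mem_zpowers a)⟩)
      · have hac := hp' a ha ((((Nat.coprime_primes hq' hp.out).mpr hq'r).pow_left i).coprime_dvd_left
          (orderOf_dvd_of_pow_eq_one hi))
        obtain ⟨⟨w, hwW⟩, hw1⟩ := Subgroup.ne_bot_iff_exists_ne_one.mp hW
        exact ⟨w, hNP0 hwW.1, fun h => hw1 (Subtype.ext h), (hac w (hNP0 hwW.1)).symm⟩
    intro q q' hq hq' hne a ha b hb i j hi hj
    by_cases hq'r : q' = r
    · exact (key q hq (fun h => hne (h.trans hq'r.symm)) q' hq' (Ne.symm hne) b hb a ha j i hj hi).symm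
    · exact key q' hq' hq'r q hq hne a ha b hb i j hi hj
  · -- a lift of prime order
    have hpr : p.Coprime r := (Nat.coprime_primes hp.out hr).mpr (Ne.symm hrp)
    obtain ⟨c, hc⟩ : ∃ c : ℕ, p ^ m * c ≡ 1 [MOD r] :=
      let ⟨c, _, hc⟩ := Nat.exists_mul_mod_eq_one_of_coprime (hpr.pow_left m) hr.one_lt
      ⟨c, by rw [Nat.ModEq, hc, Nat.one_mod_eq_one.mpr hr.one_lt.ne']⟩
    set y' := y ^ (p ^ m * c) with hy'
    have hfy' : f y' = f y := by
      rw [hy', map_pow]
      conv_rhs => rw [← pow_one (f y)]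
      rw [pow_eq_pow_iff_modEq]
      exact hc.of_dvd (orderOf_dvd_of_pow_eq_one hyr)
    have hy'r : y' ^ r = 1 := by
      have hyN : y ^ r ∈ N := by
        rw [← QuotientGroup.eq_one_iff]; show f (y ^ r) = 1; rw [map_pow, hyr]
      have h := pow_card_eq_one' (x := (⟨_, hyN⟩ : N))
      rw [hm] at h
      rw [hy', ← pow_mul, show p ^ m * c * r = r * p ^ m * c by ring, pow_mul, pow_mul,
        show (y ^ r) ^ p ^ m = 1 by simpa using congrArg Subtype.val h, one_pow]
    have hy'1 : y' ≠ 1 := fun h => hy1 (by rw [← hfy', h, map_one])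
    have ho : orderOf y' = r := orderOf_eq_prime hy'r hy'1
    refine isNilpotent_of_le (isNilpotent_map f (hCN y' hy'1)) ?_
    intro g hg
    obtain ⟨g, rfl⟩ := hfs g
    set Y := N ⊔ Subgroup.zpowers y'
    have hYcard : Nat.card Y = r * p ^ m := by
      have h := CfsgLib.Solvable.card_map_mk'_eq N (le_sup_left : N ≤ Y)
      rw [Subgroup.map_sup, QuotientGroup.map_mk'_self, bot_sup_eq, MonoidHom.map_zpowers,
        Nat.card_zpowers, hm] at h
      rw [← h]
      congr 1
      show orderOf (f y') = r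
      rw [hfy', hy, hk]
    have hgY : g * y' * g⁻¹ ∈ Y := by
      have h1 : g * y' * g⁻¹ * y'⁻¹ ∈ N := by
        rw [← QuotientGroup.eq_one_iff]
        show f (g * y' * g⁻¹ * y'⁻¹) = 1
        rw [map_mul, map_mul, map_mul, map_inv, map_inv, hfy', Subgroup.mem_centralizer_singleton_iff.mp hg]
        group
      simpa using Y.mul_mem (Subgroup.mem_sup_left h1) (Subgroup.mem_sup_right (Subgroup.mem_zpowers y'))
    have hfact : (Nat.card Y).factorization r = 1 := by
      rw [hYcard, Nat.factorization_mul hr.ne_zero (pow_ne_zero _ hp.out.ne_zero), Finsupp.add_apply,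
        Nat.Prime.factorization_self hr, Nat.factorization_pow, Finsupp.smul_apply,
        Nat.factorization_eq_zero_of_not_dvd (fun h => hrp ((Nat.prime_dvd_prime_iff_eq hr hp.out).mp h))]
      simp
    have mkS : ∀ z : G, z ∈ Y → orderOf z = r → ∃ S : Sylow r Y, (S : Subgroup Y) = (Subgroup.zpowers z).subgroupOf Y := by
      intro z hz hz'
      refine ⟨Sylow.ofCard _ ?_, rfl⟩
      show Nat.card ((Subgroup.zpowers z).subgroupOf Y) = _
      rw [Nat.card_congr (Subgroup.subgroupOfEquivOfLe (Subgroup.zpowers_le.mpr hz)).toEquiv,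
        Nat.card_zpowers, hz', hfact, pow_one]
    obtain ⟨S1, hS1⟩ := mkS y' (Subgroup.mem_sup_right (Subgroup.mem_zpowers y')) ho
    obtain ⟨S2, hS2⟩ := mkS (g * y' * g⁻¹) hgY (by
      rw [show g * y' * g⁻¹ = (MulAut.conj g) y' from rfl, MulEquiv.orderOf_eq, ho])
    obtain ⟨u, hu⟩ := MulAction.exists_smul_eq Y S1 S2
    have hmem : (u : G)⁻¹ * (g * y' * g⁻¹) * u ∈ Subgroup.zpowers y' := by
      have h1 : (⟨g * y' * g⁻¹, hgY⟩ : Y) ∈ (S2 : Subgroup Y) := by
        rw [hS2]; exact Subgroup.mem_zpowers (g * y' * g⁻¹)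
      rw [← hu] at h1
      obtain ⟨v, hv, hv'⟩ := h1
      have hv1 : (v : G) ∈ Subgroup.zpowers y' := by
        have : v ∈ (S1 : Subgroup Y) := hv
        rwa [hS1] at this
      have e : (u : G) * v * (u : G)⁻¹ = g * y' * g⁻¹ := congrArg Subtype.val hv'
      rw [← e]
      convert hv1 using 1
      group
    obtain ⟨j, hj⟩ := (IsOfFinOrder.mem_powers_iff_mem_zpowers (isOfFinOrder_of_finite y')).mpr hmem
    have hfu : f (u : G) ∈ Subgroup.zpowers (f y) := by
      have : (Y.map f) = Subgroup.zpowers (f y) := by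
        rw [Subgroup.map_sup, QuotientGroup.map_mk'_self, bot_sup_eq, MonoidHom.map_zpowers, hfy']
      rw [← this]; exact ⟨u, u.2, rfl⟩
    have hfj : f (y' ^ j) = f y' := by
      simp only at hj
      rw [hj, map_mul, map_mul, map_mul, map_mul, map_inv, map_inv, hfy',
        Subgroup.mem_centralizer_singleton_iff.mp hg]
      obtain ⟨i, hi⟩ := Subgroup.mem_zpowers_iff.mp hfu
      rw [← hi]; group
    have hj' : y' ^ j = y' := by
      conv_rhs => rw [← pow_one y']
      rw [pow_eq_pow_iff_modEq, ho]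
      rw [map_pow, hfy'] at hfj
      conv_rhs at hfj => rw [← pow_one (f y)]
      rw [pow_eq_pow_iff_modEq, hy, hk] at hfj
      exact hfj
    simp only at hj
    rw [hj'] at hj
    have hg' : (u : G)⁻¹ * g ∈ Subgroup.centralizer ({y'} : Set G) := by
      rw [Subgroup.mem_centralizer_singleton_iff]
      calc (u : G)⁻¹ * g * y' = ((u : G)⁻¹ * (g * y' * g⁻¹) * u) * ((u : G)⁻¹ * g) := by group
        _ = y' * ((u : G)⁻¹ * g) := by rw [← hj]
    obtain ⟨i, hi⟩ := Subgroup.mem_zpowers_iff.mp hfu
    refine ⟨y' ^ i * ((u : G)⁻¹ * g), mul_mem (zpow_mem (Subgroup.mem_centralizer_singleton_iff.mpr rfl) i) hg', ?_⟩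
    rw [map_mul, map_mul, map_zpow, map_inv, hfy', hi]
    group

/-- The quotient of a CN-group by a solvable normal subgroup is a CN-group. -/
theorem isCNGroup_quotient_solvable : ∀ {G : Type u} [Group G] [Finite G] (_ : Cfsg.IsCNGroup G)
    (H : Subgroup G) [H.Normal] (_ : Group.IsSolvable H), Cfsg.IsCNGroup (G ⧸ H) := by
  intro G _ _ hCN H _ hH
  induction hn : Nat.card H using Nat.strong_induction_on generalizing G with
  | _ n ih =>
    subst hn
    by_cases hH1 : H = ⊥
    · subst hH1
      exact isCNGroup_of_mulEquiv QuotientGroup.quotientBot.symm hCN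
    obtain ⟨M, hMn, hM1, hMH, hmin⟩ := CfsgLib.Solvable.exists_minimal_normal_le ‹H.Normal› hH1
    have := hMn
    have hMs : Group.IsSolvable M := by
      have := hH
      exact Group.isSolvable_of_isSolvable_injective (Subgroup.inclusion_injective hMH)
    have hMc := CfsgLib.Solvable.isMulCommutative_of_minimal_normal hM1 hmin
    obtain ⟨q, hq, hMq⟩ := CfsgLib.Solvable.exists_prime_pow_eq_one_of_minimal_normal hM1 hmin
    have : Fact q.Prime := ⟨hq⟩
    have hQ := isCNGroup_quotient_abelian hCN M hMc (p := q)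
      (fun m => ⟨1, Subtype.ext (by simpa using hMq m m.2)⟩)
    have hlt : Nat.card (H.map (QuotientGroup.mk' M)) < Nat.card H := by
      have h1 := CfsgLib.Solvable.card_map_mk'_eq M hMH
      have h2 : 1 < Nat.card M := (Subgroup.one_lt_card_iff_ne_bot M).mpr hM1
      calc Nat.card (H.map (QuotientGroup.mk' M)) = Nat.card (H.map (QuotientGroup.mk' M)) * 1 := (mul_one _).symm
        _ < Nat.card (H.map (QuotientGroup.mk' M)) * Nat.card M := Nat.mul_lt_mul_of_pos_left h2 Nat.card_pos
        _ = Nat.card H := h1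
    have : (H.map (QuotientGroup.mk' M)).Normal :=
      Subgroup.Normal.map inferInstance _ (QuotientGroup.mk'_surjective M)
    have hs : Group.IsSolvable (H.map (QuotientGroup.mk' M)) := by
      have := hH
      exact Group.isSolvable_of_surjective ((QuotientGroup.mk' M).subgroupMap_surjective H)
    exact isCNGroup_of_mulEquiv (QuotientGroup.quotientQuotientEquivQuotient M H hMH)
      (ih _ hlt hQ (H.map (QuotientGroup.mk' M)) hs rfl)

end CfsgLib.OddLocal
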