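import Cfsg.Agent.Lib.OddLocal.SCNUnique

/-!
The uniqueness theorem for minimal simple groups of odd order.
-/

set_option autoImplicit false

open Subgroup

namespace CfsgLib.OddLocal

universe u
variable {G : Type u} [Group G] [Finite G]

/-- Every elementary abelian subgroup of order at least `p³` is a uniqueness subgroup. -/
theorem uniqueMax_of_elementary_three (hG : Cfsg.IsMinSimpleOddOrder G) {p : ℕ} [hp : Fact p.Prime]
    {E : Subgroup G} (hE : Cfsg.IsElementaryAbelian p E) (hE3 : p ^ 3 ≤ Nat.card E) :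
    Cfsg.InUniqueMaximal E := by
  obtain ⟨P, hEP⟩ := (CfsgLib.Comp.isPGroup_of_elemAb hE).exists_le_sylow
  have hne : E ≠ ⊥ := fun h => by
    rw [h, card_bot] at hE3
    have := Nat.one_lt_pow (show 3 ≠ 0 by norm_num) hp.out.one_lt
    omega
  have hp2 := ne_two_of_dvd hG (dvd_card_of_pGroup_ne_bot (CfsgLib.Comp.isPGroup_of_elemAb hE) hne)
  obtain ⟨A, hA, hAc, -, hA3⟩ := exists_isSCN_three hp2 (P : Subgroup G) P.2
    (not_pRankLE_of_le_elemAb (k := 2) hE hEP hE3)
  obtain ⟨E', hE'A, hE'e, hE'3⟩ := exists_elemAb_of_not_pRankLE hA3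
  have hU := scn_three_uniqueMax hG P hA hA3
  have hU' : Cfsg.InUniqueMaximal E' := inUniqueMax_of_centralizes (p := p) hG hU
    (hE'A.trans (le_centralizer_self hAc)) (not_pRankLE_of_le_elemAb (k := 1) hE'e le_rfl
      ((Nat.pow_le_pow_right hp.out.pos (by norm_num)).trans hE'3))
  obtain ⟨M, hM, hAM⟩ := exists_coatom_ge (inUniqueMax_ne_top hU)
  exact (spread_rank_three hG hE'e hE'3 hU' hM (hE'A.trans hAM) hE hE3).1

/-- The uniqueness theorem. -/
theorem uniqueness_theorem (hG : Cfsg.IsMinSimpleOddOrder G) {K : Subgroup G} (hK : K ≠ ⊤)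
    (hK2 : ¬ Cfsg.RankLE 1 K)
    (hK3 : ¬ Cfsg.RankLE 2 K ∨ ¬ Cfsg.RankLE 2 (centralizer (K : Set G))) :
    Cfsg.InUniqueMaximal K := by
  simp only [Cfsg.RankLE, not_forall] at hK2 hK3
  obtain ⟨p, hp, hK2⟩ := hK2
  haveI := Fact.mk hp
  rcases hK3 with ⟨q, hq, h⟩ | ⟨q, hq, h⟩
  · haveI := Fact.mk hq
    obtain ⟨E, hE, hEe, hE3⟩ := exists_elemAb_of_not_pRankLE h
    exact inUniqueMax_mono (uniqueMax_of_elementary_three hG hEe hE3) hE hK
  · haveI := Fact.mk hq
    obtain ⟨E, hE, hEe, hE3⟩ := exists_elemAb_of_not_pRankLE h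
    exact inUniqueMax_of_centralizes (p := p) hG (uniqueMax_of_elementary_three hG hEe hE3)
      (le_centralizer_iff.1 hE) hK2

end CfsgLib.OddLocal
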