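import Cfsg.Agent.Lib.OddLocal.RankTwoAction
import Cfsg.Agent.Lib.OddLocal.PiCore
import Cfsg.Agent.Lib.OddLocal.FittingHall
import Cfsg.Agent.Lib.Solvable.HallHigman
import Cfsg.Agent.Lib.Solvable.Fitting
import Cfsg.Agent.Lib.Solvable.PCore
import Cfsg.Agent.Lib.Coprime.Generation

/-!
When the derived group of a solvable group of odd order is nilpotent.
-/

set_option autoImplicit false

open Subgroup
open scoped commutatorElement

namespace CfsgLib.OddLocal

variable {G : Type*} [Group G] [Finite G]

/-- A subgroup is contained in another as soon as its elements of prime-power order are. -/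
theorem le_of_prime_power_elements {K W : Subgroup G}
    (h : ∀ q : ℕ, q.Prime → ∀ y ∈ K, IsPGroup q (zpowers y) → y ∈ W) : K ≤ W := by
  suffices hh : W ⊓ K = K by rw [← hh]; exact inf_le_left
  refine eq_of_le_of_card_ge inf_le_right (Nat.le_of_eq ?_)
  have h1 : (W ⊓ K).relIndex K = 1 := by
    by_contra hne
    obtain ⟨q, hq, hqd⟩ := Nat.exists_prime_and_dvd hne
    haveI := Fact.mk hq
    obtain ⟨S⟩ : Nonempty (Sylow q K) := inferInstance
    refine S.not_dvd_index (hqd.trans (index_dvd_of_le fun y hy => ?_))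
    have hyq : IsPGroup q (zpowers (y : G)) := by
      have := (S.2.to_le (zpowers_le.2 hy)).map K.subtype
      rwa [MonoidHom.map_zpowers] at this
    exact ⟨h q hq y y.2 hyq, y.2⟩
  rw [relIndex_eq_one] at h1
  rw [le_antisymm inf_le_right h1]

/-- The `q`-elements of a nilpotent normal subgroup lie in the `q`-core. -/
theorem mem_pCore_of_mem_nilpotent {F : Subgroup G} [F.Normal] (hF : Group.IsNilpotent F) {q : ℕ}
    [Fact q.Prime] {y : G} (hy : y ∈ F) (hyq : IsPGroup q (zpowers y)) : y ∈ Cfsg.pCore q G := by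
  obtain ⟨S, hS⟩ := (IsPGroup.comap_subtype (K := F) hyq).exists_le_sylow
  have hn : (S : Subgroup F).Normal :=
    ((Group.isNilpotent_of_finite_tfae (G := F)).out 0 3 rfl rfl).mp hF q inferInstance S
  haveI := S.characteristic_of_normal hn
  refine CfsgLib.Solvable.le_pCore (N := (S : Subgroup F).map F.subtype) inferInstance (S.2.map _) ?_
  exact ⟨⟨y, hy⟩, hS (mem_zpowers y), rfl⟩

theorem pCore_le_fittingSubgroup (q : ℕ) [Fact q.Prime] (G : Type*) [Group G] [Finite G] :
    Cfsg.pCore q G ≤ Cfsg.fittingSubgroup G :=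
  CfsgLib.Solvable.le_fittingSubgroup (CfsgLib.Solvable.pCore_normal q G)
    (CfsgLib.Solvable.pCore_isPGroup (G := G) q).isNilpotent

/-- If every element of `G'` of order prime to `p` centralizes `O_p(G)`, for all `p`, then
`G' ≤ F(G)`. -/
theorem commutator_le_fitting [Group.IsSolvable G]
    (hact : ∀ p : ℕ, p.Prime → ∀ y ∈ _root_.commutator G, (orderOf y).Coprime p →
      y ∈ centralizer (Cfsg.pCore p G : Set G)) :
    _root_.commutator G ≤ Cfsg.fittingSubgroup G := by
  set H := _root_.commutator G with hH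
  set F := Cfsg.fittingSubgroup G with hF
  haveI hFn : F.Normal := CfsgLib.Solvable.fittingSubgroup_normal G
  have hFnil : Group.IsNilpotent F := CfsgLib.Solvable.fittingSubgroup_isNilpotent
  refine le_of_prime_power_elements fun q hq y hyH hyq => ?_
  haveI := Fact.mk hq
  have hord : ∀ {r : ℕ} {z : G}, r.Prime → IsPGroup r (zpowers z) → ∀ p : ℕ, p.Prime → p ≠ r →
      (orderOf z).Coprime p := fun {r z} hr hz p hp hne => by
    haveI := Fact.mk hr
    obtain ⟨k, hk⟩ := IsPGroup.iff_card.1 hz
    rw [Nat.card_zpowers] at hk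
    rw [hk]
    exact Nat.Coprime.pow_left k ((Nat.coprime_primes hr hp).2 hne.symm)
  -- `M` : the elements of `G'` centralizing all `O_p(G)` for `p ≠ q`
  set M : Subgroup G := H ⊓ ⨅ p : {p : ℕ // p.Prime ∧ p ≠ q}, centralizer (Cfsg.pCore p.1 G : Set G) with hM
  have hMmem : ∀ z, z ∈ M ↔ z ∈ H ∧ ∀ p : ℕ, p.Prime → p ≠ q → z ∈ centralizer (Cfsg.pCore p G : Set G) := by
    intro z
    rw [hM, mem_inf, mem_iInf]
    exact and_congr_right fun _ => ⟨fun h p h1 h2 => h ⟨p, h1, h2⟩, fun h p => h p.1 p.2.1 p.2.2⟩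
  haveI hMn : M.Normal := by
    constructor
    intro z hz g
    rw [hMmem] at hz ⊢
    refine ⟨(inferInstance : H.Normal).conj_mem z hz.1 g, fun p h1 h2 => ?_⟩
    haveI := CfsgLib.Solvable.pCore_normal p G
    exact (inferInstance : (centralizer (Cfsg.pCore p G : Set G)).Normal).conj_mem z (hz.2 p h1 h2) g
  have hyM : y ∈ M := (hMmem y).2 ⟨hyH, fun p hp hpq => hact p hp y hyH (hord hq hyq p hp hpq)⟩
  have hMnil : Group.IsNilpotent M := by
    refine Group.of_quotient_center_nilpotent ?_
    refine IsPGroup.isNilpotent (p := q) (IsPGroup.of_card (n := (Nat.card (M ⧸ center M)).primeFactorsList.length)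
      (Nat.eq_prime_pow_of_unique_prime_dvd Nat.card_pos.ne' fun {r} hr hrd => ?_))
    by_contra hrq
    haveI := Fact.mk hr
    obtain ⟨S⟩ : Nonempty (Sylow r M) := inferInstance
    refine S.not_dvd_index (hrd.trans (dvd_trans (index_eq_card (center M)).symm.dvd
      (index_dvd_of_le fun z hz => ?_)))
    have hzr : IsPGroup r (zpowers (z : G)) := by
      have := (S.2.to_le (zpowers_le.2 hz)).map M.subtype
      rwa [MonoidHom.map_zpowers] at this
    have hzH : (z : G) ∈ H := ((hMmem _).1 z.2).1
    have hzF : (z : G) ∈ F := by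
      have hzC : (z : G) ∈ centralizer (F : Set G) := by
        rw [mem_centralizer_iff]
        have hle : F ≤ centralizer ({(z : G)} : Set G) := by
          refine le_of_prime_power_elements fun p hp w hw hwp => ?_
          haveI := Fact.mk hp
          have hwT : w ∈ Cfsg.pCore p G := mem_pCore_of_mem_nilpotent hFnil hw hwp
          have hzp : (z : G) ∈ centralizer (Cfsg.pCore p G : Set G) := by
            by_cases hpq : p = q
            · subst hpq
              exact hact p hp _ hzH (hord hr hzr p hp (fun h => hrq h.symm))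
            · exact ((hMmem _).1 z.2).2 p hp hpq
          rw [mem_centralizer_singleton_iff]
          exact mem_centralizer_iff.1 hzp w hwT
        intro w hw
        exact mem_centralizer_singleton_iff.1 (hle hw)
      exact CfsgLib.Solvable.centralizer_fittingSubgroup_le hzC
    have hzT : (z : G) ∈ Cfsg.pCore r G := mem_pCore_of_mem_nilpotent hFnil hzF hzr
    rw [mem_center_iff]
    intro m
    exact Subtype.ext (mem_centralizer_iff.1 (((hMmem _).1 m.2).2 r hr hrq) _ hzT).symm
  exact CfsgLib.Solvable.le_fittingSubgroup hMn hMnil hyM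

/-- Rank two on `O_p(G)` makes elements of `G'` of order prime to `p` centralize `O_p(G)`. -/
theorem centralizes_pCore_of_rank_two [Group.IsSolvable G] (hodd : Odd (Nat.card G)) {p : ℕ}
    (hp : p.Prime) (hr : Cfsg.PRankLE p 2 (Cfsg.pCore p G)) {y : G} (hy : y ∈ _root_.commutator G)
    (hyp : (orderOf y).Coprime p) : y ∈ centralizer (Cfsg.pCore p G : Set G) := by
  haveI := Fact.mk hp
  haveI := CfsgLib.Solvable.pCore_normal p G
  set T := Cfsg.pCore p G with hT
  by_cases hp2 : p = 2
  · subst hp2
    have hT1 : T = ⊥ := by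
      obtain ⟨k, hk⟩ := IsPGroup.iff_card.1 (CfsgLib.Solvable.pCore_isPGroup (G := G) 2)
      rcases k with _ | k
      · exact eq_bot_of_card_eq _ (by rw [hT, hk, pow_zero])
      · exfalso
        refine (Nat.not_even_iff_odd.2 hodd) (even_iff_two_dvd.2 ?_)
        exact (show 2 ∣ Nat.card T by rw [hT, hk]; exact dvd_pow_self 2 (Nat.succ_ne_zero _)).trans
          (card_subgroup_dvd_card T)
    rw [hT1, mem_centralizer_iff]
    intro w hw
    rw [SetLike.mem_coe, mem_bot] at hw
    rw [hw, one_mul, mul_one]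
  have hTN : (⊤ : Subgroup G) ≤ normalizer (T : Set G) := by rw [normalizer_eq_top]
  set φ' : G →* MulAut T :=
    (CfsgLib.Coprime.conjHom (A := (⊤ : Subgroup G)) hTN).comp topEquiv.symm.toMonoidHom with hφ'
  haveI : Group.IsSolvable φ'.range := Group.isSolvable_of_surjective φ'.rangeRestrict_surjective
  have hrange : IsPGroup p (_root_.commutator φ'.range) :=
    isPGroup_commutator_of_rank_two hp2 (CfsgLib.Solvable.pCore_isPGroup p) hr
      (hodd.of_dvd_nat (card_range_dvd φ')) φ'.range.subtype φ'.range.subtype_injective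
  have hmem : φ'.rangeRestrict y ∈ _root_.commutator φ'.range := by
    have hle : (_root_.commutator G).map φ'.rangeRestrict ≤ _root_.commutator φ'.range := by
      rw [_root_.commutator_def, map_commutator]
      exact commutator_mono le_top le_top
    exact hle ⟨y, hy, rfl⟩
  obtain ⟨n, hn⟩ := IsPGroup.iff_orderOf.1 hrange ⟨_, hmem⟩
  rw [Subgroup.orderOf_mk] at hn
  have h1 : orderOf (φ'.rangeRestrict y) = 1 :=
    Nat.eq_one_of_dvd_coprimes (hyp.pow_right n) (orderOf_map_dvd _ y) hn.dvd
  rw [orderOf_eq_one_iff] at h1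
  rw [mem_centralizer_iff]
  intro w hw
  have h2 : y * w * y⁻¹ = w :=
    congrArg (fun f : φ'.range => ((((f : MulAut T)) ⟨w, hw⟩ : T) : G)) h1
  exact (mul_inv_eq_iff_eq_mul.1 h2).symm

end CfsgLib.OddLocal
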