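import Cfsg.Prelude.Def_Local
import Cfsg.Agent.Lib.Solvable.PCore
import Cfsg.Agent.Lib.Coprime.Basic

set_option autoImplicit false

namespace CfsgLib.OddLocal

open Subgroup

universe u
variable {G : Type u} [Group G]

theorem pPrimeCore_top_coprime_card [Finite G] {p : ℕ} (h : Cfsg.pPrimeCore p G = ⊤) :
    (Nat.card G).Coprime p := by
  have := CfsgLib.Solvable.pPrimeCore_coprime (G := G) p
  rwa [h, Subgroup.card_top] at this

/-- A group of `p`-length one has `O_{p'}(G) S` normal, of index prime to `p`. -/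
theorem pLengthLE_one_sup_sylow [Finite G] {p : ℕ} [hp : Fact p.Prime] (h : Cfsg.PLengthLE p 1 G)
    (S : Sylow p G) : (Cfsg.pPrimeCore p G ⊔ (S : Subgroup G)).Normal := by
  set U1 := Cfsg.upperPSeries p G 1 with hU1
  set U2 := Cfsg.upperPSeries p G 2 with hU2
  have := U1.2; have := U2.2
  have h1 : U1.1 ≤ Cfsg.pPrimeCore p G := by
    refine CfsgLib.Solvable.le_pPrimeCore inferInstance ?_
    have e : U1.1 = (Cfsg.pPrimeCore p (G ⧸ (⊥ : Subgroup G))).comap (QuotientGroup.mk' ⊥) := rfl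
    rw [e, CfsgLib.Solvable.card_comap_mk', Subgroup.card_bot, mul_one]
    exact CfsgLib.Solvable.pPrimeCore_coprime p
  have e2 : U2.1 = (Cfsg.pCore p (G ⧸ U1.1)).comap (QuotientGroup.mk' U1.1) := rfl
  have h3 : Cfsg.pPrimeCore p (G ⧸ U2.1) = ⊤ := by
    apply Subgroup.comap_injective (QuotientGroup.mk'_surjective U2.1)
    rw [Subgroup.comap_top]
    exact h
  have hidx : ¬ p ∣ U2.1.index := by
    rw [Subgroup.index_eq_card]
    exact hp.out.coprime_iff_not_dvd.mp (pPrimeCore_top_coprime_card h3).symm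
  have hSM : (S : Subgroup G) ≤ U2.1 := by
    intro s hs
    obtain ⟨k, hk⟩ := IsPGroup.iff_orderOf.mp S.2 ⟨s, hs⟩
    rw [Subgroup.orderOf_mk] at hk
    rw [← QuotientGroup.eq_one_iff, ← orderOf_eq_one_iff]
    refine Nat.eq_one_of_dvd_coprimes (Nat.Coprime.pow_left k (hp.out.coprime_iff_not_dvd.mpr hidx)) ?_
      (Subgroup.index_eq_card U2.1 ▸ _root_.orderOf_dvd_natCard _)
    rw [← hk]
    exact orderOf_map_dvd (QuotientGroup.mk' U2.1) s
  have h12 : U1.1 ≤ U2.1 := fun x hx => by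
    rw [e2, Subgroup.mem_comap, QuotientGroup.mk'_apply, (QuotientGroup.eq_one_iff x).mpr hx]
    exact one_mem _
  obtain ⟨k, hk⟩ := IsPGroup.iff_card.mp (CfsgLib.Solvable.pCore_isPGroup (G := G ⧸ U1.1) p)
  have hcard : Nat.card U2.1 = p ^ k * Nat.card U1.1 := by
    rw [e2, CfsgLib.Solvable.card_comap_mk', hk]
  have heq : U1.1 ⊔ (S : Subgroup G) = U2.1 := by
    refine Subgroup.eq_of_le_of_card_ge (sup_le h12 hSM) (Nat.le_of_dvd Nat.card_pos ?_)
    rw [hcard]
    refine Nat.Coprime.mul_dvd_of_dvd_of_dvd ?_ ?_ (Subgroup.card_dvd_of_le le_sup_left)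
    · exact Nat.Coprime.pow_left k
        (((CfsgLib.Solvable.pPrimeCore_coprime p).coprime_dvd_left (Subgroup.card_dvd_of_le h1)).symm)
    · have hd : p ^ k ∣ Nat.card G :=
        (dvd_mul_right _ _).trans (hcard ▸ Subgroup.card_subgroup_dvd_card U2.1)
      obtain ⟨T, hT⟩ := Sylow.exists_subgroup_card_pow_prime p hd
      obtain ⟨S', hS'⟩ := (IsPGroup.of_card hT).exists_le_sylow
      calc p ^ k ∣ Nat.card (S' : Subgroup G) := hT ▸ Subgroup.card_dvd_of_le hS'
        _ = Nat.card (S : Subgroup G) := Nat.card_congr (Sylow.equiv S' S).toEquiv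
        _ ∣ _ := Subgroup.card_dvd_of_le le_sup_right
  have hfin : Cfsg.pPrimeCore p G ⊔ (S : Subgroup G) = Cfsg.pPrimeCore p G ⊔ U2.1 := by
    rw [← heq, ← sup_assoc, sup_eq_left.mpr h1]
  have := CfsgLib.Solvable.pPrimeCore_normal p G
  rw [hfin]
  exact Subgroup.sup_normal _ _

section
variable [Finite G] {p : ℕ} [hp : Fact p.Prime]

theorem eq_one_of_mem_pPrimeCore_of_mem_pgroup {S : Subgroup G} (hS : IsPGroup p S) {x : G}
    (h1 : x ∈ Cfsg.pPrimeCore p G) (h2 : x ∈ S) : x = 1 := by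
  obtain ⟨n, hn⟩ := IsPGroup.iff_card.mp hS
  rw [← orderOf_eq_one_iff]
  exact Nat.eq_one_of_dvd_coprimes
    (Nat.Coprime.pow_right n (CfsgLib.Solvable.pPrimeCore_coprime p))
    (Subgroup.orderOf_dvd_natCard _ h1) (hn ▸ Subgroup.orderOf_dvd_natCard _ h2)

/-- In a group of `p`-length one, an element of `O_{p'}(G)` conjugating a subset of `S` into `S`
centralizes it. -/
theorem centralizes_of_conj_mem (S : Sylow p G) {n y : G} (hn : n ∈ Cfsg.pPrimeCore p G)
    (hy : y ∈ (S : Subgroup G)) (hny : n * y * n⁻¹ ∈ (S : Subgroup G)) : n * y = y * n := by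
  have := CfsgLib.Solvable.pPrimeCore_normal p G
  have h1 : n * y * n⁻¹ * y⁻¹ ∈ Cfsg.pPrimeCore p G := by
    have e : n * y * n⁻¹ * y⁻¹ = n * (y * n⁻¹ * y⁻¹) := by group
    rw [e]
    exact mul_mem hn (Subgroup.Normal.conj_mem inferInstance _ (inv_mem hn) y)
  have h2 := eq_one_of_mem_pPrimeCore_of_mem_pgroup S.2 h1 (mul_mem hny (inv_mem hy))
  rwa [mul_inv_eq_one, mul_inv_eq_iff_eq_mul] at h2

/-- Frattini factorization `G = O_{p'}(G) N_G(S)`. -/
theorem pLengthLE_one_frattini (h : Cfsg.PLengthLE p 1 G) (S : Sylow p G) :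
    Cfsg.pPrimeCore p G ⊔ Subgroup.normalizer ((S : Subgroup G) : Set G) = ⊤ := by
  have := pLengthLE_one_sup_sylow h S
  have hle : (S : Subgroup G) ≤ Cfsg.pPrimeCore p G ⊔ (S : Subgroup G) := le_sup_right
  have hf := Sylow.normalizer_sup_eq_top (S.subtype hle)
  rw [eq_top_iff, ← hf]
  rw [Sylow.coe_subtype, Subgroup.map_subgroupOf_eq_of_le hle]
  exact sup_le le_sup_right (sup_le le_sup_left (Subgroup.le_normalizer.trans le_sup_right))

theorem pLengthLE_one_decomp (h : Cfsg.PLengthLE p 1 G) (S : Sylow p G) (x : G) :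
    ∃ g ∈ Subgroup.normalizer ((S : Subgroup G) : Set G), ∃ n ∈ Cfsg.pPrimeCore p G, g * n = x := by
  have := CfsgLib.Solvable.pPrimeCore_normal p G
  exact (CfsgLib.Coprime.mem_sup_of_le_normalizer'
    (le_top.trans (Subgroup.normalizer_eq_top (Cfsg.pPrimeCore p G)).ge)).mp
    (pLengthLE_one_frattini h S ▸ Subgroup.mem_top x)

/-- Every `p`-subgroup is conjugated into `S` by an element of `O_{p'}(G)`. -/
theorem exists_conj_le_sylow (h : Cfsg.PLengthLE p 1 G) (S : Sylow p G) {Q : Subgroup G}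
    (hQ : IsPGroup p Q) : ∃ n ∈ Cfsg.pPrimeCore p G,
      Q.map (MulAut.conj n).toMonoidHom ≤ (S : Subgroup G) := by
  obtain ⟨T, hT⟩ := hQ.exists_le_sylow
  obtain ⟨x, hx⟩ := MulAction.exists_smul_eq G T S
  obtain ⟨g, hg, n, hn, rfl⟩ := pLengthLE_one_decomp h S x
  refine ⟨n, hn, ?_⟩
  rintro _ ⟨y, hy, rfl⟩
  have h2 : (g * n) * y * (g * n)⁻¹ ∈ (S : Subgroup G) := by
    rw [← hx]
    exact ⟨y, hT hy, rfl⟩
  refine (Subgroup.mem_normalizer_iff.mp hg _).mpr ?_
  show g * (n * y * n⁻¹) * g⁻¹ ∈ (S : Subgroup G)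
  convert h2 using 1; group

end

end CfsgLib.OddLocal
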