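import Mathlib.LinearAlgebra.Eigenspace.Triangularizable
import Mathlib.LinearAlgebra.Eigenspace.Minpoly
import Mathlib.LinearAlgebra.Matrix.Determinant.Basic
import Mathlib.GroupTheory.Solvable
import Mathlib.Algebra.CharP.Basic
import Mathlib.Algebra.CharP.Lemmas
import Mathlib.Algebra.CharP.Algebra
import Mathlib.Tactic.NoncommRing
import Mathlib.Tactic.FinCases
import Mathlib.Tactic.LinearCombination
import Mathlib.GroupTheory.Finiteness

/-!
# Two quadratic unipotent elements generating a solvable group of odd order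
-/

set_option autoImplicit false

namespace CfsgLib.OddLocal

universe u v w

open Matrix

/-- A nontrivial solvable group has a nontrivial commutative normal subgroup. -/
theorem exists_abelian_normal (Γ : Type u) [Group Γ] [Group.IsSolvable Γ] [Nontrivial Γ] :
    ∃ D : Subgroup Γ, D.Normal ∧ D ≠ ⊥ ∧ IsMulCommutative D := by
  classical
  have hex : ∃ n, derivedSeries Γ n = ⊥ := Group.IsSolvable.solvable
  have hn := Nat.find_spec hex
  have h0 : Nat.find hex ≠ 0 := fun h => by
    rw [h, derivedSeries_zero] at hn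
    exact top_ne_bot hn
  obtain ⟨m, hm⟩ := Nat.exists_eq_succ_of_ne_zero h0
  rw [hm, derivedSeries_succ] at hn
  exact ⟨derivedSeries Γ m, derivedSeries_normal Γ m, Nat.find_min hex (by omega),
    Subgroup.commutator_self_eq_bot_iff.mp hn⟩

variable {k : Type v} [Field k] {Γ : Type u} [Group Γ]

/-- A finite solvable group of odd order of determinant-one 2 × 2 matrices cannot contain the two
transvections `[[1,λ],[0,1]]` and `[[1,0],[1,1]]` with `λ ≠ 0`. -/
theorem no_transvection_pair [IsAlgClosed k] [Finite Γ] [Group.IsSolvable Γ] (hodd : Odd (Nat.card Γ))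
    (ρ : Γ →* Matrix (Fin 2) (Fin 2) k) (hinj : Function.Injective ρ)
    (hdet : ∀ g, (ρ g).det = 1) {a b : Γ} {c : k} (hc : c ≠ 0)
    (ha : ρ a = !![1, c; 0, 1]) (hb : ρ b = !![1, 0; 1, 1]) : False := by
  have : Nontrivial Γ := by
    refine ⟨a, 1, fun h => hc ?_⟩
    rw [h, map_one] at ha
    simpa using (congrFun (congrFun ha 0) 1).symm
  obtain ⟨D, hDn, hD1, hDc⟩ := exists_abelian_normal Γ
  -- every element of `D` is scalar, else there is a common eigenline
  by_cases hscal : ∀ d ∈ D, ∃ μ : k, ρ d = μ • (1 : Matrix (Fin 2) (Fin 2) k)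
  · apply hD1
    rw [eq_bot_iff]
    intro d hd
    obtain ⟨μ, hμ⟩ := hscal d hd
    have hd2 : ρ (d ^ 2) = 1 := by
      have h2 : μ * μ = 1 := by
        have := hdet d
        rw [hμ, Matrix.det_smul, Fintype.card_fin, Matrix.det_one, mul_one, pow_two] at this
        exact this
      rw [pow_two, map_mul, hμ, smul_mul_smul_comm, h2, one_mul, one_smul]
    have h3 : d ^ 2 = 1 := hinj (hd2.trans ρ.map_one.symm)
    rw [Subgroup.mem_bot, ← orderOf_eq_one_iff]
    exact Nat.eq_one_of_dvd_coprimes hodd.coprime_two_left.symm (orderOf_dvd_natCard d)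
      (orderOf_dvd_of_pow_eq_one h3)
  simp only [not_forall, not_exists] at hscal
  obtain ⟨n, hn, hns⟩ := hscal
  obtain ⟨μ, hμ⟩ := Module.End.exists_eigenvalue (Matrix.mulVecLin (ρ n))
  obtain ⟨x, hx⟩ := hμ.exists_hasEigenvector
  have hxn : (ρ n) *ᵥ x = μ • x := hx.apply_eq_smul
  have hx0 : x ≠ 0 := hx.2
  -- `n` has at most two eigenlines
  have hlines : ∀ y z : Fin 2 → k, ∀ ν : k, y ≠ 0 → z ≠ 0 → (ρ n) *ᵥ y = ν • y → (ρ n) *ᵥ z = ν • z →
      ∃ t : k, z = t • y := by
    intro y z ν hy hz hny hnz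
    by_cases hind : y 0 * z 1 - y 1 * z 0 = 0
    · by_cases h0 : y 0 = 0
      · have h1 : y 1 ≠ 0 := fun h1 => hy (funext fun i => by fin_cases i <;> simp [h0, h1])
        refine ⟨z 1 / y 1, funext fun i => ?_⟩
        fin_cases i
        · have : z 0 = 0 := by
            rw [h0, zero_mul, zero_sub, neg_eq_zero] at hind
            exact (mul_eq_zero.mp hind).resolve_left h1
          simp [h0, this]
        · simp [div_mul_cancel₀ _ h1]
      · refine ⟨z 0 / y 0, funext fun i => ?_⟩
        fin_cases i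
        · simp [div_mul_cancel₀ _ h0]
        · simp only [Fin.mk_one, Pi.smul_apply, smul_eq_mul]
          field_simp
          linear_combination hind
    · exfalso
      apply hns ν
      have e1 := congrFun hny 0
      have e2 := congrFun hny 1
      have e3 := congrFun hnz 0
      have e4 := congrFun hnz 1
      simp only [Matrix.mulVec, dotProduct, Fin.sum_univ_two, Pi.smul_apply, smul_eq_mul] at e1 e2 e3 e4
      ext i j
      fin_cases i <;> fin_cases j <;> simp <;> apply mul_right_cancel₀ hind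
      · linear_combination (z 1) * e1 - (y 1) * e3
      · linear_combination (y 0) * e3 - (z 0) * e1
      · linear_combination (z 1) * e2 - (y 1) * e4
      · linear_combination (y 0) * e4 - (z 0) * e2
  -- all elements fix the eigenlines
  have hline_perm : ∀ g : Γ, ∀ y : Fin 2 → k, ∀ ν : k, y ≠ 0 → (ρ n) *ᵥ y = ν • y →
      ∃ ν' : k, (ρ n) *ᵥ ((ρ g) *ᵥ y) = ν' • ((ρ g) *ᵥ y) := by
    intro g y ν hy hny
    have hmem : g⁻¹ * n * g ∈ D := hDn.conj_mem' n hn g
    set m := g⁻¹ * n * g
    have hcomm : n * m = m * n :=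
      congrArg Subtype.val (hDc.is_comm.comm (⟨n, hn⟩ : D) ⟨m, hmem⟩)
    have h1 : (ρ n) *ᵥ ((ρ m) *ᵥ y) = ν • ((ρ m) *ᵥ y) := by
      rw [Matrix.mulVec_mulVec, ← map_mul, hcomm, map_mul, ← Matrix.mulVec_mulVec, hny, Matrix.mulVec_smul]
    have hm0 : (ρ m) *ᵥ y ≠ 0 := fun h => hy (by
      have := congrArg (fun v => (ρ m⁻¹) *ᵥ v) h
      simpa [Matrix.mulVec_mulVec, ← map_mul] using this)
    obtain ⟨t, ht⟩ := hlines y _ ν hy hm0 hny h1
    refine ⟨t, ?_⟩
    have e : n * g = g * m := by show n * g = g * (g⁻¹ * n * g); group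
    rw [Matrix.mulVec_mulVec, ← map_mul, e, map_mul, ← Matrix.mulVec_mulVec, ht, Matrix.mulVec_smul]
  have hfix : ∀ g : Γ, ∃ t : k, (ρ g) *ᵥ x = t • x := by
    intro g
    have hne : ∀ g : Γ, ∀ y : Fin 2 → k, y ≠ 0 → (ρ g) *ᵥ y ≠ 0 := fun g y hy h => hy (by
      have := congrArg (fun v => (ρ g⁻¹) *ᵥ v) h
      simpa [Matrix.mulVec_mulVec, ← map_mul] using this)
    -- `g²` fixes the line
    have hsq : ∀ g : Γ, ∃ t : k, (ρ (g ^ 2)) *ᵥ x = t • x := by
      intro g
      obtain ⟨ν₁, h1⟩ := hline_perm g x μ hx0 hxn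
      obtain ⟨ν₂, h2⟩ := hline_perm g _ ν₁ (hne g x hx0) h1
      rw [show (ρ g) *ᵥ ((ρ g) *ᵥ x) = (ρ (g ^ 2)) *ᵥ x from by
        rw [pow_two, map_mul, Matrix.mulVec_mulVec]] at h2
      by_cases e1 : ν₁ = μ
      · subst e1
        obtain ⟨t, ht⟩ := hlines x _ ν₁ hx0 (hne g x hx0) hxn h1
        exact ⟨t * t, by rw [pow_two, map_mul, ← Matrix.mulVec_mulVec, ht, Matrix.mulVec_smul, ht, smul_smul]⟩
      by_cases e2 : ν₂ = μ
      · subst e2
        exact hlines x _ ν₂ hx0 (hne _ x hx0) hxn h2
      by_cases e3 : ν₂ = ν₁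
      · subst e3
        obtain ⟨t, ht⟩ := hlines _ _ ν₂ (hne g x hx0) (hne (g ^ 2) x hx0) h1 h2
        exact (e1 (by
          have hgx : (ρ g) *ᵥ x = t • x := by
            have h3 := congrArg (fun v => (ρ g⁻¹) *ᵥ v) ht
            simp only [Matrix.mulVec_smul, Matrix.mulVec_mulVec, ← map_mul, pow_two,
              inv_mul_cancel_left, inv_mul_cancel, map_one, Matrix.one_mulVec] at h3
            exact h3
          rw [hgx, Matrix.mulVec_smul, hxn, smul_smul, smul_smul] at h1
          have h4 : t * μ = ν₂ * t := by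
            obtain ⟨i, hi⟩ := Function.ne_iff.mp hx0
            have := congrFun h1 i
            simp only [Pi.smul_apply, smul_eq_mul] at this
            exact mul_right_cancel₀ hi this
          have ht0 : t ≠ 0 := fun h => hne g x hx0 (by rw [hgx, h, zero_smul])
          rw [mul_comm] at h4
          exact (mul_right_cancel₀ ht0 h4).symm)).elim
      · exfalso
        -- three distinct eigenvalues of a 2 × 2 matrix
        have key : ∀ ν : k, ∀ y : Fin 2 → k, y ≠ 0 → (ρ n) *ᵥ y = ν • y →
            ν * ν - ((ρ n) 0 0 + (ρ n) 1 1) * ν + ((ρ n) 0 0 * (ρ n) 1 1 - (ρ n) 0 1 * (ρ n) 1 0) = 0 := by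
          intro ν y hy hny
          have f1 := congrFun hny 0
          have f2 := congrFun hny 1
          simp only [Matrix.mulVec, dotProduct, Fin.sum_univ_two, Pi.smul_apply, smul_eq_mul] at f1 f2
          obtain ⟨i, hi⟩ := Function.ne_iff.mp hy
          apply mul_right_cancel₀ hi
          rw [zero_mul]
          fin_cases i
          · show _ * y 0 = 0
            linear_combination ((ρ n) 1 1 - ν) * f1 - (ρ n) 0 1 * f2
          · show _ * y 1 = 0
            linear_combination ((ρ n) 0 0 - ν) * f2 - (ρ n) 1 0 * f1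
        have k1 := key μ x hx0 hxn
        have k2 := key ν₁ _ (hne g x hx0) h1
        have k3 := key ν₂ _ (hne (g ^ 2) x hx0) h2
        have s1 : ν₁ + μ - ((ρ n) 0 0 + (ρ n) 1 1) = 0 :=
          mul_left_cancel₀ (sub_ne_zero.mpr e1) (by linear_combination k2 - k1)
        have s2 : ν₂ + μ - ((ρ n) 0 0 + (ρ n) 1 1) = 0 :=
          mul_left_cancel₀ (sub_ne_zero.mpr e2) (by linear_combination k3 - k1)
        exact e3 (by linear_combination s2 - s1)
    obtain ⟨j, hj⟩ := hodd
    obtain ⟨t, ht⟩ := hsq (g ^ (j + 1))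
    refine ⟨t, ?_⟩
    have e : (g ^ (j + 1)) ^ 2 = g := by
      rw [← pow_mul, show (j + 1) * 2 = (2 * j + 1) + 1 by ring, pow_succ, ← hj, pow_card_eq_one', one_mul]
    rwa [e] at ht
  obtain ⟨s, hs⟩ := hfix a
  obtain ⟨t, ht⟩ := hfix b
  have f1 := congrFun hs 0
  have f2 := congrFun hs 1
  have g2 := congrFun ht 1
  have g1 := congrFun ht 0
  rw [ha] at f1 f2
  rw [hb] at g1 g2
  simp [Matrix.mulVec, dotProduct, Fin.sum_univ_two] at f1 f2 g1 g2
  have hy : x 1 = 0 := by
    by_contra h
    have : s = 1 := mul_right_cancel₀ h (by rw [one_mul]; exact f2.symm)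
    rw [this, one_mul] at f1
    exact h ((mul_eq_zero.mp (add_eq_left.mp f1)).resolve_left hc)
  apply hx0
  funext i
  fin_cases i
  · simp [hy] at g2
    exact g2
  · exact hy

/-- Two quadratic elements generating a solvable group of odd order: `a b⁻¹` acts as a unipotent. -/
theorem quadratic_pair_unipotent {p : ℕ} [Fact p.Prime] [IsAlgClosed k] [CharP k p]
    {V : Type w} [AddCommGroup V] [Module k V] [FiniteDimensional k V]
    [Finite Γ] [Group.IsSolvable Γ] (hodd : Odd (Nat.card Γ)) (ρ : Γ →* Module.End k V) {a b : Γ}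
    (hgen : Subgroup.closure ({a, b} : Set Γ) = ⊤)
    (ha : (ρ a - 1) * (ρ a - 1) = 0) (hb : (ρ b - 1) * (ρ b - 1) = 0) :
    ∃ N : ℕ, ρ (a * b⁻¹) ^ p ^ N = 1 := by
  set α := ρ a - 1 with hα
  set β := ρ b - 1 with hβ
  set C := α * β + β * α with hC
  have hbinv : ρ b⁻¹ = 1 - β := by
    have h1 : ρ b * (1 - β) = 1 := by
      rw [show ρ b = 1 + β by rw [hβ]; abel]
      calc (1 + β) * (1 - β) = 1 - β * β := by noncomm_ring
        _ = 1 := by rw [hb, sub_zero]
    calc ρ b⁻¹ = ρ b⁻¹ * (ρ b * (1 - β)) := by rw [h1, mul_one]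
      _ = 1 - β := by rw [← mul_assoc, ← map_mul, inv_mul_cancel, map_one, one_mul]
  set T := α - β - α * β with hT
  have hT1 : ρ (a * b⁻¹) = 1 + T := by
    rw [map_mul, hbinv, show ρ a = 1 + α by rw [hα]; abel, hT]
    noncomm_ring
  have hcα : C * α = α * C := by
    rw [hC, add_mul, mul_add, mul_assoc β α α, ha, mul_zero, add_zero, ← mul_assoc α α β, ha,
      zero_mul, zero_add, mul_assoc]
  have hcβ : C * β = β * C := by
    rw [hC, add_mul, mul_add, mul_assoc α β β, hb, mul_zero, zero_add, ← mul_assoc β β α, hb,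
      zero_mul, add_zero, mul_assoc]
  have hTT : T * T = -(C * (1 + T)) := by
    have e : T * T + C * (1 + T)
        = α * α * (1 - β) + β * β + β * (α * α) - β * (α * α) * β := by
      rw [hT, hC]; noncomm_ring
    rw [ha, hb] at e
    rw [← add_eq_zero_iff_eq_neg, e]
    noncomm_ring
  by_cases hnil : IsNilpotent C
  · have hTn : IsNilpotent T := by
      obtain ⟨m, hm⟩ := hnil
      have hcT : Commute C (1 + T) := by
        exact (Commute.one_right C).add_right
          (((show Commute C α from hcα).sub_right hcβ).sub_right ((show Commute C α from hcα).mul_right hcβ))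
      refine ⟨2 * m, ?_⟩
      rw [pow_mul, pow_two, hTT, neg_pow, hcT.mul_pow, hm, zero_mul, mul_zero]
    obtain ⟨m, hm⟩ := hTn
    refine ⟨m, ?_⟩
    rcases subsingleton_or_nontrivial (Module.End k V) with hs | hs
    · exact Subsingleton.elim _ _
    have : CharP (Module.End k V) p := charP_of_injective_algebraMap (algebraMap k (Module.End k V)).injective p
    rw [hT1, add_pow_char_pow_of_commute (p := p) (n := m) (h := Commute.one_left T), one_pow]
    have hle : m ≤ p ^ m := (Nat.lt_pow_self (Fact.out : p.Prime).one_lt).le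
    rw [pow_eq_zero_of_le hle hm, add_zero]
  exfalso
  -- a nonzero eigenvalue of `C`
  obtain ⟨c, hc, hcv⟩ : ∃ c : k, c ≠ 0 ∧ Module.End.HasEigenvalue C c := by
    by_contra hno
    simp only [not_exists, not_and] at hno
    apply hnil
    have hmonic := minpoly.monic (Algebra.IsIntegral.isIntegral (R := k) C)
    have hs : (minpoly k C).Splits := IsAlgClosed.splits _
    have hroots : ∀ r ∈ (minpoly k C).roots, r = 0 := by
      intro r hr
      by_contra h
      exact hno r h (Module.End.hasEigenvalue_iff_isRoot.mpr (Polynomial.isRoot_of_mem_roots hr))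
    have heq := hs.eq_prod_roots
    rw [hmonic.leadingCoeff, map_one, one_mul,
      Multiset.eq_replicate.mpr ⟨rfl, hroots⟩, Multiset.map_replicate, Multiset.prod_replicate,
      map_zero, sub_zero] at heq
    refine ⟨Multiset.card (minpoly k C).roots, ?_⟩
    have := minpoly.aeval k C
    rwa [heq, map_pow, Polynomial.aeval_X] at this
  obtain ⟨v, hv⟩ := hcv.exists_hasEigenvector
  obtain ⟨w, hw0, hαw, hCw⟩ : ∃ w : V, w ≠ 0 ∧ α w = 0 ∧ C w = c • w := by
    by_cases h : α v = 0
    · exact ⟨v, hv.2, h, hv.apply_eq_smul⟩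
    · refine ⟨α v, h, ?_, ?_⟩
      · rw [← Module.End.mul_apply, ha]; rfl
      · rw [← Module.End.mul_apply, hcα, Module.End.mul_apply, hv.apply_eq_smul, map_smul]
  set z := β w with hz
  have hαz : α z = c • w := by
    have : C w = α (β w) + β (α w) := rfl
    rw [hαw, map_zero, add_zero, hCw] at this
    exact this.symm
  have hβz : β z = 0 := by rw [hz, ← Module.End.mul_apply, hb]; rfl
  have hind : ∀ x y : k, x • w + y • z = 0 → x = 0 ∧ y = 0 := by
    intro x y h
    have h1 := congrArg α h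
    rw [map_add, map_smul, map_smul, hαw, hαz, smul_zero, zero_add, map_zero, smul_smul] at h1
    have hy : y = 0 := (mul_eq_zero.mp ((smul_eq_zero.mp h1).resolve_right hw0)).resolve_right hc
    rw [hy, zero_smul, add_zero] at h
    exact ⟨(smul_eq_zero.mp h).resolve_right hw0, hy⟩
  -- the action on the invariant plane
  let R : Γ → Matrix (Fin 2) (Fin 2) k → Prop := fun g M =>
    ρ g w = M 0 0 • w + M 1 0 • z ∧ ρ g z = M 0 1 • w + M 1 1 • z
  have huniq : ∀ g M M', R g M → R g M' → M = M' := by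
    intro g M M' h h'
    have e1 := hind (M 0 0 - M' 0 0) (M 1 0 - M' 1 0) (by
      rw [sub_smul, sub_smul]
      have := h.1.symm.trans h'.1
      rw [← sub_eq_zero] at this
      rw [← this]; abel)
    have e2 := hind (M 0 1 - M' 0 1) (M 1 1 - M' 1 1) (by
      rw [sub_smul, sub_smul]
      have := h.2.symm.trans h'.2
      rw [← sub_eq_zero] at this
      rw [← this]; abel)
    ext i j
    fin_cases i <;> fin_cases j
    · exact sub_eq_zero.mp e1.1
    · exact sub_eq_zero.mp e2.1
    · exact sub_eq_zero.mp e1.2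
    · exact sub_eq_zero.mp e2.2
  have hmul : ∀ g h M N, R g M → R h N → R (g * h) (M * N) := by
    intro g h M N hg hh
    constructor
    · rw [map_mul, Module.End.mul_apply, hh.1, map_add, map_smul, map_smul, hg.1, hg.2]
      simp only [Matrix.mul_apply, Fin.sum_univ_two]
      module
    · rw [map_mul, Module.End.mul_apply, hh.2, map_add, map_smul, map_smul, hg.1, hg.2]
      simp only [Matrix.mul_apply, Fin.sum_univ_two]
      module
  have hRa : R a !![1, c; 0, 1] := by
    have e : ρ a = 1 + α := by rw [hα]; abel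
    constructor <;> simp [e, hαw, hαz, add_comm]
  have hRb : R b !![1, 0; 1, 1] := by
    have e : ρ b = 1 + β := by rw [hβ]; abel
    constructor <;> simp [e, hβz, ← hz]
  have hex : ∀ g : Γ, ∃ M, R g M ∧ M.det = 1 := by
    intro g
    have hg : g ∈ Submonoid.closure ({a, b} : Set Γ) := by
      rw [← Subgroup.closure_toSubmonoid_of_finite, hgen]; exact Submonoid.mem_top g
    induction hg using Submonoid.closure_induction with
    | mem y hy =>
      rcases hy with rfl | rfl
      · exact ⟨_, hRa, by simp [Matrix.det_fin_two]⟩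
      · exact ⟨_, hRb, by simp [Matrix.det_fin_two]⟩
    | one => exact ⟨1, ⟨by simp, by simp⟩, Matrix.det_one⟩
    | mul y y' _ _ hy hy' =>
      obtain ⟨M, hM, hMd⟩ := hy
      obtain ⟨N, hN, hNd⟩ := hy'
      exact ⟨M * N, hmul _ _ _ _ hM hN, by rw [Matrix.det_mul, hMd, hNd, one_mul]⟩
  choose θ hθ hθdet using hex
  let θh : Γ →* Matrix (Fin 2) (Fin 2) k :=
    { toFun := θ
      map_one' := huniq 1 _ _ (hθ 1) ⟨by simp, by simp⟩
      map_mul' := fun g h => huniq _ _ _ (hθ _) (hmul g h _ _ (hθ g) (hθ h)) }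
  have ha' : θh a = !![1, c; 0, 1] := huniq a _ _ (hθ a) hRa
  have hb' : θh b = !![1, 0; 1, 1] := huniq b _ _ (hθ b) hRb
  let K := θh.toHomUnits.ker
  let θq : Γ ⧸ K →* Matrix (Fin 2) (Fin 2) k :=
    (Units.coeHom (Matrix (Fin 2) (Fin 2) k)).comp (QuotientGroup.kerLift θh.toHomUnits)
  refine no_transvection_pair (Γ := Γ ⧸ K) ?_ θq
    (Units.val_injective.comp (QuotientGroup.kerLift_injective θh.toHomUnits)) ?_
    (a := (a : Γ ⧸ K)) (b := (b : Γ ⧸ K)) hc ha' hb'
  · exact hodd.of_dvd_nat (Subgroup.card_quotient_dvd_card K)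
  · intro g
    induction g using QuotientGroup.induction_on with
    | _ g => exact hθdet g

end CfsgLib.OddLocal
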