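import Cfsg.Agent.Lib.OddLocal.SLTwoOdd
import Cfsg.Agent.Lib.OddLocal.QuadPair
import Mathlib.GroupTheory.Abelianization.Defs
import Mathlib.GroupTheory.Solvable

/-!
# The derived group of a solvable odd-order subgroup of `GL(2, F)` has exponent `p`
-/

set_option autoImplicit false
set_option linter.unusedSectionVars false

namespace CfsgLib.OddLocal

open Matrix
open scoped commutatorElement

universe u v

variable {F : Type u} [Field F] {K : Type v} [Group K] [Finite K]
  (ρ : K →* Matrix (Fin 2) (Fin 2) F) {p : ℕ} [hp : Fact p.Prime] [CharP F p]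

theorem two_ne_zero_of_char (hp2 : p ≠ 2) : (2 : F) ≠ 0 := fun this =>
  hp2 ((Nat.prime_dvd_prime_iff_eq hp.out Nat.prime_two).mp
    ((CharP.cast_eq_zero_iff F p 2).mp (by exact_mod_cast this)))

/-- In `GL(2)` without `p`-elements a non-scalar element commuting with a conjugate equals it. -/
theorem commute_of_conj_commute (hodd : Odd (Nat.card K)) (hinj : Function.Injective ρ) (hp2 : p ≠ 2)
    (hpK : ¬ p ∣ Nat.card K) {m g : K} (hm : ∀ c : F, ρ m ≠ c • 1)
    (hc : g * m * g⁻¹ * m = m * (g * m * g⁻¹)) : g * m = m * g := by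
  have h20 := two_ne_zero_of_char (F := F) (p := p) hp2
  obtain ⟨a, b, hab⟩ := exists_of_commute hm
    (show ρ (g * m * g⁻¹) * ρ m = ρ m * ρ (g * m * g⁻¹) by rw [← map_mul, ← map_mul, hc])
  have e : ρ (g * m * g⁻¹) = ρ g * ρ m * ρ g⁻¹ := by rw [map_mul, map_mul]
  have e2 : ρ g⁻¹ * ρ g = 1 := by rw [← map_mul, inv_mul_cancel, map_one]
  have htr : (ρ (g * m * g⁻¹)).trace = (ρ m).trace := by
    rw [e, Matrix.trace_mul_comm, ← mul_assoc, e2, one_mul]
  have hde : (ρ (g * m * g⁻¹)).det = (ρ m).det := by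
    rw [e, Matrix.det_mul_comm, ← mul_assoc, e2, one_mul]
  rw [Matrix.trace_fin_two, Matrix.trace_fin_two, hab] at htr
  simp at htr
  rw [hab, Matrix.det_fin_two, Matrix.det_fin_two] at hde
  simp at hde
  set t := ρ m 0 0 + ρ m 1 1 with htdef
  set d := ρ m 0 0 * ρ m 1 1 - ρ m 0 1 * ρ m 1 0 with hddef
  have hdisc : 4 * d - t * t ≠ 0 := by
    intro h
    have : CharP (Matrix (Fin 2) (Fin 2) F) p :=
      charP_of_injective_algebraMap (algebraMap F (Matrix (Fin 2) (Fin 2) F)).injective p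
    set N := ρ m - (t / 2) • 1 with hN
    have hN2 : N * N = 0 := by
      ext i j
      fin_cases i <;> fin_cases j <;>
        simp [hN, Matrix.mul_apply, Fin.sum_univ_two] <;> field_simp <;>
        simp only [htdef, hddef] at h ⊢
      · linear_combination -h
      · ring
      · ring
      · linear_combination -h
    have hpm : ρ (m ^ p) = ((t / 2) ^ p) • 1 := by
      rw [map_pow, show ρ m = (t / 2) • 1 + N by rw [hN]; abel,
        add_pow_char_of_commute (p := p) (h := (Commute.one_left _).smul_left _),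
        pow_eq_zero_of_le (a := N) (show 2 ≤ p from hp.out.two_le) (by rw [pow_two]; exact hN2), add_zero,
        smul_pow, one_pow]
    obtain ⟨k, hk⟩ : ∃ k : ℕ, (m ^ p) ^ k = m :=
      exists_pow_eq_self_of_coprime (hp.out.coprime_iff_not_dvd.2
        fun h => hpK (h.trans (orderOf_dvd_natCard m)))
    exact hm (((t / 2) ^ p) ^ k) (by rw [← hk, map_pow, hpm, smul_pow, one_pow])
  have h2 : (b * b - 1) * (4 * d - t * t) = 0 := by
    simp only [htdef, hddef]
    linear_combination 4 * hde - (2 * a + (b + 1) * (ρ m 0 0 + ρ m 1 1)) * htr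
  have h3 := sub_eq_zero.mp ((mul_eq_zero.mp h2).resolve_right hdisc)
  rcases mul_self_eq_one_iff.mp h3 with hb | hb
  · have ha : a = 0 := mul_left_cancel₀ h20 (by rw [mul_zero]; subst hb; linear_combination htr)
    have : g * m * g⁻¹ = m := hinj (by rw [hab, ha, hb, zero_smul, one_smul, zero_add])
    exact mul_inv_eq_iff_eq_mul.mp this
  · exfalso
    have ha : a = t := mul_left_cancel₀ h20 (by subst hb; rw [htdef]; linear_combination htr)
    have hg : ρ g * ρ m * ρ g⁻¹ = t • 1 - ρ m := by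
      rw [← e, hab, ha, hb, neg_smul, one_smul, sub_eq_add_neg]
    have hg2 : ρ g * (t • 1 - ρ m) * ρ g⁻¹ = ρ m := by
      have e3 : ρ g * ρ g⁻¹ = 1 := by rw [← map_mul, mul_inv_cancel, map_one]
      rw [mul_sub, sub_mul, hg, mul_smul_comm, mul_one, smul_mul_assoc, e3]
      abel
    obtain ⟨j, hj⟩ := hodd
    have key : ∀ i : ℕ, ρ (g ^ (2 * i + 1) * m * (g ^ (2 * i + 1))⁻¹) = t • 1 - ρ m := by
      intro i
      induction i with
      | zero => simpa [map_mul] using hg
      | succ i ih =>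
        rw [show g ^ (2 * (i + 1) + 1) * m * (g ^ (2 * (i + 1) + 1))⁻¹
          = g * (g * (g ^ (2 * i + 1) * m * (g ^ (2 * i + 1))⁻¹) * g⁻¹) * g⁻¹ by
            rw [show 2 * (i + 1) + 1 = 1 + (1 + (2 * i + 1)) by ring, pow_add, pow_add _ 1, pow_one]
            group]
        rw [map_mul, map_mul, map_mul, map_mul, ih, hg2, hg]
    have h5 := key j
    rw [← hj, pow_card_eq_one', one_mul, inv_one, mul_one] at h5
    refine hm (t / 2) ?_
    have h6 : (2 : F) • ρ m = t • 1 := by rw [two_smul]; nth_rewrite 1 [h5]; abel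
    calc ρ m = (2 : F)⁻¹ • ((2 : F) • ρ m) := by rw [smul_smul, inv_mul_cancel₀ h20, one_smul]
      _ = (t / 2) • 1 := by rw [h6, smul_smul, div_eq_inv_mul]

/-- A solvable odd-order subgroup of `GL(2, F)` of order prime to `p` is abelian. -/
theorem commute_of_odd_gl_two [Group.IsSolvable K] (hodd : Odd (Nat.card K))
    (hinj : Function.Injective ρ) (hp2 : p ≠ 2) (hpK : ¬ p ∣ Nat.card K) (x y : K) :
    x * y = y * x := by
  have hcomm_of : ∀ {m : K}, (∀ c : F, ρ m ≠ c • 1) → ∀ u v : K, u * m = m * u → v * m = m * v →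
      u * v = v * u := by
    intro m hm u v hu hv
    obtain ⟨a, b, hab⟩ := exists_of_commute hm (show ρ u * ρ m = ρ m * ρ u by rw [← map_mul, ← map_mul, hu])
    obtain ⟨c, d, hcd⟩ := exists_of_commute hm (show ρ v * ρ m = ρ m * ρ v by rw [← map_mul, ← map_mul, hv])
    exact hinj (by rw [map_mul, map_mul, hab, hcd, (smul_one_add_smul_commute _ a b c d).eq])
  let Z : Subgroup K :=
    { carrier := {z | ∃ c : F, ρ z = c • 1}
      one_mem' := ⟨1, by rw [map_one, one_smul]⟩
      mul_mem' := fun {a b} ⟨c, hc⟩ ⟨d, hd⟩ => ⟨c * d, by rw [map_mul, hc, hd, smul_mul_smul_comm, one_mul]⟩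
      inv_mem' := fun {a} ⟨c, hc⟩ => by
        refine ⟨c⁻¹, ?_⟩
        have h : ρ a⁻¹ * ρ a = 1 := by rw [← map_mul, inv_mul_cancel, map_one]
        rw [hc, mul_smul_comm, mul_one] at h
        have hc0 : c ≠ 0 := fun h0 => by
          rw [h0, zero_smul] at h
          exact one_ne_zero (congrFun (congrFun h 0) 0).symm
        calc ρ a⁻¹ = c⁻¹ • (c • ρ a⁻¹) := by rw [smul_smul, inv_mul_cancel₀ hc0, one_smul]
          _ = c⁻¹ • 1 := by rw [h] }
  have hZc : ∀ z ∈ Z, ∀ u : K, u * z = z * u := by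
    rintro z ⟨c, hc⟩ u
    exact hinj (by rw [map_mul, map_mul, hc, mul_smul_comm, smul_mul_assoc, one_mul, mul_one])
  by_cases hZ : Z = ⊤
  · exact hZc y (hZ ▸ Subgroup.mem_top y) x
  haveI : Z.Normal := ⟨fun z hz g => by
    rw [hZc z hz g, mul_inv_cancel_right]; exact hz⟩
  haveI : Nontrivial (K ⧸ Z) := QuotientGroup.nontrivial_iff.2 hZ
  obtain ⟨A, hAn, hA1, hAc⟩ := exists_abelian_normal (K ⧸ Z)
  set f := QuotientGroup.mk' Z
  obtain ⟨q, hq, hq1⟩ : ∃ q ∈ A, q ≠ 1 := (Subgroup.ne_bot_iff_exists_ne_one.1 hA1).elim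
    fun q hq => ⟨q.1, q.2, fun h => hq (Subtype.ext h)⟩
  obtain ⟨m, rfl⟩ := QuotientGroup.mk'_surjective Z q
  have hm : ∀ c : F, ρ m ≠ c • 1 := fun c hc => hq1 ((QuotientGroup.eq_one_iff m).2 ⟨c, hc⟩)
  have hcen : ∀ g : K, g * m = m * g := by
    intro g
    refine commute_of_conj_commute ρ hodd hinj hp2 hpK hm ?_
    have hgA : f (g * m * g⁻¹) ∈ A := by rw [map_mul, map_mul, map_inv]; exact hAn.conj_mem _ hq _
    set w := g * m * g⁻¹
    have h0 : f ⁅w, m⁆ = 1 := by
      rw [map_commutatorElement, commutatorElement_eq_one_iff_mul_comm]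
      exact congrArg Subtype.val (hAc.is_comm.comm (⟨_, hgA⟩ : A) ⟨_, hq⟩)
    obtain ⟨c, hc⟩ := (QuotientGroup.eq_one_iff _).1 h0
    have hdet : (ρ ⁅w, m⁆).det = 1 := by
      have hi : ∀ u : K, (ρ u).det * (ρ u⁻¹).det = 1 := fun u => by
        rw [← Matrix.det_mul, ← map_mul, mul_inv_cancel, map_one, Matrix.det_one]
      rw [commutatorElement_def, map_mul, map_mul, map_mul, Matrix.det_mul, Matrix.det_mul, Matrix.det_mul]
      calc (ρ w).det * (ρ m).det * (ρ w⁻¹).det * (ρ m⁻¹).det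
          = ((ρ w).det * (ρ w⁻¹).det) * ((ρ m).det * (ρ m⁻¹).det) := by ring
        _ = 1 := by rw [hi, hi, one_mul]
    rw [hc, Matrix.det_smul, Fintype.card_fin, Matrix.det_one, mul_one, pow_two] at hdet
    have h1 : ⁅w, m⁆ = 1 := eq_one_of_sq hodd (hinj (by
      rw [pow_two, map_mul, map_one, hc, smul_mul_smul_comm, hdet, one_mul, one_smul]))
    exact commutatorElement_eq_one_iff_mul_comm.1 h1
  exact hcomm_of hm x y (hcen x) (hcen y)

/-- The derived group of a solvable odd-order subgroup of `GL(2, F)` has exponent `p`. -/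
theorem pow_eq_one_of_mem_commutator_gl_two [Group.IsSolvable K] (hodd : Odd (Nat.card K))
    (hinj : Function.Injective ρ) (hp2 : p ≠ 2) {x : K} (hx : x ∈ commutator K) : x ^ p = 1 := by
  classical
  by_cases hpK : p ∣ Nat.card K
  swap
  · suffices x = 1 by rw [this, one_pow]
    have h : commutator K = ⊥ := by
      rw [_root_.commutator_def, Subgroup.commutator_eq_bot_iff_le_centralizer]
      exact fun u _ => Subgroup.mem_centralizer_iff.2 fun v _ =>
        commute_of_odd_gl_two ρ hodd hinj hp2 hpK v u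
    rwa [h, Subgroup.mem_bot] at hx
  let δ : K →* F := Matrix.detMonoidHom.comp ρ
  set K1 := δ.ker with hK1
  let ρ1 : K1 →* Matrix (Fin 2) (Fin 2) F := ρ.comp K1.subtype
  have hdet1 : ∀ z : K1, (ρ1 z).det = 1 := fun z => z.2
  have hinj1 : Function.Injective ρ1 := hinj.comp Subtype.val_injective
  have hodd1 : Odd (Nat.card K1) := hodd.of_dvd_nat (Subgroup.card_subgroup_dvd_card K1)
  have hpK1 : p ∣ Nat.card K1 := by
    obtain ⟨z, hz⟩ := exists_prime_orderOf_dvd_card' p hpK
    have hz1 : z ∈ K1 := by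
      have h : δ z ^ p = 1 := by rw [← map_pow, ← hz, pow_orderOf_eq_one, map_one]
      rw [hK1, MonoidHom.mem_ker]
      have h' : (δ z - 1) ^ p = 0 := by rw [sub_pow_char, h, one_pow, sub_self]
      exact sub_eq_zero.1 (eq_zero_of_pow_eq_zero h')
    rw [← hz, ← Subgroup.orderOf_mk z hz1]
    exact orderOf_dvd_natCard _
  haveI : K1.Normal := MonoidHom.normal_ker δ
  obtain ⟨P⟩ : Nonempty (Sylow p K1) := inferInstance
  haveI hPn : (P : Subgroup K1).Normal := sylow_normal_of_det_one hodd1 ρ1 hinj1 hdet1 hp2 P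
  haveI : (P : Subgroup K1).Characteristic := P.characteristic_of_normal hPn
  have hPK : ((P : Subgroup K1).map K1.subtype).Normal := inferInstance
  haveI : Nontrivial (P : Subgroup K1) :=
    (Subgroup.nontrivial_iff_ne_bot _).2 (P.ne_bot_of_dvd_card hpK1)
  haveI := P.2.center_nontrivial
  obtain ⟨⟨⟨u1, huP⟩, huc⟩, hu1⟩ := exists_ne (1 : Subgroup.center (P : Subgroup K1))
  set u : K := u1.1 with hu_def
  have hu : u ≠ 1 := fun h => hu1 (Subtype.ext (Subtype.ext (Subtype.ext h)))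
  have htr : ∀ z ∈ (P : Subgroup K1), ρ1 z 0 0 + ρ1 z 1 1 = 2 := fun z hz => by
    obtain ⟨n, hn⟩ := P.2 ⟨z, hz⟩
    exact trace_of_pow_p ρ1 hdet1 (p := p) (n := n) (congrArg Subtype.val hn)
  have hns : ∀ c : F, ρ u ≠ c • 1 :=
    ne_smul_one hodd1 ρ1 hinj1 hdet1 (fun h => hu (congrArg Subtype.val h))
  set N := ρ u - 1 with hN
  have hNne : N ≠ 0 := fun h => hns 1 (by rw [one_smul]; exact sub_eq_zero.1 h)
  have key : ∀ g : K, ∃ b : F, ρ g * N * ρ g⁻¹ = b • N := by
    intro g
    obtain ⟨w, hw, hwe⟩ := hPK.conj_mem u ⟨u1, huP, rfl⟩ g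
    have hcomm : w * u1 = u1 * w := congrArg Subtype.val (Subgroup.mem_center_iff.1 huc ⟨w, hw⟩)
    obtain ⟨a, b, hab⟩ := exists_of_commute hns
      (show ρ1 w * ρ u = ρ u * ρ1 w by
        show ρ1 w * ρ1 u1 = ρ1 u1 * ρ1 w
        rw [← map_mul, ← map_mul, hcomm])
    have t1 := htr w hw
    have t2 : ρ u 0 0 + ρ u 1 1 = 2 := htr u1 huP
    rw [hab] at t1
    simp at t1
    refine ⟨b, ?_⟩
    have h20 := two_ne_zero_of_char (F := F) (p := p) hp2
    have ha : a = 1 - b := mul_left_cancel₀ h20 (by linear_combination t1 - b * t2)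
    have e3 : ρ g * ρ g⁻¹ = 1 := by rw [← map_mul, mul_inv_cancel, map_one]
    rw [hN, mul_sub, sub_mul, mul_one, e3, ← map_mul, ← map_mul, ← hwe]
    show ρ1 w - 1 = _
    rw [hab, ha, sub_smul, one_smul, smul_sub]
    abel
  choose β hβ using key
  have huniq : ∀ b c : F, b • N = c • N → b = c := fun b c h => by
    by_contra hne
    exact hNne ((smul_eq_zero.1 (show (b - c) • N = 0 by rw [sub_smul, h, sub_self])).resolve_left
      (sub_ne_zero.2 hne))
  let βh : K →* F :=
    { toFun := β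
      map_one' := huniq _ _ (by rw [← hβ, inv_one, map_one, one_mul, mul_one, one_smul])
      map_mul' := fun g h => huniq _ _ (by
        rw [← hβ, _root_.mul_inv_rev, map_mul, map_mul,
          show ρ g * ρ h * N * (ρ h⁻¹ * ρ g⁻¹) = ρ g * (ρ h * N * ρ h⁻¹) * ρ g⁻¹ by
            simp only [mul_assoc], hβ h, mul_smul_comm, smul_mul_assoc, hβ g, smul_smul, mul_comm]) }
  have hker : ∀ φ : K →* F, φ x = 1 := fun φ => by
    have h := MonoidHom.mem_ker.1 (Abelianization.commutator_subset_ker φ.toHomUnits hx)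
    exact congrArg Units.val h
  have hx1 : x ∈ K1 := hker δ
  have hxu : x * u = u * x := by
    apply hinj
    rw [map_mul, map_mul, show ρ u = 1 + N by rw [hN]; abel, mul_add, add_mul, mul_one, one_mul]
    congr 1
    have h := hβ x
    rw [show β x = 1 from hker βh, one_smul] at h
    calc ρ x * N = ρ x * N * (ρ x⁻¹ * ρ x) := by rw [← map_mul, inv_mul_cancel, map_one, mul_one]
      _ = (ρ x * N * ρ x⁻¹) * ρ x := by simp only [mul_assoc]
      _ = N * ρ x := by rw [h]
  obtain ⟨a, b, hab⟩ := exists_of_commute hns (show ρ x * ρ u = ρ u * ρ x by rw [← map_mul, ← map_mul, hxu])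
  have t2 : ρ u 0 0 + ρ u 1 1 = 2 := htr u1 huP
  have d2 : (ρ u).det = 1 := hdet1 u1
  have d1 : (ρ x).det = 1 := hx1
  rw [Matrix.det_fin_two] at d1 d2
  have hne := trace_ne_neg_two hodd1 ρ1 hinj1 hdet1 hp2 ⟨x, hx1⟩
  change ρ x 0 0 + ρ x 1 1 ≠ -2 at hne
  rw [hab] at d1 hne
  simp at d1 hne
  have hsq : (a + b - 1) * (a + b + 1) = 0 := by
    linear_combination d1 - a * b * t2 - b * b * d2
  rcases mul_eq_zero.1 hsq with h | h
  · refine congrArg Subtype.val (pow_p_of_trace ρ1 hinj1 hdet1 hp2 (x := ⟨x, hx1⟩) ?_)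
    show ρ x 0 0 + ρ x 1 1 = 2
    rw [hab]
    simp
    linear_combination 2 * h + b * t2
  · exact absurd (show _ = (-2 : F) by linear_combination 2 * h + b * t2) hne

end CfsgLib.OddLocal
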