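import Cfsg.Prelude.Def_CaseTheorems
import Cfsg.Agent.Lib.OddLocal.GLTwoOdd
import Cfsg.Agent.Lib.Transfer.PPrimeAut
import Mathlib.Algebra.Module.ZMod
import Mathlib.Algebra.Field.ZMod
import Mathlib.LinearAlgebra.Basis.VectorSpace
import Mathlib.RingTheory.Finiteness.Cardinality
import Mathlib.LinearAlgebra.Matrix.ToLin
import Mathlib.LinearAlgebra.Dimension.Constructions
import Mathlib.LinearAlgebra.FiniteDimensional.Basic
import Mathlib.LinearAlgebra.Matrix.GeneralLinearGroup.Card

/-!
Automorphisms of `p`-groups of rank at most two (`p` odd): the `p'`-part embeds in `GL(2, p)`.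
-/

set_option autoImplicit false

open Subgroup
open scoped commutatorElement

namespace CfsgLib.OddLocal

variable {R : Type*} [Group R] [Finite R] {p : ℕ} [Fact p.Prime]

/-- A characteristic subgroup of exponent `p`, order at most `p³` and class at most two,
detecting automorphisms of order prime to `p`. -/
theorem exists_detecting (hp : p ≠ 2) (hR : IsPGroup p R) (hrk : Cfsg.PRankLE p 2 R) :
    ∃ D : Subgroup R, D.Characteristic ∧ (∀ x ∈ D, x ^ p = 1) ∧ Nat.card D ≤ p ^ 3 ∧
      (∀ x y : D, ⁅x, y⁆ ∈ center D) ∧ Nat.card (D ⧸ commutator D) ≤ p ^ 2 ∧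
      ∀ a : MulAut R, (orderOf a).Coprime p → (∀ x ∈ D, a x = x) → a = 1 := by
  have hpr := (Fact.out : p.Prime)
  obtain ⟨H, hHch, hHfr, hHR, hHC⟩ := CfsgLib.Transfer.exists_critical (G := R) (p := p) hR
  have hclH : ∀ x y : H, ⁅x, y⁆ ∈ center H := by
    intro x y
    have h := CfsgLib.Transfer.commutatorElement_mem_frattini (hR.to_subgroup H) x y
    exact mem_center_iff.2 fun w => Subtype.ext (mem_centralizer_iff.1 (hHfr ⟨_, h, rfl⟩) w w.2)
  set D0 := closure {x : H | x ^ p = 1} with hD0
  set D := D0.map H.subtype with hD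
  have hD0ch : D0.Characteristic := by
    rw [characteristic_iff_map_le]
    intro φ
    rw [hD0, MonoidHom.map_closure, closure_le]
    rintro _ ⟨x, hx, rfl⟩
    exact subset_closure (show (φ x) ^ p = 1 by rw [← map_pow, show x ^ p = 1 from hx, map_one])
  have hDch : D.Characteristic := by
    rw [characteristic_iff_map_le]
    rintro φ _ ⟨_, ⟨x, hx, rfl⟩, rfl⟩
    have hφH : ∀ h : R, h ∈ H → φ h ∈ H := fun h hh => characteristic_iff_map_le.1 hHch φ ⟨h, hh, rfl⟩
    let φH : H ≃* H :=
      { toFun := fun h => ⟨φ h, hφH h h.2⟩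
        invFun := fun h => ⟨φ.symm h, characteristic_iff_map_le.1 hHch φ.symm ⟨h, h.2, rfl⟩⟩
        left_inv := fun h => Subtype.ext (φ.symm_apply_apply _)
        right_inv := fun h => Subtype.ext (φ.apply_symm_apply _)
        map_mul' := fun a b => Subtype.ext (map_mul φ (a : R) b) }
    exact ⟨φH x, characteristic_iff_map_le.1 hD0ch φH ⟨x, hx, rfl⟩, rfl⟩
  have hexp : ∀ x ∈ D, x ^ p = 1 := by
    rintro _ ⟨x, hx, rfl⟩
    exact congrArg Subtype.val (CfsgLib.Transfer.pow_eq_one_of_mem_closure_class_two hpr hp hclH hx)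
  have hDH : D ≤ H := map_subtype_le _
  have hclD : ∀ x y : D, ⁅x, y⁆ ∈ center D := fun x y => mem_center_iff.2 fun w => by
    have h := mem_center_iff.1 (hclH ⟨x, hDH x.2⟩ ⟨y, hDH y.2⟩) ⟨w, hDH w.2⟩
    exact Subtype.ext (congrArg Subtype.val h :)
  have hDp : IsPGroup p D := hR.to_subgroup D
  have hrkD : ∀ E : Subgroup D, IsMulCommutative E → Nat.card E ≤ p ^ 2 := by
    intro E hE
    rw [← Subgroup.card_map_of_injective (f := D.subtype) (K := E) D.subtype_injective]
    refine hrk _ ?_ fun a ha => ?_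
    · haveI := hE
      infer_instance
    · obtain ⟨x, -, rfl⟩ := ha
      exact hexp x x.2
  have hsize : Nat.card D ≤ p ^ 3 ∧ Nat.card (D ⧸ commutator D) ≤ p ^ 2 := by
    by_cases hab : IsMulCommutative D
    · have h : Nat.card D ≤ p ^ 2 := by
        rw [← Subgroup.card_top (G := D)]
        exact hrkD ⊤ inferInstance
      exact ⟨h.trans (Nat.pow_le_pow_right hpr.pos (by norm_num)),
        (Nat.le_of_dvd Nat.card_pos (Subgroup.card_quotient_dvd_card _)).trans h⟩
    have hcne : commutator D ≠ ⊥ := fun h => hab ⟨⟨fun a b => by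
      have h1 : ⁅a, b⁆ ∈ commutator D := by
        rw [_root_.commutator_def]; exact commutator_mem_commutator (mem_top _) (mem_top _)
      rw [h, mem_bot] at h1
      exact commutatorElement_eq_one_iff_mul_comm.1 h1⟩⟩
    set Z := center D with hZ
    have hcZ : commutator D ≤ Z := by
      rw [_root_.commutator_def, commutator_le]; exact fun a _ b _ => hclD a b
    obtain ⟨x, hxZ⟩ : ∃ x : D, x ∉ Z := by
      by_contra h
      push_neg at h
      exact hab ⟨⟨fun a b => mem_center_iff.1 (h b) a⟩⟩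
    set E := Z ⊔ zpowers x with hE
    have hEc : IsMulCommutative E := by
      rw [hE, ← Subgroup.closure_eq Z, zpowers_eq_closure, ← Subgroup.closure_union]
      refine isMulCommutative_closure ?_
      rintro a (ha | rfl) b (hb | rfl)
      · exact mem_center_iff.1 hb a
      · exact (mem_center_iff.1 ha _).symm
      · exact mem_center_iff.1 hb _
      · rfl
    have hEle : Nat.card E ≤ p ^ 2 := hrkD E hEc
    have hZlt : Nat.card Z < Nat.card E := by
      refine lt_of_le_of_ne (Subgroup.card_le_of_le le_sup_left) fun h => hxZ ?_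
      rw [eq_of_le_of_card_ge (le_sup_left : Z ≤ E) h.ge]
      exact mem_sup_right (mem_zpowers x)
    obtain ⟨c, hc⟩ := IsPGroup.iff_card.1 (hDp.to_subgroup Z)
    have hc0 : c ≠ 0 := fun h => hcne (eq_bot_iff.2 (hcZ.trans (eq_bot_of_card_eq Z (by rw [hc, h, pow_zero])).le))
    obtain ⟨e, he⟩ := IsPGroup.iff_card.1 (hDp.to_subgroup E)
    rw [hc, he] at hZlt
    rw [he] at hEle
    have h1 := (Nat.pow_lt_pow_iff_right hpr.one_lt).1 hZlt
    have h2 := (Nat.pow_le_pow_iff_right hpr.one_lt).1 hEle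
    have hc1 : c = 1 := by omega
    have he2 : e = 2 := by omega
    subst hc1 he2
    -- the centralizer of `x` is `E`
    let f : D →* Z :=
      { toFun := fun y => ⟨⁅x, y⁆, hclD x y⟩
        map_one' := Subtype.ext (commutatorElement_one_right x)
        map_mul' := fun a b => Subtype.ext (CfsgLib.Transfer.commutatorElement_mul_right hclD x a b) }
    have hker : f.ker ≤ E := by
      intro y hy
      have hxy : x * y = y * x := commutatorElement_eq_one_iff_mul_comm.1 (congrArg Subtype.val hy)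
      by_contra hyE
      have hE' : IsMulCommutative (Z ⊔ zpowers x ⊔ zpowers y : Subgroup D) := by
        rw [← Subgroup.closure_eq Z, zpowers_eq_closure, zpowers_eq_closure, ← Subgroup.closure_union, ← Subgroup.closure_union]
        refine isMulCommutative_closure ?_
        rintro a ((ha | rfl) | rfl) b ((hb | rfl) | rfl)
        all_goals first
          | exact mem_center_iff.1 hb _
          | exact (mem_center_iff.1 ha _).symm
          | rfl
          | exact hxy
          | exact hxy.symm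
      have h3 := hrkD _ hE'
      have h4 : E = Z ⊔ zpowers x ⊔ zpowers y := eq_of_le_of_card_ge le_sup_left (by rw [he]; exact h3)
      exact hyE (h4 ▸ mem_sup_right (mem_zpowers y))
    have hD3 : Nat.card D ≤ p ^ 3 := by
      rw [← f.ker.card_mul_index, Subgroup.index_ker]
      calc Nat.card f.ker * Nat.card f.range ≤ p ^ 2 * p ^ 1 :=
            Nat.mul_le_mul (he ▸ Subgroup.card_le_of_le hker) (hc ▸ Subgroup.card_le_card_group _)
        _ = p ^ 3 := by ring
    refine ⟨hD3, ?_⟩
    obtain ⟨k, hk⟩ := IsPGroup.iff_card.1 (hDp.to_subgroup (commutator D))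
    have hk0 : k ≠ 0 := fun h => hcne (eq_bot_of_card_eq _ (by rw [hk, h, pow_zero]))
    refine Nat.le_of_mul_le_mul_right (?_ : _ * p ^ 1 ≤ p ^ 2 * p ^ 1) (pow_pos hpr.pos 1)
    calc Nat.card (D ⧸ commutator D) * p ^ 1 ≤ Nat.card (D ⧸ commutator D) * Nat.card (commutator D) :=
          Nat.mul_le_mul_left _ (hk ▸ Nat.pow_le_pow_right hpr.pos (Nat.one_le_iff_ne_zero.2 hk0))
      _ = Nat.card D := (card_eq_card_quotient_mul_card_subgroup _).symm
      _ ≤ p ^ 2 * p ^ 1 := hD3.trans_eq (by ring)
  refine ⟨D, hDch, hexp, hsize.1, hclD, hsize.2, fun a ha hfix => ?_⟩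
  -- `a` is trivial on `H`
  have haH : ∀ h : R, h ∈ H → a h ∈ H := fun h hh => characteristic_iff_map_le.1 hHch a ⟨h, hh, rfl⟩
  let aH : MulAut H :=
    { toFun := fun h => ⟨a h, haH h h.2⟩
      invFun := fun h => ⟨a.symm h, characteristic_iff_map_le.1 hHch a.symm ⟨h, h.2, rfl⟩⟩
      left_inv := fun h => Subtype.ext (a.symm_apply_apply _)
      right_inv := fun h => Subtype.ext (a.apply_symm_apply _)
      map_mul' := fun u v => Subtype.ext (map_mul a (u : R) v) }
  have hpw : ∀ (n : ℕ) (h : H), ((aH ^ n) h : R) = (a ^ n) h := by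
    intro n
    induction n with
    | zero => intro h; rfl
    | succ n ih => intro h; rw [pow_succ, pow_succ, MulAut.mul_apply, MulAut.mul_apply, ih]; rfl
  have hord : (orderOf aH).Coprime p := ha.coprime_dvd_left (orderOf_dvd_of_pow_eq_one (by
    ext h; rw [hpw, pow_orderOf_eq_one]; rfl))
  have haH1 : aH = 1 := CfsgLib.Transfer.eq_one_of_fixes_omega_one hp (hR.to_subgroup H) aH hord
    fun h hh => Subtype.ext (hfix h ⟨h, subset_closure hh, rfl⟩)
  have hfixH : ∀ h ∈ H, a h = h := fun h hh => by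
    have := congrArg (fun b : MulAut H => ((b ⟨h, hh⟩ : H) : R)) haH1
    exact this
  ext x
  refine CfsgLib.Transfer.apply_eq_self_of_fixed_quotient hR a ha (hfixH _ (hHC ?_))
  rw [mem_centralizer_iff]
  intro h hh
  haveI := hHch
  exact (CfsgLib.Transfer.commute_of_conj_fixed a (hfixH h hh)
    (hfixH _ ((inferInstance : H.Normal).conj_mem h hh x))).eq.symm

/-- A representation on a vector space with at most `p²` elements gives one by `2 × 2` matrices. -/
theorem exists_matrix_rep {q : ℕ} [Fact q.Prime] {Γ : Type*} [Monoid Γ] {V : Type*} [AddCommGroup V]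
    [Finite V] [Module (ZMod q) V] (hV : Nat.card V ≤ q ^ 2) (L0 : Γ →* Module.End (ZMod q) V) :
    ∃ ρ : Γ →* Matrix (Fin 2) (Fin 2) (ZMod q), ∀ g, ρ g = 1 → L0 g = 1 := by
  haveI : Module.Finite (ZMod q) V := Module.Finite.of_finite
  set n := Module.finrank (ZMod q) V with hn
  have hn2 : n ≤ 2 := by
    rw [Module.natCard_eq_pow_finrank (K := ZMod q), Nat.card_zmod, ← hn] at hV
    exact (Nat.pow_le_pow_iff_right (Fact.out : q.Prime).one_lt).1 hV
  have hW : Module.finrank (ZMod q) (V × (Fin (2 - n) → ZMod q)) = 2 := by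
    rw [Module.finrank_prod, Module.finrank_fin_fun, ← hn]; omega
  let b := Module.finBasisOfFinrankEq (ZMod q) (V × (Fin (2 - n) → ZMod q)) hW
  let Lh : Γ →* Module.End (ZMod q) (V × (Fin (2 - n) → ZMod q)) :=
    { toFun := fun g => LinearMap.prodMap (L0 g) LinearMap.id
      map_one' := by rw [map_one]; rfl
      map_mul' := fun g h => by rw [map_mul]; rfl }
  refine ⟨(LinearMap.toMatrixAlgEquiv b).toAlgHom.toMonoidHom.comp Lh, fun g h => ?_⟩
  have hL : Lh g = 1 := by
    apply (LinearMap.toMatrixAlgEquiv b).injective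
    rw [map_one]
    exact h
  exact LinearMap.ext fun v => congrArg Prod.fst (LinearMap.congr_fun hL (v, 0))

/-- Endomorphism version of `exists_matrix_rep`. -/
theorem exists_matrix_rep' {q : ℕ} [Fact q.Prime] {Γ : Type*} [Monoid Γ] {Q : Type*} [CommGroup Q]
    [Finite Q] (hQ : Nat.card Q ≤ q ^ 2) (hexp : ∀ x : Q, x ^ q = 1) (f : Γ → Q →* Q)
    (h1 : ∀ x, f 1 x = x) (hm : ∀ g h x, f (g * h) x = f g (f h x)) :
    ∃ ρ : Γ →* Matrix (Fin 2) (Fin 2) (ZMod q), ∀ g, ρ g = 1 → ∀ x, f g x = x := by
  haveI : Module (ZMod q) (Additive Q) := AddCommGroup.zmodModule fun x => by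
    apply Additive.toMul.injective
    rw [toMul_nsmul, toMul_zero]
    exact hexp _
  let L0 : Γ →* Module.End (ZMod q) (Additive Q) :=
    { toFun := fun g => AddMonoidHom.toZModLinearMap q (f g).toAdditive
      map_one' := LinearMap.ext fun v => congrArg Additive.ofMul (h1 _)
      map_mul' := fun g h => by
        refine LinearMap.ext fun v => ?_
        rw [Module.End.mul_apply]
        exact congrArg Additive.ofMul (hm g h (Additive.toMul v)) }
  obtain ⟨ρ, hρ⟩ := exists_matrix_rep (q := q) (V := Additive Q)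
    ((Nat.card_congr Additive.toMul).trans_le hQ) L0
  exact ⟨ρ, fun g hg x => congrArg Additive.toMul (LinearMap.congr_fun (hρ g hg) (Additive.ofMul x))⟩

/-- The `p'`-automorphisms of a `p`-group of rank at most two embed in `GL(2, p)`. -/
theorem exists_linear_rep (hp : p ≠ 2) (hR : IsPGroup p R) (hrk : Cfsg.PRankLE p 2 R) :
    ∃ ρ : MulAut R →* Matrix (Fin 2) (Fin 2) (ZMod p),
      ∀ a : MulAut R, (orderOf a).Coprime p → ρ a = 1 → a = 1 := by
  classical
  have hpr := (Fact.out : p.Prime)
  obtain ⟨D, hDch, hexp, -, hclD, hq, hdet⟩ := exists_detecting hp hR hrk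
  set N := commutator D with hN
  have hDR : ∀ (a : MulAut R) (x : D), a x ∈ D := fun a x =>
    characteristic_iff_map_le.1 hDch a ⟨x, x.2, rfl⟩
  let res : MulAut R → (D →* D) := fun a =>
    { toFun := fun x => ⟨a x, hDR a x⟩
      map_one' := Subtype.ext (map_one a)
      map_mul' := fun u v => Subtype.ext (map_mul a (u : R) v) }
  have hresN : ∀ a, N ≤ N.comap (res a) := fun a => by
    rw [← map_le_iff_le_comap, hN, _root_.commutator_def, map_commutator]
    exact commutator_mono le_top le_top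
  letI : CommGroup (D ⧸ N) :=
    { (inferInstance : Group (D ⧸ N)) with
      mul_comm := fun a b => by
        obtain ⟨a, rfl⟩ := QuotientGroup.mk_surjective a
        obtain ⟨b, rfl⟩ := QuotientGroup.mk_surjective b
        rw [← QuotientGroup.mk_mul, ← QuotientGroup.mk_mul, QuotientGroup.eq]
        rw [show (a * b)⁻¹ * (b * a) = ⁅b⁻¹, a⁻¹⁆ by rw [commutatorElement_def]; group]
        rw [hN, _root_.commutator_def]
        exact commutator_mem_commutator (mem_top _) (mem_top _) }
  obtain ⟨ρ, hρ⟩ := exists_matrix_rep' (q := p) (Q := D ⧸ N) hq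
    (fun v => by
      obtain ⟨y, rfl⟩ := QuotientGroup.mk_surjective v
      rw [← QuotientGroup.mk_pow, show y ^ p = 1 from Subtype.ext (hexp y y.2), QuotientGroup.mk_one])
    (fun a : MulAut R => QuotientGroup.map N N (res a) (hresN a))
    (fun v => by obtain ⟨x, rfl⟩ := QuotientGroup.mk_surjective v; rfl)
    (fun a a' v => by obtain ⟨x, rfl⟩ := QuotientGroup.mk_surjective v; rfl)
  refine ⟨ρ, fun a ha h1 => ?_⟩
  have hLa := hρ a h1
  have hfixq : ∀ x : D, (⟨a x, hDR a x⟩ : D)⁻¹ * x ∈ N := fun x => by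
    exact QuotientGroup.eq.1 (hLa (x : D ⧸ N))
  have hNcen : N ≤ center D := by
    rw [hN, _root_.commutator_def, commutator_le]; exact fun u _ v _ => hclD u v
  have hfixN : ∀ z : D, z ∈ N → a z = z := by
    have hle : N ≤ MonoidHom.eqLocus (res a) (MonoidHom.id D) := by
      rw [hN, _root_.commutator_def, commutator_le]
      intro u _ v _
      show res a ⁅u, v⁆ = ⁅u, v⁆
      have hu := hNcen (hfixq u)
      have hv := hNcen (hfixq v)
      rw [map_commutatorElement]
      set u' := res a u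
      set v' := res a v
      have e1 : u = u' * (u'⁻¹ * u) := by group
      have e2 : v = v' * (v'⁻¹ * v) := by group
      conv_rhs => rw [e1, e2]
      rw [CfsgLib.Transfer.commutatorElement_mul_left hclD,
        CfsgLib.Transfer.commutatorElement_mul_right hclD u',
        CfsgLib.Transfer.commutatorElement_mul_right hclD (u'⁻¹ * u)]
      have hz : ∀ z w : D, z ∈ center D → ⁅z, w⁆ = 1 ∧ ⁅w, z⁆ = 1 := fun z w hz =>
        ⟨commutatorElement_eq_one_iff_mul_comm.2 (mem_center_iff.1 hz w).symm,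
         commutatorElement_eq_one_iff_mul_comm.2 (mem_center_iff.1 hz w)⟩
      have hv' : v'⁻¹ * v ∈ center D := hv
      have hu' : u'⁻¹ * u ∈ center D := hu
      rw [(hz _ u' hv').2, (hz _ v' hu').1, (hz _ (v'⁻¹ * v) hu').1, mul_one, mul_one, mul_one]
    exact fun z hz => congrArg Subtype.val (hle hz :)
  refine hdet a ha fun x hx => ?_
  refine CfsgLib.Transfer.apply_eq_self_of_fixed_quotient hR a ha ?_
  have h := hfixN _ (N.inv_mem (hfixq ⟨x, hx⟩))
  simpa using h

/-- An odd-order solvable group of automorphisms of a rank-two `p`-group has `p`-derived group. -/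
theorem isPGroup_commutator_of_rank_two (hp : p ≠ 2) (hR : IsPGroup p R) (hrk : Cfsg.PRankLE p 2 R)
    {A : Type*} [Group A] [Finite A] [Group.IsSolvable A] (hodd : Odd (Nat.card A))
    (φ : A →* MulAut R) (hφ : Function.Injective φ) : IsPGroup p (commutator A) := by
  obtain ⟨ρ, hρ⟩ := exists_linear_rep hp hR hrk
  set ψ := ρ.comp φ with hψ
  have hker : ∀ a : A, ψ a = 1 → ∃ n : ℕ, a ^ p ^ n = 1 := by
    intro a ha
    obtain ⟨e, m, hpm, hm⟩ := Nat.exists_eq_pow_mul_and_not_dvd (orderOf_pos a).ne' p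
      (Fact.out : p.Prime).ne_one
    refine ⟨e, hφ ?_⟩
    rw [map_one]
    refine hρ _ ?_ ?_
    · refine Nat.Coprime.coprime_dvd_left ?_ ((Fact.out : p.Prime).coprime_iff_not_dvd.2 hpm).symm
      refine orderOf_dvd_of_pow_eq_one ?_
      rw [← map_pow, ← pow_mul, ← hm, pow_orderOf_eq_one, map_one]
    · rw [map_pow, map_pow]
      show ψ a ^ p ^ e = 1
      rw [ha, one_pow]
  let θ : A →* (Matrix (Fin 2) (Fin 2) (ZMod p))ˣ := ψ.toHomUnits
  let K := θ.range
  let σ : K →* Matrix (Fin 2) (Fin 2) (ZMod p) := (Units.coeHom _).comp K.subtype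
  have hσ : Function.Injective σ := fun u v h => Subtype.ext (Units.ext h)
  have hKodd : Odd (Nat.card K) := hodd.of_dvd_nat (Subgroup.card_range_dvd θ)
  haveI : Group.IsSolvable K := Group.isSolvable_of_surjective θ.rangeRestrict_surjective
  intro x
  have hmem : θ.rangeRestrict x.1 ∈ commutator K := by
    have hle : (commutator A).map θ.rangeRestrict ≤ commutator K := by
      rw [_root_.commutator_def, map_commutator]
      exact commutator_mono le_top le_top
    exact hle ⟨x.1, x.2, rfl⟩
  have h1 := pow_eq_one_of_mem_commutator_gl_two σ hKodd hσ hp hmem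
  obtain ⟨n, hn⟩ := hker (x.1 ^ p) (by
    have h2 := congrArg σ h1
    rw [map_pow, map_one] at h2
    rw [map_pow]
    exact h2)
  refine ⟨n + 1, Subtype.ext ?_⟩
  rw [SubmonoidClass.coe_pow, pow_succ', pow_mul]
  exact hn

/-- Prime divisors other than `p` of `Aut R` for `R` of rank at most two. -/
theorem dvd_card_gl_two_of_prime_dvd_aut (hp : p ≠ 2) (hR : IsPGroup p R) (hrk : Cfsg.PRankLE p 2 R)
    {q : ℕ} (hq : q.Prime) (hqp : q ≠ p) (hd : q ∣ Nat.card (MulAut R)) :
    q ∣ p ^ 2 - 1 ∧ q < p := by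
  haveI := Fact.mk hq
  have hpr := (Fact.out : p.Prime)
  haveI : Finite (MulAut R) := Finite.of_injective (fun f => (f : R → R)) DFunLike.coe_injective
  obtain ⟨a, ha⟩ := exists_prime_orderOf_dvd_card' q hd
  obtain ⟨ρ, hρ⟩ := exists_linear_rep hp hR hrk
  have hne : ρ a ≠ 1 := fun h => by
    have := hρ a (ha ▸ (Nat.coprime_primes hq hpr).2 hqp) h
    rw [this, orderOf_one] at ha
    exact hq.ne_one ha.symm
  have ho : orderOf (ρ.toHomUnits a) = q := by
    refine orderOf_eq_prime ?_ fun h => hne (congrArg Units.val h)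
    rw [← map_pow, ← ha, pow_orderOf_eq_one, map_one]
  have hdvd : q ∣ Nat.card (GL (Fin 2) (ZMod p)) := ho ▸ orderOf_dvd_natCard _
  rw [Matrix.card_GL_field, ZMod.card] at hdvd
  simp [Fin.prod_univ_two] at hdvd
  have hcases : q ∣ p - 1 ∨ q ∣ p + 1 := by
    rcases (Nat.Prime.dvd_mul hq).1 hdvd with h | h
    · rw [show p ^ 2 - 1 = (p + 1) * (p - 1) by rw [← Nat.sq_sub_sq p 1]] at h
      exact ((Nat.Prime.dvd_mul hq).1 h).symm
    · rw [show p ^ 2 - p = p * (p - 1) by rw [Nat.mul_sub, mul_one, sq]] at h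
      exact Or.inl (((Nat.Prime.dvd_mul hq).1 h).resolve_left fun h' =>
        hqp ((Nat.prime_dvd_prime_iff_eq hq hpr).1 h'))
  constructor
  · rw [show p ^ 2 - 1 = (p + 1) * (p - 1) by rw [← Nat.sq_sub_sq p 1]]
    exact hcases.elim (fun h => dvd_mul_of_dvd_right h _) (fun h => dvd_mul_of_dvd_left h _)
  · have h2 := hpr.two_le
    rcases hcases with h | h
    · have := Nat.le_of_dvd (by omega) h; omega
    · by_contra hlt
      push_neg at hlt
      obtain ⟨c, hc⟩ := h
      have hc1 : c = 1 := by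
        rcases Nat.lt_or_ge c 2 with hc' | hc'
        · rcases Nat.eq_zero_or_pos c with rfl | hpos
          · omega
          · omega
        · have : q * 2 ≤ q * c := Nat.mul_le_mul_left q hc'
          omega
      subst hc1
      obtain ⟨j, hj⟩ := hpr.odd_of_ne_two hp
      have h2q : 2 ∣ q := ⟨j + 1, by omega⟩
      have := (Nat.prime_dvd_prime_iff_eq Nat.prime_two hq).1 h2q
      omega

end CfsgLib.OddLocal
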