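import Cfsg.Prelude.Def_Local
import Cfsg.Agent.Lib.OddLocal.RankTwoAction
import Cfsg.Agent.Lib.Solvable.HallHigman
import Cfsg.Agent.Lib.Solvable.PCore
import Cfsg.Agent.Lib.Coprime.Generation

/-!
Solvable groups of odd order whose `p`-core has rank at most two.
-/

set_option autoImplicit false

open Subgroup
open scoped commutatorElement

namespace CfsgLib.OddLocal

variable {G : Type*} [Group G] [Finite G] {p : ℕ} [Fact p.Prime]

/-- The `p`-rank does not grow in a quotient by a normal subgroup of order prime to `p`. -/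
theorem pRankLE_quotient {k : ℕ} (N : Subgroup G) [N.Normal] (hN : (Nat.card N).Coprime p)
    (h : Cfsg.PRankLE p k G) : Cfsg.PRankLE p k (G ⧸ N) := by
  intro E hEc hEp
  have hpr := (Fact.out : p.Prime)
  set f := QuotientGroup.mk' N
  set H := E.comap f with hH
  obtain ⟨P⟩ : Nonempty (Sylow p H) := inferInstance
  set Q := (P : Subgroup H).map H.subtype with hQ
  have hQp : IsPGroup p Q := P.2.map _
  have hQN : ∀ x ∈ Q, f x = 1 → x = 1 := by
    intro x hx h1
    obtain ⟨j, hj⟩ := IsPGroup.iff_orderOf.1 hQp ⟨x, hx⟩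
    rw [Subgroup.orderOf_mk] at hj
    rw [← orderOf_eq_one_iff]
    exact Nat.eq_one_of_dvd_coprimes (hN.pow_right j)
      (by rw [← Subgroup.orderOf_mk x ((QuotientGroup.eq_one_iff x).1 h1)]; exact orderOf_dvd_natCard _) hj.dvd
  have hQH : Q ≤ H := map_subtype_le _
  have hQc : IsMulCommutative Q := ⟨⟨fun a b => Subtype.ext (by
    have h1 : f a * f b = f b * f a := congrArg Subtype.val
      (hEc.is_comm.comm (⟨f a, hQH a.2⟩ : E) ⟨f b, hQH b.2⟩)
    have h2 : ⁅(a : G), (b : G)⁆ = 1 := hQN _
      (Q.commutator_le_self (commutator_mem_commutator a.2 b.2))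
      (by rw [map_commutatorElement, commutatorElement_eq_one_iff_mul_comm, h1])
    exact commutatorElement_eq_one_iff_mul_comm.1 h2)⟩⟩
  have hQe : ∀ a ∈ Q, a ^ p = 1 := fun a ha => hQN _ (Q.pow_mem ha p) (by rw [map_pow]; exact hEp _ (hQH ha))
  have hle := h Q hQc hQe
  refine le_trans ?_ hle
  -- `Q` maps onto `E`
  have hHE : H.map f = E := map_comap_eq_self_of_surjective (QuotientGroup.mk'_surjective N) E
  have hmap : Q.map f = E := by
    refine eq_of_le_of_card_ge ((map_mono hQH).trans hHE.le) (Nat.le_of_dvd Nat.card_pos ?_)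
    have hEP : IsPGroup p E := fun x => ⟨1, Subtype.ext (by simpa using hEp x x.2)⟩
    obtain ⟨e, he⟩ := IsPGroup.iff_card.1 hEP
    obtain ⟨j, hj⟩ := IsPGroup.iff_card.1 (hQp.map f)
    have hsub : Q.map f ≤ E := (map_mono hQH).trans hHE.le
    have hidx : (Q.map f).relIndex E = 1 := by
      refine Nat.eq_one_of_dvd_coprimes (Nat.Coprime.pow_left e (hpr.coprime_iff_not_dvd.2 P.not_dvd_index)) ?_ ?_
      · rw [← he]; exact relIndex_dvd_card _ _
      · have hindex : Q.relIndex H = (P : Subgroup H).index := by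
          rw [hQ, relIndex, subgroupOf, comap_map_eq_self_of_injective H.subtype_injective]
        rw [← hHE, ← hindex, relIndex_map_map]
        refine (relIndex_dvd_of_le_left _ le_sup_left).trans ?_
        rw [sup_eq_left.2 (show f.ker ≤ H by
          intro t ht; rw [hH, mem_comap, MonoidHom.mem_ker.1 ht]; exact E.one_mem)]
    have := relIndex_eq_one.1 hidx
    rw [le_antisymm hsub this]
  rw [← hmap]
  exact Nat.le_of_dvd Nat.card_pos (card_map_dvd _ f)

/-- Structure of a solvable odd-order group with trivial `O_{p'}` whose `p`-core has rank `≤ 2`. -/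
theorem core_rank_two [Group.IsSolvable G] (hodd : Odd (Nat.card G)) (hp : p ≠ 2)
    (h1 : Cfsg.pPrimeCore p G = ⊥) (hr : Cfsg.PRankLE p 2 (Cfsg.pCore p G)) :
    _root_.commutator G ≤ Cfsg.pCore p G ∧ (Cfsg.pCore p G).index.Coprime p ∧
      ∀ q : ℕ, q.Prime → q ∣ Nat.card G → q ≤ p := by
  have hpr := (Fact.out : p.Prime)
  haveI hTn := CfsgLib.Solvable.pCore_normal p G
  set T := Cfsg.pCore p G with hT
  have hTp : IsPGroup p T := CfsgLib.Solvable.pCore_isPGroup p
  have hCT : centralizer (T : Set G) ≤ T := CfsgLib.Solvable.centralizer_pCore_le p h1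
  have hTN : (⊤ : Subgroup G) ≤ normalizer (T : Set G) := by rw [normalizer_eq_top]
  set φ := CfsgLib.Coprime.conjHom (A := (⊤ : Subgroup G)) hTN with hφ
  set φ' : G →* MulAut T := φ.comp topEquiv.symm.toMonoidHom with hφ'
  have hker : φ'.ker ≤ T := by
    intro g hg
    refine hCT (mem_centralizer_iff.2 fun x hx => ?_)
    have h1 : g * x * g⁻¹ = x :=
      congrArg (fun f : MulAut T => ((f ⟨x, hx⟩ : T) : G)) (MonoidHom.mem_ker.1 hg)
    exact (mul_inv_eq_iff_eq_mul.1 h1).symm
  have hkerp : IsPGroup p φ'.ker := hTp.to_le hker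
  haveI : Group.IsSolvable φ'.range := Group.isSolvable_of_surjective φ'.rangeRestrict_surjective
  have hrange : IsPGroup p (_root_.commutator φ'.range) :=
    isPGroup_commutator_of_rank_two hp hTp hr (hodd.of_dvd_nat (card_range_dvd φ')) φ'.range.subtype
      φ'.range.subtype_injective
  have hG' : IsPGroup p (_root_.commutator G) := by
    have h2 : IsPGroup p ((_root_.commutator φ'.range).comap φ'.rangeRestrict) :=
      hrange.comap_of_ker_isPGroup _ (by rw [MonoidHom.ker_rangeRestrict]; exact hkerp)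
    refine h2.to_le ?_
    rw [← map_le_iff_le_comap, _root_.commutator_def, map_commutator]
    exact commutator_mono le_top le_top
  have hle : _root_.commutator G ≤ T := CfsgLib.Solvable.le_pCore inferInstance hG'
  refine ⟨hle, ?_, ?_⟩
  · obtain ⟨P⟩ : Nonempty (Sylow p G) := inferInstance
    have hTP : T ≤ (P : Subgroup G) := CfsgLib.Solvable.pCore_le_sylow P
    have hPn : (P : Subgroup G).Normal := Subgroup.Normal.of_commutator_le G (hle.trans hTP)
    have hPT : (P : Subgroup G) = T := le_antisymm (CfsgLib.Solvable.le_pCore hPn P.2) hTP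
    rw [← hPT, Nat.coprime_comm, hpr.coprime_iff_not_dvd]
    exact P.not_dvd_index
  · intro q hq hqd
    by_contra hqp
    push Not at hqp
    haveI := Fact.mk hq
    obtain ⟨a, ha⟩ := exists_prime_orderOf_dvd_card' q hqd
    have hne : φ' a ≠ 1 := fun h => by
      obtain ⟨j, hj⟩ := IsPGroup.iff_orderOf.1 hkerp ⟨a, MonoidHom.mem_ker.2 h⟩
      rw [Subgroup.orderOf_mk, ha] at hj
      have : q ∣ p := hq.dvd_of_dvd_pow (dvd_of_eq hj)
      exact absurd ((Nat.prime_dvd_prime_iff_eq hq hpr).1 this) hqp.ne'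
    have hdvd : q ∣ Nat.card (MulAut T) := by
      have : orderOf (φ' a) = q := orderOf_eq_prime (by rw [← map_pow, ← ha, pow_orderOf_eq_one, map_one]) hne
      exact this ▸ orderOf_dvd_natCard _
    exact absurd (dvd_card_gl_two_of_prime_dvd_aut hp hTp hr hq hqp.ne' hdvd).2 (not_lt.2 hqp.le)

/-- The structure theorem for solvable odd-order groups of `p`-rank at most two. -/
theorem rank_two_structure [Group.IsSolvable G] (hodd : Odd (Nat.card G)) (hp : p ≠ 2)
    (hr : Cfsg.PRankLE p 2 G) :
    (∀ q : ℕ, q.Prime → q ∣ (Cfsg.pPrimeCore p G).index → q ≤ p) ∧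
      _root_.commutator G ≤ Cfsg.pPrimePCore p G ∧ (Cfsg.pPrimePCore p G).index.Coprime p := by
  haveI hKn := CfsgLib.Solvable.pPrimeCore_normal p G
  set K := Cfsg.pPrimeCore p G with hK
  have hodd' : Odd (Nat.card (G ⧸ K)) := hodd.of_dvd_nat (card_quotient_dvd_card K)
  haveI : Group.IsSolvable (G ⧸ K) := Group.isSolvable_of_surjective (QuotientGroup.mk'_surjective K)
  have hrq := pRankLE_quotient (k := 2) K (CfsgLib.Solvable.pPrimeCore_coprime p) hr
  have hrT : Cfsg.PRankLE p 2 (Cfsg.pCore p (G ⧸ K)) := by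
    intro E hEc hEp
    rw [← card_map_of_injective (f := (Cfsg.pCore p (G ⧸ K)).subtype) (K := E) (subtype_injective _)]
    refine hrq _ ?_ ?_
    · haveI := hEc; infer_instance
    · rintro _ ⟨x, hx, rfl⟩
      simpa using congrArg Subtype.val (hEp x hx)
  obtain ⟨h2, h3, h4⟩ := core_rank_two hodd' hp (CfsgLib.Solvable.pPrimeCore_quotient_eq_bot p) hrT
  have hidx : (Cfsg.pPrimePCore p G).index = (Cfsg.pCore p (G ⧸ K)).index :=
    index_comap_of_surjective _ (QuotientGroup.mk'_surjective K)
  refine ⟨fun q hq hd => h4 q hq (by rwa [index_eq_card] at hd), ?_, hidx ▸ h3⟩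
  show _ ≤ (Cfsg.pCore p (G ⧸ K)).comap _
  rw [← map_le_iff_le_comap]
  refine le_trans ?_ h2
  rw [_root_.commutator_def, map_commutator, _root_.commutator_def]
  exact commutator_mono le_top le_top

end CfsgLib.OddLocal
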