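import Cfsg.Agent.Lib.OddLocal.MinSimple
import Cfsg.Agent.Lib.OddLocal.PiCore
import Cfsg.Agent.Lib.Coprime.Sylow
import Cfsg.Agent.Lib.Coprime.Generation
import Cfsg.Agent.Lib.Transfer.Frobenius
import Mathlib.GroupTheory.IsSubnormal

set_option autoImplicit false

namespace CfsgLib.OddLocal

open Subgroup CfsgLib.Coprime

universe u
variable {G : Type u} [Group G] [Finite G]

/-- `K = O_{π(A)'}(C_G(A))`. -/
abbrev transK (A : Subgroup G) : Subgroup G :=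
  Cfsg.piCoreOf (Cfsg.primesNotDvd (Nat.card A)) (Subgroup.centralizer (A : Set G))

theorem coprime_of_primesNotDvd {A : Subgroup G} {n : ℕ}
    (h : ∀ p : ℕ, p.Prime → p ∣ n → p ∈ Cfsg.primesNotDvd (Nat.card A)) :
    (Nat.card A).Coprime n :=
  Nat.coprime_of_dvd fun p hp h1 h2 => (h p hp h2).2 h1

theorem exists_maxInv_ge {H A : Subgroup G} {π : Set ℕ} {Y : Subgroup G}
    (hY : Y ∈ Cfsg.invSubgroups H A π) : ∃ Q ∈ Cfsg.maxInvSubgroups H A π, Y ≤ Q := by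
  have : Finite (Subgroup G) := Finite.of_injective _ SetLike.coe_injective
  obtain ⟨Q, hYQ, hQ⟩ := Finite.exists_le_maximal (p := fun Q => Q ∈ Cfsg.invSubgroups H A π) hY
  exact ⟨Q, ⟨hQ.prop, fun R hR hle => le_antisymm (hQ.le_of_ge hR hle) hle⟩, hYQ⟩

theorem bot_mem_invSubgroups (H A : Subgroup G) (π : Set ℕ) :
    (⊥ : Subgroup G) ∈ Cfsg.invSubgroups H A π := by
  refine ⟨bot_le, fun p hp h => absurd (Nat.dvd_one.mp (Subgroup.card_bot (G := G) ▸ h)) hp.ne_one, ?_⟩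
  intro a _
  rw [Subgroup.mem_normalizer_iff]
  simp [Subgroup.mem_bot, conj_eq_one_iff]

theorem isPGroup_of_mem_inv {H A Q : Subgroup G} {q : ℕ} [hq : Fact q.Prime]
    (h : Q ∈ Cfsg.invSubgroups H A {q}) : IsPGroup q Q :=
  IsPGroup.of_card (n := (Nat.card Q).factorization q) <|
    Nat.eq_prime_pow_of_unique_prime_dvd Nat.card_pos.ne' (fun {d} hd hdd => h.2.1 d hd hdd) |>.trans
      (by
        congr 1
        have := Nat.eq_prime_pow_of_unique_prime_dvd (p := q) Nat.card_pos.ne'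
          (fun {d} hd hdd => h.2.1 d hd hdd)
        conv_rhs => rw [this, hq.out.factorization_pow, Finsupp.single_eq_same])

theorem inv_of_isPGroup {A Q : Subgroup G} {q : ℕ} [hq : Fact q.Prime] (hQ : IsPGroup q Q)
    (hA : A ≤ Subgroup.normalizer (Q : Set G)) : Q ∈ Cfsg.invSubgroups ⊤ A {q} := by
  refine ⟨le_top, fun p hp hd => ?_, hA⟩
  obtain ⟨n, hn⟩ := IsPGroup.iff_card.mp hQ
  rw [hn] at hd
  exact (Nat.prime_dvd_prime_iff_eq hp hq.out).mp (hp.dvd_of_dvd_pow hd)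

theorem map_conj_mem_maxInv {A Q : Subgroup G} {π : Set ℕ} {k : G}
    (hk : k ∈ Subgroup.normalizer (A : Set G)) (hQ : Q ∈ Cfsg.maxInvSubgroups ⊤ A π) :
    Q.map (MulAut.conj k).toMonoidHom ∈ Cfsg.maxInvSubgroups ⊤ A π := by
  have key : ∀ k : G, k ∈ Subgroup.normalizer (A : Set G) → ∀ Y ∈ Cfsg.invSubgroups ⊤ A π,
      Y.map (MulAut.conj k).toMonoidHom ∈ Cfsg.invSubgroups ⊤ A π := by
    intro k hk Y hY
    refine ⟨le_top, fun p hp hd => hY.2.1 p hp (by rwa [card_map_conj] at hd), ?_⟩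
    have hA : A.map (MulAut.conj k).toMonoidHom = A := map_conj_of_mem_normalizer hk
    intro a ha
    rw [← hA] at ha
    obtain ⟨b, hb, rfl⟩ := ha
    rw [mem_normalizer_iff_map_conj, map_conj_conj]
    show Y.map (MulAut.conj (k * b * k⁻¹ * k)).toMonoidHom = Y.map (MulAut.conj k).toMonoidHom
    rw [inv_mul_cancel_right, ← map_conj_conj, map_conj_of_mem_normalizer (hY.2.2 hb)]
  refine ⟨key k hk Q hQ.1, fun R hR hle => ?_⟩
  have h1 := hQ.2 _ (key k⁻¹ (inv_mem hk) R hR) (fun x hx => by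
    rw [mem_map_conj]
    refine hle (mem_map_conj.mpr ?_)
    simpa [mul_assoc] using hx)
  rw [← h1, map_conj_conj, mul_inv_cancel]
  ext x; rw [mem_map_conj]; simp

variable {A : Subgroup G} {q : ℕ}

theorem A_solvable (hG : Cfsg.IsMinSimpleOddOrder G) (hA : Cfsg.TransitivityHypothesis A) :
    Group.IsSolvable A := minSimple_isSolvable hG hA.2.1

/-- `K` contains every `A`-invariant `π(A)'`-subgroup of `C_G(A)`. -/
theorem le_transK (hG : Cfsg.IsMinSimpleOddOrder G) (hA : Cfsg.TransitivityHypothesis A) {Y : Subgroup G}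
    (hYC : Y ≤ Subgroup.centralizer (A : Set G))
    (hY : ∀ p : ℕ, p.Prime → p ∣ Nat.card Y → p ∈ Cfsg.primesNotDvd (Nat.card A)) : Y ≤ transK A := by
  set π := Cfsg.primesNotDvd (Nat.card A)
  set N := Subgroup.normalizer (A : Set G)
  have hN : N ≠ ⊤ := minSimple_normalizer_ne_top hG hA.1 hA.2.1
  have h1 : Y ≤ Cfsg.piCoreOf π N := by
    rw [← hA.2.2 N hN Subgroup.le_normalizer]
    refine le_sSup ⟨hYC.trans (Subgroup.centralizer_le_normalizer _), hY, ?_⟩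
    exact (Subgroup.le_centralizer_iff.mp hYC).trans (Subgroup.centralizer_le_normalizer _)
  refine (le_inf h1 hYC).trans (le_piCoreOf inf_le_right ?_ fun p hp hd =>
    piCoreOf_spec π N p hp (hd.trans (Subgroup.card_dvd_of_le inf_le_left)))
  refine le_trans (le_inf ?_ Subgroup.le_normalizer) Subgroup.inf_normalizer_le_normalizer_inf
  exact (Subgroup.centralizer_le_normalizer _).trans (Subgroup.le_normalizer.trans (le_normalizer_piCoreOf π N))

theorem transK_centralizes {k : G} (hk : k ∈ transK A) : k ∈ Subgroup.centralizer (A : Set G) :=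
  piCoreOf_le _ _ hk

theorem transK_normalizes {k : G} (hk : k ∈ transK A) : k ∈ Subgroup.normalizer (A : Set G) :=
  Subgroup.centralizer_le_normalizer _ (transK_centralizes hk)

/-- One step: two maximal invariant `q`-subgroups meeting a proper `H ≥ A` in `U₁`, `U₂` are
conjugate by `K` to maximal ones sharing `U₁`, resp. `U₂`, with a common third. -/
theorem exists_link (hG : Cfsg.IsMinSimpleOddOrder G) (hA : Cfsg.TransitivityHypothesis A)
    [Fact q.Prime] (hqA : ¬ q ∣ Nat.card A) {H U₁ U₂ : Subgroup G} (hH : H ≠ ⊤) (hAH : A ≤ H)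
    (h₁ : U₁ ∈ Cfsg.invSubgroups H A {q}) (h₂ : U₂ ∈ Cfsg.invSubgroups H A {q}) :
    ∃ Q₃ ∈ Cfsg.maxInvSubgroups ⊤ A {q}, U₁ ≤ Q₃ ∧
      ∃ c ∈ transK A, U₂ ≤ Q₃.map (MulAut.conj c).toMonoidHom := by
  set π := Cfsg.primesNotDvd (Nat.card A)
  set O := Cfsg.piCoreOf π H
  have hAO : A ≤ Subgroup.normalizer (O : Set G) :=
    hAH.trans (Subgroup.le_normalizer.trans (le_normalizer_piCoreOf π H))
  have hcop : (Nat.card A).Coprime (Nat.card O) := coprime_of_primesNotDvd (piCoreOf_spec π H)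
  have hs : Group.IsSolvable A ∨ Group.IsSolvable O := Or.inl (A_solvable hG hA)
  have hUO : ∀ U ∈ Cfsg.invSubgroups H A {q}, U ≤ O := fun U hU => by
    show U ≤ Cfsg.piCoreOf π H
    rw [← hA.2.2 H hH hAH]
    refine le_sSup ⟨hU.1, fun p hp hd => ?_, hU.2.2⟩
    rw [show p = q from hU.2.1 p hp hd]
    exact ⟨Fact.out, hqA⟩
  obtain ⟨S₁, hS₁, hS₁A⟩ := exists_invariant_sylow_ge hAO hcop hs (isPGroup_of_mem_inv h₁)
    (hUO U₁ h₁) h₁.2.2
  obtain ⟨S₂, hS₂, hS₂A⟩ := exists_invariant_sylow_ge hAO hcop hs (isPGroup_of_mem_inv h₂)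
    (hUO U₂ h₂) h₂.2.2
  obtain ⟨c, hc, hcS⟩ := exists_conj_invariant_sylow hAO hcop hs S₁ S₂ hS₁A hS₂A
  obtain ⟨Q₃, hQ₃, hSQ⟩ := exists_maxInv_ge (inv_of_isPGroup (S₁.2.map O.subtype) hS₁A)
  refine ⟨Q₃, hQ₃, hS₁.trans hSQ, c, ?_, hS₂.trans (hcS ▸ Subgroup.map_mono hSQ)⟩
  exact le_transK hG hA (Y := O ⊓ Subgroup.centralizer (A : Set G)) inf_le_right
    (fun p hp hd => piCoreOf_spec π H p hp (hd.trans (Subgroup.card_dvd_of_le inf_le_left))) hc

/-- Maximal invariant `q`-subgroups with a nontrivial common part are conjugate under `K`. -/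
theorem conj_of_inf_ne_bot (hG : Cfsg.IsMinSimpleOddOrder G) (hA : Cfsg.TransitivityHypothesis A)
    [Fact q.Prime] (hqA : ¬ q ∣ Nat.card A) {Q₁ Q₂ : Subgroup G}
    (h₁ : Q₁ ∈ Cfsg.maxInvSubgroups ⊤ A {q}) (h₂ : Q₂ ∈ Cfsg.maxInvSubgroups ⊤ A {q})
    (hne : Q₁ ⊓ Q₂ ≠ ⊥) : ∃ k ∈ transK A, Q₂ = Q₁.map (MulAut.conj k).toMonoidHom := by
  induction hn : (Q₁ ⊓ Q₂).index using Nat.strong_induction_on generalizing Q₁ Q₂ with
  | _ n ih =>
    subst hn
    have one_case : ∀ P : Subgroup G, P = P.map (MulAut.conj 1).toMonoidHom := fun P => by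
      ext x; rw [mem_map_conj]; simp
    by_cases h12 : Q₁ ≤ Q₂
    · exact ⟨1, one_mem _, (h₁.2 Q₂ h₂.1 h12).trans (one_case Q₁)⟩
    by_cases h21 : Q₂ ≤ Q₁
    · exact ⟨1, one_mem _, (h₂.2 Q₁ h₁.1 h21).symm.trans (one_case Q₁)⟩
    set R := Q₁ ⊓ Q₂
    have hRtop : R ≠ ⊤ := fun h => h12 ((le_top.trans h.ge).trans inf_le_right)
    set H := Subgroup.normalizer (R : Set G)
    have hH : H ≠ ⊤ := minSimple_normalizer_ne_top hG hne hRtop
    have hAH : A ≤ H := le_trans (le_inf h₁.1.2.2 h₂.1.2.2) inf_normalizer_le_normalizer_inf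
    have hU : ∀ Q : Subgroup G, Q ∈ Cfsg.maxInvSubgroups ⊤ A {q} →
        Q ⊓ H ∈ Cfsg.invSubgroups H A {q} := fun Q hQ =>
      ⟨inf_le_right, fun p hp hd => hQ.1.2.1 p hp (hd.trans (Subgroup.card_dvd_of_le inf_le_left)),
        le_trans (le_inf hQ.1.2.2 (hAH.trans le_normalizer)) inf_normalizer_le_normalizer_inf⟩
    obtain ⟨Q₃, hQ₃, hU₁, c, hc, hU₂⟩ := exists_link hG hA hqA hH hAH (hU Q₁ h₁) (hU Q₂ h₂)
    have bigger : ∀ Q Q' : Subgroup G, Q ∈ Cfsg.maxInvSubgroups ⊤ A {q} →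
        Q' ∈ Cfsg.maxInvSubgroups ⊤ A {q} → R < Q → Q ⊓ H ≤ Q' →
        ∃ k ∈ transK A, Q' = Q.map (MulAut.conj k).toMonoidHom := by
      intro Q Q' hQ hQ' hRQ hle
      obtain ⟨x, hxQ, hxH, hxR⟩ :=
        CfsgLib.Transfer.exists_mem_normalizer_not_mem (isPGroup_of_mem_inv hQ.1) hRQ
      have hRle : R ≤ Q ⊓ Q' := le_inf hRQ.le ((le_inf hRQ.le le_normalizer).trans hle)
      have hlt : R < Q ⊓ Q' := lt_of_le_not_ge hRle fun hge => hxR (hge ⟨hxQ, hle ⟨hxQ, hxH⟩⟩)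
      exact ih _ (Subgroup.index_strictAnti hlt) hQ hQ' (fun hb => not_lt_bot (hb ▸ hlt)) rfl
    obtain ⟨k, hk, hk3⟩ := bigger Q₁ Q₃ h₁ hQ₃
      (lt_of_le_not_ge inf_le_left fun h => h12 (h.trans inf_le_right)) hU₁
    obtain ⟨l, hl, hl3⟩ := bigger Q₂ _ h₂ (map_conj_mem_maxInv (transK_normalizes hc) hQ₃)
      (lt_of_le_not_ge inf_le_right fun h => h21 (h.trans inf_le_left)) hU₂
    refine ⟨l⁻¹ * c * k, mul_mem (mul_mem (inv_mem hl) hc) hk, ?_⟩
    rw [mul_assoc, ← map_conj_conj, ← map_conj_conj, ← hk3, hl3, map_conj_conj, inv_mul_cancel]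
    exact one_case Q₂

/-- Maximal invariant `q`-subgroups meeting a proper subgroup above `A` are conjugate under `K`. -/
theorem conj_of_meet (hG : Cfsg.IsMinSimpleOddOrder G) (hA : Cfsg.TransitivityHypothesis A)
    [Fact q.Prime] (hqA : ¬ q ∣ Nat.card A) {Q₁ Q₂ H : Subgroup G}
    (h₁ : Q₁ ∈ Cfsg.maxInvSubgroups ⊤ A {q}) (h₂ : Q₂ ∈ Cfsg.maxInvSubgroups ⊤ A {q})
    (hH : H ≠ ⊤) (hAH : A ≤ H) (hH₁ : H ⊓ Q₁ ≠ ⊥) (hH₂ : H ⊓ Q₂ ≠ ⊥) :
    ∃ k ∈ transK A, Q₂ = Q₁.map (MulAut.conj k).toMonoidHom := by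
  have hU : ∀ Q : Subgroup G, Q ∈ Cfsg.maxInvSubgroups ⊤ A {q} →
      Q ⊓ H ∈ Cfsg.invSubgroups H A {q} := fun Q hQ =>
    ⟨inf_le_right, fun p hp hd => hQ.1.2.1 p hp (hd.trans (Subgroup.card_dvd_of_le inf_le_left)),
      le_trans (le_inf hQ.1.2.2 (hAH.trans le_normalizer)) inf_normalizer_le_normalizer_inf⟩
  obtain ⟨Q₃, hQ₃, hU₁, c, hc, hU₂⟩ := exists_link hG hA hqA hH hAH (hU Q₁ h₁) (hU Q₂ h₂)
  obtain ⟨k, hk, hk3⟩ := conj_of_inf_ne_bot hG hA hqA h₁ hQ₃ fun h => hH₁ (by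
    rw [eq_bot_iff, ← h, inf_comm]
    exact le_inf inf_le_left hU₁)
  obtain ⟨l, hl, hl3⟩ := conj_of_inf_ne_bot hG hA hqA h₂
    (map_conj_mem_maxInv (transK_normalizes hc) hQ₃) fun h => hH₂ (by
    rw [eq_bot_iff, ← h, inf_comm]
    exact le_inf inf_le_left hU₂)
  refine ⟨l⁻¹ * c * k, mul_mem (mul_mem (inv_mem hl) hc) hk, ?_⟩
  rw [mul_assoc, ← map_conj_conj, ← map_conj_conj, ← hk3, hl3, map_conj_conj, inv_mul_cancel]
  ext x; rw [mem_map_conj]; simp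

/-- A subgroup normalized by a noncentral elementary abelian `E` of coprime order has a nontrivial
centralizer of a subgroup of index at most `p` of `E`. -/
theorem exists_cocyclic_centralizer {E Q : Subgroup G} {p : ℕ} (hE : Cfsg.IsElementaryAbelian p E)
    (hp : p.Prime) (hEQ : E ≤ Subgroup.normalizer (Q : Set G))
    (hcop : (Nat.card E).Coprime (Nat.card Q)) (hQ : Q ≠ ⊥) :
    ∃ B : Subgroup G, B ≤ E ∧ B.relIndex E ≤ p ∧ Q ⊓ Subgroup.centralizer (B : Set G) ≠ ⊥ := by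
  by_contra hno
  apply hQ
  rw [eq_bot_iff]
  conv_lhs => rw [← cocyclicJoin_eq hE.1 hEQ hcop]
  refine iSup₂_le ?_
  rintro B ⟨hB, a, ha, hBa⟩
  by_contra hne
  refine hno ⟨B, hB, ?_, fun h => hne h.le⟩
  have hBn : Subgroup.zpowers a ≤ Subgroup.normalizer (B : Set G) := by
    rw [Subgroup.zpowers_le]
    refine Subgroup.centralizer_le_normalizer _ (Subgroup.mem_centralizer_iff.mpr fun b hb => ?_)
    exact congrArg Subtype.val (hE.1.is_comm.comm (⟨b, hB hb⟩ : E) ⟨a, ha⟩)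
  have h1 : B.relIndex E ≤ Nat.card (Subgroup.zpowers a) := by
    let f : B × Subgroup.zpowers a → E := fun x =>
      ⟨(x.1 : G) * x.2, E.mul_mem (hB x.1.2) ((Subgroup.zpowers_le.mpr ha) x.2.2)⟩
    have hf : Function.Surjective f := fun e => by
      obtain ⟨n, hn, z, hz, he⟩ := (mem_sup_of_le_normalizer hBn (x := (e : G))).mp (by rw [hBa]; exact e.2)
      exact ⟨(⟨n, hn⟩, ⟨z, hz⟩), Subtype.ext he⟩
    have h := Nat.card_le_card_of_surjective f hf
    rw [Nat.card_prod, ← (B.subgroupOf E).card_mul_index, card_subgroupOf hB] at h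
    exact Nat.le_of_mul_le_mul_left h Nat.card_pos
  exact h1.trans (by
    rw [Nat.card_zpowers]
    exact Nat.le_of_dvd hp.pos (orderOf_dvd_of_pow_eq_one (hE.2 a ha)))

omit [Finite G] in
/-- Extract a large elementary abelian subgroup from a failing rank bound. -/
theorem exists_elementary_of_not_rankLE {Z : Subgroup G} {k : ℕ} (h : ¬ Cfsg.RankLE k Z) :
    ∃ (p : ℕ) (E : Subgroup G), p.Prime ∧ E ≤ Z ∧ Cfsg.IsElementaryAbelian p E ∧ p ^ k < Nat.card E := by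
  by_contra hno
  apply h
  intro p hp E hc he
  by_contra hcard
  refine hno ⟨p, E.map Z.subtype, hp, Subgroup.map_subtype_le E, ⟨?_, ?_⟩, ?_⟩
  · exact ⟨⟨by
      rintro ⟨_, x, hx, rfl⟩ ⟨_, y, hy, rfl⟩
      exact Subtype.ext (congrArg (fun z : E => ((z : Z) : G)) (hc.is_comm.comm ⟨x, hx⟩ ⟨y, hy⟩))⟩⟩
  · rintro _ ⟨x, hx, rfl⟩
    exact congrArg Subtype.val (he x hx)
  · rw [Subgroup.card_map_of_injective Z.subtype_injective]
    exact not_le.mp hcard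

/-- `p ∣ #A` and coprimality for an elementary abelian `p`-subgroup of `A`. -/
theorem coprime_elementary {E Q : Subgroup G} [Fact q.Prime] (hqA : ¬ q ∣ Nat.card A) (hEA : E ≤ A)
    (hQ : IsPGroup q Q) : (Nat.card E).Coprime (Nat.card Q) := by
  obtain ⟨n, hn⟩ := IsPGroup.iff_card.mp hQ
  rw [hn]
  exact Nat.Coprime.pow_right n (Nat.Coprime.symm ((Nat.Prime.coprime_iff_not_dvd Fact.out).mpr
    fun h => hqA (h.trans (Subgroup.card_dvd_of_le hEA))))

end CfsgLib.OddLocal
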