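import Cfsg.Agent.Lib.OddLocal.HallCommutatorEndgame
import Cfsg.Agent.Lib.PLength.Series
import Cfsg.Agent.Lib.Amalgam.WeaklyClosed
import Cfsg.Agent.Lib.Solvable.MinNormal
import Cfsg.Agent.Lib.Coprime.Hall
import Cfsg.Agent.Lib.Coprime.Complements

/-!
`[H, R]` has `p`-length one when `R` acts coprimely on `H` and some subgroup of prime order of `R` has
a fixed-point group with cyclic Sylow subgroups (solvable groups of odd order).
-/

set_option autoImplicit false
set_option linter.style.haveILetI false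

open Subgroup
open scoped commutatorElement
open CfsgLib.PLength (PSeriesLE pSeriesLE_zero)

namespace CfsgLib.OddLocal

universe u
variable {p : ℕ} [hp : Fact p.Prime]

/-- A normal `p`-subgroup of index prime to `p`. -/
theorem pSeries_of_normal_pgroup {Y : Type u} [Group Y] [Finite Y] (N : Subgroup Y) [N.Normal]
    (hN : IsPGroup p N) (hi : N.index.Coprime p) : PSeriesLE p 1 Y :=
  PSeriesLE.of_quotient_pgroup N hN (pSeriesLE_zero.2 (by rwa [← index_eq_card]))

/-- With trivial `p'`-core and `p`-length one, every `p`-subgroup lies in the `p`-core. -/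
theorem le_pCore_of_pSeries {Y : Type u} [Group Y] [Finite Y] (h : PSeriesLE p 1 Y)
    (hO : Cfsg.pPrimeCore p Y = ⊥) {P : Subgroup Y} (hP : IsPGroup p P) : P ≤ Cfsg.pCore p Y := by
  haveI := CfsgLib.Solvable.pCore_normal p Y
  have hc := pSeriesLE_zero.1 (h.quotient_pCore (k := 0) hO)
  intro s hs
  obtain ⟨j, hj⟩ := IsPGroup.iff_orderOf.1 hP ⟨s, hs⟩
  rw [Subgroup.orderOf_mk] at hj
  refine (QuotientGroup.eq_one_iff (N := Cfsg.pCore p Y) s).1 (orderOf_eq_one_iff.1 ?_)
  exact Nat.eq_one_of_dvd_coprimes (hc.pow_right j) (orderOf_dvd_natCard _)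
    (hj ▸ orderOf_map_dvd (QuotientGroup.mk' (Cfsg.pCore p Y)) s)

/-- A central Sylow subgroup meets the derived group trivially. -/
theorem eq_one_of_central_sylow {Y : Type u} [Group Y] [Finite Y] {S : Subgroup Y}
    (hS : IsPGroup p S) (hSZ : S ≤ center Y) (hi : ¬ p ∣ S.index) {s : Y} (hs : s ∈ S)
    (hc : s ∈ _root_.commutator Y) : s = 1 := by
  have hZi : ¬ p ∣ (center Y).index := fun h => hi (h.trans (index_dvd_of_le hSZ))
  haveI : (center Y).FiniteIndex := inferInstance
  have hker : _root_.commutator Y ≤ (MonoidHom.transferCenterPow Y).ker := by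
    letI : CommGroup (center Y) :=
      { (inferInstance : Group (center Y)) with
        mul_comm := fun a b => Subtype.ext (mem_center_iff.1 b.2 a) }
    exact Abelianization.commutator_subset_ker _
  have h1 := congrArg Subtype.val (MonoidHom.mem_ker.1 (hker hc))
  rw [MonoidHom.transferCenterPow_apply] at h1
  obtain ⟨j, hj⟩ := IsPGroup.iff_orderOf.1 hS ⟨s, hs⟩
  rw [Subgroup.orderOf_mk] at hj
  refine orderOf_eq_one_iff.1 (Nat.eq_one_of_dvd_coprimes
    ((hp.out.coprime_iff_not_dvd.2 hZi).pow_left j) hj.dvd (orderOf_dvd_of_pow_eq_one h1))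

/-- The statement for all groups with `|H| < n`. -/
def HRGood (p n : ℕ) : Prop :=
  ∀ (X : Type u) [Group X] [Finite X] [Group.IsSolvable X], Odd (Nat.card X) →
    ∀ (H R R0 : Subgroup X) [H.Normal], H ⊔ R = ⊤ → (Nat.card H).Coprime (Nat.card R) →
      Nat.card H < n → R0 ≤ R → (Nat.card R0).Prime →
      IsZGroup ↥(H ⊓ centralizer (R0 : Set X)) → PSeriesLE p 1 ↥⁅H, R⁆

variable {X : Type u} [Group X] [Finite X] [Group.IsSolvable X]

/-- The hypothesis in an arbitrary invariant subgroup. -/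
theorem HRGood.apply {n : ℕ} (ih : HRGood.{u} p n) (hodd : Odd (Nat.card X)) {H R R0 H1 : Subgroup X}
    (hcop : (Nat.card H).Coprime (Nat.card R)) (hR0 : R0 ≤ R) (hr0 : (Nat.card R0).Prime)
    (hZ : IsZGroup ↥(H ⊓ centralizer (R0 : Set X))) (hH1 : H1 ≤ H)
    (hR : R ≤ normalizer (H1 : Set X)) (hlt : Nat.card H1 < n) : PSeriesLE p 1 ↥⁅H1, R⁆ := by
  set K := H1 ⊔ R with hK
  have hKn : K ≤ normalizer (H1 : Set X) := sup_le le_normalizer hR
  haveI : (H1.subgroupOf K).Normal := (normal_subgroupOf_iff_le_normalizer le_sup_left).2 hKn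
  have hR0K : R0 ≤ K := hR0.trans le_sup_right
  haveI := hZ
  have hinj : IsZGroup ↥(H1.subgroupOf K ⊓ centralizer (R0.subgroupOf K : Set K)) := by
    let g : ↥(H1.subgroupOf K ⊓ centralizer (R0.subgroupOf K : Set K)) →* ↥(H ⊓ centralizer (R0 : Set X)) :=
      (K.subtype.comp (Subgroup.subtype _)).codRestrict _ fun a => Subgroup.mem_inf.2
        ⟨hH1 (mem_subgroupOf.1 a.2.1), mem_centralizer_iff.2 fun b hb => congrArg Subtype.val
          (mem_centralizer_iff.1 a.2.2 ⟨b, hR0K hb⟩ (mem_subgroupOf.2 hb))⟩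
    refine IsZGroup.of_injective (f := g) fun a b hab => Subtype.ext (Subtype.ext ?_)
    have hg := Subtype.ext_iff.1 hab
    exact hg
  have h := ih K (hodd.of_dvd_nat (card_subgroup_dvd_card K)) (H1.subgroupOf K) (R.subgroupOf K)
    (R0.subgroupOf K)
    (by
      apply map_injective K.subtype_injective
      rw [Subgroup.map_sup, map_subgroupOf_eq_of_le le_sup_left, map_subgroupOf_eq_of_le le_sup_right,
        ← MonoidHom.range_eq_map, range_subtype])
    (by
      rw [CfsgLib.Coprime.card_subgroupOf (le_sup_left : H1 ≤ K),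
        CfsgLib.Coprime.card_subgroupOf (le_sup_right : R ≤ K)]
      exact hcop.coprime_dvd_left (card_dvd_of_le hH1))
    (by rwa [CfsgLib.Coprime.card_subgroupOf (le_sup_left : H1 ≤ K)])
    (fun a ha => hR0 ha) (by rwa [CfsgLib.Coprime.card_subgroupOf hR0K]) hinj
  have heq : (⁅H1.subgroupOf K, R.subgroupOf K⁆).map K.subtype = ⁅H1, R⁆ := by
    rw [Subgroup.map_commutator, map_subgroupOf_eq_of_le (le_sup_left : H1 ≤ K),
      map_subgroupOf_eq_of_le (le_sup_right : R ≤ K)]
  rw [← heq]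
  exact h.of_equiv (equivMapOfInjective _ _ K.subtype_injective)

/-- The hypothesis in quotients. -/
theorem HRGood.quotient {n : ℕ} (ih : HRGood.{u} p n) (hodd : Odd (Nat.card X)) {H R R0 : Subgroup X}
    [H.Normal] (hHR : H ⊔ R = ⊤) (hcop : (Nat.card H).Coprime (Nat.card R)) (hn : Nat.card H ≤ n)
    (hR0 : R0 ≤ R) (hr0 : (Nat.card R0).Prime) (hZ : IsZGroup ↥(H ⊓ centralizer (R0 : Set X)))
    (hcomm : ⁅H, R⁆ = H) {N : Subgroup X} [N.Normal] (hNH : N ≤ H) (hN : N ≠ ⊥) :
    PSeriesLE p 1 ↥(H.map (QuotientGroup.mk' N)) := by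
  set f := QuotientGroup.mk' N with hf
  haveI : (H.map f).Normal := Subgroup.Normal.map inferInstance _ (QuotientGroup.mk'_surjective N)
  haveI : Group.IsSolvable (X ⧸ N) := Group.isSolvable_of_surjective (QuotientGroup.mk'_surjective N)
  have hR0card : Nat.card (R0.map f) = Nat.card R0 := by
    have hinj : Set.InjOn f (R0 : Set X) := by
      intro a ha b hb hab
      have h1 : a⁻¹ * b ∈ N ⊓ R0 := Subgroup.mem_inf.2
        ⟨(QuotientGroup.eq (s := N)).1 hab, mul_mem (inv_mem ha) hb⟩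
      rw [CfsgLib.Coprime.inf_eq_bot_of_coprime
        ((hcop.coprime_dvd_left (card_dvd_of_le hNH)).coprime_dvd_right (card_dvd_of_le hR0)),
        mem_bot, inv_mul_eq_one] at h1
      exact h1
    rw [show Nat.card (R0.map f) = Nat.card ((R0.map f : Subgroup (X ⧸ N)) : Set (X ⧸ N)) from rfl,
      Subgroup.coe_map, Nat.card_image_of_injOn hinj]
    rfl
  have hlt : Nat.card (H.map f) < n := by
    refine lt_of_lt_of_le ?_ hn
    have h1 := relIndex_mul_relIndex ⊥ N H bot_le hNH
    rw [relIndex_bot_left, relIndex_bot_left] at h1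
    have h2 : Nat.card (H.map f) = N.relIndex H := by
      rw [← relIndex_ker, hf, QuotientGroup.ker_mk']
    rw [h2, ← h1]
    refine lt_mul_of_one_lt_left (Nat.pos_of_ne_zero fun h0 => ?_) ((Subgroup.one_lt_card_iff_ne_bot N).2 hN)
    rw [h0, mul_zero] at h1
    exact (Nat.card_pos (α := H)).ne h1
  haveI := hZ
  have hcopR0 : (Nat.card R0).Coprime (Nat.card H) := hcop.symm.coprime_dvd_left (card_dvd_of_le hR0)
  have hZ' : IsZGroup ↥(H.map f ⊓ centralizer (R0.map f : Set (X ⧸ N))) := by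
    rw [← CfsgLib.Coprime.map_inf_centralizer f (le_top.trans (normalizer_eq_top H).ge) hcopR0
      (Or.inr inferInstance)]
    exact IsZGroup.of_surjective (f.subgroupMap_surjective _)
  have h := ih (X ⧸ N) (hodd.of_dvd_nat (card_quotient_dvd_card N)) (H.map f) (R.map f) (R0.map f)
    (by rw [← Subgroup.map_sup, hHR, map_top_of_surjective f (QuotientGroup.mk'_surjective N)])
    ((hcop.coprime_dvd_left (card_map_dvd _ f)).coprime_dvd_right (card_map_dvd _ f))
    hlt (map_mono hR0) (by rwa [hR0card]) hZ'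
  rwa [← Subgroup.map_commutator, hcomm] at h

theorem hrGood (n : ℕ) : HRGood.{u} p n := by
  induction n with
  | zero => intro X _ _ _ _ H R R0 _ _ _ h; omega
  | succ n ih =>
  intro X _ _ _ hodd H R R0 _ hHR hcop hn hR0 hr0 hZ
  have hn' : Nat.card H ≤ n := by omega
  by_cases hcomm : ⁅H, R⁆ = H
  swap
  · have hle : ⁅H, R⁆ ≤ H := commutator_le_left H R
    have hlt : Nat.card ↥⁅H, R⁆ < n := lt_of_lt_of_le (lt_of_le_of_ne (card_le_of_le hle)
      fun h => hcomm (eq_of_le_of_card_ge hle h.ge)) hn'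
    have h := ih.apply hodd hcop hR0 hr0 hZ hle (normalizer_commutator_ge_right H R) hlt
    rwa [CfsgLib.Coprime.commutator_commutator_eq (le_top.trans (normalizer_eq_top H).ge) hcop.symm
      (Or.inr inferInstance)] at h
  rw [hcomm]
  by_cases hH1 : H = ⊥
  · exact (pSeriesLE_zero.2 (by rw [hH1, card_bot]; exact Nat.coprime_one_left p)).mono zero_le_one
  have hRH : R ≤ normalizer (H : Set X) := le_top.trans (normalizer_eq_top H).ge
  have hquot : ∀ N : Subgroup X, N.Normal → N ≤ H → N ≠ ⊥ →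
      ∃ _ : (N.subgroupOf H).Normal, PSeriesLE p 1 (H ⧸ N.subgroupOf H) := by
    intro N hN hNH hN1
    haveI := hN
    refine ⟨inferInstance, ?_⟩
    have hseries := ih.quotient hodd hHR hcop hn' hR0 hr0 hZ hcomm hNH hN1
    set f := QuotientGroup.mk' N with hf
    refine hseries.of_equiv ?_
    refine ((QuotientGroup.quotientMulEquivOfEq ?_).trans
      (QuotientGroup.quotientKerEquivOfSurjective (f.subgroupMap H) (f.subgroupMap_surjective H))).symm
    ext a
    rw [MonoidHom.mem_ker, mem_subgroupOf, ← Subtype.val_inj]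
    exact (QuotientGroup.eq_one_iff (a : X)).symm
  -- trivial `p'`-core
  haveI := CfsgLib.Solvable.pPrimeCore_characteristic p H
  by_cases hO : Cfsg.pPrimeCore p H = ⊥
  swap
  · obtain ⟨_, h⟩ := hquot ((Cfsg.pPrimeCore p H).map H.subtype) inferInstance (map_subtype_le _) (by
      rwa [Ne, Subgroup.map_eq_bot_iff_of_injective _ H.subtype_injective])
    refine PSeriesLE.of_quotient_pPrime (Cfsg.pPrimeCore p H) (CfsgLib.Solvable.pPrimeCore_coprime p)
      (h.of_equiv (QuotientGroup.quotientMulEquivOfEq ?_))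
    rw [subgroupOf, comap_map_eq_self_of_injective H.subtype_injective]
  have hcopN : ∀ N : Subgroup X, N.Normal → N ≤ H → (Nat.card N).Coprime p → N = ⊥ := by
    intro N hN hNH hc
    haveI := hN
    have h : N.subgroupOf H ≤ Cfsg.pPrimeCore p H :=
      CfsgLib.Solvable.le_pPrimeCore inferInstance (by rwa [CfsgLib.Coprime.card_subgroupOf hNH])
    rw [hO, le_bot_iff, subgroupOf_eq_bot, disjoint_iff, inf_eq_left.2 hNH] at h
    exact h
  by_cases huniq : ∀ N₁ N₂ : Subgroup X, N₁.Normal → N₂.Normal → N₁ ≤ H → N₂ ≤ H → N₁ ≠ ⊥ → N₂ ≠ ⊥ →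
      N₁ ⊓ N₂ ≠ ⊥
  swap
  · push Not at huniq
    obtain ⟨N₁, N₂, hn₁, hn₂, h₁, h₂, hne₁, hne₂, hbot⟩ := huniq
    obtain ⟨_, e₁⟩ := hquot N₁ hn₁ h₁ hne₁
    obtain ⟨_, e₂⟩ := hquot N₂ hn₂ h₂ hne₂
    refine PSeriesLE.of_inf_eq_bot ?_ e₁ e₂
    rw [subgroupOf, subgroupOf, ← comap_inf, hbot]
    exact MonoidHom.ker_eq_bot_iff _ |>.2 H.subtype_injective
  -- the minimal normal subgroup
  obtain ⟨M, hMn, hM1, hMH, hMmin⟩ := CfsgLib.Solvable.exists_minimal_normal_le (N := H) inferInstance hH1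
  haveI := hMn
  obtain ⟨l, hl, hMl, hMe, hMc⟩ := CfsgLib.Solvable.exists_isPGroup_of_minimal_normal hM1 hMmin
  have hlp : l = p := by
    by_contra hne
    haveI := Fact.mk hl
    exact hM1 (hcopN M hMn hMH (singleton_eq_of_prime hMl hne))
  subst hlp
  set f := QuotientGroup.mk' M with hf
  set Hb := H.map f with hHb
  haveI : Hb.Normal := Subgroup.Normal.map inferInstance _ (QuotientGroup.mk'_surjective M)
  haveI : Group.IsSolvable (X ⧸ M) := Group.isSolvable_of_surjective (QuotientGroup.mk'_surjective M)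
  have hHbs : PSeriesLE l 1 ↥Hb := ih.quotient hodd hHR hcop hn' hR0 hr0 hZ hcomm hMH hM1
  have hker : ∀ {a : X}, f a = 1 ↔ a ∈ M := fun {a} => QuotientGroup.eq_one_iff a
  -- a `p`-group with coprime index gives the result
  have hdone : ∀ P : Subgroup X, P.Normal → P ≤ H → IsPGroup l P → (P.relIndex H).Coprime l →
      PSeriesLE l 1 ↥H := by
    intro P hP hPH hPl hi
    haveI := hP
    exact pSeries_of_normal_pgroup (P.subgroupOf H) (hPl.comap_subtype (K := H)) hi
  set Kb := oPrime l Hb with hKb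
  haveI hKbn : Kb.Normal := by
    haveI := CfsgLib.Solvable.pPrimeCore_characteristic l Hb
    rw [hKb, oPrime_eq]
    infer_instance
  by_cases hKb1 : Kb = ⊥
  · -- `H ⧸ M` has a normal Sylow subgroup
    have hO' : Cfsg.pPrimeCore l Hb = ⊥ := by
      rw [hKb, oPrime_eq, Subgroup.map_eq_bot_iff_of_injective _ Hb.subtype_injective] at hKb1
      exact hKb1
    haveI := CfsgLib.Solvable.pCore_normal l Hb
    haveI := CfsgLib.Solvable.pCore_characteristic l Hb
    have hc := pSeriesLE_zero.1 (hHbs.quotient_pCore (k := 0) hO')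
    set T := (Cfsg.pCore l Hb).map Hb.subtype with hT
    refine hdone (T.comap f ⊓ H) inferInstance inf_le_right ?_ ?_
    · refine IsPGroup.to_le ?_ (inf_le_left : T.comap f ⊓ H ≤ T.comap f)
      exact ((CfsgLib.Solvable.pCore_isPGroup l).map Hb.subtype).comap_of_ker_isPGroup f
        (by rw [hf, QuotientGroup.ker_mk']; exact hMl)
    · rw [inf_relIndex_right, relIndex_comap, ← hHb, hT, relIndex, subgroupOf,
        comap_map_eq_self_of_injective Hb.subtype_injective, index_eq_card]
      exact hc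
  -- a complement
  set K := Kb.comap f ⊓ H with hKdef
  have hMK : M ≤ K := le_inf (fun a ha => by rw [mem_comap, hker.2 ha]; exact one_mem _) hMH
  have hKmap : K.map f = Kb := by
    refine le_antisymm (map_le_iff_le_comap.2 inf_le_left) ?_
    intro b hb
    obtain ⟨a, ha, rfl⟩ := (piCoreOf_le _ _ : Kb ≤ Hb) hb
    exact ⟨a, Subgroup.mem_inf.2 ⟨hb, ha⟩, rfl⟩
  have hKcopR : (Nat.card R).Coprime (Nat.card K) := hcop.symm.coprime_dvd_right (card_dvd_of_le inf_le_right)
  obtain ⟨K0, hK0, hRK0⟩ := CfsgLib.Coprime.exists_invariant_hall (A := R) (G := K)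
    (le_top.trans (normalizer_eq_top K).ge) hKcopR inferInstance (Cfsg.primesNotDvd l)
  have hK0cop : (Nat.card K0).Coprime l := coprime_iff_primesNotDvd.2 hK0.2.1
  obtain ⟨jm, hjm⟩ := IsPGroup.iff_card.1 hMl
  have hcopMK0 : (Nat.card K0).Coprime (Nat.card M) := hjm ▸ hK0cop.pow_right jm
  have hK0sup : M ⊔ K0 = K := by
    refine eq_of_le_of_card_ge (sup_le hMK hK0.1) (Nat.le_of_dvd Nat.card_pos ?_)
    have h1 := relIndex_mul_relIndex ⊥ M K bot_le hMK
    rw [relIndex_bot_left, relIndex_bot_left] at h1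
    have h2 : M.relIndex K = Nat.card Kb := by
      rw [← hKmap, ← relIndex_ker, hf, QuotientGroup.ker_mk']
    have h3 : Nat.card Kb ∣ Nat.card K0 := by
      have hd : Nat.card Kb ∣ Nat.card K0 * K0.relIndex K := by
        rw [CfsgLib.Coprime.card_mul_relIndex hK0.1, ← h1, h2]; exact dvd_mul_left _ _
      refine Nat.Coprime.dvd_of_dvd_mul_right (Nat.coprime_of_dvd fun s hs hsK hsi => ?_) hd
      exact hK0.2.2 s hs ⟨hs, fun hsl => hs.ne_one
        (Nat.eq_one_of_dvd_coprimes (hKb ▸ coprime_oPrime (p := l) Hb) hsK hsl)⟩ hsi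
    rw [← h1, h2]
    exact (hcopMK0.symm.coprime_dvd_right h3).mul_dvd_of_dvd_of_dvd (card_dvd_of_le le_sup_left)
      (h3.trans (card_dvd_of_le le_sup_right))
  set L := H ⊓ normalizer (K0 : Set X) with hLdef
  have hRL : R ≤ normalizer (L : Set X) :=
    (le_inf hRH (hRK0.trans le_normalizer)).trans inf_normalizer_le_normalizer_inf
  have hMnorm : ∀ T : Subgroup X, T ≤ normalizer (M : Set X) := fun T => le_top.trans (normalizer_eq_top M).ge
  have hHML : ∀ h ∈ H, ∃ m ∈ M, ∃ u ∈ L, h = m * u := by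
    intro h hh
    have hconj : K0.map (MulAut.conj h).toMonoidHom ≤ normalizer (M : Set X) := hMnorm _
    have hsup : M ⊔ K0 = M ⊔ K0.map (MulAut.conj h).toMonoidHom := by
      haveI : K.Normal := inferInstance
      have e : (M ⊔ K0).map (MulAut.conj h).toMonoidHom = M ⊔ K0 := by
        rw [hK0sup]
        exact CfsgLib.Coprime.map_conj_of_mem_normalizer ((normalizer_eq_top K).ge (mem_top h))
      conv_lhs => rw [← e, Subgroup.map_sup,
        CfsgLib.Coprime.map_conj_of_mem_normalizer ((normalizer_eq_top M).ge (mem_top h))]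
    obtain ⟨m, hm, hme⟩ := CfsgLib.Coprime.exists_conj_eq_of_coprime (hMnorm K0) hconj hsup hcopMK0
      (by rw [CfsgLib.Coprime.card_map_conj]; exact hcopMK0) (Or.inr inferInstance)
    refine ⟨m, hm, m⁻¹ * h, Subgroup.mem_inf.2 ⟨mul_mem (inv_mem (hMH hm)) hh, ?_⟩, by group⟩
    rw [mem_normalizer_iff_map_conj_eq]
    show cj (m⁻¹ * h) K0 = K0
    rw [cj_mul, show cj h K0 = cj m K0 from hme, ← cj_mul, inv_mul_cancel, cj_one]
  -- normality criterion
  have hnormal : ∀ D : Subgroup X, D ≤ M → L ≤ normalizer (D : Set X) → R ≤ normalizer (D : Set X) →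
      D.Normal := by
    intro D hD hL hR'
    rw [← normalizer_eq_top_iff, eq_top_iff, ← hHR]
    refine sup_le (fun h hh => ?_) hR'
    obtain ⟨m, hm, u, hu, rfl⟩ := hHML h hh
    refine mul_mem (centralizer_le_normalizer _ (mem_centralizer_iff.2 fun a ha => ?_)) (hL hu)
    exact congrArg (fun z : M => (z : X)) (hMc.is_comm.comm ⟨a, hD ha⟩ ⟨m, hm⟩)
  have hfixmin : ∀ T : Subgroup X, L ≤ normalizer (T : Set X) → R ≤ normalizer (T : Set X) →
      M ⊓ centralizer (T : Set X) = ⊥ ∨ T ≤ centralizer (M : Set X) := by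
    intro T hL hR'
    have hn := hnormal (M ⊓ centralizer (T : Set X)) inf_le_left
      ((le_inf (hMnorm L) (hL.trans (normalizer_le_normalizer_centralizer_of_set _))).trans
        inf_normalizer_le_normalizer_inf)
      ((le_inf (hMnorm R) (hR'.trans (normalizer_le_normalizer_centralizer_of_set _))).trans
        inf_normalizer_le_normalizer_inf)
    refine (hMmin _ hn inf_le_left).imp id fun h => le_centralizer_iff.1 ?_
    rw [← h]; exact inf_le_right
  have hLM : M ⊓ L = ⊥ := by
    have hn : (M ⊓ centralizer (K0 : Set X)).Normal :=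
      hnormal _ inf_le_left
        ((le_inf (hMnorm L) ((inf_le_right : L ≤ normalizer (K0 : Set X)).trans
          (normalizer_le_normalizer_centralizer_of_set _))).trans inf_normalizer_le_normalizer_inf)
        ((le_inf (hMnorm R) (hRK0.trans (normalizer_le_normalizer_centralizer_of_set _))).trans
          inf_normalizer_le_normalizer_inf)
    have hDbot : M ⊓ centralizer (K0 : Set X) = ⊥ := by
      refine (hMmin _ hn inf_le_left).resolve_right fun h => hKb1 ?_
      have hMC : M ≤ centralizer (K0 : Set X) := h ▸ inf_le_right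
      have hK0n : K0.Normal := by
        rw [← normalizer_eq_top_iff, eq_top_iff, ← hHR]
        refine sup_le (fun a ha => ?_) hRK0
        obtain ⟨m, hm, u, hu, rfl⟩ := hHML a ha
        exact mul_mem (centralizer_le_normalizer _ (hMC hm)) hu.2
      have h0 := hcopN K0 hK0n (hK0.1.trans inf_le_right) hK0cop
      rw [← hKmap, ← hK0sup, h0, sup_bot_eq, Subgroup.map_eq_bot_iff, hf, QuotientGroup.ker_mk']
    rw [eq_bot_iff, ← hDbot]
    rintro a ⟨haM, -, haN⟩
    refine Subgroup.mem_inf.2 ⟨haM, mem_centralizer_iff.2 fun k hk => ?_⟩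
    have h1 : a * k * a⁻¹ * k⁻¹ ∈ M ⊓ K0 := by
      refine Subgroup.mem_inf.2 ⟨?_, mul_mem ((mem_normalizer_iff.1 haN k).1 hk) (inv_mem hk)⟩
      rw [show a * k * a⁻¹ * k⁻¹ = a * (k * a⁻¹ * k⁻¹) by group]
      exact mul_mem haM (hMn.conj_mem _ (inv_mem haM) k)
    rw [CfsgLib.Coprime.inf_eq_bot_of_coprime hcopMK0.symm, mem_bot] at h1
    exact (mul_inv_eq_iff_eq_mul.1 (mul_inv_eq_one.1 h1)).symm
  have hLC : L ⊓ centralizer (M : Set X) = ⊥ := by
    by_contra hne
    have hn : (L ⊓ centralizer (M : Set X)).Normal := by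
      rw [← normalizer_eq_top_iff, eq_top_iff, ← hHR]
      have hCn : (⊤ : Subgroup X) ≤ normalizer (centralizer (M : Set X) : Set X) := by
        rw [← normalizer_eq_top M]; exact normalizer_le_normalizer_centralizer_of_set _
      refine sup_le (fun a ha => ?_) ((le_inf hRL (le_top.trans hCn)).trans inf_normalizer_le_normalizer_inf)
      obtain ⟨m, hm, u, hu, rfl⟩ := hHML a ha
      refine mul_mem (centralizer_le_normalizer _ (mem_centralizer_iff.2 fun b hb => ?_))
        (inf_normalizer_le_normalizer_inf ⟨le_normalizer hu, hCn (mem_top u)⟩)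
      exact (mem_centralizer_iff.1 (Subgroup.mem_inf.1 hb).2 m hm).symm
    refine huniq M _ hMn hn hMH (inf_le_left.trans inf_le_left) hM1 hne (eq_bot_iff.2 ?_)
    rw [← hLM]; exact inf_le_inf_left M inf_le_left
  have hCM : ∀ a ∈ H, a ∈ centralizer (M : Set X) → a ∈ M := by
    intro a ha hc
    obtain ⟨m, hm, u, hu, rfl⟩ := hHML a ha
    have : u ∈ L ⊓ centralizer (M : Set X) := Subgroup.mem_inf.2 ⟨hu, by
      have h := mul_mem (inv_mem (mem_centralizer_iff.2 fun b hb =>
        congrArg (fun z : M => (z : X)) (hMc.is_comm.comm ⟨b, hb⟩ ⟨m, hm⟩) : m ∈ centralizer (M : Set X))) hc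
      rwa [inv_mul_cancel_left] at h⟩
    rw [hLC, mem_bot] at this
    rw [this, mul_one]; exact hm
  -- `L ≅ H ⧸ M`
  have hLH : L ≤ H := inf_le_left
  let e : L →* Hb := (f.comp L.subtype).codRestrict Hb fun a => ⟨a, hLH a.2, rfl⟩
  have hLs : PSeriesLE l 1 ↥L := by
    refine hHbs.of_injective e ?_
    rw [← MonoidHom.ker_eq_bot_iff, eq_bot_iff]
    intro a ha
    have h1 : (a : X) ∈ M ⊓ L := Subgroup.mem_inf.2
      ⟨hker.1 (congrArg Subtype.val (MonoidHom.mem_ker.1 ha)), a.2⟩
    rw [hLM, mem_bot] at h1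
    exact mem_bot.2 (Subtype.ext h1)
  have hLR : ⁅L, R⁆ = L := by
    refine le_antisymm (le_normalizer_iff_commutator_le_left.mp hRL) fun a ha => ?_
    have h1 : f a ∈ ⁅L, R⁆.map f := by
      have hLmap : L.map f = Hb := by
        refine le_antisymm (map_mono hLH) ?_
        rintro _ ⟨b, hb, rfl⟩
        obtain ⟨m, hm, u, hu, rfl⟩ := hHML b hb
        exact ⟨u, hu, by rw [map_mul, hker.2 hm, one_mul]⟩
      rw [Subgroup.map_commutator, hLmap, hHb, ← Subgroup.map_commutator, hcomm]
      exact mem_map_of_mem f (hLH ha)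
    obtain ⟨b, hb, hba⟩ := h1
    have hbL := (le_normalizer_iff_commutator_le_left.mp hRL) hb
    have h2 : b⁻¹ * a ∈ M ⊓ L := Subgroup.mem_inf.2
      ⟨hker.1 (by rw [map_mul, map_inv, hba, inv_mul_cancel]), mul_mem (inv_mem hbL) ha⟩
    rw [hLM, mem_bot, inv_mul_eq_one] at h2
    exact h2 ▸ hb
  obtain ⟨S, hS⟩ := CfsgLib.Coprime.exists_invariant_sylow hRL
    (hcop.symm.coprime_dvd_right (card_dvd_of_le hLH)) (Or.inr inferInstance) l
  set S' := (S : Subgroup L).map L.subtype with hS'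
  have hS'p : IsPGroup l S' := S.2.map _
  have hS'L : S' ≤ L := map_subtype_le _
  have hnoP : ∀ U : Subgroup X, U ≤ L → IsPGroup l U → L ≤ normalizer (U : Set X) →
      R ≤ normalizer (U : Set X) → U = ⊥ := by
    intro U hUL hUp hLU hRU
    refine eq_bot_iff.2 ?_
    rw [← hLC]
    refine le_inf hUL ((hfixmin U hLU hRU).resolve_left ?_)
    exact CfsgLib.Amalgam.inf_centralizer_ne_bot hUp hMl hM1 (hMnorm U)
  haveI hLsol : Group.IsSolvable L := inferInstance
  haveI := CfsgLib.Solvable.pPrimeCore_normal l L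
  haveI := CfsgLib.Solvable.pPrimeCore_characteristic l L
  set K1 := oPrime l L with hK1
  have hLK1 : L ≤ normalizer (K1 : Set X) := le_normalizer.trans (le_normalizer_piCoreOf _ _)
  have hRK1 : R ≤ normalizer (K1 : Set X) := hRL.trans (le_normalizer_piCoreOf _ _)
  have hS'K1 : ∀ s ∈ S', s ∈ K1 → s = 1 := by
    intro s hs hs1
    obtain ⟨j, hj⟩ := IsPGroup.iff_card.1 hS'p
    have h1 : s ∈ K1 ⊓ S' := ⟨hs1, hs⟩
    rw [CfsgLib.Coprime.inf_eq_bot_of_coprime (hj ▸ (coprime_oPrime (p := l) L).pow_right j), mem_bot] at h1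
    exact h1
  by_cases hSR : ⁅S', R⁆ = ⊥
  · -- `R` centralizes a Sylow subgroup: it is trivial
    have hSC : S' ≤ centralizer (R : Set X) := commutator_eq_bot_iff_le_centralizer.1 hSR
    have hD := pLengthLE_one_sup_sylow (CfsgLib.PLength.pLengthLE_iff.2 hLs) S
    set D := K1 ⊔ S' with hDdef
    have hDmap : (Cfsg.pPrimeCore l L ⊔ (S : Subgroup L)).map L.subtype = D := by
      rw [Subgroup.map_sup, ← oPrime_eq]
    have hDL : L ≤ normalizer (D : Set X) := by
      haveI := hD
      have h := le_normalizer_map (H := Cfsg.pPrimeCore l L ⊔ (S : Subgroup L)) L.subtype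
      rwa [normalizer_eq_top, ← MonoidHom.range_eq_map, range_subtype, hDmap] at h
    have hRD : R ≤ normalizer (D : Set X) := fun t ht => by
      rw [mem_normalizer_iff_map_conj_eq, hDdef, Subgroup.map_sup,
        mem_normalizer_iff_map_conj_eq.1 (hRK1 ht), mem_normalizer_iff_map_conj_eq.1 (hS ht)]
    have hS'n : S' ≤ normalizer (K1 : Set X) := hS'L.trans hLK1
    have htriv : ∀ t ∈ R, TrivMod D K1 t := by
      intro t ht
      refine ⟨hRD ht, hRK1 ht, fun d hd => ?_⟩
      obtain ⟨k, hk, s, hs, rfl⟩ := (CfsgLib.Coprime.mem_sup_of_le_normalizer hS'n).1 hd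
      have hts : t * s = s * t := mem_centralizer_iff.1 (hSC hs) t ht
      rw [show t * (k * s) * t⁻¹ * (k * s)⁻¹ = t * k * t⁻¹ * ((t * s) * t⁻¹ * s⁻¹) * k⁻¹ by group, hts]
      group
      exact mul_mem (mul_mem (mul_mem ((mem_normalizer_iff.1 (hRK1 ht) k).1 hk) (one_mem _)) (one_mem _))
        (inv_mem hk) |> fun h => by simpa using h
    have hall := trivMod_of_commutator (A := D) (B := K1) hLR.ge hDL hLK1 htriv
    set g := QuotientGroup.mk' (Cfsg.pPrimeCore l L)
    have hcen : (S : Subgroup L).map g ≤ center (L ⧸ Cfsg.pPrimeCore l L) := by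
      rintro _ ⟨s, hs, rfl⟩
      rw [mem_center_iff]
      intro y
      obtain ⟨v, rfl⟩ := QuotientGroup.mk'_surjective (Cfsg.pPrimeCore l L) y
      rw [← map_mul, ← map_mul, ← mul_inv_eq_one, ← map_inv, ← map_mul]
      refine (QuotientGroup.eq_one_iff _).2 ?_
      have h1 := (hall v v.2).2.2 s (mem_sup_right ⟨s, hs, rfl⟩)
      rw [hK1, oPrime_eq] at h1
      obtain ⟨w, hw, hwe⟩ := h1
      have : w = v * s * (s * v)⁻¹ := Subtype.ext (by
        rw [show (w : X) = (v : X) * s * (v : X)⁻¹ * (s : X)⁻¹ from hwe]; simp [mul_assoc])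
      exact this ▸ hw
    have hidx : ¬ l ∣ ((S : Subgroup L).map g).index := fun h => S.not_dvd_index
      (h.trans (index_map_dvd _ (QuotientGroup.mk'_surjective _)))
    have hcomLR : L ⊓ centralizer (R : Set X) ≤ ⁅L, L⁆ :=
      inf_centralizer_le_of_abelian_quotient hRL (le_normalizer_commutator hRL hRL) (commutator_le_self L)
        le_rfl (hLR.ge.trans le_sup_left) (hcop.symm.coprime_dvd_right (card_dvd_of_le hLH))
    have hS1 : S' = ⊥ := by
      refine eq_bot_iff.2 fun s hs => mem_bot.2 ?_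
      have hsL := hcomLR (Subgroup.mem_inf.2 ⟨hS'L hs, hSC hs⟩)
      obtain ⟨s₀, hs₀, rfl⟩ := hs
      have hsL' : s₀ ∈ _root_.commutator L := by
        have h1 : (s₀ : X) ∈ (_root_.commutator L).map L.subtype := by
          rw [_root_.commutator_def, Subgroup.map_commutator, ← MonoidHom.range_eq_map, range_subtype]
          exact hsL
        obtain ⟨z, hz, hze⟩ := h1
        exact (Subtype.ext hze : z = s₀) ▸ hz
      have hmem : g s₀ ∈ _root_.commutator (L ⧸ Cfsg.pPrimeCore l L) := by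
        have h1 : (_root_.commutator L).map g ≤ _root_.commutator (L ⧸ Cfsg.pPrimeCore l L) := by
          rw [_root_.commutator_def, Subgroup.map_commutator, _root_.commutator_def]
          exact commutator_mono le_top le_top
        exact h1 ⟨s₀, hsL', rfl⟩
      have hgs : g s₀ = 1 :=
        eq_one_of_central_sylow (S.2.map g) hcen hidx (mem_map_of_mem g hs₀) hmem
      refine hS'K1 _ ⟨s₀, hs₀, rfl⟩ ?_
      rw [hK1, oPrime_eq]
      exact mem_map_of_mem _ ((QuotientGroup.eq_one_iff s₀).1 hgs)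
    refine hdone M hMn hMH hMl ?_
    rw [Nat.coprime_comm, hp.out.coprime_iff_not_dvd]
    intro hd
    have hcardLH : M.relIndex H = Nat.card L := by
      have hLmap : L.map f = Hb := by
        refine le_antisymm (map_mono hLH) ?_
        rintro _ ⟨b, hb, rfl⟩
        obtain ⟨m, hm, u, hu, rfl⟩ := hHML b hb
        exact ⟨u, hu, by rw [map_mul, hker.2 hm, one_mul]⟩
      have e1 : M.relIndex H = Nat.card Hb := by rw [hHb, ← relIndex_ker, hf, QuotientGroup.ker_mk']
      rw [e1, ← hLmap, ← relIndex_ker, hf, QuotientGroup.ker_mk', ← inf_relIndex_right, hLM, relIndex_bot_left]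
    refine S.not_dvd_index ?_
    have hSbot : (S : Subgroup L) = ⊥ := by
      rwa [hS', Subgroup.map_eq_bot_iff_of_injective _ L.subtype_injective] at hS1
    rw [hSbot, index_bot, ← hcardLH]
    exact hd
  -- the critical configuration
  exfalso
  set S1 := ⁅S', R⁆ with hS1
  have hS1S : S1 ≤ S' := le_normalizer_iff_commutator_le_left.mp hS
  have hS1p : IsPGroup l S1 := hS'p.to_le hS1S
  have hS1R : ⁅S1, R⁆ = S1 := CfsgLib.Coprime.commutator_commutator_eq hS
    (hcop.symm.coprime_dvd_right (card_dvd_of_le (hS'L.trans hLH))) (Or.inr inferInstance)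
  have hRS1 : R ≤ normalizer (S1 : Set X) := normalizer_commutator_ge_right S' R
  have hS1L : S1 ≤ L := hS1S.trans hS'L
  -- proper invariant `MTS` make `S` centralize `T`
  have hstep : ∀ T : Subgroup X, T ≤ L → (Nat.card T).Coprime l → R ≤ normalizer (T : Set X) →
      S1 ≤ normalizer (T : Set X) → M ⊔ (T ⊔ S1) ≠ H → S1 ≤ centralizer (T : Set X) := by
    intro T hT hTc hRT hST hne
    set H1 := M ⊔ (T ⊔ S1) with hH1def
    have hH1H : H1 ≤ H := sup_le hMH (sup_le (hT.trans hLH) (hS1L.trans hLH))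
    have hRH1 : R ≤ normalizer (H1 : Set X) := fun t ht => by
      rw [mem_normalizer_iff_map_conj_eq, hH1def, Subgroup.map_sup, Subgroup.map_sup,
        mem_normalizer_iff_map_conj_eq.1 (hMnorm R ht), mem_normalizer_iff_map_conj_eq.1 (hRT ht),
        mem_normalizer_iff_map_conj_eq.1 (hRS1 ht)]
    set Y := ⁅H1, R⁆ with hYdef
    have hY : PSeriesLE l 1 ↥Y := ih.apply hodd hcop hR0 hr0 hZ hH1H hRH1
      (lt_of_lt_of_le (lt_of_le_of_ne (card_le_of_le hH1H) fun h => hne (eq_of_le_of_card_ge hH1H h.ge)) hn')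
    have hYH : Y ≤ H := (commutator_mono hH1H le_rfl).trans hcomm.le
    have hH1Y : H1 ≤ normalizer (Y : Set X) := normalizer_commutator_ge_left H1 R
    have hS1Y : S1 ≤ Y := hS1R.ge.trans (commutator_mono (le_sup_right.trans le_sup_right) le_rfl)
    have hOY : oPrime l Y = ⊥ := by
      have hn1 : M ≤ normalizer (oPrime l Y : Set X) :=
        ((le_sup_left : M ≤ H1).trans hH1Y).trans (le_normalizer_piCoreOf _ _)
      obtain ⟨i, hi⟩ := IsPGroup.iff_card.1 hMl
      have hc : M ≤ centralizer (oPrime l Y : Set X) := by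
        refine commutator_eq_bot_iff_le_centralizer.1 (le_bot_iff.1 ?_)
        rw [← CfsgLib.Coprime.inf_eq_bot_of_coprime (hi ▸ (coprime_oPrime (p := l) Y).pow_right i)]
        exact le_inf (le_normalizer_iff_commutator_le_right.mp hn1)
          (le_normalizer_iff_commutator_le_left.mp (hMnorm _))
      refine eq_bot_iff.2 fun o ho => ?_
      rw [← CfsgLib.Coprime.inf_eq_bot_of_coprime (hi ▸ (coprime_oPrime (p := l) Y).pow_right i)]
      exact ⟨ho, hCM o (hYH (piCoreOf_le _ _ ho)) (le_centralizer_iff.1 hc ho)⟩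
    have hP : S1 ≤ fPart Y l := by
      have hO' : Cfsg.pPrimeCore l Y = ⊥ := by
        rw [oPrime_eq, Subgroup.map_eq_bot_iff_of_injective _ Y.subtype_injective] at hOY
        exact hOY
      have h1 := le_pCore_of_pSeries hY hO' (hS1p.comap_subtype (K := Y))
      refine fun s hs => ⟨⟨s, hS1Y hs⟩, le_piCore (CfsgLib.Solvable.pCore_normal l Y) (fun d hd hdd => ?_)
        (h1 (mem_subgroupOf.2 hs)), rfl⟩
      exact prime_dvd_pGroup (CfsgLib.Solvable.pCore_isPGroup (G := Y) l) hd hdd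
    refine le_centralizer_iff.1 (commutator_eq_bot_iff_le_centralizer.1 (le_bot_iff.1 ?_))
    obtain ⟨i, hi⟩ := IsPGroup.iff_card.1 (isPGroup_fPart Y l)
    rw [← CfsgLib.Coprime.inf_eq_bot_of_coprime (A := T) (N := fPart Y l) (hi ▸ hTc.pow_right i)]
    refine le_inf (le_normalizer_iff_commutator_le_left.mp hST) ?_
    refine (commutator_mono le_rfl hP).trans (le_normalizer_iff_commutator_le_right.mp ?_)
    exact ((le_sup_left.trans le_sup_right : T ≤ H1).trans hH1Y).trans (le_normalizer_piCoreOf _ _)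
  -- a prime for the Fitting subgroup
  obtain ⟨q, hq, hqne, hmove⟩ : ∃ q : ℕ, q.Prime ∧ q ≠ l ∧ ¬ S1 ≤ centralizer (fPart L q : Set X) := by
    by_contra hall
    push Not at hall
    refine hSR (eq_bot_iff.2 ?_)
    have hFl : fPart L l = ⊥ := hnoP _ (fPart_le L l) (isPGroup_fPart L l) (le_normalizer_fPart L l)
      (hRL.trans (le_normalizer_piCoreOf _ _))
    rw [← hFl]
    refine le_fPart_of_pGroup L hS1p fun s hs => mem_fittingOf_of_centralizes L (hS1L hs) ?_
    refine le_centralizer_fittingOf_of_parts L (W := S1) (fun t ht => ?_) hs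
    by_cases htl : t = l
    · subst htl
      intro a _
      rw [mem_centralizer_iff]
      intro b hb
      rw [hFl] at hb
      rw [mem_bot.1 hb, one_mul, mul_one]
    · exact hall t ht htl
  haveI := Fact.mk hq
  set Q := fPart L q with hQdef
  have hQL : Q ≤ L := fPart_le L q
  have hRQ : R ≤ normalizer (Q : Set X) := hRL.trans (le_normalizer_piCoreOf _ _)
  have hQc : (Nat.card Q).Coprime l := singleton_eq_of_prime (isPGroup_fPart L q) hqne
  have hLQn : L ≤ normalizer (Q : Set X) := le_normalizer_fPart L q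
  have hsupH : M ⊔ (Q ⊔ S1) = H := by
    by_contra hne
    exact hmove (hstep Q hQL hQc hRQ (hS1L.trans hLQn) hne)
  have hmod : ∀ T : Subgroup X, T ≤ L → S1 ≤ normalizer (T : Set X) → M ⊔ (T ⊔ S1) = H → L ≤ T ⊔ S1 := by
    intro T hT _ hsup a ha
    obtain ⟨m, hm, b, hb, hab⟩ := (CfsgLib.Coprime.mem_sup_of_le_normalizer (hMnorm (T ⊔ S1))).1
      (hsup.ge (hLH ha))
    have hm1 : m ∈ M ⊓ L := Subgroup.mem_inf.2 ⟨hm, by
      have : m = a * b⁻¹ := by rw [← hab]; group
      rw [this]; exact mul_mem ha (inv_mem ((sup_le hT hS1L : T ⊔ S1 ≤ L) hb))⟩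
    rw [hLM, mem_bot] at hm1
    rw [← hab, hm1, one_mul]; exact hb
  have hLQS : L ≤ Q ⊔ S1 := hmod Q hQL (hS1L.trans hLQn) hsupH
  refine false_of_critConfig hodd (H := H) (R := R) (R0 := R0) (M := M) (Q := Q) (S := S1) ?_ hqne hcop hR0 hr0 hZ
  exact
    { mPGroup := hMl, mExp := hMe, mComm := hMc, qGroup := isPGroup_fPart L q, sGroup := hS1p
      mH := hMH, qH := hQL.trans hLH, sH := hS1L.trans hLH, hM := hMnorm H, rM := hMnorm R
      rQ := hRQ, rS := hRS1, sQ := hS1L.trans hLQn, sR := hS1R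
      disj := fun a ha haM => by
        have h1 : a ∈ M ⊓ L := Subgroup.mem_inf.2 ⟨haM, (sup_le hQL hS1L : Q ⊔ S1 ≤ L) ha⟩
        rwa [hLM, mem_bot] at h1
      faith := eq_bot_iff.2 (hLC ▸ inf_le_inf_right _ hQL)
      fix := fun T hT hT1 hQT hST hRT =>
        (hfixmin T (hLQS.trans (sup_le hQT hST)) hRT).resolve_right fun h => hT1 (le_bot_iff.1
          (hLC ▸ le_inf (hT.trans hQL) h))
      minimal := fun T hT hTne hST hRT => by
        refine hstep T (hT.trans hQL) (hQc.coprime_dvd_left (card_dvd_of_le hT)) hRT hST fun hsup => ?_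
        refine hTne (le_antisymm hT fun a ha => ?_)
        have h1 := hmod T (hT.trans hQL) hST hsup (hQL ha)
        obtain ⟨t, ht, s, hs, rfl⟩ := (CfsgLib.Coprime.mem_sup_of_le_normalizer hST).1 h1
        have hsQ : s ∈ Q ⊓ S1 := Subgroup.mem_inf.2 ⟨by
          have := mul_mem (inv_mem (hT ht)) ha
          rwa [inv_mul_cancel_left] at this, hs⟩
        rw [CfsgLib.Coprime.inf_eq_bot_of_coprime (coprime_of_pGroups (isPGroup_fPart L q) hS1p hqne),
          mem_bot] at hsQ
        rw [hsQ, mul_one]; exact ht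
      moves := hmove }

end CfsgLib.OddLocal
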