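import Mathlib.GroupTheory.Nilpotent
import Mathlib.GroupTheory.Coset.Card
import Mathlib.GroupTheory.Commutator.Finite
import Mathlib.Algebra.BigOperators.Group.Finset.Basic

set_option autoImplicit false

namespace CfsgLib.OddLocal

open Subgroup

universe u
variable {G : Type u} [Group G]

/-- If `A` acts coprimely on `H` and `H = [H, A] ⊔ D` with `H ⧸ D` abelian, then `C_H(A) ≤ D`. -/
theorem inf_centralizer_le_of_abelian_quotient [Finite G] {H A D : Subgroup G}
    (hA : A ≤ Subgroup.normalizer (H : Set G)) (hAD : A ≤ Subgroup.normalizer (D : Set G)) (hDH : D ≤ H) (hD : ⁅H, H⁆ ≤ D)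
    (hgen : H ≤ ⁅H, A⁆ ⊔ D) (hcop : (Nat.card A).Coprime (Nat.card H)) :
    H ⊓ Subgroup.centralizer (A : Set G) ≤ D := by
  classical
  let D₁ := D.subgroupOf H
  have hc : commutator H ≤ D₁ := by
    rw [_root_.commutator_def, Subgroup.commutator_le]
    intro x _ y _
    exact hD (Subgroup.commutator_mem_commutator x.2 y.2)
  have hn : D₁.Normal := Subgroup.Normal.of_commutator_le (h := hc)
  let Q := H ⧸ D₁
  let _ : CommGroup Q := { (inferInstance : Group Q) with
    mul_comm := by
      intro a b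
      obtain ⟨a, rfl⟩ := QuotientGroup.mk'_surjective D₁ a
      obtain ⟨b, rfl⟩ := QuotientGroup.mk'_surjective D₁ b
      rw [← map_mul, ← map_mul]
      refine QuotientGroup.eq.mpr (hc ?_)
      have h := Subgroup.commutator_mem_commutator (Subgroup.mem_top b⁻¹) (Subgroup.mem_top a⁻¹)
      rw [← _root_.commutator_def, commutatorElement_def] at h
      simpa [mul_assoc] using h }
  have : Fintype A := Fintype.ofFinite A
  let act : A → H → H := fun a h =>
    ⟨(a : G) * h * (a : G)⁻¹, (Subgroup.mem_normalizer_iff.mp (hA a.2) h).mp h.2⟩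
  have act_mul : ∀ a x y, act a (x * y) = act a x * act a y := fun a x y => Subtype.ext (by
    show (a : G) * (x * y) * (a : G)⁻¹ = ((a : G) * x * (a : G)⁻¹) * ((a : G) * y * (a : G)⁻¹)
    group)
  let N : H →* Q :=
    MonoidHom.mk' (fun h => ∏ a : A, QuotientGroup.mk' D₁ (act a h)) fun x y => by
      rw [← Finset.prod_mul_distrib]
      exact Finset.prod_congr rfl fun a _ => by rw [act_mul, map_mul]
  have N_act : ∀ b x, N (act b x) = N x := by
    intro b x
    refine (Fintype.prod_equiv (Equiv.mulRight b) _ _ fun a => ?_)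
    congr 1
    refine Subtype.ext ?_
    show (a : G) * ((b : G) * x * (b : G)⁻¹) * (a : G)⁻¹ = (↑(a * b) : G) * x * (↑(a * b) : G)⁻¹
    push_cast
    group
  -- the norm kills `[H, A]` and `D`
  have hK : H ≤ N.ker.map H.subtype ⊔ D := by
    refine hgen.trans (sup_le ?_ le_sup_right)
    refine le_sup_of_le_left (Subgroup.commutator_le.mpr fun h hh a ha => ?_)
    refine ⟨⟨h, hh⟩ * (act ⟨a, ha⟩ ⟨h, hh⟩)⁻¹, ?_, ?_⟩
    · show N _ = 1
      rw [map_mul, map_inv, N_act, mul_inv_cancel]
    · show h * (a * h * a⁻¹)⁻¹ = h * a * h⁻¹ * a⁻¹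
      group
  have hDN : D₁ ≤ N.ker := fun d hd => by
    show ∏ a : A, QuotientGroup.mk' D₁ (act a d) = 1
    refine Finset.prod_eq_one fun a _ => (QuotientGroup.eq_one_iff _).mpr ?_
    exact (Subgroup.mem_normalizer_iff.mp (hAD a.2) d).mp hd
  have hker : H ≤ N.ker.map H.subtype :=
    hK.trans (sup_le le_rfl ((Subgroup.map_subgroupOf_eq_of_le hDH).symm.le.trans
      (Subgroup.map_mono hDN)))
  rintro c ⟨hc1, hc2⟩
  obtain ⟨y, hy, hyc⟩ := hker hc1
  have hpow : (QuotientGroup.mk' D₁ y) ^ Nat.card A = 1 := by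
    rw [← (show N y = 1 from hy)]
    have : ∀ a : A, act a y = y := fun a => Subtype.ext (by
      show (a : G) * y * (a : G)⁻¹ = y
      rw [show ((y : H) : G) = c from hyc, Subgroup.mem_centralizer_iff.mp hc2 a a.2,
        mul_inv_cancel_right])
    show _ = ∏ a : A, QuotientGroup.mk' D₁ (act a y)
    simp [this, Nat.card_eq_fintype_card]
  have h1 : orderOf (QuotientGroup.mk' D₁ y) ∣ Nat.card H :=
    (_root_.orderOf_dvd_natCard _).trans (Subgroup.card_quotient_dvd_card D₁)
  have h2 := Nat.eq_one_of_dvd_coprimes hcop (orderOf_dvd_of_pow_eq_one hpow) h1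
  rw [orderOf_eq_one_iff] at h2
  have : (y : G) ∈ D := (QuotientGroup.eq_one_iff y).mp h2
  rwa [show ((y : H) : G) = c from hyc] at this

/-- A nilpotent finite group is generated by any subgroup covering its abelianization. -/
theorem eq_top_of_sup_commutator_eq_top [Finite G] (hG : Group.IsNilpotent G) {H : Subgroup G}
    (h : H ⊔ commutator G = ⊤) : H = ⊤ := by
  rcases eq_top_or_exists_le_coatom H with h1 | ⟨M, hM, hHM⟩
  · exact h1
  exfalso
  have hn : M.Normal :=
    NormalizerCondition.normal_of_coatom M Group.normalizerCondition_of_isNilpotent hM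
  obtain ⟨x, -, hx⟩ := SetLike.exists_of_lt hM.lt_top
  have htop : M ⊔ Subgroup.zpowers x = ⊤ := hM.2 _ (lt_of_le_not_ge le_sup_left
    fun hle => hx (hle (Subgroup.mem_sup_right (Subgroup.mem_zpowers x))))
  have hcomm : commutator G ≤ M :=
    Subgroup.Normal.commutator_le_of_self_sup_commutative_eq_top htop inferInstance
  exact hM.1 (top_le_iff.mp (h ▸ sup_le hHM hcomm))

end CfsgLib.OddLocal
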