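import Cfsg.Prelude.Def_CaseTheorems
import Cfsg.Agent.Lib.Transfer.PGroupNormal
import Cfsg.Agent.Lib.Coprime.Hall

/-!
Normal elementary abelian subgroups of order at least `p³` in `p`-groups of rank at least three.
-/

set_option autoImplicit false

open Subgroup
open scoped commutatorElement

namespace CfsgLib.OddLocal

variable {R : Type*} [Group R] [Finite R] {p : ℕ} [Fact p.Prime]

/-- The index of the centralizer of a normal subgroup of order at most `p²` is at most `p`. -/
theorem index_centralizer_le_prime (hR : IsPGroup p R) (N : Subgroup R) [N.Normal]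
    (hN : Nat.card N ≤ p ^ 2) : (centralizer (N : Set R)).index ≤ p := by
  have hpr := (Fact.out : p.Prime)
  obtain ⟨j, hj⟩ := IsPGroup.iff_card.1 (hR.to_subgroup N)
  have hj2 : j ≤ 2 := (Nat.pow_le_pow_iff_right hpr.one_lt).1 (hj ▸ hN)
  refine (CfsgLib.Transfer.index_centralizer_le_of_normal hR j N hj).trans ?_
  calc p ^ (j * (j - 1) / 2) ≤ p ^ 1 := Nat.pow_le_pow_right hpr.pos (by interval_cases j <;> norm_num)
    _ = p := pow_one p

/-- `|A| ≤ |A ∩ C| · |R : C|`. -/
theorem card_le_card_inf_mul_index (A C : Subgroup R) :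
    Nat.card A ≤ Nat.card (C ⊓ A : Subgroup R) * C.index := by
  rw [← CfsgLib.Coprime.card_mul_relIndex (inf_le_right : C ⊓ A ≤ A), inf_relIndex_right]
  refine Nat.mul_le_mul_left _ ?_
  rw [← relIndex_top_right C]
  exact relIndex_le_of_le_right le_top (by rw [relIndex_top_right]; exact index_ne_zero_of_finite)

/-- For `p` odd, a `p`-group with an elementary abelian subgroup of order `p³` has a normal one
of order at least `p³`. -/
theorem exists_normal_elementary_three (hp : p ≠ 2) (hR : IsPGroup p R) {E : Subgroup R}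
    (hEc : IsMulCommutative E) (hEe : ∀ a ∈ E, a ^ p = 1) (hE3 : p ^ 3 ≤ Nat.card E) :
    ∃ M : Subgroup R, M.Normal ∧ Cfsg.IsElementaryAbelian p M ∧ p ^ 3 ≤ Nat.card M := by
  have hpr := (Fact.out : p.Prime)
  obtain ⟨M, -, hM⟩ := Finite.exists_le_maximal
    (p := fun M : Subgroup R => M.Normal ∧ IsMulCommutative M ∧ ∀ a ∈ M, a ^ p = 1) (a := ⊥)
    ⟨inferInstance, inferInstance, fun a ha => by rw [mem_bot.1 ha, one_pow]⟩
  obtain ⟨hMn, hMc, hMe⟩ := hM.prop
  refine ⟨M, hMn, ⟨hMc, hMe⟩, ?_⟩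
  by_contra hlt
  push Not at hlt
  obtain ⟨j, hj⟩ := IsPGroup.iff_card.1 (hR.to_subgroup M)
  have hj2 : j ≤ 2 := by
    rw [hj] at hlt
    have := (Nat.pow_lt_pow_iff_right hpr.one_lt).1 hlt
    omega
  have hM2 : Nat.card M ≤ p ^ 2 := hj ▸ Nat.pow_le_pow_right hpr.pos hj2
  set C := centralizer (M : Set R)
  have hmem : ∀ x ∈ C, x ^ p = 1 → x ∈ M := fun x hx hxp =>
    CfsgLib.Transfer.mem_of_maximal_normal_abelian_exponent hR 1 (by simpa using hp) M
      (by simpa using hMe)
      (fun B hBn hBc hBe hMB => le_antisymm (hM.le_of_ge ⟨hBn, hBc, by simpa using hBe⟩ hMB) hMB)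
      hx (by simpa using hxp)
  have hsub : C ⊓ E ≤ M := fun x hx => hmem x hx.1 (hEe x hx.2)
  have h1 : p ^ 2 ≤ Nat.card (C ⊓ E : Subgroup R) := by
    have h := (card_le_card_inf_mul_index E C).trans
      (Nat.mul_le_mul_left _ (index_centralizer_le_prime hR M hM2))
    have : p ^ 2 * p ≤ Nat.card (C ⊓ E : Subgroup R) * p := by
      calc p ^ 2 * p = p ^ 3 := by ring
        _ ≤ _ := hE3.trans h
    exact Nat.le_of_mul_le_mul_right this hpr.pos
  have h2 : C ⊓ E = M := eq_of_le_of_card_ge hsub (hM2.trans h1)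
  have hEC : E ≤ C := fun e he => mem_centralizer_iff.2 fun m hm =>
    congrArg Subtype.val (hEc.is_comm.comm (⟨m, (h2.ge hm).2⟩ : E) ⟨e, he⟩)
  have hEM : E ≤ M := fun e he => hmem e (hEC he) (hEe e he)
  have := hE3.trans ((card_le_of_le hEM).trans hM2)
  exact absurd this (not_le.2 (Nat.pow_lt_pow_right hpr.one_lt (by norm_num)))

theorem exists_elementary_of_not_pRankLE {k : ℕ} (hR : IsPGroup p R) (h : ¬ Cfsg.PRankLE p k R) :
    ∃ E : Subgroup R, IsMulCommutative E ∧ (∀ a ∈ E, a ^ p = 1) ∧ p ^ (k + 1) ≤ Nat.card E := by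
  rw [Cfsg.PRankLE] at h
  push Not at h
  obtain ⟨E, hc, he, hlt⟩ := h
  refine ⟨E, hc, he, ?_⟩
  obtain ⟨j, hj⟩ := IsPGroup.iff_card.1 (hR.to_subgroup E)
  rw [hj] at hlt ⊢
  have := (Nat.pow_lt_pow_iff_right (Fact.out : p.Prime).one_lt).1 hlt
  exact Nat.pow_le_pow_right (Fact.out : p.Prime).pos this

/-- A normal elementary abelian subgroup of order `p²` lies in a normal self-centralizing
subgroup of rank at least three. -/
theorem exists_scn_three (hp : p ≠ 2) (hR : IsPGroup p R) (hr : ¬ Cfsg.PRankLE p 2 R)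
    (E : Subgroup R) [E.Normal] (hE : Cfsg.IsElementaryAbelian p E) (hE2 : Nat.card E = p ^ 2) :
    ∃ A : Subgroup R, E ≤ A ∧ A.Normal ∧ IsMulCommutative A ∧ centralizer (A : Set R) = A ∧
      ¬ Cfsg.PRankLE p 2 A := by
  have hpr := (Fact.out : p.Prime)
  obtain ⟨E3, hc3, he3, hk3⟩ := exists_elementary_of_not_pRankLE hR hr
  obtain ⟨M, hMn, hMe, hM3⟩ := exists_normal_elementary_three hp hR hc3 he3 hk3
  set C := centralizer (E : Set R)
  haveI : C.Normal := inferInstance
  -- a normal elementary abelian subgroup of order `≥ p³` containing `E`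
  obtain ⟨B, hBn, hEB, hBc, hBe, hB3⟩ : ∃ B : Subgroup R, B.Normal ∧ E ≤ B ∧ IsMulCommutative B ∧
      (∀ b ∈ B, b ^ p = 1) ∧ p ^ 3 ≤ Nat.card B := by
    have h2 : p ^ 2 ≤ Nat.card (C ⊓ M : Subgroup R) := by
      have h := (card_le_card_inf_mul_index M C).trans
        (Nat.mul_le_mul_left _ (index_centralizer_le_prime hR E hE2.le))
      have : p ^ 2 * p ≤ Nat.card (C ⊓ M : Subgroup R) * p := by
        calc p ^ 2 * p = p ^ 3 := by ring
          _ ≤ _ := hM3.trans h
      exact Nat.le_of_mul_le_mul_right this hpr.pos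
    haveI := hMn
    set B := E ⊔ (C ⊓ M) with hB
    have hBn : B.Normal := Subgroup.sup_normal _ _
    have hcomm : ∀ x ∈ (E : Set R) ∪ ((C ⊓ M : Subgroup R) : Set R), ∀ y ∈ (E : Set R) ∪ ((C ⊓ M : Subgroup R) : Set R),
        x * y = y * x := by
      rintro x (hx | hx) y (hy | hy)
      · exact congrArg Subtype.val (hE.1.is_comm.comm (⟨x, hx⟩ : E) ⟨y, hy⟩)
      · exact mem_centralizer_iff.1 hy.1 x hx
      · exact (mem_centralizer_iff.1 hx.1 y hy).symm
      · exact congrArg Subtype.val (hMe.1.is_comm.comm (⟨x, hx.2⟩ : M) ⟨y, hy.2⟩)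
    have hBc : IsMulCommutative B := by
      rw [hB, ← Subgroup.closure_eq E, ← Subgroup.closure_eq (C ⊓ M), ← Subgroup.closure_union]
      exact isMulCommutative_closure hcomm
    have hBe : ∀ b ∈ B, b ^ p = 1 := by
      intro b hb
      rw [hB, ← Subgroup.closure_eq E, ← Subgroup.closure_eq (C ⊓ M), ← Subgroup.closure_union] at hb
      induction hb using closure_induction with
      | mem z hz => exact hz.elim (fun h => hE.2 z h) (fun h => hMe.2 z h.2)
      | one => exact one_pow p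
      | mul u v hu hv ihu ihv =>
        have huv : Commute u v := by
          have hu' : u ∈ B := by
            rw [hB, ← Subgroup.closure_eq E, ← Subgroup.closure_eq (C ⊓ M), ← Subgroup.closure_union]; exact hu
          have hv' : v ∈ B := by
            rw [hB, ← Subgroup.closure_eq E, ← Subgroup.closure_eq (C ⊓ M), ← Subgroup.closure_union]; exact hv
          exact congrArg Subtype.val (hBc.is_comm.comm (⟨u, hu'⟩ : B) ⟨v, hv'⟩)
        rw [huv.mul_pow, ihu, ihv, one_mul]
      | inv u hu ihu => rw [inv_pow, ihu, inv_one]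
    by_cases h3 : p ^ 3 ≤ Nat.card B
    · exact ⟨B, hBn, le_sup_left, hBc, hBe, h3⟩
    obtain ⟨j, hj⟩ := IsPGroup.iff_card.1 (hR.to_subgroup B)
    have hBle : Nat.card B ≤ p ^ 2 := by
      rw [hj] at h3 ⊢
      exact Nat.pow_le_pow_right hpr.pos (by
        have := (Nat.pow_lt_pow_iff_right hpr.one_lt).1 (not_le.1 h3); omega)
    have hEB : E = B := eq_of_le_of_card_ge le_sup_left (hE2 ▸ hBle)
    have hCM : C ⊓ M = E := eq_of_le_of_card_ge (hEB ▸ (le_sup_right : C ⊓ M ≤ B)) (hE2 ▸ h2)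
    exact ⟨M, hMn, hCM ▸ inf_le_right, hMe.1, hMe.2, hM3⟩
  obtain ⟨A, hBA, hA⟩ := Finite.exists_le_maximal
    (p := fun A : Subgroup R => A.Normal ∧ IsMulCommutative A) (a := B) ⟨hBn, hBc⟩
  obtain ⟨hAn, hAc⟩ := hA.prop
  haveI := hAn
  haveI := hAc
  refine ⟨A, hEB.trans hBA, hAn, hAc, CfsgLib.Transfer.centralizer_eq_of_maximal_normal_abelian hR A
    (fun D hDn hDc hAD => le_antisymm (hA.le_of_ge ⟨hDn, hDc⟩ hAD) hAD), fun hrA => ?_⟩
  have hle : Nat.card (B.subgroupOf A) ≤ p ^ 2 := hrA _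
    (haveI := hBc; inferInstance) fun a ha => Subtype.ext (by simpa using hBe _ ha)
  rw [CfsgLib.Coprime.card_subgroupOf hBA] at hle
  exact absurd (hB3.trans hle) (not_le.2 (Nat.pow_lt_pow_right hpr.one_lt (by norm_num)))

end CfsgLib.OddLocal
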