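import Cfsg.Agent.Lib.OddLocal.RankTwoSmall
import Cfsg.Agent.Lib.OddLocal.RankTwoAction
import Cfsg.Agent.Lib.OddLocal.NormalRankThree
import Cfsg.Agent.Lib.Transfer.RankTwo
import Cfsg.Agent.Lib.Transfer.UniqueOrderP
import Cfsg.Agent.Lib.Coprime.Basic

/-!
`p`-groups of rank at most two with a coprime odd-order action and `[R, A] = R` (`p` odd).
-/

set_option autoImplicit false

open Subgroup
open scoped commutatorElement

namespace CfsgLib.OddLocal

variable {R : Type*} [Group R] [Finite R] {p : ℕ} [Fact p.Prime]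

/-- A group of exponent `p` and rank at most two has order at most `p³`. -/
theorem card_le_cube_of_exponent (hR : IsPGroup p R) (hexp : ∀ x : R, x ^ p = 1)
    (hrk : Cfsg.PRankLE p 2 R) : Nat.card R ≤ p ^ 3 := by
  obtain ⟨A, -, hA⟩ := Finite.exists_le_maximal
    (p := fun A : Subgroup R => A.Normal ∧ IsMulCommutative A) (a := ⊥) ⟨inferInstance, inferInstance⟩
  obtain ⟨hAn, hAc⟩ := hA.prop
  haveI := hAn
  haveI := hAc
  have hcen := CfsgLib.Transfer.centralizer_eq_of_maximal_normal_abelian hR A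
    fun B hBn hBc hAB => le_antisymm (hA.le_of_ge ⟨hBn, hBc⟩ hAB) hAB
  have h2 : Nat.card A ≤ p ^ 2 := hrk A hAc fun a _ => hexp a
  have h1 := index_centralizer_le_prime hR A h2
  rw [hcen] at h1
  calc Nat.card R = Nat.card A * A.index := (card_mul_index A).symm
    _ ≤ p ^ 2 * p := Nat.mul_le_mul h2 h1
    _ = p ^ 3 := by ring

theorem comm_zpow_of_central {H : Type*} [Group H] {x y : H} (hc : ∀ w : H, Commute ⁅x, y⁆ w) (m k : ℤ) :
    ⁅x ^ m, y ^ k⁆ = ⁅x, y⁆ ^ (m * k) := by
  set c := ⁅x, y⁆ with hc'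
  have key : ∀ {s t d : H}, (∀ w : H, Commute d w) → ⁅s, t⁆ = d → ∀ i : ℤ, ⁅s, t ^ i⁆ = d ^ i := by
    intro s t d hd hst i
    have h : s * t * s⁻¹ = d * t := by rw [← hst, commutatorElement_def]; group
    rw [commutatorElement_def, ← conj_zpow, h, (hd t).mul_zpow, mul_inv_cancel_right]
  have h1 : ⁅x, y ^ k⁆ = c ^ k := key hc hc'.symm k
  have h2 : ⁅y ^ k, x⁆ = (c ^ k)⁻¹ := by rw [← commutatorElement_inv, h1]
  have h3 := key (fun w => ((hc w).zpow_left k).inv_left) h2 m
  rw [← commutatorElement_inv, h3, inv_zpow, inv_inv, ← zpow_mul, mul_comm]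

theorem comm_mul_central_left {H : Type*} [Group H] {x v : H} (y : H) (hv : ∀ w : H, Commute w v) :
    ⁅x * v, y⁆ = ⁅x, y⁆ := by
  rw [commutatorElement_def, commutatorElement_def, mul_inv_rev, mul_assoc x v y, ← (hv y).eq]
  group

theorem comm_mul_central_right {H : Type*} [Group H] {y v : H} (x : H) (hv : ∀ w : H, Commute w v) :
    ⁅x, y * v⁆ = ⁅x, y⁆ := by
  rw [← commutatorElement_inv, comm_mul_central_left x hv, commutatorElement_inv]

/-- A cyclic normal invariant subgroup is central when `[R, A] = R`. -/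
theorem le_center_of_isCyclic {A : Type*} [Group A] (φ : A →* MulAut R)
    (hgen : closure {x : R | ∃ a : A, ∃ z : R, φ a z * z⁻¹ = x} = ⊤)
    (C : Subgroup R) [C.Normal] (hC : IsCyclic C) (hinv : ∀ a : A, ∀ c ∈ C, φ a c ∈ C) :
    C ≤ center R := by
  obtain ⟨c0, hc0⟩ := hC.exists_generator
  intro c hc
  rw [mem_center_iff]
  intro r
  have hle : (⊤ : Subgroup R) ≤ centralizer (C : Set R) := by
    rw [← hgen, closure_le]
    rintro _ ⟨a, g, rfl⟩
    obtain ⟨i, hi⟩ := hc0 ⟨_, (inferInstance : C.Normal).conj_mem _ c0.2 g⟩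
    simp only at hi
    have hg : ∀ w ∈ C, g * w * g⁻¹ = w ^ i := by
      intro w hw
      obtain ⟨j, hj⟩ := hc0 ⟨w, hw⟩
      have hw' : (c0 : R) ^ j = w := congrArg Subtype.val hj
      have hi' : (c0 : R) ^ i = g * (c0 : R) * g⁻¹ := congrArg Subtype.val hi
      rw [← hw', ← conj_zpow, ← hi', ← zpow_mul, ← zpow_mul, mul_comm]
    rw [SetLike.mem_coe, mem_centralizer_iff]
    intro w hw
    obtain ⟨v, hv⟩ : ∃ v ∈ C, φ a v = w := by
      have heq : C.map (φ a).toMonoidHom = C :=
        eq_of_le_of_card_ge (by rintro _ ⟨v, hv, rfl⟩; exact hinv a v hv)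
          (le_of_eq (card_map_of_injective (φ a).injective).symm)
      obtain ⟨v, hv, hv'⟩ := heq.ge hw
      exact ⟨v, hv, hv'⟩
    obtain ⟨hv, hvw⟩ := hv
    have h1 : φ a g * w * (φ a g)⁻¹ = w ^ i := by
      rw [← hvw, ← map_inv, ← map_mul, ← map_mul, hg v hv, map_zpow]
    set u := g⁻¹ * w * g
    have hu : u ∈ C := by
      have := (inferInstance : C.Normal).conj_mem w hw g⁻¹
      rwa [inv_inv] at this
    have h3 : u ^ i = w := by rw [← hg u hu]; simp [u, mul_assoc]
    calc w * (φ a g * g⁻¹) = u ^ i * φ a g * g⁻¹ := by rw [h3, mul_assoc]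
      _ = φ a g * u * g⁻¹ := by
          have hu1 : φ a g * u * (φ a g)⁻¹ = u ^ i := by
            obtain ⟨j, hj⟩ := hc0 ⟨u, hu⟩
            obtain ⟨k, hk⟩ := hc0 ⟨w, hw⟩
            obtain ⟨v', hv', hvu⟩ : ∃ v ∈ C, φ a v = u := by
              have heq : C.map (φ a).toMonoidHom = C :=
                eq_of_le_of_card_ge (by rintro _ ⟨v, hv, rfl⟩; exact hinv a v hv)
                  (le_of_eq (card_map_of_injective (φ a).injective).symm)
              obtain ⟨v, hv, hv'⟩ := heq.ge hu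
              exact ⟨v, hv, hv'⟩
            rw [← hvu, ← map_inv, ← map_mul, ← map_mul, hg v' hv', map_zpow]
          rw [← hu1]; group
      _ = φ a g * g⁻¹ * w := by simp [u, mul_assoc]
  exact (mem_centralizer_iff.1 (hle (mem_top r)) c hc).symm

/-- **Blackburn**: rank at most two, `p > 3`, `[R, A] = R`, `A` of odd order. -/
theorem structure_of_coprime_action (hp3 : 3 < p) (hR : IsPGroup p R) (hrk : Cfsg.PRankLE p 2 R)
    {A : Type*} [Group A] [Finite A] (hodd : Odd (Nat.card A)) (φ : A →* MulAut R)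
    (hcop : (Nat.card A).Coprime (Nat.card R))
    (hgen : closure {x : R | ∃ a : A, ∃ z : R, φ a z * z⁻¹ = x} = ⊤) :
    (∀ g h : R, Commute g h) ∨ ∃ O C : Subgroup R, O ⊔ C = ⊤ ∧ (∀ a ∈ O, ∀ b ∈ C, a * b = b * a) ∧
      ¬ IsMulCommutative O ∧ Nat.card O = p ^ 3 ∧ (∀ x ∈ O, x ^ p = 1) ∧ IsCyclic C ∧
      C = center R ∧ closure {x : R | x ∈ C ∧ x ^ p = 1} = ⁅O, O⁆ := by
  have hpr := (Fact.out : p.Prime)
  -- `Ω`
  let O : Subgroup R :=
    { carrier := {x | x ^ p = 1}
      one_mem' := one_pow p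
      mul_mem' := fun {a b} ha hb => CfsgLib.Transfer.pow_eq_one_of_mem_closure_rank_two hp3 hR hrk
        (mul_mem (subset_closure ha) (subset_closure hb))
      inv_mem' := fun {a} ha => by show a⁻¹ ^ p = 1; rw [inv_pow, show a ^ p = 1 from ha, inv_one] }
  have hOp : ∀ x ∈ O, x ^ p = 1 := fun x hx => hx
  have hrkO : Cfsg.PRankLE p 2 O := by
    intro E hEc hEe
    rw [← card_map_of_injective (f := O.subtype) (K := E) O.subtype_injective]
    refine hrk _ (haveI := hEc; inferInstance) ?_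
    rintro _ ⟨x, hx, rfl⟩
    simpa using congrArg Subtype.val (hEe x hx)
  have hO3 : Nat.card O ≤ p ^ 3 :=
    card_le_cube_of_exponent (hR.to_subgroup O) (fun x => Subtype.ext x.2) hrkO
  by_cases hsmall : Nat.card O ≤ p ^ 2
  · refine Or.inl (commute_of_small_omega hp3 R hR φ hcop hgen fun E hE => ?_)
    exact (card_le_of_le (K := O) (fun x hx => hE x hx)).trans hsmall
  refine Or.inr ?_
  have hOc : Nat.card O = p ^ 3 := by
    obtain ⟨j, hj⟩ := IsPGroup.iff_card.1 (hR.to_subgroup O)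
    rw [hj] at hsmall hO3 ⊢
    have h1 := (Nat.pow_le_pow_iff_right hpr.one_lt).1 hO3
    have h2 : ¬ j ≤ 2 := fun h => hsmall (Nat.pow_le_pow_right hpr.pos h)
    rw [show j = 3 by omega]
  have hOna : ¬ IsMulCommutative O := fun h => hsmall (hrk O h hOp)
  haveI hOn : O.Normal := ⟨fun x hx g => by show (g * x * g⁻¹) ^ p = 1; rw [conj_pow, hOp x hx, mul_one, mul_inv_cancel]⟩
  have hOinv : ∀ (a : A), ∀ x ∈ O, φ a x ∈ O := fun a x hx => by
    show (φ a x) ^ p = 1; rw [← map_pow, hOp x hx, map_one]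
  -- `Z`
  set Z := (center O).map O.subtype with hZ
  have hZO : Z ≤ O := map_subtype_le _
  have hZmem : ∀ z, z ∈ Z ↔ z ∈ O ∧ ∀ w ∈ O, w * z = z * w := by
    intro z
    constructor
    · rintro ⟨z, hz, rfl⟩
      exact ⟨z.2, fun w hw => congrArg Subtype.val (mem_center_iff.1 hz ⟨w, hw⟩)⟩
    · rintro ⟨hz, h⟩
      exact ⟨⟨z, hz⟩, mem_center_iff.2 fun w => Subtype.ext (h w w.2), rfl⟩
  have hclO : ∀ a b : O, ⁅a, b⁆ ∈ center O := commutator_mem_center_of_card_cube (hR.to_subgroup O) hOc.le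
  have hZp : Nat.card Z = p := by
    rw [hZ, card_map_of_injective O.subtype_injective]
    haveI : Nontrivial O := Finite.one_lt_card_iff_nontrivial.1 (hOc ▸ Nat.one_lt_pow (by norm_num) hpr.one_lt)
    haveI := (hR.to_subgroup O).center_nontrivial
    obtain ⟨l, hl⟩ := IsPGroup.iff_card.1 ((hR.to_subgroup O).to_subgroup (center O))
    have hl0 : l ≠ 0 := by
      rintro rfl
      exact (Finite.one_lt_card (α := center O)).ne' (by rw [hl, pow_zero])
    obtain ⟨k, hk⟩ := IsPGroup.iff_card.1 ((hR.to_subgroup O).to_quotient (center O))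
    have h1 := card_eq_card_quotient_mul_card_subgroup (center O)
    rw [hOc, hk, hl, ← pow_add] at h1
    have h2 := Nat.pow_right_injective hpr.two_le h1
    have hk2 : ¬ k ≤ 1 := fun hk1 => hOna (by
      haveI : IsCyclic (O ⧸ center O) := by
        interval_cases k
        · haveI : Subsingleton (O ⧸ center O) := (Nat.card_eq_one_iff_unique.1 (by simpa using hk)).1
          infer_instance
        · exact isCyclic_of_prime_card (by simpa using hk)
      exact ⟨⟨commutative_of_cyclic_center_quotient (QuotientGroup.mk' (center O)) (by simp)⟩⟩)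
    rw [hl, show l = 1 by omega, pow_one]
  haveI hZn : Z.Normal := ⟨fun z hz g => by
    obtain ⟨hzO, hzc⟩ := (hZmem z).1 hz
    refine (hZmem _).2 ⟨hOn.conj_mem z hzO g, fun w hw => ?_⟩
    have hwc : g⁻¹ * w * g ∈ O := by
      have := hOn.conj_mem w hw g⁻¹
      rwa [inv_inv] at this
    have h' := hzc _ hwc
    calc w * (g * z * g⁻¹) = g * ((g⁻¹ * w * g) * z) * g⁻¹ := by group
      _ = g * (z * (g⁻¹ * w * g)) * g⁻¹ := by rw [h']
      _ = g * z * g⁻¹ * w := by group⟩
  have hZcR : ∀ z ∈ Z, ∀ g : R, g * z = z * g := by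
    intro z hz g
    have hle : Z ≤ center R := by
      by_contra hnot
      obtain ⟨x, hx, hx1, hxc⟩ := exists_center_of_normal_ne_bot hR Z (fun h => by
        rw [h, card_bot] at hZp; exact hpr.ne_one hZp.symm)
      apply hnot
      have hz' : Z ⊓ center R ≠ ⊥ := fun h => hx1 (by
        have : x ∈ Z ⊓ center R := ⟨hx, hxc⟩
        rwa [h, mem_bot] at this)
      have h1 : Nat.card (Z ⊓ center R : Subgroup R) ∣ p := hZp ▸ card_dvd_of_le inf_le_left
      rcases (Nat.dvd_prime hpr).1 h1 with h2 | h2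
      · exact absurd (eq_bot_of_card_eq _ h2) hz'
      · exact inf_eq_left.1 (eq_of_le_of_card_ge inf_le_left (by rw [h2, hZp]))
    exact mem_center_iff.1 (hle hz) g
  have hcommZ : ∀ a ∈ O, ∀ b ∈ O, ⁅a, b⁆ ∈ Z := fun a ha b hb => ⟨⁅⟨a, ha⟩, ⟨b, hb⟩⁆, hclO _ _, rfl⟩
  have hOO : ⁅O, O⁆ = Z := by
    refine eq_of_le_of_card_ge (commutator_le.2 hcommZ) ?_
    rw [hZp]
    have hne : ⁅O, O⁆ ≠ ⊥ := fun h => hOna ⟨⟨fun a b => Subtype.ext (commutatorElement_eq_one_iff_mul_comm.1 (by
      have h' := commutator_mem_commutator a.2 b.2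
      rwa [h, mem_bot] at h'))⟩⟩
    obtain ⟨j, hj⟩ := IsPGroup.iff_card.1 (hR.to_subgroup ⁅O, O⁆)
    rw [hj]
    refine Nat.le_self_pow (fun h0 => hne (eq_bot_of_card_eq _ (by rw [hj, h0, pow_zero]))) p
  -- `C`
  set C := centralizer (O : Set R) with hC
  haveI hCn : C.Normal := inferInstance
  have hCinv : ∀ a : A, ∀ c ∈ C, φ a c ∈ C := fun a c hc => mem_centralizer_iff.2 fun w hw => by
    obtain ⟨v, rfl⟩ := (φ a).surjective w
    have hv : v ∈ O := by
      have h := hOinv a⁻¹ _ hw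
      rwa [← MulAut.mul_apply, ← map_mul, inv_mul_cancel, map_one, MulAut.one_apply] at h
    rw [← map_mul, ← map_mul, mem_centralizer_iff.1 hc v hv]
  have hOC : ∀ x ∈ O, x ∈ C → x ∈ Z := fun x hx hxC => (hZmem x).2 ⟨hx, fun w hw => mem_centralizer_iff.1 hxC w hw⟩
  have hCc : IsCyclic C := by
    refine CfsgLib.Transfer.isCyclic_of_card_omega_one_le (by omega) (hR.to_subgroup C) ?_
    refine le_trans ?_ hZp.le
    refine Nat.card_le_card_of_injective
      (fun x : closure {x : C | x ^ p = 1} => (⟨((x : C) : R), ?_⟩ : Z))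
      fun a b h => Subtype.ext (Subtype.ext (congrArg Subtype.val h :))
    have hle : closure {x : C | x ^ p = 1} ≤ Z.subgroupOf C := (closure_le _).2 fun y hy =>
      mem_subgroupOf.2 (hOC y (congrArg Subtype.val hy) y.2)
    exact hle x.2
  have hCcen : C ≤ center R := le_center_of_isCyclic φ hgen C hCc hCinv
  have hZC : Z ≤ C := fun z hz => mem_centralizer_iff.2 fun w _ => hZcR z hz w
  refine ⟨O, C, ?_, fun a ha b hb => mem_center_iff.1 (hCcen hb) a, hOna, hOc, hOp, hCc, le_antisymm hCcen (center_le_centralizer _), ?_⟩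
  swap
  · rw [hOO]
    refine le_antisymm ((closure_le _).2 fun x hx => hOC x hx.2 hx.1) fun z hz => ?_
    exact subset_closure ⟨hZC hz, hOp z (hZO hz)⟩
  -- `R = ΩC`
  by_contra hne
  -- the fixed line `L`
  let L : Subgroup R :=
    { carrier := {w | w ∈ O ∧ ∀ g : R, g * w * g⁻¹ * w⁻¹ ∈ Z}
      one_mem' := ⟨one_mem _, fun g => by simp⟩
      mul_mem' := fun {a b} ha hb => ⟨mul_mem ha.1 hb.1, fun g => by
        have e : g * (a * b) * g⁻¹ * (a * b)⁻¹
          = g * a * g⁻¹ * ((g * b * g⁻¹ * b⁻¹) * a⁻¹) := by group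
        rw [e, ← hZcR _ (hb.2 g) a⁻¹, ← mul_assoc]
        exact mul_mem (ha.2 g) (hb.2 g)⟩
      inv_mem' := fun {a} ha => ⟨inv_mem ha.1, fun g => by
        have h := inv_mem (ha.2 g)
        have e : g * a⁻¹ * g⁻¹ * a⁻¹⁻¹ = a⁻¹ * (g * a * g⁻¹ * a⁻¹)⁻¹ * a := by group
        rw [e, hZcR _ h a⁻¹, inv_mul_cancel_right]
        exact h⟩ }
  have hLO : L ≤ O := fun w hw => hw.1
  have hZL : Z ≤ L := fun z hz => ⟨hZO hz, fun g => by rw [hZcR z hz g, mul_inv_cancel_right, mul_inv_cancel]; exact one_mem _⟩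
  haveI hLn : L.Normal := ⟨fun w hw g => by
    have h := L.mul_mem (hZL (hw.2 g)) hw
    rwa [inv_mul_cancel_right] at h⟩
  have hLinv : ∀ a : A, ∀ w ∈ L, φ a w ∈ L := by
    intro a w hw
    refine ⟨hOinv a w hw.1, fun g => ?_⟩
    obtain ⟨g, rfl⟩ := (φ a).surjective g
    rw [← map_inv, ← map_inv, ← map_mul, ← map_mul, ← map_mul]
    obtain ⟨h1, h2⟩ := (hZmem _).1 (hw.2 g)
    refine (hZmem _).2 ⟨hOinv a _ h1, fun v hv => ?_⟩
    obtain ⟨v, rfl⟩ := (φ a).surjective v
    have hv' : v ∈ O := by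
      have h := hOinv a⁻¹ _ hv
      rwa [← MulAut.mul_apply, ← map_mul, inv_mul_cancel, map_one, MulAut.one_apply] at h
    rw [← map_mul, ← map_mul, h2 v hv']
  -- elements acting trivially on `O/Z` lie in `OC`
  have hS : ∀ r : R, (∀ w ∈ O, r * w * r⁻¹ * w⁻¹ ∈ Z) → r ∈ O ⊔ C := by
    intro r hr
    let S : Subgroup R :=
      { carrier := {r | ∀ w ∈ O, r * w * r⁻¹ * w⁻¹ ∈ Z}
        one_mem' := fun w _ => by simp
        mul_mem' := fun {a b} ha hb w hw => by
          have e : a * b * w * (a * b)⁻¹ * w⁻¹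
            = (a * (b * w * b⁻¹ * w⁻¹) * a⁻¹) * (a * w * a⁻¹ * w⁻¹) := by group
          rw [e, hZcR _ (hb w hw) a, mul_inv_cancel_right]
          exact mul_mem (hb w hw) (ha w hw)
        inv_mem' := fun {a} ha w hw => by
          have h := inv_mem (ha w hw)
          have e : a⁻¹ * w * a⁻¹⁻¹ * w⁻¹ = a⁻¹ * (a * w * a⁻¹ * w⁻¹)⁻¹ * a := by group
          rw [e, hZcR _ h a⁻¹, inv_mul_cancel_right]
          exact h }
    -- two generators of `O` modulo `Z`
    obtain ⟨e1, he1, he1Z⟩ : ∃ e ∈ O, e ∉ Z := SetLike.exists_of_lt (lt_of_le_of_ne hZO fun h => by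
      rw [h, hOc] at hZp
      exact absurd hZp (lt_self_pow₀ hpr.one_lt (by norm_num)).ne')
    obtain ⟨e2, he2, he2c⟩ : ∃ e ∈ O, e * e1 ≠ e1 * e := by
      by_contra hall
      push Not at hall
      exact he1Z ((hZmem e1).2 ⟨he1, hall⟩)
    let θ : S →* Z × Z :=
      { toFun := fun s => (⟨_, s.2 e1 he1⟩, ⟨_, s.2 e2 he2⟩)
        map_one' := by simp [Prod.ext_iff]
        map_mul' := fun a b => by
          have key : ∀ w, ∀ hw : w ∈ O, (a.1 * b.1) * w * (a.1 * b.1)⁻¹ * w⁻¹
              = (a.1 * w * a.1⁻¹ * w⁻¹) * (b.1 * w * b.1⁻¹ * w⁻¹) := by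
            intro w hw
            have e : (a.1 * b.1) * w * (a.1 * b.1)⁻¹ * w⁻¹
              = (a.1 * (b.1 * w * b.1⁻¹ * w⁻¹) * a.1⁻¹) * (a.1 * w * a.1⁻¹ * w⁻¹) := by group
            rw [e, hZcR _ (b.2 w hw) a.1, mul_inv_cancel_right]
            exact (hZcR _ (b.2 w hw) _).symm
          exact Prod.ext (Subtype.ext (key e1 he1)) (Subtype.ext (key e2 he2)) }
    have hgenO : O ≤ closure (({e1, e2} : Set R) ∪ (Z : Set R)) := by
      set K := closure (({e1, e2} : Set R) ∪ (Z : Set R)) with hK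
      have hKO : K ≤ O := (closure_le _).2 (by
        rintro w (hw | hw)
        · simp only [Set.mem_insert_iff, Set.mem_singleton_iff] at hw
          rcases hw with hw | hw <;> rw [hw] <;> assumption
        · exact hZO hw)
      by_contra hnot
      obtain ⟨j, hj⟩ := IsPGroup.iff_card.1 (hR.to_subgroup K)
      have hj2 : j ≤ 2 := by
        by_contra hj3
        exact hnot (eq_of_le_of_card_ge hKO (by rw [hOc, hj]; exact Nat.pow_le_pow_right hpr.pos (by omega))).ge
      have hcomm : ∀ u v : K, u * v = v * u := by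
        have : j = 0 ∨ j = 1 ∨ j = 2 := by omega
        rcases this with rfl | rfl | rfl
        · haveI : Subsingleton K := (Nat.card_eq_one_iff_unique.1 (by simpa using hj)).1
          exact fun u v => Subsingleton.elim _ _
        · haveI : IsCyclic K := isCyclic_of_prime_card (by simpa using hj)
          exact (IsCyclic.commGroup).mul_comm
        · exact IsPGroup.commutative_of_card_eq_prime_sq hj
      exact he2c (congrArg Subtype.val (hcomm ⟨e2, subset_closure (Or.inl (Or.inr rfl))⟩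
        ⟨e1, subset_closure (Or.inl (Or.inl rfl))⟩))
    have hker : ∀ s : S, θ s = 1 → (s : R) ∈ C := by
      intro s hs
      have h1 : s.1 * e1 * s.1⁻¹ * e1⁻¹ = 1 := congrArg (fun t : Z × Z => (t.1 : R)) hs
      have h2 : s.1 * e2 * s.1⁻¹ * e2⁻¹ = 1 := congrArg (fun t : Z × Z => (t.2 : R)) hs
      have hle : O ≤ centralizer ({s.1} : Set R) := hgenO.trans ((closure_le _).2 (by
        rintro w (hw | hw)
        · simp only [Set.mem_insert_iff, Set.mem_singleton_iff] at hw
          rcases hw with hw | hw <;> rw [hw] <;> refine mem_centralizer_singleton_iff.2 ?_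
          · exact (mul_inv_eq_iff_eq_mul.1 (mul_inv_eq_one.1 h1)).symm
          · exact (mul_inv_eq_iff_eq_mul.1 (mul_inv_eq_one.1 h2)).symm
        · exact mem_centralizer_singleton_iff.2 (hZcR w hw _).symm))
      exact mem_centralizer_iff.2 fun w hw => mem_centralizer_singleton_iff.1 (hle hw)
    have hOS : O ≤ S := fun x hx w hw => by
      simpa [commutatorElement_def] using hcommZ x hx w hw
    have hCS : C ≤ S := fun x hx w hw => by
      rw [← mem_centralizer_iff.1 hx w hw, mul_inv_cancel_right, mul_inv_cancel]; exact one_mem _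
    have hcard : Nat.card S ≤ Nat.card C * p ^ 2 := by
      rw [← θ.ker.card_mul_index, Subgroup.index_ker]
      refine Nat.mul_le_mul ?_ ?_
      · exact Nat.card_le_card_of_injective (fun s : θ.ker => (⟨(s.1 : R), hker s.1 s.2⟩ : C))
          fun a b h => Subtype.ext (Subtype.ext (congrArg Subtype.val h :))
      · refine (card_le_card_group _).trans (le_of_eq ?_)
        rw [Nat.card_prod, hZp, sq]
    have hsup : Nat.card C * p ^ 2 ≤ Nat.card (O ⊔ C : Subgroup R) := by
      have h1 : Nat.card O ≤ Nat.card (O.map (QuotientGroup.mk' C)) * p := by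
        set g := (QuotientGroup.mk' C).comp O.subtype
        rw [← g.ker.card_mul_index, Subgroup.index_ker, mul_comm (Nat.card g.ker)]
        refine Nat.mul_le_mul (le_of_eq (by rw [MonoidHom.range_comp, range_subtype])) ?_
        rw [← hZp]
        exact Nat.card_le_card_of_injective
          (fun s : g.ker => (⟨((s.1 : O) : R), hOC _ s.1.2 ((QuotientGroup.eq_one_iff _).1 (MonoidHom.mem_ker.1 s.2))⟩ : Z))
          fun a b h => Subtype.ext (Subtype.ext (congrArg Subtype.val h :))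
      have h2 : p ^ 2 ≤ Nat.card (O.map (QuotientGroup.mk' C)) := by
        refine Nat.le_of_mul_le_mul_right ?_ hpr.pos
        calc p ^ 2 * p = Nat.card O := by rw [hOc]; ring
          _ ≤ _ := h1
      calc Nat.card C * p ^ 2 ≤ Nat.card C * Nat.card ((O ⊔ C).map (QuotientGroup.mk' C)) :=
            Nat.mul_le_mul_left _ (h2.trans (card_le_of_le (map_mono le_sup_left)))
        _ = Nat.card (O ⊔ C : Subgroup R) := by
            set g := (QuotientGroup.mk' C).comp (O ⊔ C).subtype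
            rw [← g.ker.card_mul_index, Subgroup.index_ker, MonoidHom.range_comp, range_subtype]
            congr 1
            refine Nat.card_congr ?_
            exact
              { toFun := fun c => ⟨⟨(c : R), mem_sup_right c.2⟩, MonoidHom.mem_ker.2 ((QuotientGroup.eq_one_iff _).2 c.2)⟩
                invFun := fun s => ⟨((s.1 : (O ⊔ C : Subgroup R)) : R), (QuotientGroup.eq_one_iff _).1 (MonoidHom.mem_ker.1 s.2)⟩
                left_inv := fun c => rfl
                right_inv := fun s => rfl }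
    have heq : O ⊔ C = S := eq_of_le_of_card_ge (sup_le hOS hCS) (hcard.trans hsup)
    exact heq.ge hr
  have hLne : L ≠ O := fun h => hne (eq_top_iff.2 fun r _ => hS r fun w hw => (h.ge hw).2 r)
  have hZLne : Z ≠ L := by
    obtain ⟨l, hl, hlZ, hlc⟩ := exists_central_mod hR Z O (lt_of_le_of_ne hZO fun h => by
      rw [h, hOc] at hZp
      exact absurd hZp (lt_self_pow₀ hpr.one_lt (by norm_num)).ne')
    exact fun h => hlZ (h.ge ⟨hl, hlc⟩)
  have hL2 : Nat.card L = p ^ 2 := by
    obtain ⟨j, hj⟩ := IsPGroup.iff_card.1 (hR.to_subgroup L)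
    have h1 : Nat.card L < Nat.card O := lt_of_le_of_ne (card_le_of_le hLO) fun h => hLne (eq_of_le_of_card_ge hLO h.ge)
    have h2 : Nat.card Z < Nat.card L := lt_of_le_of_ne (card_le_of_le hZL) fun h => hZLne (eq_of_le_of_card_ge hZL h.ge)
    rw [hj, hOc] at h1
    rw [hj, hZp] at h2
    rw [hj]
    have e1 := (Nat.pow_lt_pow_iff_right hpr.one_lt).1 h1
    have e2 : 1 < j := (Nat.pow_lt_pow_iff_right hpr.one_lt).1 (by rwa [pow_one])
    rw [show j = 2 by omega]
  have hLc : ∀ u ∈ L, ∀ v ∈ L, u * v = v * u := fun u hu v hv =>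
    congrArg Subtype.val (IsPGroup.commutative_of_card_eq_prime_sq hL2 ⟨u, hu⟩ ⟨v, hv⟩)
  obtain ⟨e, heO, heL⟩ : ∃ e ∈ O, e ∉ L := SetLike.exists_of_lt (lt_of_le_of_ne hLO hLne)
  have hOgen : ∀ w ∈ O, ∃ i : ℕ, ∃ v ∈ L, w = e ^ i * v := by
    intro w hw
    set f := (QuotientGroup.mk' L).comp O.subtype
    have hrange : Nat.card f.range = p := by
      have h := f.ker.card_mul_index
      have hk : Nat.card f.ker = p ^ 2 := by
        rw [← hL2]
        refine Nat.card_congr
          { toFun := fun s => ⟨((s.1 : O) : R), (QuotientGroup.eq_one_iff _).1 (MonoidHom.mem_ker.1 s.2)⟩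
            invFun := fun s => ⟨⟨s, hLO s.2⟩, MonoidHom.mem_ker.2 ((QuotientGroup.eq_one_iff _).2 s.2)⟩
            left_inv := fun s => rfl
            right_inv := fun s => rfl }
      rw [hk, Subgroup.index_ker, hOc, show p ^ 3 = p ^ 2 * p by ring] at h
      exact Nat.eq_of_mul_eq_mul_left (pow_pos hpr.pos 2) h
    haveI : IsCyclic f.range := isCyclic_of_prime_card hrange
    have hene : (⟨f ⟨e, heO⟩, ⟨_, rfl⟩⟩ : f.range) ≠ 1 := fun h =>
      heL ((QuotientGroup.eq_one_iff e).1 (congrArg Subtype.val h))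
    have hord : orderOf (⟨f ⟨e, heO⟩, ⟨_, rfl⟩⟩ : f.range) = Nat.card f.range :=
      hrange ▸ orderOf_eq_prime (hrange ▸ pow_card_eq_one') hene
    have hgen' : zpowers (⟨f ⟨e, heO⟩, ⟨_, rfl⟩⟩ : f.range) = ⊤ :=
      eq_top_of_card_eq _ ((Nat.card_zpowers _).trans hord)
    have hmem : (⟨f ⟨w, hw⟩, ⟨_, rfl⟩⟩ : f.range) ∈ zpowers (⟨f ⟨e, heO⟩, ⟨_, rfl⟩⟩ : f.range) := by
      rw [hgen']; exact mem_top _
    obtain ⟨i, hi⟩ := (IsOfFinOrder.mem_powers_iff_mem_zpowers (isOfFinOrder_of_finite _)).2 hmem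
    refine ⟨i, (e ^ i)⁻¹ * w, ?_, by rw [mul_inv_cancel_left]⟩
    have h := congrArg Subtype.val hi
    simp only [SubmonoidClass.coe_pow] at h
    rw [← QuotientGroup.eq]
    rw [← map_pow] at h
    exact h
  -- `T`
  set T := centralizer (L : Set R) with hT
  have heT : e ∉ T := by
    intro h
    refine hZLne (le_antisymm hZL fun l hl => (hZmem l).2 ⟨hLO hl, fun w hw => ?_⟩)
    obtain ⟨i, v, hv, rfl⟩ := hOgen w hw
    have h1 : Commute l (e ^ i) := ((show Commute l e from mem_centralizer_iff.1 h l hl).pow_right i)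
    exact ((h1.mul_right (hLc l hl v hv)).eq).symm
  have hTi : T.index = p := by
    obtain ⟨k, hk⟩ := hR.index T
    have h1 := index_centralizer_le_prime hR L hL2.le
    rw [hk] at h1 ⊢
    have h2 : k ≤ 1 := (Nat.pow_le_pow_iff_right hpr.one_lt).1 (by rwa [pow_one])
    have h3 : k ≠ 0 := fun h0 => heT (by
      rw [(Subgroup.index_eq_one (H := T)).1 (by rw [hk, h0, pow_zero])]; exact mem_top e)
    rw [show k = 1 by omega, pow_one]
  haveI hTn : T.Normal := inferInstance
  have hte : ∀ t : R, ⁅t, e⁆ ∈ L := by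
    intro t
    -- `R` acts trivially on `O/L`
    obtain ⟨i, v, hv, hi⟩ := hOgen _ (hOn.conj_mem e heO t)
    set f := QuotientGroup.mk' L
    obtain ⟨n, hn⟩ := IsPGroup.iff_orderOf.1 hR t
    have he0 : f (t * e * t⁻¹) = f e ^ i := by
      rw [hi, map_mul, show f v = 1 from (QuotientGroup.eq_one_iff v).2 hv, mul_one, map_pow]
    have hiter : ∀ k : ℕ, f (t ^ k * e * (t ^ k)⁻¹) = f e ^ i ^ k := by
      intro k
      induction k with
      | zero => simp
      | succ k ih =>
        rw [show t ^ (k + 1) * e * (t ^ (k + 1))⁻¹ = t * (t ^ k * e * (t ^ k)⁻¹) * t⁻¹ by rw [pow_succ']; group,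
          map_mul, map_mul, ih, map_inv, ← conj_pow, ← map_inv, ← map_mul, ← map_mul, he0, ← pow_mul, pow_succ']
    have h1 := hiter (p ^ n)
    rw [← hn, pow_orderOf_eq_one, one_mul, inv_one, mul_one, hn] at h1
    have hfe : orderOf (f e) = p := orderOf_eq_prime (by rw [← map_pow, hOp e heO, map_one])
      (fun h => heL ((QuotientGroup.eq_one_iff e).1 h))
    have h2 : (i : ZMod p) = 1 := by
      nth_rewrite 1 [← pow_one (f e)] at h1
      rw [pow_eq_pow_iff_modEq, hfe] at h1
      have := (ZMod.natCast_eq_natCast_iff _ _ _).2 h1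
      push_cast at this
      rw [ZMod.pow_card_pow] at this
      exact this.symm
    have h3 : f (t * e * t⁻¹) = f e := by
      rw [he0]
      conv_rhs => rw [← pow_one (f e)]
      rw [pow_eq_pow_iff_modEq, hfe]
      exact (ZMod.natCast_eq_natCast_iff _ _ _).1 (by rw [h2, Nat.cast_one])
    rw [commutatorElement_def, ← QuotientGroup.eq_one_iff]
    show f (t * e * t⁻¹ * e⁻¹) = 1
    rw [map_mul, h3, map_inv, mul_inv_cancel]
  let θ : T →* L :=
    { toFun := fun t => ⟨⁅(t : R), e⁆, hte t⟩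
      map_one' := Subtype.ext (commutatorElement_one_left e)
      map_mul' := fun s t => Subtype.ext (by
        show ⁅(s : R) * t, e⁆ = ⁅(s : R), e⁆ * ⁅(t : R), e⁆
        have h1 : (s : R) * ⁅(t : R), e⁆ = ⁅(t : R), e⁆ * s := (mem_centralizer_iff.1 s.2 _ (hte t)).symm
        calc ⁅(s : R) * t, e⁆ = ((s : R) * ⁅(t : R), e⁆) * (s : R)⁻¹ * ⁅(s : R), e⁆ := by
              simp [commutatorElement_def, mul_assoc]
          _ = ⁅(t : R), e⁆ * ⁅(s : R), e⁆ := by rw [h1, mul_inv_cancel_right]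
          _ = _ := hLc _ (hte t) _ (hte s)) }
  have hkerθ : ∀ t : T, θ t = 1 → (t : R) ∈ C := by
    intro t ht
    refine mem_centralizer_iff.2 fun w hw => ?_
    obtain ⟨i, v, hv, rfl⟩ := hOgen w hw
    have h1 : Commute (t : R) e := commutatorElement_eq_one_iff_mul_comm.1 (congrArg Subtype.val ht)
    have h2 : Commute (t : R) v := (mem_centralizer_iff.1 t.2 v hv).symm
    exact ((h1.pow_right i).mul_right h2).eq.symm
  have hLT : L ≤ T := fun l hl => mem_centralizer_iff.2 fun m hm => hLc m hm l hl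
  have hCT : C ≤ T := fun c hc => mem_centralizer_iff.2 fun m _ => mem_center_iff.1 (hCcen hc) m
  have hθL : ∀ w, ∀ hw : w ∈ L, ((θ ⟨w, hLT hw⟩ : L) : R) ∈ Z := fun w hw => hcommZ w (hLO hw) e heO
  -- `T ≠ LC`
  obtain ⟨u, huT, huLC⟩ : ∃ u ∈ T, u ∉ O ⊔ C := by
    by_contra hall
    push Not at hall
    refine hne (eq_top_iff.2 ?_)
    have hTe : T ⊔ zpowers e = ⊤ := by
      by_contra h
      obtain ⟨M, hM, hle⟩ := (eq_top_or_exists_le_coatom (T ⊔ zpowers e)).resolve_left h
      obtain ⟨-, hMi⟩ := CfsgLib.Transfer.coatom_index_eq_prime hR hM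
      exact heT ((eq_of_le_of_card_ge (le_sup_left.trans hle) (by
        have h1 := card_mul_index T
        have h2 := card_mul_index M
        rw [hTi] at h1
        rw [hMi] at h2
        exact (Nat.eq_of_mul_eq_mul_right hpr.pos (h2.trans h1.symm)).le)).ge (hle (mem_sup_right (mem_zpowers e))))
    rw [← hTe]
    exact sup_le hall (zpowers_le.2 (mem_sup_left heO))
  set l := ⁅u, e⁆ with hl
  have hlL : l ∈ L := hte u
  have hlZ : l ∉ Z := by
    intro h
    refine huLC (hS u fun w hw => ?_)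
    obtain ⟨i, v, hv, rfl⟩ := hOgen w hw
    have h1 : u * v * u⁻¹ = v := by rw [← mem_centralizer_iff.1 huT v hv, mul_inv_cancel_right]
    have h2 : u * e * u⁻¹ = l * e := by rw [hl, commutatorElement_def]; group
    have h3 : u * (e ^ i * v) * u⁻¹ * (e ^ i * v)⁻¹ = l ^ i := by
      calc u * (e ^ i * v) * u⁻¹ * (e ^ i * v)⁻¹
          = (u * e * u⁻¹) ^ i * (u * v * u⁻¹) * v⁻¹ * (e ^ i)⁻¹ := by rw [conj_pow]; group
        _ = l ^ i := by
          rw [h1, h2, (show Commute l e from (hZcR l h e).symm).mul_pow]; group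
    rw [h3]
    exact pow_mem h i
  set z := ⁅e, l⁆ with hz
  have hzZ : z ∈ Z := hcommZ e heO l (hLO hlL)
  have hz1 : z ≠ 1 := by
    intro h
    refine hlZ ((hZmem l).2 ⟨hLO hlL, fun w hw => ?_⟩)
    obtain ⟨i, v, hv, rfl⟩ := hOgen w hw
    have h1 : Commute l (e ^ i) := (show Commute l e from
      (commutatorElement_eq_one_iff_mul_comm.1 h).symm).pow_right i
    exact ((h1.mul_right (hLc l hlL v hv)).eq).symm
  -- `T` is abelian
  have hTab : ∀ s ∈ T, ∀ t ∈ T, s * t = t * s := by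
    set J := L ⊔ C ⊔ zpowers u
    have hJT : J ≤ T := sup_le (sup_le hLT hCT) (zpowers_le.2 huT)
    have hJ : J = T := by
      refine le_antisymm hJT fun t ht => ?_
      set K := (J.subgroupOf T).map θ with hK
      have hKtop : K = ⊤ := by
        refine eq_top_of_le_card _ ?_
        rw [hL2]
        obtain ⟨j, hj⟩ := IsPGroup.iff_card.1 (((hR.to_subgroup L).to_subgroup K))
        rw [hj]
        refine Nat.pow_le_pow_right hpr.pos ?_
        by_contra hlt
        have hl' : (⟨l, hlL⟩ : L) ∈ K := ⟨⟨u, huT⟩, mem_subgroupOf.2 (mem_sup_right (mem_zpowers u)), rfl⟩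
        have hz' : (⟨z⁻¹, hZL (inv_mem hzZ)⟩ : L) ∈ K := by
          refine ⟨⟨l, hLT hlL⟩, mem_subgroupOf.2 (mem_sup_left (mem_sup_left hlL)), Subtype.ext ?_⟩
          show ⁅l, e⁆ = z⁻¹
          rw [hz, commutatorElement_inv]
        have hKc : Nat.card K ≤ p := by
          rw [hj]
          calc p ^ j ≤ p ^ 1 := Nat.pow_le_pow_right hpr.pos (by omega)
            _ = p := pow_one p
        set zk : L := ⟨z⁻¹, hZL (inv_mem hzZ)⟩
        have hzo : orderOf zk = p := orderOf_eq_prime (Subtype.ext (hOp _ (hZO (inv_mem hzZ))))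
          (fun h => hz1 (inv_eq_one.1 (congrArg Subtype.val h)))
        have hKz : zpowers zk = K := eq_of_le_of_card_ge (zpowers_le.2 hz') (by rw [Nat.card_zpowers, hzo]; exact hKc)
        obtain ⟨i, hi⟩ := hKz.ge hl'
        refine hlZ ?_
        have h := congrArg Subtype.val hi
        simp only [SubgroupClass.coe_zpow] at h
        rw [← h]
        exact zpow_mem (inv_mem hzZ) i
      obtain ⟨j, hj, hjt⟩ : θ ⟨t, ht⟩ ∈ K := hKtop ▸ mem_top _
      have hc : t * (j : R)⁻¹ ∈ C := hkerθ (⟨t, ht⟩ * j⁻¹) (by rw [map_mul, map_inv, hjt, mul_inv_cancel])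
      have := J.mul_mem (mem_sup_left (mem_sup_right hc)) (mem_subgroupOf.1 hj)
      rwa [inv_mul_cancel_right] at this
    have hJc : IsMulCommutative J := by
      show IsMulCommutative ↥(L ⊔ C ⊔ zpowers u)
      rw [← Subgroup.closure_eq L, ← Subgroup.closure_eq C, zpowers_eq_closure, ← Subgroup.closure_union,
        ← Subgroup.closure_union]
      refine isMulCommutative_closure ?_
      rintro s ((hs | hs) | rfl) t ((ht | ht) | rfl)
      · exact hLc s hs t ht
      · exact mem_center_iff.1 (hCcen ht) s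
      · exact mem_centralizer_iff.1 huT s hs
      · exact (mem_center_iff.1 (hCcen hs) t).symm
      · exact mem_center_iff.1 (hCcen ht) s
      · exact (mem_center_iff.1 (hCcen hs) _).symm
      · exact (mem_centralizer_iff.1 huT t ht).symm
      · exact mem_center_iff.1 (hCcen ht) _
      · rfl
    intro s hs t ht
    rw [hJ] at hJc
    exact congrArg Subtype.val (hJc.is_comm.comm (⟨s, hs⟩ : T) ⟨t, ht⟩)
  -- `T = ⟨u⟩ L`
  have hTp : ∀ t ∈ T, t ^ p ∈ C := fun t ht => hkerθ (⟨t, ht⟩ ^ p) (by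
    rw [map_pow]; exact Subtype.ext (hOp _ (hLO (θ ⟨t, ht⟩).2)))
  have hupgen : C ≤ zpowers (u ^ p) := by
    obtain ⟨c0, hc0⟩ := hCc.exists_generator
    obtain ⟨i, hi⟩ := hc0 ⟨u ^ p, hTp u huT⟩
    have hi' : (c0 : R) ^ i = u ^ p := congrArg Subtype.val hi
    have hpi : ¬ (p : ℤ) ∣ i := by
      rintro ⟨k, rfl⟩
      refine huLC ?_
      set c := (c0 : R) ^ k
      have hcc : c ∈ C := C.zpow_mem c0.2 k
      have hcu : Commute u c := mem_center_iff.1 (hCcen hcc) u
      have h1 : u * c⁻¹ ∈ O := by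
        show (u * c⁻¹) ^ p = 1
        rw [hcu.inv_right.mul_pow, inv_pow, ← hi', mul_inv_eq_one, mul_comm, zpow_mul, zpow_natCast]
      have := (O ⊔ C).mul_mem (mem_sup_left h1) (mem_sup_right hcc)
      rwa [inv_mul_cancel_right] at this
    intro c hc
    obtain ⟨n, hn⟩ := IsPGroup.iff_orderOf.1 hR (c0 : R)
    have hcop' : IsCoprime i ((p : ℤ) ^ n) :=
      ((Nat.prime_iff_prime_int.1 hpr).coprime_iff_not_dvd.2 hpi).symm.pow_right
    obtain ⟨s, t, hst⟩ := hcop'
    obtain ⟨j, hj⟩ := hc0 ⟨c, hc⟩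
    have hj' : (c0 : R) ^ j = c := congrArg Subtype.val hj
    refine ⟨s * j, ?_⟩
    show (u ^ p) ^ (s * j) = c
    have h0 : (c0 : R) ^ ((p : ℤ) ^ n) = 1 := by
      rw [← Nat.cast_pow, zpow_natCast, ← hn, pow_orderOf_eq_one]
    have h1 : (c0 : R) ^ (1 : ℤ) = c0 ^ (i * s) := by
      rw [← hst, zpow_add, mul_comm t, zpow_mul (c0 : R) _ t, h0, one_zpow, mul_one, mul_comm]
    rw [zpow_one] at h1
    rw [← hi', ← zpow_mul, ← mul_assoc, zpow_mul, ← h1, hj']
  have hTgen : ∀ t ∈ T, ∃ i : ℤ, ∃ v ∈ L, t = u ^ i * v := by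
    intro t ht
    obtain ⟨i, hi⟩ := hupgen (hTp t ht)
    have hi' : (u ^ p) ^ i = t ^ p := hi
    refine ⟨i, (u ^ i)⁻¹ * t, ?_, by rw [mul_inv_cancel_left]⟩
    have hT' : (u ^ i)⁻¹ * t ∈ T := T.mul_mem (T.inv_mem (T.zpow_mem huT i)) ht
    have hO' : (u ^ i)⁻¹ * t ∈ O := by
      show ((u ^ i)⁻¹ * t) ^ p = 1
      have hc : Commute (u ^ i)⁻¹ t := hTab _ (T.inv_mem (T.zpow_mem huT i)) t ht
      rw [hc.mul_pow, inv_pow, inv_mul_eq_one, ← hi', ← zpow_natCast, ← zpow_natCast, ← zpow_mul, ← zpow_mul,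
        mul_comm]
    obtain ⟨j, v, hv, hjv⟩ := hOgen _ hO'
    by_cases hj : e ^ j ∈ L
    · rw [hjv]; exact L.mul_mem hj hv
    · exfalso
      apply heT
      have hej : e ^ j ∈ T := by
        have := T.mul_mem hT' (T.inv_mem (hLT hv))
        rwa [hjv, mul_inv_cancel_right] at this
      have hcop' : Nat.Coprime j (orderOf e) := by
        rw [orderOf_eq_prime (hOp e heO) (fun h => heL (h ▸ one_mem _)), Nat.coprime_comm, hpr.coprime_iff_not_dvd]
        rintro ⟨k, rfl⟩
        exact hj (by rw [pow_mul, hOp e heO, one_pow]; exact one_mem _)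
      obtain ⟨k, hk⟩ := exists_pow_eq_self_of_coprime hcop'
      exact hk ▸ T.pow_mem hej k
  -- the characters of the action on `O/L`, `R/OC` and `Z`
  have hOCinv : ∀ a : A, (O ⊔ C).map (φ a).toMonoidHom ≤ O ⊔ C := fun a => by
    rw [Subgroup.map_sup]
    exact sup_le_sup (by rintro _ ⟨x, hx, rfl⟩; exact hOinv a x hx) (by rintro _ ⟨x, hx, rfl⟩; exact hCinv a x hx)
  have hTinv : ∀ a : A, ∀ t ∈ T, φ a t ∈ T := fun a t ht => mem_centralizer_iff.2 fun w hw => by
    obtain ⟨w, rfl⟩ := (φ a).surjective w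
    have hw' : w ∈ L := by
      have h := hLinv a⁻¹ _ hw
      rwa [← MulAut.mul_apply, ← map_mul, inv_mul_cancel, map_one, MulAut.one_apply] at h
    rw [← map_mul, ← map_mul, mem_centralizer_iff.1 ht w hw']
  set g := QuotientGroup.mk' Z
  set f := QuotientGroup.mk' L
  have hgL : ∀ v ∈ L, ∀ x : R ⧸ Z, Commute x (g v) := by
    intro v hv x
    obtain ⟨x, rfl⟩ := QuotientGroup.mk'_surjective Z x
    refine commutatorElement_eq_one_iff_commute.1 ?_
    rw [← map_commutatorElement]
    exact (QuotientGroup.eq_one_iff _).2 (by rw [commutatorElement_def]; exact hv.2 x)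
  have hfe : orderOf (f e) = p := orderOf_eq_prime (by rw [← map_pow, hOp e heO, map_one])
    (fun h => heL ((QuotientGroup.eq_one_iff e).1 h))
  have hfix : ∀ a : A, φ a e * e⁻¹ ∈ L := by
    intro a
    obtain ⟨lam, v', hv', he'⟩ := hOgen _ (hOinv a e heO)
    obtain ⟨m, v, hv, hu'⟩ := hTgen _ (hTinv a u huT)
    have hpm : ¬ (p : ℤ) ∣ m := by
      rintro ⟨m', rfl⟩
      refine huLC ?_
      have h1 : φ a u ∈ O ⊔ C := by
        rw [hu', zpow_mul, zpow_natCast]
        exact mul_mem (mem_sup_right (C.zpow_mem (hTp u huT) m')) (mem_sup_left (hLO hv))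
      have h2 := hOCinv a⁻¹ ⟨_, h1, rfl⟩
      rw [MulEquiv.coe_toMonoidHom, ← MulAut.mul_apply, ← map_mul, inv_mul_cancel, map_one, MulAut.one_apply] at h2
      exact h2
    -- the image of `l`
    obtain ⟨z', hz', hl'⟩ : ∃ z' ∈ Z, φ a l = l ^ (m * lam) * z' := by
      refine ⟨(l ^ (m * lam))⁻¹ * φ a l, ?_, by rw [mul_inv_cancel_left]⟩
      rw [← QuotientGroup.eq_one_iff]
      show g ((l ^ (m * lam))⁻¹ * φ a l) = 1
      rw [map_mul, map_inv, inv_mul_eq_one, map_zpow, hl]
      simp only [map_commutatorElement]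
      rw [hu', he', map_mul, map_mul, map_zpow, map_pow]
      have hcl : ∀ x : R ⧸ Z, Commute ⁅g u, g e⁆ x := fun x => by
        rw [← map_commutatorElement]; exact (hgL _ hlL x).symm
      rw [comm_mul_central_left _ (hgL v hv), comm_mul_central_right _ (hgL v' hv'),
        ← zpow_natCast (g e) lam, comm_zpow_of_central hcl]
    -- the image of `z`
    have hz1' : φ a z = z ^ ((lam : ℤ) * (m * lam)) := by
      rw [hz, map_commutatorElement, he', hl']
      have hcl : ∀ x : R, Commute ⁅e, l⁆ x := fun x => (hZcR z hzZ x).symm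
      rw [comm_mul_central_right _ (fun x => hZcR z' hz' x)]
      have hvl : Commute v' (l ^ (m * lam)) := (show Commute v' l from hLc v' hv' l hlL).zpow_right _
      have e1 : ⁅e ^ lam * v', l ^ (m * lam)⁆ = ⁅e ^ lam, l ^ (m * lam)⁆ := by
        simp only [commutatorElement_def, mul_inv_rev, mul_assoc]
        rw [← mul_assoc v', hvl.eq, mul_assoc, mul_inv_cancel_left]
      rw [e1, ← zpow_natCast e lam, comm_zpow_of_central hcl]
    obtain ⟨j, hj⟩ := hupgen (hZC hzZ)
    have hz2' : φ a z = z ^ m := by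
      have hj' : (u ^ p) ^ j = z := hj
      have hvp : v ^ p = 1 := hOp v (hLO hv)
      rw [← hj', map_zpow, map_pow, hu',
        (show Commute (u ^ m) v from hTab _ (T.zpow_mem huT m) v (hLT hv)).mul_pow, hvp, mul_one,
        ← zpow_natCast, ← zpow_natCast, ← zpow_mul, ← zpow_mul, ← zpow_mul, ← zpow_mul]
      congr 1
      ring
    have hzo : orderOf z = p := orderOf_eq_prime (hOp z (hZO hzZ)) hz1
    have hlam2 : (lam : ZMod p) ^ 2 = 1 := by
      have h := hz2'.symm.trans hz1'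
      rw [← orderOf_dvd_sub_iff_zpow_eq_zpow, hzo] at h
      have hm0 : (m : ZMod p) ≠ 0 := fun h0 => hpm ((ZMod.intCast_zmod_eq_zero_iff_dvd m p).1 h0)
      have h' : (((lam : ℤ) * (m * lam) : ℤ) : ZMod p) = (m : ZMod p) := by
        rw [ZMod.intCast_eq_intCast_iff_dvd_sub]
        simpa using h
      push_cast at h'
      refine mul_left_cancel₀ hm0 ?_
      linear_combination h'
    have hiter : ∀ k : ℕ, f (φ (a ^ k) e) = f e ^ lam ^ k := by
      intro k
      induction k with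
      | zero => rw [pow_zero, map_one, MulAut.one_apply, pow_zero, pow_one]
      | succ k ih =>
        rw [pow_succ' a, map_mul, MulAut.mul_apply]
        set w := φ (a ^ k) e
        have hw : (e ^ lam ^ k)⁻¹ * w ∈ L := by
          rw [← QuotientGroup.eq_one_iff]
          show f _ = 1
          rw [map_mul, map_inv, map_pow, ih, inv_mul_cancel]
        have hw' := (QuotientGroup.eq_one_iff _).2 (hLinv a _ hw)
        change f (φ a ((e ^ lam ^ k)⁻¹ * w)) = 1 at hw'
        rw [map_mul, map_inv, map_pow, map_mul, map_inv, inv_mul_eq_one, he'] at hw'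
        rw [← hw', map_pow, map_mul, show f v' = 1 from (QuotientGroup.eq_one_iff v').2 hv', mul_one, map_pow,
          ← pow_mul, pow_succ']
    have hlam : (lam : ZMod p) = 1 := by
      have h := hiter (orderOf a)
      rw [pow_orderOf_eq_one, map_one, MulAut.one_apply] at h
      nth_rewrite 1 [← pow_one (f e)] at h
      rw [pow_eq_pow_iff_modEq, hfe] at h
      have h' := (ZMod.natCast_eq_natCast_iff _ _ _).2 h
      push_cast at h'
      obtain ⟨i, hi⟩ := hodd.of_dvd_nat (orderOf_dvd_natCard a)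
      rw [hi, pow_succ, pow_mul, hlam2, one_pow, one_mul] at h'
      exact h'.symm
    rw [← QuotientGroup.eq_one_iff]
    show f _ = 1
    rw [map_mul, map_inv, he', map_mul, show f v' = 1 from (QuotientGroup.eq_one_iff v').2 hv', mul_one,
      mul_inv_eq_one, map_pow]
    conv_rhs => rw [← pow_one (f e)]
    rw [pow_eq_pow_iff_modEq, hfe]
    exact (ZMod.natCast_eq_natCast_iff _ _ _).1 (by rw [hlam, Nat.cast_one])
  refine heT (mem_of_fixed_mod φ hcop hgen T ?_ hTinv fun a => hLT (hfix a))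
  haveI : IsCyclic (R ⧸ T) := isCyclic_of_prime_card (p := p) (by rw [← index_eq_card]; exact hTi)
  rw [_root_.commutator_def, commutator_le]
  intro x _ y _
  rw [← QuotientGroup.eq_one_iff, ← QuotientGroup.mk'_apply, map_commutatorElement,
    commutatorElement_eq_one_iff_mul_comm]
  exact (IsCyclic.commGroup).mul_comm _ _

end CfsgLib.OddLocal
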