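import Cfsg.Agent.Lib.OddLocal.BaerTrick
import Cfsg.Agent.Lib.OddLocal.Stab
import Cfsg.Agent.Lib.Coprime.Action
import Cfsg.Agent.Lib.Coprime.Sylow

/-! If the fixed points of a `p`-group `E` on a `p`-group `P` are centralized by an `E`-invariant
`p'`-group `Q`, then `Q` centralizes `P` (odd `p`, or quadratic-type hypothesis). -/

set_option autoImplicit false

namespace CfsgLib.OddLocal

open Subgroup CfsgLib.Coprime
open scoped commutatorElement
set_option linter.style.haveILetI false

universe u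
variable {G : Type u} [Group G] [Finite G] {p : ℕ} [hp : Fact p.Prime]

omit [Finite G] hp in
theorem le_normalizer_commutator {P Q E : Subgroup G} (hP : E ≤ Subgroup.normalizer (P : Set G))
    (hQ : E ≤ Subgroup.normalizer (Q : Set G)) : E ≤ Subgroup.normalizer ((⁅P, Q⁆ : Subgroup G) : Set G) := by
  intro e he
  rw [mem_normalizer_iff_map_conj, Subgroup.map_commutator,
    map_conj_of_mem_normalizer (hP he), map_conj_of_mem_normalizer (hQ he)]

theorem centralizes_of_class_two {P E Q : Subgroup G} (hP : IsPGroup p P) (hp2 : p ≠ 2)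
    (hc : ∀ a ∈ P, ∀ b ∈ P, ∀ c ∈ P, Commute ⁅a, b⁆ c) (hE : IsPGroup p E)
    (hEP : E ≤ Subgroup.normalizer (P : Set G)) (hEQ : E ≤ Subgroup.normalizer (Q : Set G))
    (hQP : Q ≤ Subgroup.normalizer (P : Set G)) (hQ : (Nat.card Q).Coprime p)
    (hfix : P ⊓ Subgroup.centralizer (E : Set G) ≤ Subgroup.centralizer (Q : Set G)) :
    Q ≤ Subgroup.centralizer (P : Set G) := by
  obtain ⟨n, hn⟩ := IsPGroup.iff_card.1 hP
  obtain ⟨k, hk⟩ : Odd (p ^ n) := ((Fact.out : p.Prime).odd_of_ne_two hp2).pow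
  have hc' : ∀ a b c : P, Commute ⁅a, b⁆ c := fun a b c => Subtype.ext
    (hc a a.2 b b.2 c c.2).eq
  have hm : ∀ a b : P, ⁅a, b⁆ ^ (2 * (k + 1)) = ⁅a, b⁆ := by
    intro a b
    rw [show 2 * (k + 1) = p ^ n + 1 by omega, pow_succ, ← hn, pow_card_eq_one', one_mul]
  let A := Baer P (k + 1)
  letI : CommGroup A := baerCommGroup hc' hm
  let eA : A ≃ P := ⟨Baer.val, Baer.mk, fun _ => rfl, fun _ => rfl⟩
  haveI : Finite A := Finite.of_equiv _ eA.symm
  have hAp : IsPGroup p A := IsPGroup.of_card (n := n) (by rw [Nat.card_congr eA, hn])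
  let c : Subgroup.normalizer (P : Set G) → A →* A := fun g =>
    { toFun := fun a => ⟨P.normalizerMonoidHom g a.val⟩
      map_one' := Baer.ext (map_one _)
      map_mul' := fun a b => Baer.ext (baer_map (P.normalizerMonoidHom g).toMonoidHom a.val b.val) }
  have hcv : ∀ g a, (((c g a).val : P) : G) = g * (a.val : G) * (g : G)⁻¹ := fun g a => rfl
  haveI : Fintype Q := Fintype.ofFinite _
  let f : Q → A →* A := fun u => c ⟨u, hQP u.2⟩
  let g : E → A →* A := fun e => c ⟨e, hEP e.2⟩
  have hext : ∀ a b : A, ((a.val : P) : G) = ((b.val : P) : G) → a = b :=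
    fun a b h => Baer.ext (Subtype.ext h)
  have hfinv : ∀ a u, f u (∏ w : Q, f w a) = ∏ w : Q, f w a := by
    intro a u
    rw [map_prod]
    have : ∀ w, f u (f w a) = f (u * w) a := by
      intro w
      apply hext
      simp [f, hcv, mul_assoc]
    simp only [this]
    exact Equiv.prod_comp (Equiv.mulLeft u) (fun w => f w a)
  let σ : E → Q ≃ Q := fun e =>
    { toFun := fun u => ⟨e * u * (e : G)⁻¹, (Subgroup.mem_normalizer_iff.1 (hEQ e.2) u).1 u.2⟩
      invFun := fun u => ⟨(e : G)⁻¹ * u * e,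
        (Subgroup.mem_normalizer_iff''.1 (hEQ e.2) u).1 u.2⟩
      left_inv := fun u => Subtype.ext (by simp [mul_assoc])
      right_inv := fun u => Subtype.ext (by simp [mul_assoc]) }
  have key := smul_eq_self_of_fixed hAp hE hQ f hfinv g
    (fun a => hext _ _ (by simp [g, hcv]))
    (fun e e' a => hext _ _ (by simp [g, hcv, mul_assoc]))
    σ (fun e u a => hext _ _ (by simp [f, g, σ, hcv, mul_assoc]))
    (fun a ha u => by
      apply hext
      have hmem : ((a.val : P) : G) ∈ P ⊓ Subgroup.centralizer (E : Set G) := by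
        refine ⟨a.val.2, Subgroup.mem_centralizer_iff.2 fun e he => ?_⟩
        have h := congrArg (fun x : A => ((x.val : P) : G)) (ha ⟨e, he⟩)
        simp only [g, hcv] at h
        exact mul_inv_eq_iff_eq_mul.1 h
      have h := Subgroup.mem_centralizer_iff.1 (hfix hmem) u u.2
      simp only [f, hcv]
      rw [h, mul_inv_cancel_right])
  intro u hu
  rw [Subgroup.mem_centralizer_iff]
  intro x hx
  have h := congrArg (fun y : A => ((y.val : P) : G)) (key ⟨u, hu⟩ ⟨⟨x, hx⟩⟩)
  simp only [f, hcv] at h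
  exact (mul_inv_eq_iff_eq_mul.1 h).symm

theorem centralizes_of_commutator {P E Q : Subgroup G} (hP : IsPGroup p P)
    (hEP : E ≤ Subgroup.normalizer (P : Set G)) (hEQ : E ≤ Subgroup.normalizer (Q : Set G))
    (hQP : Q ≤ Subgroup.normalizer (P : Set G)) (hQ : (Nat.card Q).Coprime p)
    (h2 : ∀ x ∈ P, ∀ e ∈ E, ⁅x, e⁆ ∈ Subgroup.centralizer (E : Set G))
    (hfix : P ⊓ Subgroup.centralizer (E : Set G) ≤ Subgroup.centralizer (Q : Set G)) :
    Q ≤ Subgroup.centralizer (P : Set G) := by
  obtain ⟨n, hn⟩ := IsPGroup.iff_card.1 hP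
  have hcop : (Nat.card Q).Coprime (Nat.card P) := hn ▸ hQ.pow_right n
  have hPE : ⁅P, E⁆ ≤ Subgroup.centralizer (Q : Set G) := by
    refine Subgroup.commutator_le.2 fun x hx e he => hfix ⟨?_, h2 x hx e he⟩
    exact le_normalizer_iff_commutator_le_left.1 hEP (commutator_mem_commutator hx he)
  have h1 : ⁅⁅P, E⁆, Q⁆ = ⊥ := Subgroup.commutator_eq_bot_iff_le_centralizer.2 hPE
  have h3 : ⁅⁅E, Q⁆, P⁆ = ⊥ := by
    rw [Subgroup.commutator_eq_bot_iff_le_centralizer, Subgroup.commutator_le]
    intro e he v hv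
    have hw : ⁅e, v⁆ ∈ Q := le_normalizer_iff_commutator_le_right.1 hEQ (commutator_mem_commutator he hv)
    rw [Subgroup.mem_centralizer_iff]
    intro y hy
    have hd : ∀ z ∈ P, ∀ a ∈ E, ⁅z, a⁆ ∈ P ⊓ Subgroup.centralizer (Q : Set G) := fun z hz a ha =>
      ⟨le_normalizer_iff_commutator_le_left.1 hEP (commutator_mem_commutator hz ha),
        hPE (commutator_mem_commutator hz ha)⟩
    have hstab : ⁅e, v⁆ * y * ⁅e, v⁆⁻¹ * y⁻¹ ∈ P ⊓ Subgroup.centralizer (Q : Set G) := by
      -- `e v e⁻¹` and `v` act alike modulo the centralizer of `Q`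
      set z := v⁻¹ * y * v with hz
      have hzP : z ∈ P := (Subgroup.mem_normalizer_iff''.1 (hQP hv) y).1 hy
      set x := e⁻¹ * z * e with hx
      have hxP : x ∈ P := (Subgroup.mem_normalizer_iff''.1 (hEP he) z).1 hzP
      obtain ⟨d, hd1, hxd⟩ : ∃ d ∈ P ⊓ Subgroup.centralizer (Q : Set G), z = d * x := by
        refine ⟨⁅x, e⁆⁻¹, inv_mem (hd x hxP e he), ?_⟩
        rw [hx, commutatorElement_def]
        group
      have hw' : ⁅e, v⁆ * y * ⁅e, v⁆⁻¹ = e * (v * x * v⁻¹) * e⁻¹ := by
        rw [hx, hz, commutatorElement_def]; group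
      have hvd : v * d * v⁻¹ = d := by
        rw [Subgroup.mem_centralizer_iff.1 hd1.2 v hv, mul_inv_cancel_right]
      have hy' : y = d * (v * x * v⁻¹) := by
        calc y = v * z * v⁻¹ := by rw [hz]; group
          _ = v * (d * x) * v⁻¹ := by rw [hxd]
          _ = (v * d * v⁻¹) * (v * x * v⁻¹) := by group
          _ = _ := by rw [hvd]
      have hx' : v * x * v⁻¹ ∈ P := (Subgroup.mem_normalizer_iff.1 (hQP hv) x).1 hxP
      rw [hw', hy']
      have : e * (v * x * v⁻¹) * e⁻¹ * (d * (v * x * v⁻¹))⁻¹ = ⁅v * x * v⁻¹, e⁆⁻¹ * d⁻¹ := by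
        rw [commutatorElement_def]; group
      rw [this]
      exact mul_mem (inv_mem (hd _ hx' e he)) (inv_mem hd1)
    have h := conj_eq_of_stabilizes (P ⊓ Subgroup.centralizer (Q : Set G)) ⁅e, v⁆ y hstab
      (by rw [Subgroup.mem_centralizer_iff.1 hstab.2 _ hw, mul_inv_cancel_right])
      ((hcop.coprime_dvd_left (Subgroup.orderOf_dvd_natCard Q hw)).coprime_dvd_right
        (Subgroup.card_dvd_of_le inf_le_left))
    exact (mul_inv_eq_iff_eq_mul.1 h).symm
  have h4 : ⁅⁅Q, P⁆, E⁆ = ⊥ := Subgroup.commutator_commutator_eq_bot_of_rotate h1 h3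
  rw [Subgroup.commutator_eq_bot_iff_le_centralizer, Subgroup.commutator_comm] at h4
  have h5 : ⁅⁅P, Q⁆, Q⁆ = ⊥ := Subgroup.commutator_eq_bot_iff_le_centralizer.2
    ((le_inf (le_normalizer_iff_commutator_le_left.1 hQP) h4).trans hfix)
  haveI := hP.isNilpotent
  have h6 := commutator_eq_bot_of_commutator_commutator hQP hcop (Or.inr inferInstance) h5
  exact Subgroup.le_centralizer_iff.1 (Subgroup.commutator_eq_bot_iff_le_centralizer.1 h6)

/-- The fixed-point lemma. -/
theorem centralizes_of_fixed {P E Q : Subgroup G} (hP : IsPGroup p P) (hE : IsPGroup p E)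
    (hEP : E ≤ Subgroup.normalizer (P : Set G)) (hEQ : E ≤ Subgroup.normalizer (Q : Set G))
    (hQP : Q ≤ Subgroup.normalizer (P : Set G)) (hQ : (Nat.card Q).Coprime p)
    (h2 : p ≠ 2 ∨ ∀ x ∈ P, ∀ e ∈ E, ⁅x, e⁆ ∈ Subgroup.centralizer (E : Set G))
    (hfix : P ⊓ Subgroup.centralizer (E : Set G) ≤ Subgroup.centralizer (Q : Set G)) :
    Q ≤ Subgroup.centralizer (P : Set G) := by
  rcases h2 with hp2 | h2
  swap
  · exact centralizes_of_commutator hP hEP hEQ hQP hQ h2 hfix
  induction hcard : Nat.card P using Nat.strong_induction_on generalizing P with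
  | _ N ih =>
    subst hcard
    have sub : ∀ R : Subgroup G, R ≤ P → R ≠ P → E ≤ Subgroup.normalizer (R : Set G) →
        Q ≤ Subgroup.normalizer (R : Set G) → Q ≤ Subgroup.centralizer (R : Set G) := by
      intro R hRP hne hER hQR
      refine ih (Nat.card R) ?_ (hP.to_le hRP) hER hQR
        ((inf_le_inf_right _ hRP).trans hfix) rfl
      refine lt_of_le_of_ne (Nat.le_of_dvd Nat.card_pos (Subgroup.card_dvd_of_le hRP)) fun h => ?_
      exact hne (Subgroup.eq_of_le_of_card_ge hRP h.ge)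
    haveI := hP.isNilpotent
    obtain ⟨n, hn⟩ := IsPGroup.iff_card.1 hP
    have hcop : (Nat.card Q).Coprime (Nat.card P) := hn ▸ hQ.pow_right n
    by_cases hPQ : ⁅P, Q⁆ = P
    swap
    · have h := sub _ (le_normalizer_iff_commutator_le_left.1 hQP) hPQ
        (le_normalizer_commutator hEP hEQ) (normalizer_commutator_ge_right P Q)
      have h6 := commutator_eq_bot_of_commutator_commutator hQP hcop (Or.inr inferInstance)
        (Subgroup.commutator_eq_bot_iff_le_centralizer.2 (Subgroup.le_centralizer_iff.1 h))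
      exact Subgroup.le_centralizer_iff.1 (Subgroup.commutator_eq_bot_iff_le_centralizer.1 h6)
    by_cases hP1 : P = ⊥
    · subst hP1
      intro u _
      rw [Subgroup.mem_centralizer_iff]
      intro x hx
      rw [Subgroup.mem_bot.1 hx, one_mul, mul_one]
    have hDP : ⁅P, P⁆ ≤ P := Subgroup.commutator_le.2 fun a ha b hb => by
      rw [commutatorElement_def]
      exact mul_mem (mul_mem (mul_mem ha hb) (inv_mem ha)) (inv_mem hb)
    have hDne : ⁅P, P⁆ ≠ P := by
      intro h
      haveI : Nontrivial P := (Subgroup.nontrivial_iff_ne_bot P).2 hP1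
      haveI : Group.IsSolvable P := inferInstance
      have hlt := Group.IsSolvable.commutator_lt_top_of_nontrivial P
      apply hlt.ne
      apply Subgroup.map_injective P.subtype_injective
      rw [commutator_def, Subgroup.map_commutator, ← MonoidHom.range_eq_map, Subgroup.range_subtype]
      exact h
    have hD := sub _ hDP hDne (le_normalizer_commutator hEP hEP) (le_normalizer_commutator hQP hQP)
    have h1 : ⁅⁅Q, ⁅P, P⁆⁆, P⁆ = ⊥ := by
      rw [Subgroup.commutator_eq_bot_iff_le_centralizer.2 hD, Subgroup.commutator_bot_left]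
    have h2' : ⁅⁅⁅P, P⁆, P⁆, Q⁆ = ⊥ := by
      rw [Subgroup.commutator_eq_bot_iff_le_centralizer]
      refine le_trans ?_ (Subgroup.le_centralizer_iff.1 hD)
      exact le_normalizer_iff_commutator_le_left.1 (le_normalizer_commutator le_normalizer le_normalizer)
    have h3 := Subgroup.commutator_commutator_eq_bot_of_rotate h1 h2'
    rw [hPQ, Subgroup.commutator_eq_bot_iff_le_centralizer] at h3
    refine centralizes_of_class_two hP hp2 (fun a ha b hb c hc => ?_) hE hEP hEQ hQP hQ hfix
    exact Subgroup.mem_centralizer_iff.1 (h3 hc) _ (commutator_mem_commutator ha hb)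

end CfsgLib.OddLocal
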