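import Cfsg.Agent.Lib.OddLocal.PiCore
import Cfsg.Agent.Lib.OddLocal.FittingHall
import Cfsg.Agent.Lib.Solvable.Nilpotent
import Cfsg.Agent.Lib.Solvable.Fitting

/-! The primary components of the centre of the Fitting subgroup of a subgroup. -/

set_option autoImplicit false
set_option linter.style.haveILetI false

namespace CfsgLib.OddLocal

open Subgroup

universe u
variable {G : Type u} [Group G] [Finite G]

/-- The `r`-part of `Z(F(H))`. -/
abbrev fittingCenterPart (H : Subgroup G) (r : ℕ) : Subgroup G :=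
  Cfsg.piCoreOf {r} (Cfsg.fittingOf H ⊓ Subgroup.centralizer (Cfsg.fittingOf H : Set G))

theorem le_normalizer_fittingOf (H : Subgroup G) :
    H ≤ Subgroup.normalizer (Cfsg.fittingOf H : Set G) := by
  intro x hx
  have := CfsgLib.Solvable.fittingSubgroup_normal (G := H)
  have h' : (⟨x, hx⟩ : H) ∈ Subgroup.normalizer (Cfsg.fittingSubgroup H : Set H) := by
    rw [Subgroup.normalizer_eq_top]; exact Subgroup.mem_top _
  exact Subgroup.le_normalizer_map H.subtype ⟨_, h', rfl⟩

omit [Finite G] in
theorem normalizer_le_normalizer_centralizer_of_set (A : Subgroup G) :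
    Subgroup.normalizer (A : Set G) ≤
      Subgroup.normalizer ((Subgroup.centralizer (A : Set G) : Subgroup G) : Set G) := by
  intro g hg
  rw [Subgroup.mem_normalizer_iff]
  intro v
  rw [Subgroup.mem_centralizer_iff, Subgroup.mem_centralizer_iff]
  constructor
  · intro h a ha
    have ha' : g⁻¹ * a * g ∈ A := (Subgroup.mem_normalizer_iff''.1 hg a).1 ha
    calc a * (g * v * g⁻¹) = g * ((g⁻¹ * a * g) * v) * g⁻¹ := by group
      _ = g * (v * (g⁻¹ * a * g)) * g⁻¹ := by rw [h _ ha']
      _ = _ := by group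
  · intro h a ha
    have := h _ ((Subgroup.mem_normalizer_iff.1 hg a).1 ha)
    calc a * v = g⁻¹ * ((g * a * g⁻¹) * (g * v * g⁻¹)) * g := by group
      _ = g⁻¹ * ((g * v * g⁻¹) * (g * a * g⁻¹)) * g := by rw [this]
      _ = _ := by group

theorem le_normalizer_fittingCenterPart (H : Subgroup G) (r : ℕ) :
    H ≤ Subgroup.normalizer (fittingCenterPart H r : Set G) := by
  refine le_trans ?_ (le_normalizer_piCoreOf _ _)
  refine le_trans (le_inf (le_normalizer_fittingOf H) ?_) Subgroup.inf_normalizer_le_normalizer_inf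
  exact (le_normalizer_fittingOf H).trans (normalizer_le_normalizer_centralizer_of_set _)

theorem isPGroup_fittingCenterPart (H : Subgroup G) {r : ℕ} (_hr : r.Prime) :
    IsPGroup r (fittingCenterPart H r) :=
  IsPGroup.of_card (n := (Nat.card (fittingCenterPart H r)).primeFactorsList.length)
    (Nat.eq_prime_pow_of_unique_prime_dvd Nat.card_pos.ne'
      fun {s} hs hd => piCoreOf_spec _ _ s hs hd)

theorem fittingCenterPart_ne_bot (H : Subgroup G) {r : ℕ} (hr : r.Prime)
    (hrn : r ∣ Nat.card (Cfsg.fittingOf H)) : fittingCenterPart H r ≠ ⊥ := by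
  haveI := Fact.mk hr
  set F := Cfsg.fittingOf H
  haveI : Group.IsNilpotent F := fittingOf_isNilpotent H
  obtain ⟨S⟩ : Nonempty (Sylow r F) := inferInstance
  haveI : (S : Subgroup F).Normal :=
    ((Group.isNilpotent_of_finite_tfae (G := F)).out 0 3 rfl rfl).mp inferInstance r inferInstance S
  obtain ⟨x, hx, hx1⟩ := ((S : Subgroup F) ⊓ Subgroup.center F).bot_or_exists_ne_one.resolve_left
    (CfsgLib.Solvable.normal_inf_center_ne_bot (S : Subgroup F) (S.ne_bot_of_dvd_card hrn))
  intro hb
  have hxp : IsPGroup r (Subgroup.zpowers (x : G)) := by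
    have := (S.2.to_le (Subgroup.zpowers_le.2 hx.1)).map F.subtype
    rwa [MonoidHom.map_zpowers] at this
  have hxZ : (x : G) ∈ F ⊓ Subgroup.centralizer (F : Set G) := ⟨x.2, Subgroup.mem_centralizer_iff.2 fun a ha =>
    congrArg Subtype.val (Subgroup.mem_center_iff.1 hx.2 ⟨a, ha⟩)⟩
  have hle : Subgroup.zpowers (x : G) ≤ fittingCenterPart H r := by
    refine le_piCoreOf (Subgroup.zpowers_le.2 hxZ) ?_ ?_
    · refine le_trans (fun z hz => ?_) (Subgroup.centralizer_le_normalizer _)
      rw [Subgroup.mem_centralizer_iff]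
      rintro _ ⟨k, rfl⟩
      exact ((show Commute (x : G) z from (Subgroup.mem_centralizer_iff.1 hz.2 _ x.2)).zpow_left k).eq
    · intro s hs hd
      obtain ⟨k, hk⟩ := IsPGroup.iff_card.1 hxp
      rw [hk] at hd
      exact (Nat.prime_dvd_prime_iff_eq hs hr).1 (hs.dvd_of_dvd_pow hd)
  exact hx1 (Subtype.ext (Subgroup.mem_bot.1 (hb ▸ hle (Subgroup.mem_zpowers (x : G)))))

end CfsgLib.OddLocal
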