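import Cfsg.Agent.Lib.OddLocal.MinSimple
import Cfsg.Agent.Lib.OddLocal.PiCore
import Cfsg.Agent.Lib.OddLocal.Transitivity
import Cfsg.Agent.Lib.Solvable.PCore
import Cfsg.Agent.Lib.Coprime.Sylow

/-!
Subgroups lying in a unique maximal subgroup of a minimal simple group of odd order: basic API.
-/

set_option autoImplicit false

open Subgroup
open scoped commutatorElement

namespace CfsgLib.OddLocal

universe u
variable {G : Type u} [Group G] [Finite G]

theorem exists_coatom_ge {X : Subgroup G} (hX : X ≠ ⊤) : ∃ M : Subgroup G, IsCoatom M ∧ X ≤ M :=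
  (IsCoatomic.eq_top_or_exists_le_coatom X).resolve_left hX

theorem le_of_inUniqueMax {X Y M : Subgroup G} (hX : Cfsg.InUniqueMaximal X) (hM : IsCoatom M)
    (hXM : X ≤ M) (hXY : X ≤ Y) (hY : Y ≠ ⊤) : Y ≤ M := by
  obtain ⟨N, hN, hYN⟩ := exists_coatom_ge hY
  exact (hX.unique ⟨hN, hXY.trans hYN⟩ ⟨hM, hXM⟩) ▸ hYN

theorem eq_of_inUniqueMax {X M H : Subgroup G} (hX : Cfsg.InUniqueMaximal X) (hM : IsCoatom M)
    (hXM : X ≤ M) (hH : IsCoatom H) (hXH : X ≤ H) : H = M :=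
  hX.unique ⟨hH, hXH⟩ ⟨hM, hXM⟩

theorem inUniqueMax_of {X M : Subgroup G} (hM : IsCoatom M) (hXM : X ≤ M)
    (h : ∀ H : Subgroup G, IsCoatom H → X ≤ H → H = M) : Cfsg.InUniqueMaximal X :=
  ⟨M, ⟨hM, hXM⟩, fun H hH => h H hH.1 hH.2⟩

theorem inUniqueMax_mono {X Y : Subgroup G} (hX : Cfsg.InUniqueMaximal X) (hXY : X ≤ Y) (hY : Y ≠ ⊤) :
    Cfsg.InUniqueMaximal Y := by
  obtain ⟨M, hM, hYM⟩ := exists_coatom_ge hY
  exact inUniqueMax_of hM hYM fun H hH hYH => eq_of_inUniqueMax hX hM (hXY.trans hYM) hH (hXY.trans hYH)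

theorem isCoatom_map_equiv (e : G ≃* G) {M : Subgroup G} (hM : IsCoatom M) :
    IsCoatom (M.map e.toMonoidHom) := by
  refine ⟨fun h => hM.1 ?_, fun K hK => ?_⟩
  · apply map_injective (f := e.toMonoidHom) e.injective
    rw [h, map_top_of_surjective _ e.surjective]
  · have h : K.comap e.toMonoidHom = ⊤ := by
      refine hM.2 _ (lt_of_le_of_ne ((map_le_iff_le_comap).1 hK.le) fun h => hK.ne ?_)
      rw [h, map_comap_eq_self_of_surjective e.surjective]
    rw [← map_comap_eq_self_of_surjective (f := e.toMonoidHom) e.surjective K, h,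
      map_top_of_surjective _ e.surjective]

theorem inUniqueMax_conj {X : Subgroup G} (hX : Cfsg.InUniqueMaximal X) (g : G) :
    Cfsg.InUniqueMaximal (X.map (MulAut.conj g).toMonoidHom) := by
  obtain ⟨M, ⟨hM, hXM⟩, hu⟩ := hX
  refine inUniqueMax_of (isCoatom_map_equiv _ hM) (map_mono hXM) fun H hH hXH => ?_
  have h := hu (H.map (MulAut.conj g).symm.toMonoidHom) ⟨isCoatom_map_equiv _ hH, fun x hx =>
    ⟨_, hXH ⟨x, hx, rfl⟩, (MulAut.conj g).symm_apply_apply x⟩⟩
  rw [← h, map_map]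
  convert (map_id H).symm using 2
  ext x
  simp [mul_assoc]

theorem isCoatom_ne_bot (hG : Cfsg.IsMinSimpleOddOrder G) {M : Subgroup G} (hM : IsCoatom M) :
    M ≠ ⊥ := by
  intro h
  subst h
  apply minSimple_not_commutative hG
  refine ⟨⟨fun a b => ?_⟩⟩
  by_cases ha : a = 1
  · simp [ha]
  have hz : zpowers a = ⊤ := hM.2 _ (bot_lt_iff_ne_bot.2 (zpowers_ne_bot.2 ha))
  obtain ⟨i, rfl⟩ := (hz ▸ mem_top b : b ∈ zpowers a)
  exact ((Commute.refl a).zpow_right i).eq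

/-- A maximal subgroup is the normalizer of each of its nontrivial normal subgroups. -/
theorem normalizer_eq_of_coatom (hG : Cfsg.IsMinSimpleOddOrder G) {M X : Subgroup G}
    (hM : IsCoatom M) (hX : X ≠ ⊥) (hXM : X ≤ M) (h : M ≤ normalizer (X : Set G)) :
    normalizer (X : Set G) = M := by
  rcases h.lt_or_eq with hlt | heq
  · exact absurd (hM.2 _ hlt) (minSimple_normalizer_ne_top hG hX fun h => hM.1 (top_le_iff.1 (h ▸ hXM)))
  · exact heq.symm

theorem inUniqueMax_ne_bot (hG : Cfsg.IsMinSimpleOddOrder G) {X : Subgroup G}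
    (hX : Cfsg.InUniqueMaximal X) : X ≠ ⊥ := by
  rintro rfl
  obtain ⟨M, ⟨hM, -⟩, hu⟩ := hX
  have hn : normalizer (M : Set G) = ⊤ := by
    refine eq_top_iff.2 fun g _ => mem_normalizer_iff_map_conj_eq.2 ?_
    exact hu _ ⟨isCoatom_map_equiv _ hM, bot_le⟩
  haveI : M.Normal := normalizer_eq_top_iff.1 hn
  exact (minSimple_eq_bot_or_top hG M).elim (isCoatom_ne_bot hG hM) hM.1

theorem inUniqueMax_ne_top {X : Subgroup G} (hX : Cfsg.InUniqueMaximal X) : X ≠ ⊤ := by
  rintro rfl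
  obtain ⟨M, ⟨hM, h⟩, -⟩ := hX
  exact hM.1 (top_le_iff.1 h)

section PPrime

variable {p : ℕ} [hp : Fact p.Prime]

theorem primesNotDvd_eq {A : Subgroup G} (hA : IsPGroup p A) (h1 : A ≠ ⊥) :
    Cfsg.primesNotDvd (Nat.card A) = Cfsg.primesNotDvd p := by
  obtain ⟨n, hn⟩ := IsPGroup.iff_card.1 hA
  have hn0 : n ≠ 0 := fun h => h1 (eq_bot_of_card_eq _ (by rw [hn, h, pow_zero]))
  ext q
  show q.Prime ∧ ¬ q ∣ Nat.card A ↔ q.Prime ∧ ¬ q ∣ p
  refine and_congr_right fun hq => not_congr ⟨fun h => hq.dvd_of_dvd_pow (hn ▸ h), fun h => ?_⟩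
  rw [hn]; exact h.trans (dvd_pow_self p hn0)

theorem coprime_iff_primesNotDvd {Y : Subgroup G} :
    (Nat.card Y).Coprime p ↔ ∀ q : ℕ, q.Prime → q ∣ Nat.card Y → q ∈ Cfsg.primesNotDvd p := by
  constructor
  · exact fun h q hq hd => ⟨hq, fun h' => hq.ne_one (Nat.eq_one_of_dvd_coprimes h hd h')⟩
  · intro h
    exact Nat.coprime_of_dvd fun q hq hd h' => (h q hq hd).2 h'

/-- `O_{p'}(X)` as a subgroup of the ambient group. -/
abbrev oPrime (p : ℕ) (X : Subgroup G) : Subgroup G := Cfsg.piCoreOf (Cfsg.primesNotDvd p) X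

theorem coprime_oPrime (X : Subgroup G) : (Nat.card (oPrime p X)).Coprime p :=
  coprime_iff_primesNotDvd.2 (piCoreOf_spec _ X)

theorem le_oPrime {X Y : Subgroup G} (hY : Y ≤ X) (hn : X ≤ normalizer (Y : Set G))
    (hc : (Nat.card Y).Coprime p) : Y ≤ oPrime p X :=
  le_piCoreOf hY hn (coprime_iff_primesNotDvd.1 hc)

theorem oPrime_eq (X : Subgroup G) : oPrime p X = (Cfsg.pPrimeCore p X).map X.subtype := by
  refine le_antisymm (map_mono (CfsgLib.Solvable.le_pPrimeCore inferInstance ?_))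
    (le_oPrime (map_subtype_le _) ?_ ?_)
  · have := coprime_oPrime (p := p) X
    rwa [oPrime, Cfsg.piCoreOf, card_map_of_injective X.subtype_injective] at this
  · haveI := CfsgLib.Solvable.pPrimeCore_normal p X
    have h := le_normalizer_map (H := Cfsg.pPrimeCore p X) X.subtype
    rwa [normalizer_eq_top, ← MonoidHom.range_eq_map, range_subtype] at h
  · rw [card_map_of_injective X.subtype_injective]
    exact CfsgLib.Solvable.pPrimeCore_coprime p

theorem mem_invSubgroups_iff {A Y : Subgroup G} :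
    Y ∈ Cfsg.invSubgroups ⊤ A (Cfsg.primesNotDvd p) ↔
      (Nat.card Y).Coprime p ∧ A ≤ normalizer (Y : Set G) :=
  ⟨fun h => ⟨coprime_iff_primesNotDvd.2 h.2.1, h.2.2⟩,
    fun h => ⟨le_top, coprime_iff_primesNotDvd.1 h.1, h.2⟩⟩

theorem ne_top_of_coprime (hdvd : p ∣ Nat.card G) {Y : Subgroup G} (h : (Nat.card Y).Coprime p) :
    Y ≠ ⊤ := by
  rintro rfl
  rw [card_top] at h
  exact hp.out.ne_one (Nat.eq_one_of_dvd_coprimes h hdvd dvd_rfl)

/-- The transitivity hypothesis puts the invariant `p'`-subgroups of a proper subgroup into its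
`p'`-core. -/
theorem le_oPrime_of_transHyp {A X Y : Subgroup G} (hA : Cfsg.TransitivityHypothesis A)
    (hAp : IsPGroup p A) (hX : X ≠ ⊤) (hAX : A ≤ X) (hYX : Y ≤ X)
    (hAY : A ≤ normalizer (Y : Set G)) (hY : (Nat.card Y).Coprime p) : Y ≤ oPrime p X := by
  have h := hA.2.2 X hX hAX
  rw [primesNotDvd_eq hAp hA.1] at h
  rw [oPrime, ← h]
  exact le_sSup ⟨hYX, coprime_iff_primesNotDvd.1 hY, hAY⟩

/-- An `A`-invariant `p'`-subgroup lies in `W` as soon as its `A`-invariant prime-power subgroups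
do. -/
theorem le_of_invariant_pGroups {A Y W : Subgroup G} (hAp : IsPGroup p A)
    (hY : (Nat.card Y).Coprime p) (hAY : A ≤ normalizer (Y : Set G))
    (h : ∀ q : ℕ, q.Prime → q ≠ p → ∀ S : Subgroup G, S ≤ Y → IsPGroup q S →
      A ≤ normalizer (S : Set G) → S ≤ W) : Y ≤ W := by
  obtain ⟨n, hn⟩ := IsPGroup.iff_card.1 hAp
  have hcop : (Nat.card A).Coprime (Nat.card Y) := hn ▸ (hY.symm.pow_left n)
  haveI := hAp.isNilpotent
  suffices hh : W ⊓ Y = Y by rw [← hh]; exact inf_le_left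
  refine eq_of_le_of_card_ge inf_le_right (Nat.le_of_eq ?_)
  have h1 : (W ⊓ Y).relIndex Y = 1 := by
    by_contra hne
    obtain ⟨q, hq, hqd⟩ := Nat.exists_prime_and_dvd hne
    haveI := Fact.mk hq
    obtain ⟨S, hS⟩ := CfsgLib.Coprime.exists_invariant_sylow hAY hcop (Or.inl inferInstance) q
    have hqY : q ∣ Nat.card Y := hqd.trans (index_dvd_card _)
    have hqp : q ≠ p := by
      rintro rfl
      exact hq.ne_one (Nat.eq_one_of_dvd_coprimes hY hqY dvd_rfl)
    refine S.not_dvd_index (hqd.trans (index_dvd_of_le fun y hy => ?_))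
    exact ⟨h q hq hqp _ (map_subtype_le _) (S.2.map _) hS ⟨y, hy, rfl⟩, y.2⟩
  rw [relIndex_eq_one] at h1
  rw [le_antisymm inf_le_right h1]

end PPrime

end CfsgLib.OddLocal
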