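import Cfsg.Agent.S1442
import Cfsg.Agent.Lib.OddLocal.UniqueBasic
import Cfsg.Agent.Lib.OddLocal.FittingHall
import Cfsg.Agent.Lib.OddLocal.FittingCenter
import Cfsg.Agent.Lib.OddLocal.NilpotentDerived

/-!
The primary parts of the Fitting subgroup of a subgroup; Bender's argument forcing two maximal
subgroups with commuting Fitting parts to coincide.
-/

set_option autoImplicit false

open Subgroup
open scoped commutatorElement

namespace CfsgLib.OddLocal

universe u
variable {G : Type u} [Group G] [Finite G]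

/-- The `r`-part `O_r(M)` of `F(M)`, as a subgroup of the ambient group. -/
abbrev fPart (M : Subgroup G) (r : ℕ) : Subgroup G := Cfsg.piCoreOf {r} M

theorem fPart_le (M : Subgroup G) (r : ℕ) : fPart M r ≤ M := piCoreOf_le _ _

theorem le_normalizer_fPart (M : Subgroup G) (r : ℕ) : M ≤ normalizer (fPart M r : Set G) :=
  le_normalizer.trans (le_normalizer_piCoreOf _ _)

theorem isPGroup_fPart (M : Subgroup G) (r : ℕ) : IsPGroup r (fPart M r) :=
  IsPGroup.of_card (n := (Nat.card (fPart M r)).primeFactorsList.length)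
    (Nat.eq_prime_pow_of_unique_prime_dvd Nat.card_pos.ne' fun {d} hd hdd => piCoreOf_spec _ _ d hd hdd)

theorem prime_dvd_pGroup {r s : ℕ} [Fact r.Prime] {Q : Subgroup G} (hQ : IsPGroup r Q) (hs : s.Prime)
    (hd : s ∣ Nat.card Q) : s = r := by
  obtain ⟨n, hn⟩ := IsPGroup.iff_card.1 hQ
  exact (Nat.prime_dvd_prime_iff_eq hs Fact.out).1 (hs.dvd_of_dvd_pow (hn ▸ hd))

theorem coprime_of_pGroups {r s : ℕ} [Fact r.Prime] [Fact s.Prime] {A B : Subgroup G}
    (hA : IsPGroup r A) (hB : IsPGroup s B) (hne : r ≠ s) : (Nat.card A).Coprime (Nat.card B) :=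
  Nat.coprime_of_dvd fun _ hk h1 h2 => hne ((prime_dvd_pGroup hA hk h1).symm.trans (prime_dvd_pGroup hB hk h2))

theorem fPart_le_fittingOf (M : Subgroup G) {r : ℕ} [Fact r.Prime] : fPart M r ≤ Cfsg.fittingOf M := by
  refine map_mono (CfsgLib.Solvable.le_fittingSubgroup inferInstance ?_)
  exact (IsPGroup.of_card (p := r) (n := (Nat.card (Cfsg.piCore {r} M)).primeFactorsList.length)
    (Nat.eq_prime_pow_of_unique_prime_dvd Nat.card_pos.ne' fun {d} hd hdd => piCore_spec _ d hd hdd)).isNilpotent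

theorem mem_fPart_of_mem_fittingOf (M : Subgroup G) {r : ℕ} [Fact r.Prime] {y : G}
    (hy : y ∈ Cfsg.fittingOf M) (hyr : IsPGroup r (zpowers y)) : y ∈ fPart M r := by
  obtain ⟨x, hx, rfl⟩ := hy
  haveI := CfsgLib.Solvable.fittingSubgroup_normal (G := M)
  have hxr : IsPGroup r (zpowers x) := by
    refine hyr.of_injective ((M.subtype.comp (zpowers x).subtype).codRestrict _ fun z => ?_) ?_
    · obtain ⟨i, hi⟩ := z.2
      exact ⟨i, by rw [MonoidHom.comp_apply, coe_subtype (zpowers x), ← hi, map_zpow]⟩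
    · intro a b h
      exact Subtype.ext (Subtype.ext (congrArg Subtype.val h :))
  have h := mem_pCore_of_mem_nilpotent CfsgLib.Solvable.fittingSubgroup_isNilpotent hx hxr
  refine ⟨x, le_piCore (CfsgLib.Solvable.pCore_normal r M) (fun d hd hdd => ?_) h, rfl⟩
  exact prime_dvd_pGroup (CfsgLib.Solvable.pCore_isPGroup (G := M) r) hd hdd

theorem le_fPart_of_pGroup (M : Subgroup G) {r : ℕ} [Fact r.Prime] {Q : Subgroup G} (hQ : IsPGroup r Q)
    (h : Q ≤ Cfsg.fittingOf M) : Q ≤ fPart M r := fun y hy =>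
  mem_fPart_of_mem_fittingOf M (h hy) (hQ.to_le (zpowers_le.2 hy))

theorem fittingOf_le_of_parts (M : Subgroup G) {W : Subgroup G}
    (h : ∀ r : ℕ, r.Prime → fPart M r ≤ W) : Cfsg.fittingOf M ≤ W :=
  le_of_prime_power_elements fun r hr y hy hyr =>
    haveI := Fact.mk hr
    h r hr (mem_fPart_of_mem_fittingOf M hy hyr)

theorem le_centralizer_fittingOf_of_parts (M : Subgroup G) {W : Subgroup G}
    (h : ∀ r : ℕ, r.Prime → W ≤ centralizer (fPart M r : Set G)) :
    W ≤ centralizer (Cfsg.fittingOf M : Set G) :=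
  le_centralizer_iff.1 (fittingOf_le_of_parts M fun r hr => le_centralizer_iff.1 (h r hr))

/-- `C_M(F(M)) ≤ F(M)` for solvable `M`. -/
theorem mem_fittingOf_of_centralizes (M : Subgroup G) [Group.IsSolvable M] {x : G} (hx : x ∈ M)
    (h : x ∈ centralizer (Cfsg.fittingOf M : Set G)) : x ∈ Cfsg.fittingOf M :=
  ⟨⟨x, hx⟩, CfsgLib.Solvable.centralizer_fittingSubgroup_le (mem_centralizer_iff.2 fun z hz =>
    Subtype.ext (mem_centralizer_iff.1 h _ ⟨z, hz, rfl⟩)), rfl⟩

theorem fPart_commute (M : Subgroup G) {r s : ℕ} [Fact r.Prime] [Fact s.Prime] (h : r ≠ s) :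
    fPart M r ≤ centralizer (fPart M s : Set G) :=
  le_centralizer_of_coprime_of_le_nilpotent (fittingOf_isNilpotent M) (fPart_le_fittingOf M)
    (fPart_le_fittingOf M) (coprime_of_pGroups (isPGroup_fPart M r) (isPGroup_fPart M s) h)

theorem exists_fPart_ne_bot {M : Subgroup G} [Group.IsSolvable M] (hM : M ≠ ⊥) :
    ∃ r : ℕ, r.Prime ∧ fPart M r ≠ ⊥ := by
  by_contra hall
  push Not at hall
  refine hM (eq_bot_iff.2 fun x hx => ?_)
  have h := mem_fittingOf_of_centralizes M hx ((le_centralizer_fittingOf_of_parts M (W := M)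
    fun r hr y _ => mem_centralizer_iff.2 fun z hz => by
      rw [hall r hr] at hz
      rw [mem_bot.1 hz, one_mul, mul_one]) hx)
  exact (fittingOf_le_of_parts M fun r hr => (hall r hr).le) h

/-- A subgroup of order prime to `p` normalizing a `p`-group `Q` and centralizing a self-centralizing
subgroup of `Q` centralizes `Q`. -/
theorem le_centralizer_of_selfcent {p : ℕ} [hp : Fact p.Prime] {Q C W : Subgroup G} (hQ : IsPGroup p Q)
    (hCQ : C ≤ Q) (hC : Q ⊓ centralizer (C : Set G) ≤ C) (hWQ : W ≤ normalizer (Q : Set G))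
    (hW : (Nat.card W).Coprime p) (hWC : W ≤ centralizer (C : Set G)) :
    W ≤ centralizer (Q : Set G) := by
  obtain ⟨n, hn⟩ := IsPGroup.iff_card.1 hQ
  have hle : C ≤ Q ⊓ centralizer (W : Set G) := le_inf hCQ (le_centralizer_iff.1 hWC)
  exact Cfsg.Agent.S1442.result Q W hQ.isNilpotent hWQ (hn ▸ hW.pow_right n)
    ((inf_le_inf_left _ (centralizer_le hle)).trans (hC.trans hle))

theorem exists_prime_decomp {c : G} (q : ℕ) [hq : Fact q.Prime] :
    ∃ a b : ℤ, c = c ^ a * c ^ b ∧ IsPGroup q (zpowers (c ^ a)) ∧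
      (orderOf (c ^ b)).Coprime q := by
  obtain ⟨e, m, hm, he⟩ := Nat.exists_eq_pow_mul_and_not_dvd (orderOf_pos c).ne' q hq.out.ne_one
  have hcop : Int.gcd (q ^ e : ℕ) m = 1 := by
    rw [Int.gcd_natCast_natCast]
    exact ((hq.out.coprime_iff_not_dvd.2 hm).pow_left e)
  have hbz := Int.gcd_eq_gcd_ab (q ^ e : ℕ) m
  rw [hcop, Nat.cast_one] at hbz
  set u := Int.gcdA (q ^ e : ℕ) m
  set v := Int.gcdB (q ^ e : ℕ) m
  refine ⟨(m : ℤ) * v, ((q ^ e : ℕ) : ℤ) * u, ?_, ?_, ?_⟩
  · rw [← zpow_add, add_comm, ← hbz, zpow_one]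
  · intro g
    refine ⟨e, Subtype.ext ?_⟩
    obtain ⟨i, hi⟩ := g.2
    rw [SubmonoidClass.coe_pow, ← hi, OneMemClass.coe_one]
    show ((c ^ ((m : ℤ) * v)) ^ i) ^ q ^ e = 1
    rw [← zpow_mul, ← zpow_natCast, ← zpow_mul,
      show (m : ℤ) * v * i * ((q ^ e : ℕ) : ℤ) = (orderOf c : ℤ) * (v * i) by rw [he]; push_cast; ring,
      zpow_mul, zpow_natCast, pow_orderOf_eq_one, one_zpow]
  · refine Nat.Coprime.coprime_dvd_left ?_ (hq.out.coprime_iff_not_dvd.2 hm).symm
    refine orderOf_dvd_of_pow_eq_one ?_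
    rw [← zpow_natCast, ← zpow_mul,
      show ((q ^ e : ℕ) : ℤ) * u * (m : ℤ) = (orderOf c : ℤ) * u by rw [he]; push_cast; ring,
      zpow_mul, zpow_natCast, pow_orderOf_eq_one, one_zpow]

/-- The `r`-elements of `M` centralizing the `r'`-part of `F(M)`. -/
def benderSet (M : Subgroup G) (r : ℕ) : Set G :=
  {d | d ∈ M ∧ IsPGroup r (zpowers d) ∧
    ∀ s : ℕ, s.Prime → s ≠ r → d ∈ centralizer (fPart M s : Set G)}

theorem benderSet_subset (hG : Cfsg.IsMinSimpleOddOrder G) {M H : Subgroup G} (hM : IsCoatom M)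
    (hH : IsCoatom H) (hHM : ∀ r : ℕ, r.Prime → fPart H r ≤ M)
    (hc : ∀ r s : ℕ, r.Prime → s.Prime → r ≠ s → fPart H s ≤ centralizer (fPart M r : Set G))
    {r t : ℕ} (hr : r.Prime) (ht : t.Prime) (htr : t ≠ r) (htne : fPart H t ≠ ⊥) :
    benderSet M r ⊆ benderSet H r := by
  rintro d ⟨hdM, hdr, hdc⟩
  haveI := Fact.mk hr
  haveI := minSimple_isSolvable hG hM.1
  have hcommute : ∀ q : ℕ, q.Prime → q ≠ r → d ∈ centralizer (fPart H q : Set G) := by
    intro q hq hqr
    haveI := Fact.mk hq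
    rw [mem_centralizer_iff]
    intro v hv
    have hvM : v ∈ M := hHM q hq hv
    set c := d * v * d⁻¹ * v⁻¹ with hcdef
    have hcM : c ∈ M := mul_mem (mul_mem (mul_mem hdM hvM) (inv_mem hdM)) (inv_mem hvM)
    have hcC : c ∈ centralizer (Cfsg.fittingOf M : Set G) := by
      refine zpowers_le.1 (le_centralizer_fittingOf_of_parts M fun s hs => zpowers_le.2 ?_)
      have hn : M ≤ normalizer ((centralizer (fPart M s : Set G) : Subgroup G) : Set G) :=
        (le_normalizer_fPart M s).trans (normalizer_le_normalizer_centralizer_of_set _)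
      by_cases hsr : s = r
      · have hv' : v ∈ centralizer (fPart M s : Set G) := hc s q hs hq (hsr ▸ hqr.symm) hv
        exact mul_mem ((mem_normalizer_iff.1 (hn hdM) v).1 hv') (inv_mem hv')
      · have hd' := hdc s hs hsr
        rw [hcdef, show d * v * d⁻¹ * v⁻¹ = d * (v * d⁻¹ * v⁻¹) by group]
        exact mul_mem hd' ((mem_normalizer_iff.1 (hn hvM) _).1 (inv_mem hd'))
    have hcF : c ∈ Cfsg.fittingOf M := mem_fittingOf_of_centralizes M hcM hcC
    -- `c` lies in the `q`-part
    obtain ⟨a, b, hab, haq, hbq⟩ := exists_prime_decomp (c := c) q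
    have hc1 : c ^ a ∈ fPart M q := mem_fPart_of_mem_fittingOf M (zpow_mem hcF a) haq
    have hbv : Commute (c ^ b) v := by
      have h : zpowers (c ^ b) ≤ centralizer ({v} : Set G) := by
        refine le_of_prime_power_elements fun s hs y hy hys => ?_
        haveI := Fact.mk hs
        rw [mem_centralizer_singleton_iff]
        by_cases hy1 : y = 1
        · rw [hy1, one_mul, mul_one]
        have hyF : y ∈ Cfsg.fittingOf M := zpowers_le.2 (zpow_mem hcF b) hy
        have hsq : s ≠ q := by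
          rintro rfl
          refine hy1 ?_
          obtain ⟨k, hk⟩ := IsPGroup.iff_card.1 hys
          rw [Nat.card_zpowers] at hk
          have h1 : orderOf y ∣ orderOf (c ^ b) := by
            rw [← Nat.card_zpowers, ← Nat.card_zpowers (c ^ b)]
            exact card_dvd_of_le (zpowers_le.2 hy)
          exact orderOf_eq_one_iff.1 (Nat.eq_one_of_dvd_coprimes (hbq.pow_right k) h1 hk.dvd)
        exact mem_centralizer_iff.1 (hc s q hs hq hsq hv) y (mem_fPart_of_mem_fittingOf M hyF hys)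
      exact mem_centralizer_singleton_iff.1 (h (mem_zpowers _))
    have hcbcomm : Commute (c ^ b) (c ^ a * v) := (((Commute.refl c).zpow_zpow b a).mul_right hbv)
    have hcv : c * v = d * v * d⁻¹ := by rw [hcdef]; group
    have hvq : IsPGroup q (zpowers v) := (isPGroup_fPart H q).to_le (zpowers_le.2 hv)
    have hQv : IsPGroup q ↥(fPart M q ⊔ zpowers v) :=
      IsPGroup.to_sup_of_normal_left' (isPGroup_fPart M q) hvq
        (zpowers_le.2 (le_normalizer_fPart M q hvM))
    obtain ⟨k1, hk1⟩ := hQv ⟨c ^ a * v, mul_mem (mem_sup_left hc1) (mem_sup_right (mem_zpowers v))⟩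
    replace hk1 : (c ^ a * v) ^ q ^ k1 = 1 := by simpa using congrArg Subtype.val hk1
    obtain ⟨k2, hk2⟩ := hvq ⟨v, mem_zpowers v⟩
    replace hk2 : v ^ q ^ k2 = 1 := by simpa using congrArg Subtype.val hk2
    have hcv_pow : (c * v) ^ q ^ (k1 + k2) = 1 := by
      rw [hcv, conj_pow, pow_add, mul_comm, pow_mul, hk2, one_pow, mul_one, mul_inv_cancel]
    have hb1 : c ^ b = 1 := by
      have e : (c ^ b) ^ q ^ (k1 + k2) = 1 := by
        have h := hcv_pow
        rw [show c * v = c ^ b * (c ^ a * v) by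
            rw [← mul_assoc, ← zpow_add, add_comm, zpow_add, ← hab],
          hcbcomm.mul_pow, show (c ^ a * v) ^ q ^ (k1 + k2) = 1 by rw [pow_add, pow_mul, hk1, one_pow],
          mul_one] at h
        exact h
      exact orderOf_eq_one_iff.1 (Nat.eq_one_of_dvd_coprimes (hbq.pow_right _) dvd_rfl
        (orderOf_dvd_of_pow_eq_one e))
    have hcQ : c ∈ fPart M q := by rw [hab, hb1, mul_one]; exact hc1
    have hdcomm : Commute d c := (mem_centralizer_iff.1 (hdc q hq hqr) c hcQ).symm
    have hiter : ∀ n : ℕ, d ^ n * v * (d ^ n)⁻¹ = c ^ n * v := by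
      intro n
      induction n with
      | zero => simp
      | succ n ih =>
        calc d ^ (n + 1) * v * (d ^ (n + 1))⁻¹ = d * (d ^ n * v * (d ^ n)⁻¹) * d⁻¹ := by
              rw [pow_succ']; group
          _ = d * (c ^ n * v) * d⁻¹ := by rw [ih]
          _ = c ^ n * (d * v * d⁻¹) := by
              rw [← mul_assoc d, (hdcomm.pow_right n).eq]; group
          _ = c ^ (n + 1) * v := by conv_rhs => rw [pow_succ, mul_assoc, hcv]
    obtain ⟨k, hk⟩ := hdr ⟨d, mem_zpowers d⟩
    replace hk : d ^ r ^ k = 1 := by simpa using congrArg Subtype.val hk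
    have hn := hiter (r ^ k)
    rw [hk, one_mul, inv_one, mul_one, right_eq_mul] at hn
    obtain ⟨j, hj⟩ := IsPGroup.iff_orderOf.1 (isPGroup_fPart M q) ⟨c, hcQ⟩
    rw [Subgroup.orderOf_mk] at hj
    have hc1' : c = 1 := orderOf_eq_one_iff.1 (Nat.eq_one_of_dvd_coprimes
      (((Nat.coprime_primes hq hr).2 hqr).pow j k) hj.dvd (orderOf_dvd_of_pow_eq_one hn))
    rw [hc1', one_mul] at hcv
    exact (mul_inv_eq_iff_eq_mul.1 hcv.symm).symm
  refine ⟨?_, hdr, hcommute⟩
  rw [← normalizer_eq_of_coatom hG hH htne (fPart_le H t) (le_normalizer_fPart H t)]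
  exact centralizer_le_normalizer _ (hcommute t ht htr)

theorem le_normalizer_benderSet (M : Subgroup G) (r : ℕ) :
    M ≤ normalizer (closure (benderSet M r) : Set G) := by
  have key : ∀ m ∈ M, ∀ d ∈ benderSet M r, m * d * m⁻¹ ∈ benderSet M r := by
    rintro m hm d ⟨hdM, hdr, hdc⟩
    refine ⟨mul_mem (mul_mem hm hdM) (inv_mem hm), ?_, fun s hs hne => ?_⟩
    · have h := hdr.map (MulAut.conj m).toMonoidHom
      rwa [MonoidHom.map_zpowers] at h
    · exact (mem_normalizer_iff.1 (((le_normalizer_fPart M s).trans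
        (normalizer_le_normalizer_centralizer_of_set _)) hm) d).1 (hdc s hs hne)
  intro m hm
  rw [mem_normalizer_iff_map_conj_eq, MonoidHom.map_closure]
  congr 1
  ext x
  constructor
  · rintro ⟨d, hd, rfl⟩; exact key m hm d hd
  · intro hx
    exact ⟨m⁻¹ * x * m, by simpa using key m⁻¹ (inv_mem hm) x hx, by simp [mul_assoc]⟩

/-- Two maximal subgroups whose Fitting subgroups lie in each other, commute part by part and
have the same (at least two) primes coincide. -/
theorem eq_of_fitting_commute (hG : Cfsg.IsMinSimpleOddOrder G) {M H : Subgroup G} (hM : IsCoatom M)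
    (hH : IsCoatom H) (hMH : ∀ r : ℕ, r.Prime → fPart M r ≤ H) (hHM : ∀ r : ℕ, r.Prime → fPart H r ≤ M)
    (hc : ∀ r s : ℕ, r.Prime → s.Prime → r ≠ s → fPart H s ≤ centralizer (fPart M r : Set G))
    {r t : ℕ} (hr : r.Prime) (ht : t.Prime) (htr : t ≠ r) (hMr : fPart M r ≠ ⊥)
    (htM : fPart M t ≠ ⊥) (htH : fPart H t ≠ ⊥) : M = H := by
  have h1 := benderSet_subset hG hM hH hHM hc hr ht htr htH
  have h2 := benderSet_subset hG hH hM hMH
    (fun r s hr hs hne => le_centralizer_iff.1 (hc s r hs hr hne.symm)) hr ht htr htM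
  have heq : benderSet M r = benderSet H r := le_antisymm h1 h2
  set E := closure (benderSet M r)
  have hsub : fPart M r ≤ E := fun d hd => subset_closure ⟨fPart_le M r hd,
    (isPGroup_fPart M r).to_le (zpowers_le.2 hd), fun s hs hne => by
      haveI := Fact.mk hr
      haveI := Fact.mk hs
      exact fPart_commute M hne.symm hd⟩
  have hE : E ≠ ⊥ := fun h => hMr (le_bot_iff.1 (h ▸ hsub))
  have hEM : E ≤ M := (closure_le M).2 fun d hd => hd.1
  have hEH : E ≤ H := (closure_le H).2 fun d hd => (h1 hd).1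
  rw [← normalizer_eq_of_coatom hG hM hE hEM (le_normalizer_benderSet M r),
    normalizer_eq_of_coatom hG hH hE hEH (by
      show H ≤ normalizer ((closure (benderSet M r) : Subgroup G) : Set G)
      rw [heq]; exact le_normalizer_benderSet H r)]

end CfsgLib.OddLocal
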