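import Cfsg.Agent.Lib.OddLocal.NarrowAction
import Cfsg.Agent.Lib.OddLocal.PLength
import Cfsg.Agent.Lib.OddLocal.RankTwoSolvable
import Cfsg.Agent.Lib.OddLocal.FittingParts

/-!
Solvable groups of odd order with a narrow Sylow `p`-subgroup and `p`-length one.
-/

set_option autoImplicit false
set_option linter.style.haveILetI false

open Subgroup
open scoped commutatorElement

namespace CfsgLib.OddLocal

universe u
variable {G : Type u} [Group G] [Finite G] {p : ℕ} [hp : Fact p.Prime]

theorem pRankLE_of_sylow {k : ℕ} (S : Sylow p G) (h : Cfsg.PRankLE p k (S : Subgroup G)) :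
    Cfsg.PRankLE p k G := by
  intro E hEc hEe
  have hEp : IsPGroup p E := fun x => ⟨1, Subtype.ext (by simpa using hEe _ x.2)⟩
  obtain ⟨T, hT⟩ := hEp.exists_le_sylow
  obtain ⟨g, rfl⟩ := MulAction.exists_smul_eq G S T
  set c := (MulAut.conj g⁻¹).toMonoidHom
  have hle : E.map c ≤ (S : Subgroup G) := by
    rintro _ ⟨e, he, rfl⟩
    obtain ⟨s, hs, rfl⟩ := hT he
    simpa [c, mul_assoc] using (show s ∈ (S : Subgroup G) from hs)
  have h' := h ((E.map c).subgroupOf (S : Subgroup G)) (haveI := hEc; inferInstance) fun a ha => by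
    obtain ⟨e, he, hea⟩ := mem_subgroupOf.1 ha
    refine Subtype.ext ?_
    rw [SubmonoidClass.coe_pow, ← hea, ← map_pow, hEe e he, map_one]
    rfl
  rwa [CfsgLib.Coprime.card_subgroupOf hle, card_map_of_injective (MulAut.conj g⁻¹).injective] at h'

/-- The structure theorem for a narrow Sylow subgroup of rank at least three and `p`-length one. -/
theorem narrow_structure [Group.IsSolvable G] (hp2 : p ≠ 2) (S : Sylow p G)
    (hS : Cfsg.IsNarrow p ↥(S : Subgroup G)) (hr : ¬ Cfsg.PRankLE p 2 ↥(S : Subgroup G))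
    (hpl : Cfsg.PLengthLE p 1 G) :
    (∀ q : ℕ, q.Prime → q ∣ (Cfsg.pPrimeCore p G).index → q ≤ p) ∧
      _root_.commutator G ≤ Cfsg.pPrimePCore p G ∧ (Cfsg.pPrimePCore p G).index.Coprime p := by
  have hpr := hp.out
  haveI hKn := CfsgLib.Solvable.pPrimeCore_normal p G
  set K := Cfsg.pPrimeCore p G with hK
  set f := QuotientGroup.mk' K with hf
  haveI := CfsgLib.Solvable.pCore_normal p (G ⧸ K)
  haveI : Group.IsSolvable (G ⧸ K) := Group.isSolvable_of_surjective (QuotientGroup.mk'_surjective K)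
  -- the image of `S` is the `p`-core of the quotient
  have hT : (S : Subgroup G).map f = Cfsg.pCore p (G ⧸ K) := by
    refine le_antisymm (CfsgLib.Solvable.le_pCore ?_ (S.2.map f)) ?_
    · have e : (K ⊔ (S : Subgroup G)).map f = (S : Subgroup G).map f := by
        rw [Subgroup.map_sup, (Subgroup.map_eq_bot_iff _).2 (by rw [hf, QuotientGroup.ker_mk']), bot_sup_eq]
      exact e ▸ (pLengthLE_one_sup_sylow hpl S).map f (QuotientGroup.mk'_surjective K)
    · have h := CfsgLib.Solvable.pCore_le_sylow (S.mapSurjective (QuotientGroup.mk'_surjective K))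
      rwa [Sylow.coe_mapSurjective] at h
  set N := normalizer ((S : Subgroup G) : Set G) with hN
  let ψ : N →* MulAut (S : Subgroup G) := normalizerMonoidHom (S : Subgroup G)
  have hNsurj : ∀ x : G ⧸ K, ∃ n : N, f n = x := by
    intro x
    obtain ⟨g, rfl⟩ := QuotientGroup.mk'_surjective K x
    obtain ⟨m, hm, k, hk, rfl⟩ := pLengthLE_one_decomp hpl S g
    refine ⟨⟨m, hm⟩, ?_⟩
    rw [map_mul, show f k = 1 from (QuotientGroup.eq_one_iff k).2 hk, mul_one]
  obtain ⟨hcomm, hpow, hone, hmul, hinv⟩ := trivOnSmall_facts (p := p) S.2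
  let Γ : Subgroup (MulAut (S : Subgroup G)) :=
    { carrier := {a | trivOnSmall p (S : Subgroup G) a}
      mul_mem' := fun {a b} ha hb => hmul a b ha hb
      one_mem' := hone
      inv_mem' := fun {a} ha => hinv a ha }
  have key : ∀ n : N, ψ n ∈ Γ → ∃ k : ℕ, (f n) ^ p ^ k = 1 := by
    intro n hn
    obtain ⟨a, b, hab, ha, hb⟩ := exists_prime_decomp (c := n) p
    have hb1 : ψ (n ^ b) = 1 := by
      refine eq_one_of_trivOnSmall hp2 S.2 hr hS _ (hb.coprime_dvd_left (orderOf_map_dvd ψ _)) ?_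
      rw [map_zpow]
      exact Γ.zpow_mem hn b
    have hfb : f (n ^ b : N) = 1 := by
      have hc : f (n ^ b : N) ∈ Cfsg.pCore p (G ⧸ K) := by
        refine CfsgLib.Solvable.centralizer_pCore_le p (CfsgLib.Solvable.pPrimeCore_quotient_eq_bot p) ?_
        rw [← hT, mem_centralizer_iff]
        rintro _ ⟨s, hs, rfl⟩
        rw [← map_mul, ← map_mul]
        congr 1
        have h2 : ((n ^ b : N) : G) * s * ((n ^ b : N) : G)⁻¹ = s :=
          congrArg (fun φ : MulAut (S : Subgroup G) => ((φ ⟨s, hs⟩ : (S : Subgroup G)) : G)) hb1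
        exact (mul_inv_eq_iff_eq_mul.1 h2).symm
      obtain ⟨k, hk⟩ := IsPGroup.iff_orderOf.1 (CfsgLib.Solvable.pCore_isPGroup p) ⟨_, hc⟩
      rw [Subgroup.orderOf_mk] at hk
      rw [← orderOf_eq_one_iff]
      refine Nat.eq_one_of_dvd_coprimes (hb.pow_right k) ?_ hk.dvd
      exact (orderOf_map_dvd f _).trans (Subgroup.orderOf_coe (n ^ b)).dvd
    obtain ⟨k, hk⟩ := ha ⟨n ^ a, mem_zpowers _⟩
    refine ⟨k, ?_⟩
    have h2 : f n = f (n ^ a : N) := by
      conv_lhs => rw [hab]
      rw [Subgroup.coe_mul, map_mul, hfb, mul_one]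
    rw [h2, ← map_pow, ← Subgroup.coe_pow,
      show (n ^ a) ^ p ^ k = 1 from congrArg Subtype.val hk, Subgroup.coe_one, map_one]
  have hder : IsPGroup p (_root_.commutator (G ⧸ K)) := by
    rintro ⟨x, hx⟩
    have hle : _root_.commutator (G ⧸ K) ≤ (_root_.commutator N).map (f.comp N.subtype) := by
      rw [_root_.commutator_def, _root_.commutator_def, map_commutator]
      exact commutator_mono (fun y _ => let ⟨n, hn⟩ := hNsurj y; ⟨n, mem_top _, hn⟩)
        (fun y _ => let ⟨n, hn⟩ := hNsurj y; ⟨n, mem_top _, hn⟩)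
    obtain ⟨n, hn, rfl⟩ := hle hx
    have hmem : _root_.commutator N ≤ Γ.comap ψ := by
      rw [_root_.commutator_def, commutator_le]
      intro u _ v _
      show trivOnSmall p _ (ψ ⁅u, v⁆)
      rw [map_commutatorElement]
      exact hcomm _ _
    obtain ⟨k, hk⟩ := key n (hmem hn)
    exact ⟨k, Subtype.ext (by simpa using hk)⟩
  have hidx : (Cfsg.pPrimePCore p G).index = (Cfsg.pCore p (G ⧸ K)).index :=
    index_comap_of_surjective _ (QuotientGroup.mk'_surjective K)
  refine ⟨fun q hq hd => ?_, ?_, ?_⟩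
  · by_contra hqp
    push Not at hqp
    haveI := Fact.mk hq
    rw [index_eq_card] at hd
    obtain ⟨x, hx⟩ := exists_prime_orderOf_dvd_card' q hd
    obtain ⟨n, rfl⟩ := hNsurj x
    obtain ⟨k, hk⟩ := key (n ^ (p - 1)) (by rw [map_pow]; exact hpow _)
    rw [Subgroup.coe_pow, map_pow, ← pow_mul] at hk
    have h := orderOf_dvd_of_pow_eq_one hk
    rw [hx] at h
    rcases (Nat.Prime.dvd_mul hq).1 h with h' | h'
    · have := Nat.le_of_dvd (by have := hpr.two_le; omega) h'
      omega
    · exact absurd ((Nat.prime_dvd_prime_iff_eq hq hpr).1 (hq.dvd_of_dvd_pow h')) hqp.ne'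
  · show _ ≤ (Cfsg.pCore p (G ⧸ K)).comap _
    rw [← map_le_iff_le_comap]
    refine le_trans ?_ (CfsgLib.Solvable.le_pCore inferInstance hder)
    rw [_root_.commutator_def, map_commutator, _root_.commutator_def]
    exact commutator_mono le_top le_top
  · rw [hidx, ← hT, Nat.coprime_comm, hpr.coprime_iff_not_dvd,
      ← Sylow.coe_mapSurjective (QuotientGroup.mk'_surjective K)]
    exact Sylow.not_dvd_index _

end CfsgLib.OddLocal
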