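import Mathlib

/-! Norm counting in finite fields (Bender–Glauberman, Appendix C). -/

namespace CfsgLib.OddLocal

open Polynomial

/-- The norm of `x - a`, as a polynomial in `x`. -/
theorem exists_normPoly {K L : Type*} [Field K] [Field L] [Algebra K L] [FiniteDimensional K L]
    (a : L) :
    ∃ P : K[X], P.Monic ∧ P.natDegree = Module.finrank K L ∧ aeval a P = 0 ∧
      ∀ x : K, P.eval x = Algebra.norm K (algebraMap K L x - a) := by
  classical
  let b := Module.finBasis K L
  refine ⟨(Algebra.leftMulMatrix b a).charpoly, Matrix.charpoly_monic _, ?_, ?_, fun x => ?_⟩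
  · rw [Matrix.charpoly_natDegree_eq_dim, Fintype.card_fin]
  · apply Algebra.leftMulMatrix_injective b
    rw [← aeval_algHom_apply, Matrix.aeval_self_charpoly, map_zero]
  · rw [Algebra.norm_eq_matrix_det b, map_sub, AlgHom.commutes, Matrix.eval_charpoly]
    rfl

/-- Appendix C, Lemma C.1 in field form. -/
theorem le_of_normSet_inv (p q : ℕ) [Fact p.Prime] (hq : q ≠ 0) (a : GaloisField p q)
    (ha1 : a ≠ 1)
    (hE : Algebra.norm (ZMod p) a = 1 ∧ Algebra.norm (ZMod p) (2 - a) = 1)
    (hinv : ∀ c : GaloisField p q,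
      Algebra.norm (ZMod p) c = 1 ∧ Algebra.norm (ZMod p) (2 - c) = 1 →
      Algebra.norm (ZMod p) c⁻¹ = 1 ∧ Algebra.norm (ZMod p) (2 - c⁻¹) = 1) :
    p ≤ q := by
  by_contra hlt
  rw [not_le] at hlt
  set b : GaloisField p q := (a - 1)⁻¹ with hb
  let F : GaloisField p q → Prop := fun c =>
    Algebra.norm (ZMod p) c = 1 ∧ Algebra.norm (ZMod p) (2 - c) = 1
  have key : ∀ k : ℕ, ∃ c, F c ∧ c ≠ 1 ∧ (c - 1)⁻¹ = b - k := by
    intro k
    induction k with
    | zero => exact ⟨a, hE, ha1, by simp [hb]⟩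
    | succ k ih =>
      obtain ⟨c, hc, hc1, hck⟩ := ih
      have h2 : (2 : GaloisField p q) - c ≠ 0 := fun h => by
        have h' := hc.2
        rw [h, Algebra.norm_zero] at h'
        exact zero_ne_one h'
      have hc1' : c - 1 ≠ 0 := sub_ne_zero.2 hc1
      have e : (2 - c)⁻¹ - 1 = (c - 1) * (2 - c)⁻¹ := by field_simp; ring
      refine ⟨(2 - c)⁻¹, hinv _ ⟨hc.2, by rw [sub_sub_cancel]; exact hc.1⟩, ?_, ?_⟩
      · intro h
        have h' : (c - 1) * (2 - c)⁻¹ = 0 := by rw [← e, h, sub_self]
        exact (mul_ne_zero hc1' (inv_ne_zero h2)) h'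
      · rw [e, mul_inv, inv_inv, Nat.cast_succ, ← sub_sub, ← hck]
        field_simp
        ring
  have step : ∀ k : ℕ, Algebra.norm (ZMod p) (b - (k : GaloisField p q) + 1) =
      Algebra.norm (ZMod p) (b - (k : GaloisField p q)) := by
    intro k
    obtain ⟨c, hc, hc1, hck⟩ := key k
    have hc1' : c - 1 ≠ 0 := sub_ne_zero.2 hc1
    rw [← hck]
    have e : (c - 1)⁻¹ + 1 = c * (c - 1)⁻¹ := by field_simp; ring
    rw [e, map_mul, hc.1, one_mul]
  have const : ∀ k : ℕ, Algebra.norm (ZMod p) (b - (k : GaloisField p q)) =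
      Algebra.norm (ZMod p) b := by
    intro k
    induction k with
    | zero => simp
    | succ k ih =>
      have := step (k + 1)
      rw [Nat.cast_succ, ← sub_sub, sub_add_cancel] at this
      rw [Nat.cast_succ, ← sub_sub, ← this, ih]
  obtain ⟨P, hPm, hPd, -, hPe⟩ := exists_normPoly (K := ZMod p) (-b)
  rw [GaloisField.finrank p hq] at hPd
  have hzero : P - Polynomial.C (Algebra.norm (ZMod p) b) = 0 := by
    apply Polynomial.eq_zero_of_natDegree_lt_card_of_eval_eq_zero _ Function.injective_id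
    · intro x
      rw [eval_sub, eval_C, sub_eq_zero]
      show P.eval x = _
      rw [hPe, ← const (-x).val]
      congr 1
      rw [← map_natCast (algebraMap (ZMod p) (GaloisField p q)), ZMod.natCast_zmod_val, map_neg]
      ring
    · rw [natDegree_sub_C, hPd, ZMod.card]
      exact hlt
  rw [sub_eq_zero] at hzero
  rw [hzero, natDegree_C] at hPd
  exact hq hPd.symm

/-- Two norm conditions, degree three. -/
theorem exists_normSet_three (p : ℕ) [Fact p.Prime] (hp : p ≠ 2) :
    ∃ a : GaloisField p 3, a ≠ 1 ∧ Algebra.norm (ZMod p) a = 1 ∧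
      Algebra.norm (ZMod p) (2 - a) = 1 := by
  classical
  have hp2 : (2 : ZMod p) ≠ 0 := by
    intro h
    have h' : ((2 : ℕ) : ZMod p) = 0 := by exact_mod_cast h
    rw [ZMod.natCast_eq_zero_iff, Nat.prime_dvd_prime_iff_eq Fact.out Nat.prime_two] at h'
    exact hp h'
  let g : ZMod p → ZMod p := fun x => (x ^ 3 - 3 * x - 1) / (x * (x - 2))
  have hcard : ((Finset.univ \ {0, 2} : Finset (ZMod p)).image g).card < Fintype.card (ZMod p) := by
    refine lt_of_le_of_lt Finset.card_image_le ?_
    rw [← Finset.card_univ]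
    refine Finset.card_lt_card ⟨Finset.sdiff_subset, fun h => ?_⟩
    have := h (Finset.mem_univ (0 : ZMod p))
    simp at this
  obtain ⟨t, ht⟩ : ∃ t, t ∉ (Finset.univ \ {0, 2} : Finset (ZMod p)).image g := by
    by_contra h
    push Not at h
    rw [Finset.eq_univ_iff_forall.2 h, Finset.card_univ] at hcard
    exact lt_irrefl _ hcard
  let f : (ZMod p)[X] := X ^ 3 - C t * X ^ 2 + C (2 * t - 3) * X - 1
  have hfd : f.natDegree = 3 := by simp only [f]; compute_degree!
  have hfm : f.Monic := by simp only [f]; monicity!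
  have hev : ∀ x, f.eval x = (x ^ 3 - 3 * x - 1) - t * (x * (x - 2)) := by
    intro x
    simp only [f, eval_sub, eval_add, eval_mul, eval_pow, eval_X, eval_C, eval_one]
    ring
  have hroot : ∀ x, f.eval x ≠ 0 := by
    intro x hx
    rw [hev] at hx
    by_cases h0 : x = 0
    · subst h0
      norm_num at hx
    by_cases h2 : x = 2
    · subst h2
      ring_nf at hx
      exact one_ne_zero hx
    · apply ht
      rw [Finset.mem_image]
      refine ⟨x, by simp [h0, h2], ?_⟩
      show (x ^ 3 - 3 * x - 1) / (x * (x - 2)) = t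
      rw [div_eq_iff (mul_ne_zero h0 (sub_ne_zero.2 h2))]
      exact sub_eq_zero.1 hx
  have hirr : Irreducible f := by
    rw [Polynomial.Monic.irreducible_iff_roots_eq_zero_of_degree_le_three hfm (by omega) (by omega)]
    rw [Multiset.eq_zero_iff_forall_notMem]
    intro x hx
    exact hroot x ((mem_roots hfm.ne_zero).1 hx)
  have := Fact.mk hirr
  let pb := AdjoinRoot.powerBasis hfm.ne_zero
  have : Module.Finite (ZMod p) (AdjoinRoot f) := pb.finite
  have : Finite (AdjoinRoot f) := Module.finite_of_finite (ZMod p)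
  have hK : Nat.card (AdjoinRoot f) = p ^ 3 := by
    rw [Module.natCard_eq_pow_finrank (K := ZMod p), Nat.card_zmod, pb.finrank]
    simp [pb, hfd]
  have : Fintype (AdjoinRoot f) := Fintype.ofFinite _
  have : Fintype (GaloisField p 3) := Fintype.ofFinite _
  let e : AdjoinRoot f ≃ₐ[ZMod p] GaloisField p 3 :=
    FiniteField.algEquivOfCardEq p (K := AdjoinRoot f) (K' := GaloisField p 3)
      (by rw [Fintype.card_eq_nat_card, Fintype.card_eq_nat_card, hK, GaloisField.card p 3 (by norm_num)])
  refine ⟨e (AdjoinRoot.root f), ?_⟩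
  have hae : aeval (e (AdjoinRoot.root f)) f = 0 := by
    rw [show e (AdjoinRoot.root f) = (e : AdjoinRoot f →ₐ[ZMod p] GaloisField p 3)
      (AdjoinRoot.root f) from rfl, aeval_algHom_apply, AdjoinRoot.aeval_eq, AdjoinRoot.mk_self,
      map_zero]
  obtain ⟨P, hPm, hPd, hPa, hPe⟩ := exists_normPoly (K := ZMod p) (e (AdjoinRoot.root f))
  rw [GaloisField.finrank p (by norm_num)] at hPd
  have hPf : P = f := by
    have hmin : f = minpoly (ZMod p) (e (AdjoinRoot.root f)) :=
      minpoly.eq_of_irreducible_of_monic hirr hae hfm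
    have hdvd : f ∣ P := hmin ▸ minpoly.dvd _ _ hPa
    exact Polynomial.eq_of_monic_of_dvd_of_natDegree_le hfm hPm hdvd (by omega)
  refine ⟨?_, ?_, ?_⟩
  · intro h
    rw [h, show (1 : GaloisField p 3) = algebraMap (ZMod p) (GaloisField p 3) 1 by simp,
      aeval_algebraMap_apply_eq_algebraMap_eval, map_eq_zero] at hae
    exact hroot 1 hae
  · have h := hPe 0
    rw [hPf, hev, map_zero, zero_sub (e (AdjoinRoot.root f)), ← neg_one_mul (e _), map_mul,
      show (-1 : GaloisField p 3) = algebraMap (ZMod p) (GaloisField p 3) (-1) by simp,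
      Algebra.norm_algebraMap, GaloisField.finrank p (by norm_num)] at h
    linear_combination h
  · have h := hPe 2
    rw [hPf, hev, map_ofNat] at h
    rw [← h]
    ring

end CfsgLib.OddLocal
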