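import Mathlib

/-! Counting `u + v = 2` with `u`, `v` of norm one (Bender–Glauberman, Appendix C). -/

namespace CfsgLib.OddLocal

open Finset

variable {F : Type*} [Field F] [Fintype F] [DecidableEq F]

/-- Character sum bound for the number of solutions of `u + v = d` in a multiplicative subgroup. -/
theorem card_add_eq_bound (ψ : AddChar F ℂ) (hψ : ψ.IsPrimitive) (U : Finset F) (h0 : (0 : F) ∉ U)
    (hne : U.Nonempty) (hmul : ∀ u ∈ U, ∀ v ∈ U, u * v ∈ U) (d : F) (hd : d ≠ 0) :
    (U.card : ℝ) ^ 2 - (Fintype.card F : ℝ) * Real.sqrt (Fintype.card F) ≤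
      (Fintype.card F : ℝ) * (U.filter fun u => d - u ∈ U).card := by
  classical
  set S : F → ℂ := fun t => ∑ u ∈ U, ψ (t * u) with hS
  have hinv : ∀ u ∈ U, ∀ t, S (t * u) = S t := by
    intro u hu t
    have hb : U.image (u * ·) = U := by
      apply Finset.eq_of_subset_of_card_le
      · intro x hx
        obtain ⟨v, hv, rfl⟩ := Finset.mem_image.1 hx
        exact hmul u hu v hv
      · rw [Finset.card_image_of_injective _ (mul_right_injective₀ (fun h => h0 (h ▸ hu)))]
    calc S (t * u) = ∑ v ∈ U, ψ (t * (u * v)) := by simp only [hS, mul_assoc]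
      _ = ∑ v ∈ U.image (u * ·), ψ (t * v) := by
        rw [Finset.sum_image ((mul_right_injective₀ (fun h => h0 (h ▸ hu))).injOn)]
      _ = S t := by rw [hb]
  have hconj : ∀ t, starRingEnd ℂ (S t) = S (-t) := by
    intro t
    simp only [hS, map_sum]
    refine Finset.sum_congr rfl fun u _ => ?_
    rw [← AddChar.map_neg_eq_conj, neg_mul]
  have hnorm : (∑ t : F, ((‖S t‖ ^ 2 : ℝ) : ℂ)) = (Fintype.card F : ℂ) * (U.card : ℂ) := by
    calc (∑ t : F, ((‖S t‖ ^ 2 : ℝ) : ℂ)) = ∑ t : F, S t * S (-t) := by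
          refine Finset.sum_congr rfl fun t _ => ?_
          rw [← hconj, Complex.mul_conj, Complex.normSq_eq_norm_sq]
      _ = ∑ u ∈ U, ∑ v ∈ U, ∑ t : F, ψ (t * (u - v)) := by
          simp only [hS, Finset.sum_mul_sum]
          rw [Finset.sum_comm]
          refine Finset.sum_congr rfl fun u _ => ?_
          rw [Finset.sum_comm]
          refine Finset.sum_congr rfl fun v _ => ?_
          refine Finset.sum_congr rfl fun t _ => ?_
          rw [← AddChar.map_add_eq_mul]
          congr 1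
          ring
      _ = ∑ u ∈ U, ∑ v ∈ U, (if u = v then (Fintype.card F : ℂ) else 0) := by
          refine Finset.sum_congr rfl fun u _ => Finset.sum_congr rfl fun v _ => ?_
          rw [AddChar.sum_mulShift _ hψ]
          simp [sub_eq_zero]
      _ = _ := by simp [mul_comm]
  have hnormR : ∑ t : F, ‖S t‖ ^ 2 = (Fintype.card F : ℝ) * U.card := by exact_mod_cast hnorm
  have hU : (0 : ℝ) < U.card := by exact_mod_cast hne.card_pos
  have hbd : ∀ t, t ≠ 0 → ‖S t‖ ≤ Real.sqrt (Fintype.card F) := by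
    intro t ht
    apply Real.le_sqrt_of_sq_le
    refine le_of_mul_le_mul_left ?_ hU
    calc (U.card : ℝ) * ‖S t‖ ^ 2 = ∑ u ∈ U, ‖S (t * u)‖ ^ 2 := by
          rw [Finset.sum_congr rfl fun u hu => by rw [hinv u hu t], Finset.sum_const, nsmul_eq_mul]
      _ = ∑ x ∈ U.image (t * ·), ‖S x‖ ^ 2 := by
          rw [Finset.sum_image ((mul_right_injective₀ ht).injOn)]
      _ ≤ ∑ x : F, ‖S x‖ ^ 2 :=
          Finset.sum_le_sum_of_subset_of_nonneg (Finset.subset_univ _) fun _ _ _ => sq_nonneg _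
      _ = _ := by rw [hnormR, mul_comm]
  set T : ℂ := ∑ t ∈ Finset.univ.erase (0 : F), ψ (t * -d) * S t ^ 2 with hT
  have hmain : (Fintype.card F : ℂ) * (U.filter fun u => d - u ∈ U).card =
      (U.card : ℂ) ^ 2 + T := by
    have e1 : ∑ t : F, ψ (t * -d) * S t ^ 2 = (U.card : ℂ) ^ 2 + T := by
      rw [← Finset.add_sum_erase _ _ (Finset.mem_univ (0 : F)), ← hT]
      simp [hS]
    rw [← e1]
    symm
    calc ∑ t : F, ψ (t * -d) * S t ^ 2 = ∑ u ∈ U, ∑ v ∈ U, ∑ t : F, ψ (t * (u + v - d)) := by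
          have e : ∀ t : F, ψ (t * -d) * S t ^ 2 = ∑ u ∈ U, ∑ v ∈ U, ψ (t * (u + v - d)) := by
            intro t
            rw [hS, pow_two, Finset.sum_mul_sum, Finset.mul_sum]
            refine Finset.sum_congr rfl fun u _ => ?_
            rw [Finset.mul_sum]
            refine Finset.sum_congr rfl fun v _ => ?_
            rw [← AddChar.map_add_eq_mul, ← AddChar.map_add_eq_mul]
            congr 1
            ring
          rw [Finset.sum_congr rfl fun t _ => e t, Finset.sum_comm]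
          refine Finset.sum_congr rfl fun u _ => ?_
          rw [Finset.sum_comm]
      _ = ∑ u ∈ U, ∑ v ∈ U, (if v = d - u then (Fintype.card F : ℂ) else 0) := by
          refine Finset.sum_congr rfl fun u _ => Finset.sum_congr rfl fun v _ => ?_
          rw [AddChar.sum_mulShift _ hψ]
          simp [sub_eq_zero, eq_sub_iff_add_eq']
      _ = _ := by
          simp only [Finset.sum_ite_eq', ← Finset.sum_filter, Finset.sum_const, nsmul_eq_mul]
          rw [mul_comm]
  have hTb : ‖T‖ ≤ Real.sqrt (Fintype.card F) * Fintype.card F := by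
    refine le_of_mul_le_mul_left ?_ hU
    have e2 : (U.card : ℂ) * T =
        ∑ t ∈ Finset.univ.erase (0 : F), S (t * -d) * S t ^ 2 := by
      have e3 : ∀ u ∈ U, T = ∑ t ∈ Finset.univ.erase (0 : F), ψ (t * -d * u) * S t ^ 2 := by
        intro u hu
        have hu0 : u ≠ 0 := fun h => h0 (h ▸ hu)
        rw [hT]
        symm
        refine Finset.sum_nbij' (fun t => t * u) (fun t => t * u⁻¹) ?_ ?_ ?_ ?_ ?_
        · intro t ht
          simpa [hu0] using ht
        · intro t ht
          simpa [hu0] using ht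
        · intro t _
          field_simp
        · intro t _
          field_simp
        · intro t _
          rw [hinv u hu t]
          congr 2
          ring
      calc (U.card : ℂ) * T = ∑ u ∈ U, T := by rw [Finset.sum_const, nsmul_eq_mul]
        _ = ∑ u ∈ U, ∑ t ∈ Finset.univ.erase (0 : F), ψ (t * -d * u) * S t ^ 2 :=
          Finset.sum_congr rfl e3
        _ = _ := by
          rw [Finset.sum_comm]
          simp only [hS, Finset.sum_mul]
    calc (U.card : ℝ) * ‖T‖ = ‖(U.card : ℂ) * T‖ := by simp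
      _ ≤ ∑ t ∈ Finset.univ.erase (0 : F), ‖S (t * -d) * S t ^ 2‖ := by
          rw [e2]; exact norm_sum_le _ _
      _ ≤ ∑ t ∈ Finset.univ.erase (0 : F), Real.sqrt (Fintype.card F) * ‖S t‖ ^ 2 := by
          refine Finset.sum_le_sum fun t ht => ?_
          rw [norm_mul, norm_pow]
          exact mul_le_mul_of_nonneg_right
            (hbd _ (mul_ne_zero (Finset.ne_of_mem_erase ht) (neg_ne_zero.2 hd))) (sq_nonneg _)
      _ ≤ ∑ t : F, Real.sqrt (Fintype.card F) * ‖S t‖ ^ 2 :=
          Finset.sum_le_sum_of_subset_of_nonneg (Finset.subset_univ _)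
            fun _ _ _ => mul_nonneg (Real.sqrt_nonneg _) (sq_nonneg _)
      _ = (U.card : ℝ) * (Real.sqrt (Fintype.card F) * Fintype.card F) := by
          rw [← Finset.mul_sum, hnormR]; ring
  have hre := congrArg Complex.re hmain
  simp [pow_two] at hre
  have hTre : -‖T‖ ≤ T.re := (abs_le.1 (Complex.abs_re_le_norm T)).1
  rw [pow_two]
  nlinarith

/-- The case of degree at least five. -/
theorem two_le_card_add_eq_two (p q n : ℕ) (hp : 3 ≤ p) (hq : 5 ≤ q)
    (hF : Fintype.card F = p ^ q) (ψ : AddChar F ℂ) (hψ : ψ.IsPrimitive)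
    (U : Finset F) (h0 : (0 : F) ∉ U) (hn : U.card = n) (hnl : p ^ (q - 1) ≤ n)
    (hmul : ∀ u ∈ U, ∀ v ∈ U, u * v ∈ U) (h2 : (2 : F) ≠ 0) :
    2 ≤ (U.filter fun u => (2 : F) - u ∈ U).card := by
  have hne : U.Nonempty := by
    rw [← Finset.card_pos, hn]
    exact lt_of_lt_of_le (pow_pos (by omega) _) hnl
  have hb := card_add_eq_bound ψ hψ U h0 hne hmul 2 h2
  by_contra hlt
  have hc : ((U.filter fun u => (2 : F) - u ∈ U).card : ℝ) ≤ 1 := by
    have : (U.filter fun u => (2 : F) - u ∈ U).card ≤ 1 := by omega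
    exact_mod_cast this
  have h27 : 27 * p ^ q ≤ n ^ 2 := by
    calc 27 * p ^ q = 3 ^ 3 * p ^ q := by norm_num
      _ ≤ p ^ (q - 2) * p ^ q := by
          refine Nat.mul_le_mul_right _ ?_
          exact le_trans (Nat.pow_le_pow_left hp 3) (Nat.pow_le_pow_right (by omega) (by omega))
      _ = (p ^ (q - 1)) ^ 2 := by rw [← pow_add, ← pow_mul]; congr 1; omega
      _ ≤ n ^ 2 := Nat.pow_le_pow_left hnl 2
  have h4 : 3 * (p ^ q) ^ 3 ≤ (n ^ 2) ^ 2 := by
    calc 3 * (p ^ q) ^ 3 ≤ p ^ (q - 4) * (p ^ q) ^ 3 := by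
          refine Nat.mul_le_mul_right _ ?_
          exact le_trans hp (by simpa using Nat.pow_le_pow_right (show 0 < p by omega) (show 1 ≤ q - 4 by omega))
      _ = ((p ^ (q - 1)) ^ 2) ^ 2 := by
          rw [← pow_mul, ← pow_add, ← pow_mul, ← pow_mul]; congr 1; omega
      _ ≤ (n ^ 2) ^ 2 := Nat.pow_le_pow_left (Nat.pow_le_pow_left hnl 2) 2
  rw [hn, hF] at hb
  have h27r : (27 : ℝ) * ((p ^ q : ℕ) : ℝ) ≤ (n : ℝ) ^ 2 := by exact_mod_cast h27
  have h4r : (3 : ℝ) * ((p ^ q : ℕ) : ℝ) ^ 3 ≤ ((n : ℝ) ^ 2) ^ 2 := by exact_mod_cast h4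
  set X : ℝ := ((p ^ q : ℕ) : ℝ) with hX
  set N : ℝ := (n : ℝ) ^ 2 with hN
  have hX1 : 1 ≤ X := by
    rw [hX]; exact_mod_cast Nat.one_le_pow _ _ (show 0 < p by omega)
  have h1 : N - X ≤ X * Real.sqrt X := by nlinarith
  have h2' : (N - X) ^ 2 ≤ X ^ 3 := by
    calc (N - X) ^ 2 ≤ (X * Real.sqrt X) ^ 2 := pow_le_pow_left₀ (by linarith) h1 2
      _ = X ^ 3 := by rw [mul_pow, Real.sq_sqrt (by linarith)]; ring
  nlinarith

end CfsgLib.OddLocal
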