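import Cfsg.Agent.Lib.OddLocal.FieldCore
import Cfsg.Agent.Lib.OddLocal.FieldNorm
import Cfsg.Agent.Lib.OddLocal.NormCount

/-!
# Bender–Glauberman, Appendix C: the field configuration forces `p ≤ q`
-/

set_option autoImplicit false
set_option linter.unusedSectionVars false

namespace CfsgLib.OddLocal.FieldConfig

open FieldTri FieldArith FieldCore

/-- The hypotheses of the appendix. -/
structure Setup {G : Type*} [Group G] {F : Type*} [Field F] (p q : ℕ) (P U Q : Subgroup G)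
    (f ψ : G → F) (y : G) : Prop where
  cop : (nn p q).Coprime (p - 1)
  hf : Set.BijOn f (P : Set G) Set.univ
  hfadd : ∀ x ∈ P, ∀ z ∈ P, f (x * z) = f x + f z
  hUP : U ≤ Subgroup.normalizer (P : Set G)
  hψ : ∀ u ∈ U, ψ u ≠ 0 ∧ ∀ x ∈ P, f (u * x * u⁻¹) = ψ u * f x
  hψmul : ∀ u ∈ U, ∀ v ∈ U, ψ (u * v) = ψ u * ψ v
  hψinj : Set.InjOn ψ (U : Set G)
  hUcard : Nat.card U = nn p q
  hQ : IsMulCommutative Q
  hQp : (Nat.card Q).Coprime p
  hP0Q : ∀ x ∈ P, f x ^ p = f x → x ∈ Subgroup.normalizer (Q : Set G)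
  hy : y ∈ Q
  hP0U : ∀ x ∈ P, f x ^ p = f x → y * x * y⁻¹ ∈ Subgroup.normalizer (U : Set G)

variable {G : Type*} [Group G] [Finite G] {F : Type*} [Field F] [Fintype F] {p q : ℕ}
  [Fact p.Prime] [Algebra (ZMod p) F] {P U Q : Subgroup G} {f ψ : G → F} {y : G}

local notation "ι" => algebraMap (ZMod p) F

namespace Setup

variable (S : Setup p q P U Q f ψ y)

/-- The inverse of `f`. -/
noncomputable def g (_ : Setup p q P U Q f ψ y) (x : F) : G := Function.invFunOn f (P : Set G) x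

include S in
theorem g_mem (x : F) : S.g x ∈ P :=
  Function.invFunOn_mem (S.hf.surjOn (Set.mem_univ x))

include S in
theorem f_g (x : F) : f (S.g x) = x :=
  Function.invFunOn_eq (S.hf.surjOn (Set.mem_univ x))

include S in
theorem g_f {z : G} (hz : z ∈ P) : S.g (f z) = z :=
  S.hf.injOn (S.g_mem _) hz (S.f_g _)

include S in
theorem g_add (x z : F) : S.g (x + z) = S.g x * S.g z := by
  rw [← S.g_f (mul_mem (S.g_mem x) (S.g_mem z)), S.hfadd _ (S.g_mem x) _ (S.g_mem z), S.f_g,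
    S.f_g]

include S in
theorem g_zero : S.g 0 = 1 := by
  simpa using S.g_add 0 0

include S in
theorem g_inj : Function.Injective S.g := fun x z h => by rw [← S.f_g x, h, S.f_g]

include S in
theorem g_conj {u : G} (hu : u ∈ U) (x : F) : u * S.g x * u⁻¹ = S.g (ψ u * x) := by
  have hmem : u * S.g x * u⁻¹ ∈ P :=
    (Subgroup.mem_normalizer_iff.1 (S.hUP hu) _).1 (S.g_mem x)
  rw [← S.g_f hmem, (S.hψ u hu).2 _ (S.g_mem x), S.f_g]

/-- Powers of `s`. -/
noncomputable def sp (i : ZMod p) : G := S.g (algebraMap (ZMod p) F i)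

/-- Powers of `t = y s y⁻¹`. -/
noncomputable def tp (i : ZMod p) : G := y * S.sp i * y⁻¹

include S in
theorem sp_add (i j : ZMod p) : S.sp (i + j) = S.sp i * S.sp j := by
  rw [sp, map_add, S.g_add]; rfl

include S in
theorem sp_zero : S.sp 0 = 1 := by rw [sp, map_zero, S.g_zero]

include S in
theorem sp_pow (i : ZMod p) : ∀ k : ℕ, S.sp i ^ k = S.sp (k * i)
  | 0 => by rw [pow_zero, Nat.cast_zero, zero_mul, S.sp_zero]
  | k + 1 => by rw [pow_succ, sp_pow i k, ← S.sp_add, Nat.cast_succ, add_mul, one_mul]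

include S in
theorem sp_norm_Q (i : ZMod p) : S.sp i ∈ Subgroup.normalizer (Q : Set G) :=
  S.hP0Q _ (S.g_mem _) (by rw [sp, S.f_g, ← map_pow, ZMod.pow_card])

include S in
theorem tp_norm_U (i : ZMod p) : S.tp i ∈ Subgroup.normalizer (U : Set G) :=
  S.hP0U _ (S.g_mem _) (by rw [sp, S.f_g, ← map_pow, ZMod.pow_card])

include S in
theorem tp_norm_Q (i : ZMod p) : S.tp i ∈ Subgroup.normalizer (Q : Set G) :=
  mul_mem (mul_mem (Subgroup.le_normalizer S.hy) (S.sp_norm_Q i))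
    (inv_mem (Subgroup.le_normalizer S.hy))

include S in
theorem tp_add (i j : ZMod p) : S.tp (i + j) = S.tp i * S.tp j := by
  rw [tp, tp, tp, S.sp_add]; group

include S in
theorem tp_zero : S.tp 0 = 1 := by rw [tp, S.sp_zero]; group

include S in
theorem tp_neg (i : ZMod p) : S.tp (-i) = (S.tp i)⁻¹ :=
  eq_inv_of_mul_eq_one_left (by rw [← S.tp_add, neg_add_cancel, S.tp_zero])

include S in
theorem tp_inv_mul (i : ZMod p) : S.tp (-i) * S.tp i = 1 := by
  rw [← S.tp_add, neg_add_cancel, S.tp_zero]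

/-- The conjugate field groups. -/
noncomputable def el (i : ZMod p) (x : F) : G := S.tp (-i) * S.g x * S.tp i

/-- The coordinate of `U` on the `i`th conjugate. -/
noncomputable def lab (i : ZMod p) (u : G) : F := ψ (S.tp i * u * S.tp (-i))

include S in
theorem conj_mem {u : G} (hu : u ∈ U) (i : ZMod p) : S.tp i * u * S.tp (-i) ∈ U := by
  rw [S.tp_neg]
  exact (Subgroup.mem_normalizer_iff.1 (S.tp_norm_U i) _).1 hu

include S in
theorem el_conj {u : G} (hu : u ∈ U) (i : ZMod p) (x : F) :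
    u * S.el i x * u⁻¹ = S.el i (S.lab i u * x) := by
  rw [el, el, lab, ← S.g_conj (S.conj_mem hu i), S.tp_neg]
  group

include S in
theorem el_add (i : ZMod p) (x z : F) : S.el i (x + z) = S.el i x * S.el i z := by
  rw [el, el, el, S.g_add, S.tp_neg]; group

include S in
theorem eq_one_of_mem_P_Q {z : G} (hzP : z ∈ P) (hzQ : z ∈ Q) [CharP F p] : z = 1 := by
  have h1 : ∀ k : ℕ, z ^ k = S.g (k * f z) := by
    intro k
    induction k with
    | zero => rw [pow_zero, Nat.cast_zero, zero_mul, S.g_zero]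
    | succ k ih => rw [pow_succ, ih, Nat.cast_succ, add_mul, one_mul, S.g_add, S.g_f hzP]
  have hp : z ^ p = 1 := by rw [h1, CharP.cast_eq_zero, zero_mul, S.g_zero]
  have hq : z ^ Nat.card Q = 1 := by
    have := pow_card_eq_one' (G := Q) (x := ⟨z, hzQ⟩)
    exact congrArg Subtype.val this
  have := pow_gcd_eq_one.2 ⟨hq, hp⟩
  rwa [S.hQp, pow_one] at this

include S in
theorem psi_one : ψ 1 = 1 := by
  have h := S.hψmul 1 (one_mem _) 1 (one_mem _)
  rw [one_mul] at h
  exact mul_left_cancel₀ (S.hψ 1 (one_mem _)).1 (by rw [← h, mul_one])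

include S in
theorem psi_pow {u : G} (hu : u ∈ U) : ψ u ^ nn p q = 1 := by
  let φ : U →* F :=
    { toFun := fun v => ψ v
      map_one' := S.psi_one
      map_mul' := fun a b => S.hψmul _ a.2 _ b.2 }
  have h := congrArg φ (pow_card_eq_one' (G := U) (x := ⟨u, hu⟩))
  rwa [map_pow, map_one, S.hUcard] at h

include S in
theorem psi_surj {w : F} (hw : w ^ nn p q = 1) (hn : nn p q ≠ 0) : ∃ u ∈ U, ψ u = w := by
  classical
  let S' : Finset F := (Finset.univ : Finset F).filter fun v => v ^ nn p q = 1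
  have : Fintype U := Fintype.ofFinite U
  have hle : S'.card ≤ nn p q := by
    refine (Finset.card_le_card (t := (Polynomial.nthRoots (nn p q) (1 : F)).toFinset) ?_).trans
      ((Multiset.toFinset_card_le _).trans (Polynomial.card_nthRoots _ _))
    intro v hv
    rw [Multiset.mem_toFinset, Polynomial.mem_nthRoots (Nat.pos_of_ne_zero hn)]
    exact (Finset.mem_filter.1 hv).2
  have him : (Finset.univ : Finset U).image (fun u : U => ψ (u : G)) = S' := by
    refine Finset.eq_of_subset_of_card_le (fun v hv => ?_) ?_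
    · obtain ⟨u, -, rfl⟩ := Finset.mem_image.1 hv
      exact Finset.mem_filter.2 ⟨Finset.mem_univ _, S.psi_pow u.2⟩
    · have hinj : Function.Injective (fun u : U => ψ (u : G)) :=
        fun a b h => Subtype.ext (S.hψinj a.2 b.2 h)
      rw [Finset.card_image_of_injective _ hinj, Finset.card_univ, Fintype.card_eq_nat_card,
        S.hUcard]
      exact hle
  obtain ⟨u, -, hu⟩ := Finset.mem_image.1 (him.symm ▸ Finset.mem_filter.2
    ⟨Finset.mem_univ w, hw⟩ : w ∈ (Finset.univ : Finset U).image fun u : U => ψ (u : G))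
  exact ⟨u, u.2, hu⟩

variable (hq : 2 ≤ q) (hF : Fintype.card F = p ^ q)

include S hq in
theorem one_lt_nn : 1 < nn p q := by
  have h := nn_mul p q
  have hp := (Fact.out : p.Prime).two_le
  have h1 : p * p ≤ p ^ q := by
    rw [← pow_two]; exact Nat.pow_le_pow_right (by omega) hq
  by_contra hn
  push Not at hn
  have : nn p q * (p - 1) ≤ p - 1 := by
    calc nn p q * (p - 1) ≤ 1 * (p - 1) := Nat.mul_le_mul_right _ hn
      _ = p - 1 := one_mul _
  have h2 : 2 * p ≤ p * p := Nat.mul_le_mul_right _ hp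
  omega

variable [CharP F p]

include S hq in
/-- `s` does not normalize `U`. -/
theorem sp_not_norm : S.sp 1 ∉ Subgroup.normalizer (U : Set G) := by
  intro hs
  have hU : ∀ u ∈ U, u = 1 := by
    intro u hu
    set z := S.sp 1 * u * (S.sp 1)⁻¹ * u⁻¹ with hz
    have hzU : z ∈ U := mul_mem ((Subgroup.mem_normalizer_iff.1 hs _).1 hu) (inv_mem hu)
    have hzP : z ∈ P := by
      rw [hz, show S.sp 1 * u * (S.sp 1)⁻¹ * u⁻¹ = S.sp 1 * (u * (S.sp 1)⁻¹ * u⁻¹) by group]
      exact mul_mem (S.g_mem _)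
        ((Subgroup.mem_normalizer_iff.1 (S.hUP hu) _).1 (inv_mem (S.g_mem _)))
    have hs1 : f (S.sp 1) = 1 := by rw [sp, S.f_g, map_one]
    have h1 := (S.hψ z hzU).2 (S.sp 1) (S.g_mem _)
    have hcomm : z * S.sp 1 * z⁻¹ = S.sp 1 := by
      have e : z * S.sp 1 = S.sp 1 * z := S.hf.injOn (mul_mem hzP (S.g_mem _))
        (mul_mem (S.g_mem _) hzP) (by
          simp only [sp]
          rw [S.hfadd _ hzP _ (S.g_mem _), S.hfadd _ (S.g_mem _) _ hzP, add_comm])
      rw [e, mul_inv_cancel_right]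
    rw [hcomm, hs1, mul_one] at h1
    have hz1 : z = 1 := S.hψinj hzU (one_mem _) (by rw [← h1, S.psi_one])
    have h2 := (S.hψ u hu).2 (S.sp 1) (S.g_mem _)
    have : u * S.sp 1 * u⁻¹ = S.sp 1 := by
      have e : S.sp 1 * u * (S.sp 1)⁻¹ = u := by
        rw [hz] at hz1; exact mul_inv_eq_one.1 hz1
      calc u * S.sp 1 * u⁻¹ = (S.sp 1 * u * (S.sp 1)⁻¹) * S.sp 1 * u⁻¹ := by rw [e]
        _ = S.sp 1 := by group
    rw [this, hs1, mul_one] at h2
    exact S.hψinj hu (one_mem _) (by rw [← h2, S.psi_one])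
  have h := S.one_lt_nn hq
  rw [← S.hUcard, Subgroup.eq_bot_iff_forall U |>.2 hU, Subgroup.card_bot] at h
  exact lt_irrefl _ h

include S hq in
theorem sp_ne_tp : S.sp 1 ≠ S.tp 1 := fun h => S.sp_not_norm hq (h ▸ S.tp_norm_U 1)

include S in
theorem c_mem (i : ZMod p) : S.sp i * S.tp (-i) ∈ Q := by
  rw [show S.sp i * S.tp (-i) = y⁻¹ * (S.tp i * y * (S.tp i)⁻¹) by rw [S.tp_neg, tp]; group]
  exact mul_mem (inv_mem S.hy) ((Subgroup.mem_normalizer_iff.1 (S.tp_norm_Q i) _).1 S.hy)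

include S hq in
theorem tp_not_norm_P {k : ZMod p} (hk : k ≠ 0) : S.tp k ∉ Subgroup.normalizer (P : Set G) := by
  intro hkP
  have htk : ∀ m : ℕ, S.tp k ^ m = S.tp (m * k) := by
    intro m
    induction m with
    | zero => rw [pow_zero, Nat.cast_zero, zero_mul, S.tp_zero]
    | succ m ih => rw [pow_succ, ih, ← S.tp_add, Nat.cast_succ, add_mul, one_mul]
  have h1P : S.tp 1 ∈ Subgroup.normalizer (P : Set G) := by
    have h := pow_mem hkP (k⁻¹).val
    rwa [htk, ZMod.natCast_zmod_val, inv_mul_cancel₀ hk] at h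
  set z := (S.sp 1)⁻¹ * ((S.tp 1)⁻¹ * S.sp 1 * S.tp 1) with hz
  have hzP : z ∈ P := by
    refine mul_mem (inv_mem (S.g_mem _)) ?_
    have := (Subgroup.mem_normalizer_iff.1 (inv_mem h1P) _).1 (S.g_mem (algebraMap (ZMod p) F 1))
    rwa [inv_inv] at this
  have hq0 : S.tp 1 * (S.sp 1)⁻¹ ∈ Q := by
    have := inv_mem (S.c_mem 1)
    rwa [mul_inv_rev, S.tp_neg, inv_inv] at this
  have hzQ : z ∈ Q := by
    set q0 := S.tp 1 * (S.sp 1)⁻¹ with hq0'
    have hconj : (S.sp 1)⁻¹ * q0 * S.sp 1 ∈ Q := by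
      have := (Subgroup.mem_normalizer_iff.1 (inv_mem (S.sp_norm_Q 1)) _).1 hq0
      rwa [inv_inv] at this
    have hconj2 : (S.sp 1)⁻¹ * ((S.sp 1)⁻¹ * q0⁻¹ * S.sp 1) * S.sp 1 ∈ Q := by
      have h2 : (S.sp 1)⁻¹ * q0⁻¹ * S.sp 1 ∈ Q := by
        have := inv_mem hconj
        rwa [mul_inv_rev, mul_inv_rev, inv_inv, ← mul_assoc] at this
      have := (Subgroup.mem_normalizer_iff.1 (inv_mem (S.sp_norm_Q 1)) _).1 h2
      rwa [inv_inv] at this
    rw [show z = ((S.sp 1)⁻¹ * ((S.sp 1)⁻¹ * q0⁻¹ * S.sp 1) * S.sp 1) *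
      ((S.sp 1)⁻¹ * q0 * S.sp 1) by rw [hz, hq0']; group]
    exact mul_mem hconj2 hconj
  have hz1 := S.eq_one_of_mem_P_Q hzP hzQ
  have hcomm : Commute (S.tp 1) (S.sp 1) := by
    rw [hz, inv_mul_eq_one] at hz1
    rw [Commute, SemiconjBy]
    conv_lhs => rw [hz1]
    group
  set c := S.sp 1 * S.tp (-1) with hc
  have hc1 : c ^ p = 1 := by
    have e2 : ∀ i : ZMod p, ∀ m : ℕ, S.tp i ^ m = S.tp (m * i) := by
      intro i m
      induction m with
      | zero => rw [pow_zero, Nat.cast_zero, zero_mul, S.tp_zero]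
      | succ m ih => rw [pow_succ, ih, ← S.tp_add, Nat.cast_succ, add_mul, one_mul]
    rw [hc, (Commute.mul_pow (by rw [S.tp_neg]; exact hcomm.symm.inv_right) p), S.sp_pow, e2,
      ZMod.natCast_self, zero_mul, zero_mul, S.sp_zero, S.tp_zero, one_mul]
  have hc2 : c ^ Nat.card Q = 1 := by
    have := pow_card_eq_one' (G := Q) (x := ⟨c, S.c_mem 1⟩)
    exact congrArg Subtype.val this
  have hc3 := pow_gcd_eq_one.2 ⟨hc2, hc1⟩
  rw [S.hQp, pow_one, hc, S.tp_neg, mul_inv_eq_one] at hc3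
  exact S.sp_ne_tp hq hc3

include S hq hF in
theorem el_disj (i j : ZMod p) (hij : i ≠ j) (x z : F) (h : S.el i x = S.el j z) :
    x = 0 ∧ z = 0 := by
  have hn : q ≠ 0 := by omega
  set k := j - i with hk
  have hk0 : k ≠ 0 := sub_ne_zero.2 (Ne.symm hij)
  have hxz : S.tp k * S.g x * S.tp (-k) = S.g z := by
    have e1 : S.tp (j - i) = S.tp j * (S.tp i)⁻¹ := by
      rw [sub_eq_add_neg, S.tp_add, S.tp_neg]
    have e2 : S.tp (-(j - i)) = S.tp i * (S.tp j)⁻¹ := by
      rw [neg_sub, sub_eq_add_neg, S.tp_add, S.tp_neg]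
    simp only [el, S.tp_neg] at h
    rw [hk, e1, e2]
    calc S.tp j * (S.tp i)⁻¹ * S.g x * (S.tp i * (S.tp j)⁻¹)
        = S.tp j * ((S.tp i)⁻¹ * S.g x * S.tp i) * (S.tp j)⁻¹ := by group
      _ = S.g z := by rw [h]; group
  by_cases hx : x = 0
  · subst hx
    refine ⟨rfl, S.g_inj ?_⟩
    rw [← hxz, S.g_zero, mul_one, S.tp_neg, mul_inv_cancel]
  exfalso
  refine S.tp_not_norm_P hq hk0 ?_
  obtain ⟨w, hw, hxw⟩ := exists_unit_part hn S.cop hF hx
  have hcx : ∀ v, ∃ (m : ℕ) (u : G), u ∈ U ∧ v = m * (ψ u * x) := by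
    intro v
    by_cases hv : v = 0
    · exact ⟨0, 1, one_mem _, by simp [hv]⟩
    obtain ⟨w', hw', hvw⟩ := exists_unit_part hn S.cop hF hv
    obtain ⟨u, hu, huw⟩ := S.psi_surj (w := w' / w)
      (by rw [div_pow, hw', hw, div_one]) (nn_ne_zero hn)
    refine ⟨(cl p q v / cl p q x).val, u, hu, ?_⟩
    rw [← map_natCast (algebraMap (ZMod p) F), ZMod.natCast_zmod_val, map_div₀, huw]
    nth_rw 1 [hvw]
    conv_rhs => arg 2; arg 2; rw [hxw]
    have h1 : algebraMap (ZMod p) F (cl p q x) ≠ 0 :=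
      (map_ne_zero_iff _ (algebraMap (ZMod p) F).injective).2 (cl_ne_zero hn S.cop hF hx)
    have h2 : w ≠ 0 := fun h0 => hx (by rw [hxw, h0, mul_zero])
    field_simp
  have hmem : ∀ v, S.tp k * S.g v * (S.tp k)⁻¹ ∈ P := by
    intro v
    obtain ⟨m, u, hu, rfl⟩ := hcx v
    induction m with
    | zero => rw [Nat.cast_zero, zero_mul, S.g_zero, mul_one, mul_inv_cancel]; exact one_mem _
    | succ m ih =>
      rw [Nat.cast_succ, add_mul, one_mul, S.g_add,
        show S.tp k * (S.g (m * (ψ u * x)) * S.g (ψ u * x)) * (S.tp k)⁻¹ =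
          (S.tp k * S.g (m * (ψ u * x)) * (S.tp k)⁻¹) * (S.tp k * S.g (ψ u * x) * (S.tp k)⁻¹)
          by group]
      refine mul_mem ih ?_
      have hu' : S.tp k * u * (S.tp k)⁻¹ ∈ U :=
        (Subgroup.mem_normalizer_iff.1 (S.tp_norm_U k) _).1 hu
      rw [S.tp_neg] at hxz
      rw [← S.g_conj hu, show S.tp k * (u * S.g x * u⁻¹) * (S.tp k)⁻¹ =
        (S.tp k * u * (S.tp k)⁻¹) * (S.tp k * S.g x * (S.tp k)⁻¹) *
          (S.tp k * u * (S.tp k)⁻¹)⁻¹ by group, hxz]
      exact (Subgroup.mem_normalizer_iff.1 (S.hUP hu') _).1 (S.g_mem z)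
  refine Subgroup.mem_normalizer_fintype fun a ha => ?_
  have := hmem (f a)
  rwa [S.g_f ha] at this

include S in
theorem R0 : IsR S.el (fun _ => (1 : F)) := by
  have hcomm : ∀ i j, S.el 0 (ι i) * S.el i (ι j) = S.el 0 (ι j) * S.el j (ι i) := by
    intro i j
    have h : ∀ i j, S.el 0 (ι i) * S.el i (ι j) =
        (S.sp i * S.tp (-i)) * (S.sp j * S.tp (-j)) * S.tp (i + j) := by
      intro i j
      rw [el, el, sp, sp, add_comm i j, S.tp_add, S.tp_neg i, S.tp_neg j, neg_zero, S.tp_zero]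
      group
    have hc : (S.sp i * S.tp (-i)) * (S.sp j * S.tp (-j)) =
        (S.sp j * S.tp (-j)) * (S.sp i * S.tp (-i)) := by
      have := S.hQ.is_comm.comm (⟨_, S.c_mem i⟩ : Q) ⟨_, S.c_mem j⟩
      exact congrArg Subtype.val this
    rw [h, h, hc, add_comm]
  intro α δ γ
  show S.el δ _ = _
  set i := δ - α with hi
  set j := γ - α with hj
  have h1 : S.el i (ι j) = S.el 0 (ι (j - i)) * S.el j (ι i) := by
    rw [show j - i = -i + j by ring, map_add, S.el_add, mul_assoc, ← hcomm, ← mul_assoc,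
      ← S.el_add, map_neg, neg_add_cancel, el_zero S.el_add, one_mul]
  have htr : ∀ m l (x : F), S.el (m + l) x = S.tp (-l) * S.el m x * S.tp l := by
    intro m l x
    rw [el, el, neg_add_rev, S.tp_add, S.tp_add]
    group
  simp only [mul_one]
  rw [show δ = i + α by simp [hi], show γ - (i + α) = j - i by simp [hi, hj],
    show γ = j + α by simp [hj], htr, htr, h1,
    show S.el α (ι (j - i)) = S.el (0 + α) (ι (j - i)) by rw [zero_add], htr, S.tp_neg]
  group

include S in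
theorem lab_zero (u : G) : S.lab 0 u = ψ u := by
  rw [lab, neg_zero, S.tp_zero, one_mul, mul_one]

include S hq hF in
theorem two_mul_sub_one (hp5 : 5 ≤ p) (hqp : q < p) {u v : G} (hu : u ∈ U) (hv : v ∈ U)
    (huv : ψ u + ψ v = 2) : (2 * ψ u - 1) ^ nn p q = 1 := by
  have hn : q ≠ 0 := by omega
  let hc : CommGroup Q := { (inferInstance : Group Q) with mul_comm := S.hQ.is_comm.comm }
  let τ : Additive Q →+ Additive Q := MonoidHom.toAdditive
    { toFun := fun a => ⟨S.tp 1 * a * (S.tp 1)⁻¹,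
        (Subgroup.mem_normalizer_iff.1 (S.tp_norm_Q 1) _).1 a.2⟩
      map_one' := Subtype.ext (by simp)
      map_mul' := fun a b => Subtype.ext (by simp [mul_assoc]) }
  have hYm : ∀ i, S.tp i * y * (S.tp i)⁻¹ ∈ Q := fun i =>
    (Subgroup.mem_normalizer_iff.1 (S.tp_norm_Q i) _).1 S.hy
  let yq : ZMod p → Additive Q := fun i => Additive.ofMul ⟨_, hYm i⟩
  have hτ : ∀ i, τ (yq i) = yq (i + 1) := fun i => by
    apply congrArg Additive.ofMul
    refine Subtype.ext ?_
    show S.tp 1 * (S.tp i * y * (S.tp i)⁻¹) * (S.tp 1)⁻¹ = S.tp (i + 1) * y * (S.tp (i + 1))⁻¹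
    rw [add_comm, S.tp_add]; group
  have hne : yq 1 ≠ yq 0 := by
    intro h
    have h' : S.tp 1 * y * (S.tp 1)⁻¹ = y := by
      have := congrArg Subtype.val (Additive.ofMul.injective h)
      simpa [S.tp_zero] using this
    apply S.sp_ne_tp hq
    rw [mul_inv_eq_iff_eq_mul] at h'
    calc S.sp 1 = y⁻¹ * S.tp 1 * y := by rw [tp]; group
      _ = S.tp 1 := by rw [mul_assoc, h', inv_mul_cancel_left]
  have hV : (Nat.card (Additive Q)).Coprime p := by
    rw [Nat.card_congr Additive.toMul]; exact S.hQp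
  obtain ⟨K, _, e, he, hp0, hrel⟩ := exists_addChar hV τ yq hτ hne
  let C : Config p q G F K :=
    { el := S.el, U := U, lab := S.lab, e := e, he := he, hp0 := hp0, hadd := S.el_add
      disj := S.el_disj hq hF, conj := fun u hu i x => S.el_conj hu i x
      lab_mul := fun i u hu v hv => by
        rw [lab, lab, lab, ← S.hψmul _ (S.conj_mem hu i) _ (S.conj_mem hv i), S.tp_neg]
        group
      lab_pow := fun i u hu => S.psi_pow (S.conj_mem hu i)
      lab_surj := fun i w hw => by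
        obtain ⟨u, hu, huw⟩ := S.psi_surj hw (nn_ne_zero hn)
        refine ⟨S.tp (-i) * u * S.tp i, ?_, ?_⟩
        · have := S.conj_mem hu (-i)
          rwa [neg_neg] at this
        · rw [lab, S.tp_neg, ← huw]
          congr 1
          group
      R0 := S.R0
      scalar := ?_ }
  · have := C.two_mul_sub_one hn S.cop hF hp5 hqp hu hv
      (by show S.lab 0 u + S.lab 0 v = 2; rw [S.lab_zero, S.lab_zero, huv])
    simpa [C, S.lab_zero] using this
  intro α δ γ a c b h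
  set Y := fun i => S.tp i * y * (S.tp i)⁻¹ with hY
  have hel : ∀ i k, S.el i (ι k) = (Y (-i))⁻¹ * Y (k - i) * S.tp k := by
    intro i k
    simp only [hY, el]
    have e1 : S.tp (k - i) = (S.tp i)⁻¹ * S.tp k := by
      rw [sub_eq_add_neg, add_comm, S.tp_add, S.tp_neg]
    have e2 : (S.tp (k - i))⁻¹ = S.tp i * (S.tp k)⁻¹ := by
      rw [← S.tp_neg, neg_sub, sub_eq_add_neg, S.tp_add, S.tp_neg]
    rw [show S.g (ι k) = y⁻¹ * S.tp k * y by rw [tp, sp]; group, e2, e1, S.tp_neg]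
    group
  have hmove : ∀ l j, S.tp l * Y j = Y (l + j) * S.tp l := by
    intro l j
    simp only [hY, S.tp_add]
    group
  unfold Tri at h
  rw [hel, hel, hel] at h
  have hr : (Y (-α))⁻¹ * Y (a - α) * S.tp a * ((Y (-γ))⁻¹ * Y (b - γ) * S.tp b) =
      (Y (-α))⁻¹ * Y (a - α) * (Y (a - γ))⁻¹ * Y (a + b - γ) * S.tp (a + b) := by
    have h1 := hmove a (-γ)
    have h2 := hmove a (b - γ)
    rw [show a - γ = a + -γ by ring, show a + b - γ = a + (b - γ) by ring, S.tp_add a b]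
    rw [show (Y (a + -γ)) = S.tp a * Y (-γ) * (S.tp a)⁻¹ by rw [h1, mul_inv_cancel_right],
      show (Y (a + (b - γ))) = S.tp a * Y (b - γ) * (S.tp a)⁻¹ by rw [h2, mul_inv_cancel_right]]
    group
  rw [hr] at h
  have hYQ : ∀ i, Y i ∈ Q := hYm
  have hcab : c = a + b := by
    have hQm : S.tp (c - (a + b)) ∈ Q := by
      have e1 : S.tp (c - (a + b)) = (Y (c - δ))⁻¹ * Y (-δ) *
          ((Y (-α))⁻¹ * Y (a - α) * (Y (a - γ))⁻¹ * Y (a + b - γ)) := by
        rw [sub_eq_add_neg, S.tp_add, S.tp_neg, mul_inv_eq_iff_eq_mul, mul_assoc, ← h]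
        group
      rw [e1]
      exact mul_mem (mul_mem (inv_mem (hYQ _)) (hYQ _))
        (mul_mem (mul_mem (mul_mem (inv_mem (hYQ _)) (hYQ _)) (inv_mem (hYQ _))) (hYQ _))
    set l := c - (a + b) with hl
    have hlQ : y⁻¹ * S.tp l * y ∈ Q := mul_mem (mul_mem (inv_mem S.hy) hQm) S.hy
    have hsp : y⁻¹ * S.tp l * y = S.sp l := by rw [tp]; group
    rw [hsp] at hlQ
    have h1 : algebraMap (ZMod p) F l = 0 :=
      S.g_inj ((S.eq_one_of_mem_P_Q (S.g_mem _) hlQ).trans S.g_zero.symm)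
    rw [map_eq_zero, sub_eq_zero] at h1
    exact h1
  refine ⟨hcab, hrel _ _ _ _ _ _ ?_⟩
  rw [← hcab] at h
  have h3 := mul_right_cancel h
  have h4 : yq (c - δ) = yq (-δ) + (-yq (-α) + yq (a - α) + -yq (a - γ) + yq (c - γ)) := by
    apply congrArg Additive.ofMul
    refine Subtype.ext ?_
    show Y (c - δ) = Y (-δ) * ((Y (-α))⁻¹ * Y (a - α) * (Y (a - γ))⁻¹ * Y (c - γ))
    rw [← h3, mul_inv_cancel_left]
  rw [h4]
  abel

end Setup

/-- Appendix C. -/
theorem le_of_setup [Fact q.Prime] (S : Setup p q P U Q f ψ y)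
    (hF : Fintype.card F = p ^ q) (htwo : ∃ a : F, a ≠ 1 ∧ a ^ nn p q = 1 ∧ (2 - a) ^ nn p q = 1)
    (hp5 : 5 ≤ p) [CharP F p] : p ≤ q := by
  by_contra hqp
  rw [not_le] at hqp
  have hq := (Fact.out : q.Prime)
  have key : ∀ a : F, a ^ nn p q = 1 → (2 - a) ^ nn p q = 1 → (2 - a⁻¹) ^ nn p q = 1 := by
    intro a ha hb
    obtain ⟨u, hu, hua⟩ := S.psi_surj ha (nn_ne_zero hq.ne_zero)
    obtain ⟨v, hv, hvb⟩ := S.psi_surj hb (nn_ne_zero hq.ne_zero)
    have h := S.two_mul_sub_one hq.two_le hF hp5 hqp hu hv (by rw [hua, hvb]; ring)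
    rw [hua] at h
    have ha0 : a ≠ 0 := by
      rintro rfl
      rw [zero_pow (nn_ne_zero hq.ne_zero)] at ha
      exact zero_ne_one ha
    rw [show 2 - a⁻¹ = (2 * a - 1) / a by field_simp, div_pow, h, ha, div_one]
  have : Fintype (GaloisField p q) := Fintype.ofFinite _
  have hcard : Fintype.card (GaloisField p q) = Fintype.card F := by
    rw [hF, Fintype.card_eq_nat_card, GaloisField.card p q hq.ne_zero]
  let φ : GaloisField p q ≃ₐ[ZMod p] F := FiniteField.algEquivOfCardEq p hcard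
  have hN : ∀ c : GaloisField p q, Algebra.norm (ZMod p) c = 1 ↔ φ c ^ nn p q = 1 := by
    intro c
    rw [← (algebraMap (ZMod p) (GaloisField p q)).injective.eq_iff,
      FiniteField.algebraMap_norm_eq_pow, GaloisField.card p q hq.ne_zero, Nat.card_zmod, map_one,
      ← map_pow, ← map_eq_one_iff φ φ.injective]
    rfl
  obtain ⟨a, ha1, ha, hb⟩ := htwo
  have := CfsgLib.OddLocal.le_of_normSet_inv p q hq.ne_zero (φ.symm a)
    (fun h => ha1 (by rw [← φ.apply_symm_apply a, h, map_one]))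
    ⟨(hN _).2 (by rw [φ.apply_symm_apply]; exact ha),
      (hN _).2 (by rw [map_sub, map_ofNat, φ.apply_symm_apply]; exact hb)⟩
    (fun c hc => by
      obtain ⟨h1, h2⟩ := hc
      rw [hN] at h1 h2
      rw [map_sub, map_ofNat] at h2
      exact ⟨(hN _).2 (by rw [map_inv₀, inv_pow, h1, inv_one]),
        (hN _).2 (by rw [map_sub, map_ofNat, map_inv₀]; exact key _ h1 h2)⟩)
  omega

end CfsgLib.OddLocal.FieldConfig
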