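import Cfsg.Prelude.Def_Solvable
import Cfsg.Agent.Lib.OddLocal.QuadPair
import Cfsg.Agent.Lib.OddLocal.Stab
import Cfsg.Agent.Lib.Solvable.HallHigman
import Cfsg.Agent.Lib.Solvable.MinNormal
import Cfsg.Agent.Lib.Coprime.Basic
import Mathlib.FieldTheory.IsAlgClosed.AlgebraicClosure
import Mathlib.LinearAlgebra.Matrix.ToLin
import Mathlib.Data.ZMod.Basic
import Mathlib.Algebra.Module.ZMod
import Mathlib.Algebra.Field.ZMod
import Mathlib.Tactic.Group
import Mathlib.LinearAlgebra.Dimension.Finite
import Mathlib.LinearAlgebra.Basis.VectorSpace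
import Mathlib.LinearAlgebra.Dimension.Free
import Mathlib.LinearAlgebra.FiniteDimensional.Basic

/-!
# p-stability of solvable groups of odd order
-/

set_option autoImplicit false

namespace CfsgLib.OddLocal

open Subgroup

universe u

variable {H : Type u} [Group H]

/-- A `p`-element of odd-order solvable `H` acting quadratically on a minimal normal `p`-subgroup
centralizes it. -/
theorem quadratic_mem_centralizer_of_minimal [Finite H] [Group.IsSolvable H] (hodd : Odd (Nat.card H))
    {p : ℕ} [hp : Fact p.Prime] (M : Subgroup H) [M.Normal] [hMc : IsMulCommutative M]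
    (hMp : ∀ m ∈ M, m ^ p = 1) (hM1 : M ≠ ⊥)
    (hmin : ∀ K : Subgroup H, K.Normal → K ≤ M → K = ⊥ ∨ K = M) {a : H}
    (hquad : ∀ m ∈ M, a * (a * m * a⁻¹ * m⁻¹) * a⁻¹ = a * m * a⁻¹ * m⁻¹) :
    a ∈ Subgroup.centralizer (M : Set H) := by
  classical
  set C := Subgroup.centralizer (M : Set H)
  have hMp' : IsPGroup p M := fun m => ⟨1, Subtype.ext (by simpa using hMp m m.2)⟩
  -- `a ^ p` centralizes `M`
  have hap : a ^ p ∈ C := by
    rw [Subgroup.mem_centralizer_iff]
    intro m hm
    have hzM : a * m * a⁻¹ * m⁻¹ ∈ M := M.mul_mem (Subgroup.Normal.conj_mem inferInstance m hm a) (M.inv_mem hm)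
    have hza : Commute a (a * m * a⁻¹ * m⁻¹) := mul_inv_eq_iff_eq_mul.mp (hquad m hm)
    have hi : ∀ i : ℕ, a ^ i * m * (a ^ i)⁻¹ = (a * m * a⁻¹ * m⁻¹) ^ i * m := by
      intro i
      induction i with
      | zero => simp
      | succ i ih =>
        calc a ^ (i + 1) * m * (a ^ (i + 1))⁻¹ = a * (a ^ i * m * (a ^ i)⁻¹) * a⁻¹ := by
              rw [pow_succ']; group
          _ = (a * (a * m * a⁻¹ * m⁻¹) ^ i) * m * a⁻¹ := by rw [ih]; group
          _ = ((a * m * a⁻¹ * m⁻¹) ^ i * a) * m * a⁻¹ := by rw [(hza.pow_right i).eq]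
          _ = (a * m * a⁻¹ * m⁻¹) ^ i * ((a * m * a⁻¹ * m⁻¹) * m) := by group
          _ = _ := by rw [pow_succ]; simp only [mul_assoc]
    have := hi p
    rw [hMp _ hzM, one_mul] at this
    exact (mul_inv_eq_iff_eq_mul.mp this).symm
  -- the faithful action of `H ⧸ C`
  let φ : H ⧸ C →* MulAut M := QuotientGroup.lift C (MulAut.conjNormal (H := M)) fun c hc => by
    refine MonoidHom.mem_ker.mpr (MulEquiv.ext fun m => Subtype.ext ?_)
    rw [MulAut.conjNormal_apply, MulAut.one_apply, ← Subgroup.mem_centralizer_iff.mp hc m m.2,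
      mul_inv_cancel_right]
  have hφ : ∀ g : H, ∀ m : M, (φ (g : H ⧸ C) m : H) = g * m * g⁻¹ := fun g m => by
    show ((MulAut.conjNormal (H := M) g) m : H) = _
    rw [MulAut.conjNormal_apply]
  -- `O_p(H ⧸ C) = 1`
  have hOp : Cfsg.pCore p (H ⧸ C) = ⊥ := by
    have hK := CfsgLib.Solvable.pCore_isPGroup (G := H ⧸ C) p
    have := CfsgLib.Solvable.pCore_normal p (H ⧸ C)
    set K := Cfsg.pCore p (H ⧸ C)
    let f : K →* MulAut M := φ.comp K.subtype
    let _ : MulAction K M := MulAction.compHom M f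
    let F : Subgroup H := (K.comap (QuotientGroup.mk' C))
    let W : Subgroup H := M ⊓ Subgroup.centralizer (F : Set H)
    have hWn : W.Normal := by
      have : (Subgroup.centralizer (F : Set H)).Normal := Subgroup.normal_centralizer
      exact Subgroup.normal_inf_normal _ _
    have hW1 : W ≠ ⊥ := by
      have : Nontrivial M := (Subgroup.nontrivial_iff_ne_bot M).mpr hM1
      obtain ⟨n, hn, hcard⟩ := (hMp'.nontrivial_iff_card).mp this
      have hdvd : p ∣ Nat.card M := by rw [hcard]; exact dvd_pow_self p hn.ne'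
      have h1 : (1 : M) ∈ MulAction.fixedPoints K M := fun g => map_one (f g)
      obtain ⟨b, hb, hb1⟩ := hK.exists_fixed_point_of_prime_dvd_card_of_fixed_point M hdvd h1
      intro hW
      apply hb1
      have hbW : (b : H) ∈ W := ⟨b.2, Subgroup.mem_centralizer_iff.mpr fun g hg => by
        have := congrArg (Subtype.val) (hb ⟨(g : H ⧸ C), hg⟩)
        change (φ (g : H ⧸ C) b : H) = b at this
        rw [hφ] at this
        exact mul_inv_eq_iff_eq_mul.mp this⟩
      rw [hW, Subgroup.mem_bot] at hbW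
      exact Subtype.ext hbW.symm
    have hWM : W = M := (hmin W hWn inf_le_left).resolve_left hW1
    rw [eq_bot_iff]
    intro g hg
    induction g using QuotientGroup.induction_on with
    | _ g =>
      rw [Subgroup.mem_bot, QuotientGroup.eq_one_iff]
      refine Subgroup.le_centralizer_iff.mp (hWM ▸ inf_le_right : M ≤ Subgroup.centralizer (F : Set H)) ?_
      exact hg
  -- the Fitting subgroup is a `p'`-group
  set F := Cfsg.fittingSubgroup (H ⧸ C)
  have hF : ¬ p ∣ Nat.card F := by
    have hnil := CfsgLib.Solvable.fittingSubgroup_isNilpotent (G := H ⧸ C)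
    have := CfsgLib.Solvable.fittingSubgroup_normal (H ⧸ C)
    have h := CfsgLib.Solvable.map_pCore_le p F
    rw [hOp, le_bot_iff, Subgroup.map_eq_bot_iff_of_injective _ F.subtype_injective] at h
    have h2 := CfsgLib.Solvable.isNilpotent_iff_pCore_index.mp hnil p hp.out
    rwa [h, Subgroup.index_bot] at h2
  have hFn := CfsgLib.Solvable.fittingSubgroup_normal (H ⧸ C)
  have hcop : ∀ g ∈ F, ∀ N : ℕ, g ^ p ^ N = 1 → g = 1 := fun g hg N h => by
    rw [← orderOf_eq_one_iff]
    exact Nat.eq_one_of_dvd_coprimes (Nat.Coprime.pow_left N (hp.out.coprime_iff_not_dvd.mpr hF))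
      (orderOf_dvd_of_pow_eq_one h) (Subgroup.orderOf_dvd_natCard F hg)
  rw [← QuotientGroup.eq_one_iff]
  by_contra hne
  obtain ⟨x, hxF, hxa⟩ : ∃ x : H, (x : H ⧸ C) ∈ F ∧ (x : H ⧸ C) * a ≠ a * (x : H ⧸ C) := by
    by_contra h
    simp only [not_exists, not_and, not_not] at h
    apply hne
    refine hcop _ (CfsgLib.Solvable.centralizer_fittingSubgroup_le (Subgroup.mem_centralizer_iff.mpr ?_)) 1 ?_
    · intro y hy
      induction y using QuotientGroup.induction_on with
      | _ y => exact h y hy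
    · rw [pow_one, ← QuotientGroup.mk_pow, QuotientGroup.eq_one_iff]
      exact hap
  -- linearize
  let _ : AddCommGroup (Additive M) :=
    { (inferInstance : AddGroup (Additive M)) with add_comm := fun a b => hMc.is_comm.comm (Additive.toMul a) (Additive.toMul b) }
  have : Module (ZMod p) (Additive M) := AddCommGroup.zmodModule fun v => by
    apply Additive.toMul.injective
    rw [toMul_nsmul, toMul_zero]
    exact Subtype.ext (by simpa using hMp _ (Additive.toMul v).2)
  let cj : H → (Additive M →+ Additive M) := fun g =>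
    { toFun := fun v => Additive.ofMul (MulAut.conjNormal (H := M) g (Additive.toMul v))
      map_zero' := by rw [toMul_zero, map_one, ofMul_one]
      map_add' := fun v w => by rw [toMul_add, map_mul, ofMul_mul] }
  let ρ₀ : H →* Module.End (ZMod p) (Additive M) :=
    { toFun := fun g => { cj g with map_smul' := ZMod.map_smul (cj g) }
      map_one' := by
        refine LinearMap.ext fun v => ?_
        show (cj 1) v = _
        rw [Module.End.one_apply]
        apply Additive.toMul.injective
        refine Subtype.ext ?_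
        show ((MulAut.conjNormal (H := M) 1 (Additive.toMul v) : M) : H) = ((Additive.toMul v : M) : H)
        rw [MulAut.conjNormal_apply, one_mul, inv_one, mul_one]
      map_mul' := fun g h => by
        refine LinearMap.ext fun v => ?_
        apply Additive.toMul.injective
        refine Subtype.ext ?_
        show ((MulAut.conjNormal (H := M) (g * h) (Additive.toMul v) : M) : H)
          = ((MulAut.conjNormal (H := M) g (MulAut.conjNormal (H := M) h (Additive.toMul v)) : M) : H)
        rw [MulAut.conjNormal_apply, MulAut.conjNormal_apply, MulAut.conjNormal_apply]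
        group }
  let k := AlgebraicClosure (ZMod p)
  have : Module.Finite (ZMod p) (Additive M) := Module.Finite.of_finite
  let bas := Module.finBasis (ZMod p) (Additive M)
  let e₁ : Module.End (ZMod p) (Additive M) →+*
      Matrix (Fin (Module.finrank (ZMod p) (Additive M))) (Fin (Module.finrank (ZMod p) (Additive M))) (ZMod p) :=
    (LinearMap.toMatrixAlgEquiv bas).toAlgHom.toRingHom
  let e₃ : Matrix (Fin (Module.finrank (ZMod p) (Additive M))) (Fin (Module.finrank (ZMod p) (Additive M))) k →+*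
      Module.End k (Fin (Module.finrank (ZMod p) (Additive M)) → k) :=
    (Matrix.toLinAlgEquiv' (R := k)).toAlgHom.toRingHom
  let E := e₃.comp (((algebraMap (ZMod p) k).mapMatrix).comp e₁)
  have hE : Function.Injective E := by
    intro A B h
    exact (LinearMap.toMatrixAlgEquiv bas).injective
      (Matrix.map_injective (algebraMap (ZMod p) k).injective
        ((Matrix.toLinAlgEquiv' (R := k)).injective h))
  let ρ : H →* Module.End k (Fin (Module.finrank (ZMod p) (Additive M)) → k) := E.toMonoidHom.comp ρ₀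
  have hρker : ∀ g : H, ρ g = 1 → g ∈ C := fun g hg => by
    have h1 : ρ₀ g = 1 := hE (by rw [map_one]; exact hg)
    rw [Subgroup.mem_centralizer_iff]
    intro m hm
    have := congrArg (fun f : Module.End (ZMod p) (Additive M) => ((Additive.toMul (f (Additive.ofMul ⟨m, hm⟩)) : M) : H)) h1
    change ((MulAut.conjNormal (H := M) g ⟨m, hm⟩ : M) : H) = m at this
    rw [MulAut.conjNormal_apply] at this
    exact (mul_inv_eq_iff_eq_mul.mp this).symm
  have hq : (ρ a - 1) * (ρ a - 1) = 0 := by
    have h1 : (ρ₀ a - (1 : Module.End (ZMod p) (Additive M))) * (ρ₀ a - (1 : Module.End (ZMod p) (Additive M))) = 0 := by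
      refine LinearMap.ext fun v => ?_
      show ρ₀ a (ρ₀ a v - v) - (ρ₀ a v - v) = 0
      rw [sub_eq_zero]
      apply Additive.toMul.injective
      refine Subtype.ext ?_
      show ((MulAut.conjNormal (H := M) a
          ((MulAut.conjNormal (H := M) a (Additive.toMul v)) / Additive.toMul v) : M) : H)
        = (((MulAut.conjNormal (H := M) a (Additive.toMul v)) / Additive.toMul v : M) : H)
      rw [MulAut.conjNormal_apply, Subgroup.coe_div, MulAut.conjNormal_apply, div_eq_mul_inv]
      exact hquad _ (Additive.toMul v).2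
    show (E (ρ₀ a) - 1) * (E (ρ₀ a) - 1) = 0
    rw [← map_one E, ← map_sub, ← map_mul, h1, map_zero]
  set b := x * a * x⁻¹
  have hqb : (ρ b - 1) * (ρ b - 1) = 0 := by
    have e : ρ b - 1 = ρ x * (ρ a - 1) * ρ x⁻¹ := by
      rw [mul_sub, sub_mul, mul_one, ← map_mul, ← map_mul, ← map_mul, mul_inv_cancel, map_one]
    rw [e]
    calc ρ x * (ρ a - 1) * ρ x⁻¹ * (ρ x * (ρ a - 1) * ρ x⁻¹)
        = ρ x * (ρ a - 1) * (ρ x⁻¹ * ρ x) * (ρ a - 1) * ρ x⁻¹ := by simp only [mul_assoc]
      _ = ρ x * ((ρ a - 1) * (ρ a - 1)) * ρ x⁻¹ := by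
        rw [← map_mul, inv_mul_cancel, map_one, mul_one, mul_assoc (ρ x)]
      _ = 0 := by rw [hq, mul_zero, zero_mul]
  let J : Subgroup H := Subgroup.closure {a, b}
  let aJ : J := ⟨a, Subgroup.subset_closure (Set.mem_insert _ _)⟩
  let bJ : J := ⟨b, Subgroup.subset_closure (Set.mem_insert_of_mem _ rfl)⟩
  have hgen : Subgroup.closure ({aJ, bJ} : Set J) = ⊤ := by
    apply Subgroup.map_injective J.subtype_injective
    rw [MonoidHom.map_closure, Set.image_pair, ← MonoidHom.range_eq_map, Subgroup.range_subtype]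
    rfl
  obtain ⟨N, hN⟩ := quadratic_pair_unipotent (p := p)
    (hodd.of_dvd_nat (Subgroup.card_subgroup_dvd_card J)) (ρ.comp J.subtype) hgen hq hqb
  have h1 : ((a * b⁻¹ : H) : H ⧸ C) ^ p ^ N = 1 := by
    rw [← QuotientGroup.mk_pow, QuotientGroup.eq_one_iff]
    refine hρker _ ?_
    rw [map_pow]
    exact hN
  have hz : ((a * b⁻¹ : H) : H ⧸ C) ∈ F := by
    have e : a * b⁻¹ = (a * x * a⁻¹) * x⁻¹ := by simp only [b]; group
    rw [e, QuotientGroup.mk_mul, QuotientGroup.mk_inv]
    exact F.mul_mem (by rw [QuotientGroup.mk_mul, QuotientGroup.mk_mul, QuotientGroup.mk_inv]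
                        exact hFn.conj_mem _ hxF _) (F.inv_mem hxF)
  have h2 := hcop _ hz N h1
  apply hxa
  have e : a * b⁻¹ = (a * x) * (a⁻¹ * x⁻¹) := by simp only [b]; group
  rw [e, QuotientGroup.mk_mul, QuotientGroup.mk_mul, QuotientGroup.mk_mul, QuotientGroup.mk_inv,
    QuotientGroup.mk_inv] at h2
  calc (x : H ⧸ C) * a = 1 * ((x : H ⧸ C) * a) := (one_mul _).symm
    _ = a * x := by rw [← h2]; group

/-- p-stability for solvable groups of odd order: an element acting quadratically on a normal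
`p`-subgroup `P` lies in a normal subgroup all whose `p'`-elements centralize `P`. -/
theorem exists_normal_of_quadratic : ∀ {H : Type u} [Group H] [Finite H] [Group.IsSolvable H]
    (_ : Odd (Nat.card H)) {p : ℕ} [Fact p.Prime] (P : Subgroup H) [P.Normal] (_ : IsPGroup p P) {a : H}
    (_ : ∀ x ∈ P, a * (a * x * a⁻¹ * x⁻¹) * a⁻¹ = a * x * a⁻¹ * x⁻¹),
    ∃ K : Subgroup H, K.Normal ∧ a ∈ K ∧
      ∀ g ∈ K, (orderOf g).Coprime p → g ∈ Subgroup.centralizer (P : Set H) := by
  intro H _ _ _ hodd p hp P _ hP a hquad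
  induction hn : Nat.card P using Nat.strong_induction_on generalizing H with
  | _ n ih =>
    subst hn
    by_cases hP1 : P = ⊥
    · exact ⟨⊤, inferInstance, Subgroup.mem_top a, fun g _ _ => by
        rw [Subgroup.mem_centralizer_iff]
        intro y hy
        rw [hP1] at hy
        simp [Subgroup.mem_bot.mp hy]⟩
    obtain ⟨M, hMn, hM1, hMP, hmin⟩ := CfsgLib.Solvable.exists_minimal_normal_le ‹P.Normal› hP1
    have := hMn
    have hMc := CfsgLib.Solvable.isMulCommutative_of_minimal_normal hM1 hmin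
    obtain ⟨q, hq, hMq⟩ := CfsgLib.Solvable.exists_prime_pow_eq_one_of_minimal_normal hM1 hmin
    have hqp : q = p := by
      obtain ⟨m, hm⟩ := Subgroup.ne_bot_iff_exists_ne_one.mp hM1
      have h1 : orderOf (m : H) = q := by
        have := Fact.mk hq
        exact orderOf_eq_prime (hMq m m.2) fun h => hm (Subtype.ext h)
      obtain ⟨k, hk⟩ := IsPGroup.iff_card.mp hP
      have h2 := Subgroup.orderOf_dvd_natCard P (hMP m.2)
      rw [h1, hk] at h2
      exact (Nat.prime_dvd_prime_iff_eq hq hp.out).mp (hq.dvd_of_dvd_pow h2)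
    subst hqp
    have haM := quadratic_mem_centralizer_of_minimal hodd M hMq hM1 hmin fun m hm => hquad m (hMP hm)
    set f := QuotientGroup.mk' M
    have hlt : Nat.card (P.map f) < Nat.card P := by
      have h1 := CfsgLib.Solvable.card_map_mk'_eq M hMP
      have h2 : 1 < Nat.card M := (Subgroup.one_lt_card_iff_ne_bot M).mpr hM1
      have h3 : 0 < Nat.card (P.map f) := Nat.card_pos
      calc Nat.card (P.map f) = Nat.card (P.map f) * 1 := (mul_one _).symm
        _ < Nat.card (P.map f) * Nat.card M := Nat.mul_lt_mul_of_pos_left h2 h3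
        _ = Nat.card P := h1
    have : (P.map f).Normal := Subgroup.Normal.map inferInstance f (QuotientGroup.mk'_surjective M)
    obtain ⟨K₁, hK₁n, haK₁, hK₁⟩ := ih _ hlt (H := H ⧸ M)
      (hodd.of_dvd_nat (Subgroup.card_quotient_dvd_card M)) (P.map f) (hP.map f) (a := f a) (by
        rintro _ ⟨x, hx, rfl⟩
        simp only [← map_inv, ← map_mul, hquad x hx]) rfl
    refine ⟨K₁.comap f ⊓ Subgroup.centralizer (M : Set H), Subgroup.normal_inf_normal _ _,
      ⟨haK₁, haM⟩, fun g hg hord => ?_⟩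
    have hgP : f g ∈ Subgroup.centralizer (P.map f : Set (H ⧸ M)) :=
      hK₁ _ hg.1 (hord.coprime_dvd_left (orderOf_map_dvd f g))
    rw [Subgroup.mem_centralizer_iff]
    intro x hx
    have hz : g * x * g⁻¹ * x⁻¹ ∈ M := by
      rw [← QuotientGroup.eq_one_iff]
      show f (g * x * g⁻¹ * x⁻¹) = 1
      rw [map_mul, map_mul, map_mul, map_inv, map_inv,
        ← Subgroup.mem_centralizer_iff.mp hgP _ ⟨x, hx, rfl⟩]
      group
    have := conj_eq_of_stabilizes M g x hz
      (mul_inv_eq_iff_eq_mul.mpr (Subgroup.mem_centralizer_iff.mp hg.2 _ hz).symm) (by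
        obtain ⟨k, hk⟩ := IsPGroup.iff_card.mp (hP.to_le hMP)
        rw [hk]; exact hord.pow_right k)
    exact (mul_inv_eq_iff_eq_mul.mp this).symm

/-- Elements of a normal subgroup whose `p'`-elements lie in `C` map into `O_p(H ⧸ C)`. -/
theorem map_le_pCore_of_p'_le [Finite H] {p : ℕ} [hp : Fact p.Prime] (C K : Subgroup H) [C.Normal]
    [K.Normal] (h : ∀ g ∈ K, (orderOf g).Coprime p → g ∈ C) :
    K.map (QuotientGroup.mk' C) ≤ Cfsg.pCore p (H ⧸ C) := by
  refine CfsgLib.Solvable.le_pCore (Subgroup.Normal.map inferInstance _ (QuotientGroup.mk'_surjective C)) ?_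
  rintro ⟨_, g, hg, rfl⟩
  refine ⟨(orderOf g).factorization p, Subtype.ext ?_⟩
  show (QuotientGroup.mk' C g) ^ _ = 1
  rw [← map_pow]
  refine (QuotientGroup.eq_one_iff _).mpr (h _ (K.pow_mem hg _) ?_)
  rw [orderOf_pow' g (pow_ne_zero _ hp.out.ne_zero),
    Nat.gcd_eq_right (Nat.ordProj_dvd (orderOf g) p)]
  exact (Nat.coprime_ordCompl hp.out (orderOf_pos g).ne').symm

/-- p-stability: a quadratic element maps into `O_p(H ⧸ C)` whenever `C ⊇ C_H(P)`. -/
theorem quadratic_mem_pCore [Finite H] [Group.IsSolvable H] (hodd : Odd (Nat.card H))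
    {p : ℕ} [Fact p.Prime] (P : Subgroup H) [P.Normal] (hP : IsPGroup p P) (C : Subgroup H) [C.Normal]
    (hC : Subgroup.centralizer (P : Set H) ≤ C) {a : H}
    (hquad : ∀ x ∈ P, a * (a * x * a⁻¹ * x⁻¹) * a⁻¹ = a * x * a⁻¹ * x⁻¹) :
    QuotientGroup.mk' C a ∈ Cfsg.pCore p (H ⧸ C) := by
  obtain ⟨K, hK, haK, hKC⟩ := exists_normal_of_quadratic hodd P hP hquad
  exact map_le_pCore_of_p'_le C K (fun g hg h => hC (hKC g hg h)) ⟨a, haK, rfl⟩

/-- An element of an abelian subgroup normalized by `x` acts quadratically on `x`. -/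
theorem quad_of_normalizes {B : Subgroup H} (hB : IsMulCommutative B) {a x : H} (ha : a ∈ B)
    (hx : x ∈ Subgroup.normalizer (B : Set H)) :
    a * (a * x * a⁻¹ * x⁻¹) * a⁻¹ = a * x * a⁻¹ * x⁻¹ := by
  have h : a * x * a⁻¹ * x⁻¹ ∈ B := by
    rw [show a * x * a⁻¹ * x⁻¹ = a * (x * a⁻¹ * x⁻¹) by group]
    exact B.mul_mem ha ((Subgroup.mem_normalizer_iff.mp hx _).mp (B.inv_mem ha))
  rw [mul_inv_eq_iff_eq_mul]
  exact congrArg Subtype.val (hB.is_comm.comm (⟨a, ha⟩ : B) ⟨_, h⟩)

/-- A `p`-subgroup modulo a normal `p`-subgroup lies in the `p`-core. -/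
theorem comap_pCore_le [Finite H] {p : ℕ} [Fact p.Prime] (C : Subgroup H) [C.Normal] (hC : IsPGroup p C) :
    (Cfsg.pCore p (H ⧸ C)).comap (QuotientGroup.mk' C) ≤ Cfsg.pCore p H := by
  have := CfsgLib.Solvable.pCore_normal p (H ⧸ C)
  refine CfsgLib.Solvable.le_pCore (Subgroup.Normal.comap inferInstance _) ?_
  exact (CfsgLib.Solvable.pCore_isPGroup p).comap_of_ker_isPGroup _ (by rwa [QuotientGroup.ker_mk'])

end CfsgLib.OddLocal
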