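import Mathlib.GroupTheory.Nilpotent
import Mathlib.GroupTheory.PGroup
import Mathlib.GroupTheory.Sylow
import Mathlib.GroupTheory.Subgroup.Centralizer
import Cfsg.Agent.Lib.PLocal.Thompson
import Cfsg.Agent.Lib.PLocal.Replace
import Mathlib.Tactic.Group

/-!
# Glauberman's replacement for elementary abelian subgroups
-/

set_option autoImplicit false

namespace CfsgLib.OddLocal

open Subgroup

universe u
variable {G : Type u} [Group G]

/-- In a group of class two and exponent `p`-centre, products of elements of order `p` have order `p`. -/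
theorem mul_pow_eq_one_of_class_two {p : ℕ} (hp : Odd p) {x y : G} (hx : x ^ p = 1) (hy : y ^ p = 1)
    (hcx : Commute x (y * x * y⁻¹ * x⁻¹)) (hcy : Commute y (y * x * y⁻¹ * x⁻¹)) :
    (x * y) ^ p = 1 := by
  set c := y * x * y⁻¹ * x⁻¹ with hc
  have e1 : y * x = c * (x * y) := by rw [hc]; group
  have hn : ∀ n : ℕ, y ^ n * x = c ^ n * (x * y ^ n) := by
    intro n
    induction n with
    | zero => simp
    | succ n ih =>
      rw [pow_succ', mul_assoc, ih, ← mul_assoc, (hcy.pow_right n).eq, mul_assoc, ← mul_assoc y x,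
        e1, ← mul_assoc, ← mul_assoc, ← pow_succ]
      simp only [mul_assoc, pow_succ']
  have hcp : c ^ p = 1 := by
    have := hn p
    rw [hy, one_mul, mul_one] at this
    exact mul_eq_right.mp this.symm
  have hn2 : ∀ n : ℕ, (x * y) ^ n = c ^ (n.choose 2) * x ^ n * y ^ n := by
    intro n
    induction n with
    | zero => simp
    | succ n ih =>
      calc (x * y) ^ (n + 1) = c ^ (n.choose 2) * x ^ n * (y ^ n * x) * y := by
            rw [pow_succ, ih]; simp only [mul_assoc]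
        _ = c ^ (n.choose 2) * (x ^ n * c ^ n) * (x * y ^ n) * y := by rw [hn]; simp only [mul_assoc]
        _ = c ^ (n.choose 2) * (c ^ n * x ^ n) * (x * y ^ n) * y := by rw [(hcx.pow_pow n n).eq]
        _ = c ^ (n.choose 2 + n) * x ^ (n + 1) * y ^ (n + 1) := by
            rw [pow_add, pow_succ x, pow_succ y]; simp only [mul_assoc]
        _ = c ^ ((n + 1).choose 2) * x ^ (n + 1) * y ^ (n + 1) := by
            rw [Nat.choose_succ_succ' n 1, Nat.choose_one_right, Nat.add_comm n (n.choose (1 + 1))]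
  rw [hn2, hx, hy, mul_one, mul_one, Nat.choose_two_right]
  obtain ⟨j, hj⟩ := hp
  have e : p * (p - 1) / 2 = p * j := by
    rw [hj, show 2 * j + 1 - 1 = j * 2 by omega, ← mul_assoc, Nat.mul_div_cancel _ (by norm_num)]
  rw [e, pow_mul, hcp, one_pow]

/-- Glauberman's lemma: in the situation of the replacement theorem the commutators `[a, x]`
commute with each other. -/
theorem commutators_commute {A B : Subgroup G} (hA : IsMulCommutative A)
    (hAB : A ≤ Subgroup.normalizer (B : Set G))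
    (hB2 : ∀ x ∈ B, ∀ y ∈ B, ∀ z ∈ B, Commute z (x * y * x⁻¹ * y⁻¹))
    (hBA : ∀ x ∈ B, ∀ y ∈ B, ∀ a ∈ A, Commute a (x * y * x⁻¹ * y⁻¹))
    {p : ℕ} (hp : Odd p) (hexp : ∀ x ∈ B, x ^ p = 1)
    {x : G} (hx : x ∈ B) (hN : ∀ a ∈ A, a * x * a⁻¹ * x⁻¹ ∈ Subgroup.normalizer (A : Set G)) :
    (∀ d ∈ A, d ∈ B → ∀ a ∈ A, Commute d (a * x * a⁻¹ * x⁻¹)) ∧
      ∀ a ∈ A, ∀ b ∈ A, Commute (a * x * a⁻¹ * x⁻¹) (b * x * b⁻¹ * x⁻¹) := by
  have hcA : ∀ a ∈ A, ∀ b ∈ A, a * b = b * a := fun a ha b hb =>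
    congrArg Subtype.val (hA.is_comm.comm (⟨a, ha⟩ : A) ⟨b, hb⟩)
  let u : G → G := fun a => a * x * a⁻¹ * x⁻¹
  let β : G → G → G := fun s t => s * t * s⁻¹ * t⁻¹
  have hu : ∀ a ∈ A, u a ∈ B := fun a ha =>
    B.mul_mem ((Subgroup.mem_normalizer_iff.mp (hAB ha) x).mp hx) (B.inv_mem hx)
  have hconjB : ∀ a ∈ A, ∀ s ∈ B, a * s * a⁻¹ ∈ B := fun a ha s hs =>
    (Subgroup.mem_normalizer_iff.mp (hAB ha) s).mp hs
  have hβB : ∀ s ∈ B, ∀ t ∈ B, β s t ∈ B := fun s hs t ht =>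
    B.mul_mem (B.mul_mem (B.mul_mem hs ht) (B.inv_mem hs)) (B.inv_mem ht)
  have hβl : ∀ r ∈ B, ∀ s ∈ B, ∀ t ∈ B, β (r * s) t = β r t * β s t := by
    intro r hr s hs t ht
    have e : β (r * s) t = r * β s t * r⁻¹ * β r t := by simp only [β]; group
    rw [e, (hB2 s hs t ht r hr).eq, mul_inv_cancel_right]
    exact (hB2 r hr t ht _ (hβB s hs t ht)).eq
  have hβr : ∀ r ∈ B, ∀ s ∈ B, ∀ t ∈ B, β r (s * t) = β r s * β r t := by
    intro r hr s hs t ht
    have e : β r (s * t) = β r s * (s * β r t * s⁻¹) := by simp only [β]; group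
    rw [e, (hB2 r hr t ht s hs).eq, mul_inv_cancel_right]
  have hβinv : ∀ a ∈ A, ∀ s ∈ B, ∀ t ∈ B, β (a * s * a⁻¹) (a * t * a⁻¹) = β s t := by
    intro a ha s hs t ht
    have e : β (a * s * a⁻¹) (a * t * a⁻¹) = a * β s t * a⁻¹ := by simp only [β]; group
    rw [e, (hBA s hs t ht a ha).eq, mul_inv_cancel_right]
  have hd : ∀ d ∈ A, d ∈ B → ∀ a ∈ A, β d (u a) = 1 := by
    intro d hd hdB a ha
    have h1 : a * d * a⁻¹ = d := by rw [hcA a ha d hd, mul_inv_cancel_right]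
    have h2 := hβinv a ha d hdB x hx
    rw [h1, show a * x * a⁻¹ = u a * x by simp only [u]; group, hβr d hdB _ (hu a ha) x hx] at h2
    exact mul_eq_right.mp h2
  have hdc : ∀ d ∈ A, d ∈ B → ∀ a ∈ A, Commute d (u a) := fun d h1 h2 a ha =>
    mul_inv_eq_iff_eq_mul.mp (mul_inv_eq_one.mp (hd d h1 h2 a ha))
  refine ⟨hdc, ?_⟩
  let lam : G → G := fun a => β x (u a)
  let f : G → G → G := fun a b => β (u a) (u b)
  have hlamB : ∀ a ∈ A, lam a ∈ B := fun a ha => hβB x hx _ (hu a ha)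
  have hcomm : ∀ s ∈ B, ∀ t ∈ B, ∀ z ∈ B, Commute (β s t) z := fun s hs t ht z hz => (hB2 s hs t ht z hz).symm
  -- (3)
  have h3 : ∀ a ∈ A, ∀ b ∈ A, lam (a⁻¹ * b) = f a b * (lam b * (lam a)⁻¹) := by
    intro a ha b hb
    have hab : a⁻¹ * b ∈ A := A.mul_mem (A.inv_mem ha) hb
    have h := hβinv a ha x hx (u (a⁻¹ * b) * x) (B.mul_mem (hu _ hab) hx)
    rw [show a * (u (a⁻¹ * b) * x) * a⁻¹ = u b * x by simp only [u]; group,
      show a * x * a⁻¹ = u a * x by simp only [u]; group, hβl _ (hu a ha) x hx _ (B.mul_mem (hu b hb) hx),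
      hβr _ (hu a ha) _ (hu b hb) x hx, hβr x hx _ (hu b hb) x hx, hβr x hx _ (hu _ hab) x hx,
      show β x x = 1 by simp [β], mul_one, mul_one] at h
    show lam (a⁻¹ * b) = _
    rw [show lam (a⁻¹ * b) = β x (u (a⁻¹ * b)) from rfl, ← h]
    show β (u a) (u b) * β (u a) x * β x (u b) = f a b * (β x (u b) * (β x (u a))⁻¹)
    rw [show (β x (u a))⁻¹ = β (u a) x by simp only [β]; group, mul_assoc,
      (hcomm _ (hu a ha) x hx _ (hβB x hx _ (hu b hb))).eq]
  -- (4)
  have h4 : ∀ a ∈ A, lam a⁻¹ = (lam a)⁻¹ := by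
    intro a ha
    have := h3 a ha 1 A.one_mem
    simpa [lam, f, u, β] using this
  -- (2)
  have h2 : ∀ a ∈ A, ∀ b ∈ A, f a⁻¹ b = (f a b)⁻¹ := by
    intro a ha b hb
    let d := a⁻¹ * (u a)⁻¹ * a * u a
    have hdA : d ∈ A := by
      have : (u a)⁻¹ * a * u a ∈ A := by
        have := (Subgroup.mem_normalizer_iff''.mp (hN a ha) a).mp ha
        exact this
      simpa [d, mul_assoc] using A.mul_mem (A.inv_mem ha) this
    have hdB : d ∈ B := by
      refine B.mul_mem ?_ (hu a ha)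
      have := hconjB a⁻¹ (A.inv_mem ha) _ (B.inv_mem (hu a ha))
      simpa using this
    have e : u a⁻¹ = d * (u a)⁻¹ := by simp only [d, u]; group
    show β (u a⁻¹) (u b) = _
    rw [e, hβl d hdB _ (B.inv_mem (hu a ha)) _ (hu b hb), hd d hdA hdB b hb, one_mul]
    have := hβl _ (B.inv_mem (hu a ha)) _ (hu a ha) _ (hu b hb)
    rw [inv_mul_cancel, show β 1 (u b) = 1 by simp [β]] at this
    exact eq_inv_of_mul_eq_one_left this.symm
  have hsym : ∀ a ∈ A, ∀ b ∈ A, f a⁻¹ b = lam (a * b) * ((lam b * lam a)⁻¹) := by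
    intro a ha b hb
    have := h3 a⁻¹ (A.inv_mem ha) b hb
    rw [inv_inv, h4 a ha, inv_inv] at this
    rw [this, mul_inv_cancel_right]
  intro a ha b hb
  have h5 : f a b = f b a := by
    apply inv_injective
    rw [← h2 a ha b hb, ← h2 b hb a ha, hsym a ha b hb, hsym b hb a ha, hcA a ha b hb,
      (hcomm x hx _ (hu b hb) _ (hlamB a ha)).eq]
  have h6 : f b a = (f a b)⁻¹ := by simp only [f, β]; group
  have h7 : f a b ^ 2 = 1 := by
    rw [pow_two]; exact mul_eq_one_iff_eq_inv.mpr (h5.trans h6)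
  have h8 : f a b = 1 := by
    obtain ⟨j, hj⟩ := hp
    have := hexp _ (hβB _ (hu a ha) _ (hu b hb))
    change f a b ^ p = 1 at this
    rwa [hj, pow_succ, pow_mul, h7, one_pow, one_mul] at this
  exact mul_inv_eq_iff_eq_mul.mp (mul_inv_eq_one.mp h8)

/-- Replacement theorem: if `B` does not normalize `A`, another elementary abelian subgroup of
largest order normalizes `A` and meets `B` in more. -/
theorem elementary_replacement [Finite G] {p : ℕ} [Fact p.Prime] (hp : Odd p) {S A B : Subgroup G}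
    (hS : IsPGroup p S) (hA : A ∈ CfsgLib.PLocal.maxElemIn p S) (hBS : B ≤ S)
    (hBn : S ≤ Subgroup.normalizer (B : Set G))
    (hexp : ∀ x ∈ B, x ^ p = 1)
    (hB2 : ∀ x ∈ B, ∀ y ∈ B, ∀ z ∈ B, Commute z (x * y * x⁻¹ * y⁻¹))
    (hBA : ∀ x ∈ B, ∀ y ∈ B, ∀ a ∈ A, Commute a (x * y * x⁻¹ * y⁻¹))
    (hne : ¬ B ≤ Subgroup.normalizer (A : Set G)) :
    ∃ A' ∈ CfsgLib.PLocal.maxElemIn p S, A' ≤ Subgroup.normalizer (A : Set G) ∧
      Nat.card ↥(A ⊓ B) < Nat.card ↥(A' ⊓ B) := by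
  classical
  have hAc : IsMulCommutative A := hA.2.1.1
  -- choice of `x`
  have hnil : Group.IsNilpotent S := hS.isNilpotent
  have hex : ∃ i, ∀ s ∈ S.lowerCentralSeries i, s ∈ B → s ∈ Subgroup.normalizer (A : Set G) := by
    obtain ⟨n, hn⟩ := (Subgroup.isNilpotent_iff_lowerCentralSeries S).mp hnil
    exact ⟨n, fun s hs _ => by rw [hn, Subgroup.mem_bot] at hs; rw [hs]; exact Subgroup.one_mem _⟩
  obtain ⟨i, hi⟩ : ∃ i, Nat.find hex = i + 1 := by
    refine Nat.exists_eq_succ_of_ne_zero fun h0 => hne fun b hb => ?_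
    have := Nat.find_spec hex
    rw [h0] at this
    exact this b (hBS hb) hb
  have hmin := Nat.find_min hex (show i < Nat.find hex by omega)
  simp only [not_forall] at hmin
  obtain ⟨x, hxi, hxB, hxN⟩ := hmin
  have hnext := Nat.find_spec hex
  rw [hi] at hnext
  have hAB : A ≤ Subgroup.normalizer (B : Set G) := hA.1.trans hBn
  let u : G → G := fun a => a * x * a⁻¹ * x⁻¹
  have huB : ∀ a ∈ A, u a ∈ B := fun a ha =>
    B.mul_mem ((Subgroup.mem_normalizer_iff.mp (hAB ha) x).mp hxB) (B.inv_mem hxB)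
  have huN : ∀ a ∈ A, u a ∈ Subgroup.normalizer (A : Set G) := by
    intro a ha
    have hm : u a ∈ S.lowerCentralSeries (i + 1) := by
      have := Subgroup.inv_mem _ (Subgroup.commutator_mem_commutator hxi (hA.1 ha))
      rw [commutatorElement_inv, ← Subgroup.lowerCentralSeries_succ] at this
      exact this
    exact hnext _ hm (huB a ha)
  obtain ⟨hd, huu⟩ := commutators_commute hAc hAB hB2 hBA hp hexp hxB huN
  set M := Subgroup.closure {g | ∃ a ∈ A, g = u a} with hM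
  have hMB : M ≤ B := (Subgroup.closure_le B).mpr (by rintro _ ⟨a, ha, rfl⟩; exact huB a ha)
  have hMN : M ≤ Subgroup.normalizer (A : Set G) :=
    (Subgroup.closure_le _).mpr (by rintro _ ⟨a, ha, rfl⟩; exact huN a ha)
  have hMc : M ≤ Subgroup.centralizer (M : Set G) := by
    rw [hM, Subgroup.centralizer_closure, Subgroup.closure_le]
    rintro _ ⟨a, ha, rfl⟩ _ ⟨b, hb, rfl⟩
    exact (huu a ha b hb).symm.eq
  have hMel : Cfsg.IsElementaryAbelian p M :=
    ⟨⟨⟨fun s t => Subtype.ext ((hMc t.2 s s.2))⟩⟩, fun g hg => hexp _ (hMB hg)⟩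
  set C := A ⊓ Subgroup.centralizer (M : Set G)
  have hCA : C ≤ A := inf_le_left
  have hel : Cfsg.IsElementaryAbelian p (M ⊔ C) :=
    CfsgLib.PLocal.elemAb_sup hMel (CfsgLib.PLocal.elemAb_mono hA.2.1 hCA)
      (Subgroup.le_centralizer_iff.mp inf_le_right)
  have hMS : M ≤ S := hMB.trans hBS
  -- counting
  have hfib : Nat.card A * Nat.card ↥(M ⊓ A) ≤ Nat.card M * Nat.card C := by
    have key : ∀ a ∈ A, ∀ b ∈ A, (u a)⁻¹ * u b ∈ A → a⁻¹ * b ∈ C := by
      intro a ha b hb h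
      have he : a⁻¹ * b ∈ A := A.mul_mem (A.inv_mem ha) hb
      set e := a⁻¹ * b with he'
      have h1 : u b * (u a)⁻¹ ∈ A := by
        have := (Subgroup.mem_normalizer_iff.mp (huN a ha) _).mp h
        simpa [mul_assoc] using this
      have hue : u e ∈ A := by
        have h2 : u e = a⁻¹ * (u b * (u a)⁻¹) * a := by simp only [u, he']; group
        rw [h2]
        exact A.mul_mem (A.mul_mem (A.inv_mem ha) h1) ha
      refine ⟨he, ?_⟩
      rw [hM, Subgroup.centralizer_closure]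
      refine Subgroup.mem_centralizer_iff.mpr ?_
      rintro _ ⟨c, hc, rfl⟩
      have hce : e * c = c * e := congrArg Subtype.val (hAc.is_comm.comm (⟨e, he⟩ : A) ⟨c, hc⟩)
      have hcu : c * u e = u e * c := congrArg Subtype.val (hAc.is_comm.comm (⟨c, hc⟩ : A) ⟨u e, hue⟩)
      have e1 : e * u c * e⁻¹ = u e * u c * (u e)⁻¹ := by
        calc e * u c * e⁻¹ = (e * c) * x * c⁻¹ * x⁻¹ * e⁻¹ := by simp only [u]; group
          _ = c * e * x * c⁻¹ * x⁻¹ * e⁻¹ := by rw [hce]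
          _ = c * e * x * e⁻¹ * (e * c * e⁻¹)⁻¹ * (e * x⁻¹ * e⁻¹) := by group
          _ = c * e * x * e⁻¹ * c⁻¹ * (e * x⁻¹ * e⁻¹) := by rw [hce, mul_inv_cancel_right]
          _ = c * e * x * (c * e)⁻¹ * (e * x * e⁻¹)⁻¹ := by group
          _ = (c * u e) * x * c⁻¹ * x⁻¹ * (u e)⁻¹ := by simp only [u]; group
          _ = u e * u c * (u e)⁻¹ := by rw [hcu]; simp only [u]; group
      rw [(huu e he c hc).eq, mul_inv_cancel_right] at e1
      exact (mul_inv_eq_iff_eq_mul.mp e1).symm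
    let F : A → M ⧸ (M ⊓ A).subgroupOf M := fun a =>
      QuotientGroup.mk ⟨u a, Subgroup.subset_closure ⟨a, a.2, rfl⟩⟩
    let H : A ⧸ C.subgroupOf A → M ⧸ (M ⊓ A).subgroupOf M := fun q => F q.out
    have hH : Function.Injective H := by
      intro q r hqr
      have := QuotientGroup.eq.mp hqr
      rw [Subgroup.mem_subgroupOf] at this
      have h2 := key _ q.out.2 _ r.out.2 this.2
      rw [← QuotientGroup.out_eq' q, ← QuotientGroup.out_eq' r, QuotientGroup.eq, Subgroup.mem_subgroupOf]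
      exact h2
    have h1 := Nat.card_le_card_of_injective H hH
    rw [Subgroup.card_eq_card_quotient_mul_card_subgroup (C.subgroupOf A),
      Subgroup.card_eq_card_quotient_mul_card_subgroup ((M ⊓ A).subgroupOf M),
      Nat.card_congr (Subgroup.subgroupOfEquivOfLe hCA).toEquiv,
      Nat.card_congr (Subgroup.subgroupOfEquivOfLe (inf_le_left : M ⊓ A ≤ M)).toEquiv,
      mul_right_comm _ (Nat.card C)]
    calc _ ≤ Nat.card (M ⧸ (M ⊓ A).subgroupOf M) * Nat.card ↥(M ⊓ A) * Nat.card C := by gcongr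
      _ = _ := rfl
  have hcard : Nat.card A ≤ Nat.card ↥(M ⊔ C) := by
    have h1 := CfsgLib.PLocal.card_mul_le_card_sup_mul_inf M C
    have h2 : Nat.card ↥(M ⊓ C) ≤ Nat.card ↥(M ⊓ A) :=
      Subgroup.card_le_of_le (inf_le_inf_left M hCA)
    exact Nat.le_of_mul_le_mul_right (hfib.trans (h1.trans (Nat.mul_le_mul le_rfl h2))) Nat.card_pos
  refine ⟨M ⊔ C, ⟨sup_le hMS (hCA.trans hA.1), hel, fun E hE hEe => (hA.2.2 E hE hEe).trans hcard⟩,
    sup_le hMN (hCA.trans Subgroup.le_normalizer), ?_⟩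
  have hle : A ⊓ B ≤ (M ⊔ C) ⊓ B := by
    refine le_inf (fun g hg => Subgroup.mem_sup_right ⟨hg.1, ?_⟩) inf_le_right
    rw [hM, Subgroup.centralizer_closure]
    refine Subgroup.mem_centralizer_iff.mpr ?_
    rintro _ ⟨a, ha, rfl⟩
    exact (hd g hg.1 hg.2 a ha).symm.eq
  refine lt_of_le_of_ne (Subgroup.card_le_of_le hle) fun heq => hxN ?_
  have heq' := Subgroup.eq_of_le_of_card_ge hle heq.ge
  have huA : ∀ a ∈ A, u a ∈ A := fun a ha =>
    (heq' ▸ ⟨Subgroup.mem_sup_left (Subgroup.subset_closure ⟨a, ha, rfl⟩), huB a ha⟩ : u a ∈ A ⊓ B).1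
  have hfwd : ∀ y ∈ A, x * y * x⁻¹ ∈ A := fun y hy => by
    have h := A.mul_mem hy (huA y⁻¹ (A.inv_mem hy))
    simpa [u, mul_assoc] using h
  exact Subgroup.mem_normalizer_iff_map_conj_eq.mpr (Subgroup.eq_of_le_of_card_ge
    (by rintro _ ⟨y, hy, rfl⟩; exact hfwd y hy)
    (le_of_eq (Subgroup.card_map_of_injective (MulAut.conj x).injective).symm))

end CfsgLib.OddLocal
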