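import Cfsg.Prelude.Def_Local
import Cfsg.Agent.Lib.OddLocal.Replace
import Cfsg.Agent.Lib.OddLocal.PStable
import Cfsg.Agent.Lib.OddLocal.Stab
import Cfsg.Agent.Lib.PLocal.Thompson
import Cfsg.Agent.Lib.PLocal.Sylow

/-!
# Glauberman's `ZJ` theorem for solvable groups of odd order
-/

set_option autoImplicit false

namespace CfsgLib.OddLocal

open Subgroup
open scoped commutatorElement

universe u

variable {G H : Type u} [Group G] [Group H]

theorem thompsonOf_map {p : ℕ} (f : G →* H) {S : Subgroup G}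
    (hf : ∀ x ∈ S, f x = 1 → x = 1) :
    (Cfsg.thompsonSubgroupOf p S).map f = Cfsg.thompsonSubgroupOf p (S.map f) := by
  let g : S →* S.map f :=
    (f.comp S.subtype).codRestrict (S.map f) fun x => ⟨x, x.2, rfl⟩
  have hg : Function.Bijective g := by
    refine ⟨(injective_iff_map_eq_one g).mpr fun x hx =>
      Subtype.ext (hf x x.2 (congrArg Subtype.val hx)), ?_⟩
    rintro ⟨_, x, hx, rfl⟩
    exact ⟨⟨x, hx⟩, rfl⟩
  unfold Cfsg.thompsonSubgroupOf
  rw [← CfsgLib.PLocal.thompson_map_equiv (p := p) (MulEquiv.ofBijective g hg),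
    Subgroup.map_map, Subgroup.map_map]
  rfl

theorem centerThompsonOf_map {p : ℕ} (f : G →* H) {S : Subgroup G}
    (hf : ∀ x ∈ S, f x = 1 → x = 1) :
    (Cfsg.centerThompsonOf p S).map f = Cfsg.centerThompsonOf p (S.map f) := by
  unfold Cfsg.centerThompsonOf
  rw [← thompsonOf_map f hf]
  set J := Cfsg.thompsonSubgroupOf p S
  have hJ : J ≤ S := CfsgLib.PLocal.thompsonOf_le S
  ext y
  constructor
  · rintro ⟨x, ⟨hx, hxc⟩, rfl⟩
    refine ⟨⟨x, hx, rfl⟩, ?_⟩
    rintro _ ⟨z, hz, rfl⟩
    rw [← map_mul, ← map_mul, hxc z hz]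
  · rintro ⟨⟨x, hx, rfl⟩, hxc⟩
    refine ⟨x, ⟨hx, fun z hz => ?_⟩, rfl⟩
    have h := hxc (f z) ⟨z, hz, rfl⟩
    have := hf ((z * x) * (x * z)⁻¹)
      (S.mul_mem (S.mul_mem (hJ hz) (hJ hx)) (S.inv_mem (S.mul_mem (hJ hx) (hJ hz))))
      (by rw [map_mul, map_inv, map_mul, map_mul, h, mul_inv_cancel])
    exact mul_inv_eq_one.mp this

theorem centerThompsonOf_le {p : ℕ} (S : Subgroup G) : Cfsg.centerThompsonOf p S ≤ S :=
  inf_le_left.trans (CfsgLib.PLocal.thompsonOf_le S)

theorem centerThompsonOf_comm {p : ℕ} (S : Subgroup G) :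
    IsMulCommutative (Cfsg.centerThompsonOf p S) :=
  ⟨⟨fun x y => Subtype.ext ((y.2.2 x.1 x.2.1))⟩⟩

theorem normalizer_le_normalizer_centerThompsonOf {p : ℕ} (S : Subgroup G) :
    Subgroup.normalizer (S : Set G) ≤ Subgroup.normalizer (Cfsg.centerThompsonOf p S : Set G) := by
  intro g hg
  have hJ := CfsgLib.PLocal.normalizer_le_normalizer_thompsonOf (p := p) S hg
  rw [Subgroup.mem_normalizer_iff_map_conj_eq] at hg ⊢
  rw [centerThompsonOf_map _ (fun x _ hx => (MulAut.conj g).injective (hx.trans (map_one _).symm)), hg]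

/-- The elements of `B` of order dividing `p`, `B` of class two. -/
def omegaSub (p : ℕ) (hp : Odd p) (B : Subgroup G)
    (hB2 : ∀ x ∈ B, ∀ y ∈ B, ∀ z ∈ B, Commute z (x * y * x⁻¹ * y⁻¹)) : Subgroup G where
  carrier := {x | x ∈ B ∧ x ^ p = 1}
  one_mem' := ⟨B.one_mem, one_pow p⟩
  inv_mem' := fun {x} hx => ⟨B.inv_mem hx.1, by rw [inv_pow, hx.2, inv_one]⟩
  mul_mem' := fun {x y} hx hy => ⟨B.mul_mem hx.1 hy.1,
    mul_pow_eq_one_of_class_two hp hx.2 hy.2 (hB2 y hy.1 x hx.1 x hx.1) (hB2 y hy.1 x hx.1 y hy.1)⟩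

/-- Glauberman: `Z(J(S)) ⊓ B` is normal for every normal `p`-subgroup `B`. -/
theorem centerThompsonOf_inf_normal [Finite G] [Group.IsSolvable G] (hodd : Odd (Nat.card G))
    {p : ℕ} [hp : Fact p.Prime] (hp2 : Odd p) (S : Sylow p G) :
    ∀ B : Subgroup G, B.Normal → IsPGroup p B →
      (Cfsg.centerThompsonOf p (S : Subgroup G) ⊓ B).Normal := by
  intro B
  induction hn : Nat.card B using Nat.strong_induction_on generalizing B with
  | _ n ih =>
    subst hn
    intro hBn hBp
    set J := Cfsg.thompsonSubgroupOf p (S : Subgroup G) with hJ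
    set Z := Cfsg.centerThompsonOf p (S : Subgroup G) with hZ
    set X := Z ⊓ B with hX
    by_cases hB1 : B = ⊥
    · have : X = ⊥ := le_bot_iff.mp (inf_le_right.trans hB1.le)
      rw [this]; infer_instance
    have hBS : B ≤ (S : Subgroup G) := CfsgLib.Solvable.normal_pgroup_le_sylow hBp S
    have hZS : Z ≤ (S : Subgroup G) := centerThompsonOf_le _
    have hSX : (S : Subgroup G) ≤ Subgroup.normalizer (X : Set G) := fun s hs => by
      rw [Subgroup.mem_normalizer_iff_map_conj_eq, Subgroup.map_inf _ _ _ (MulAut.conj s).injective,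
        Subgroup.mem_normalizer_iff_map_conj_eq.mp
          (normalizer_le_normalizer_centerThompsonOf _ (Subgroup.le_normalizer hs)),
        Subgroup.mem_normalizer_iff_map_conj_eq.mp (Subgroup.normalizer_eq_top B ▸ Subgroup.mem_top s)]
    -- reduce to `B` generated by the conjugates of `X`
    set N := Subgroup.normalClosure (X : Set G)
    have hNB : N ≤ B := Subgroup.normalClosure_le_normal (inf_le_right : X ≤ B)
    by_cases hNlt : N = B
    swap
    · have hcard : Nat.card N < Nat.card B := lt_of_le_of_ne (Subgroup.card_le_of_le hNB)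
        fun h => hNlt (Subgroup.eq_of_le_of_card_ge hNB h.ge)
      have := ih _ hcard N rfl Subgroup.normalClosure_normal (hBp.to_le hNB)
      rwa [show Z ⊓ N = X from le_antisymm (inf_le_inf_left Z hNB)
        (le_inf inf_le_left Subgroup.le_normalClosure)] at this
    -- the derived subgroup of `B`
    have hDn : (⁅B, B⁆ : Subgroup G).Normal := Subgroup.commutator_normal B B
    have hDB : ⁅B, B⁆ ≤ B := Subgroup.commutator_le_left B B
    have hDlt : Nat.card ↥⁅B, B⁆ < Nat.card B := by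
      refine lt_of_le_of_ne (Subgroup.card_le_of_le hDB) fun h => ?_
      have hBB : ⁅B, B⁆ = B := Subgroup.eq_of_le_of_card_ge hDB h.ge
      have : Nontrivial B := (Subgroup.nontrivial_iff_ne_bot B).mpr hB1
      refine (Group.IsSolvable.commutator_lt_top_of_nontrivial (G := B)).ne ?_
      apply Subgroup.map_injective B.subtype_injective
      rw [← MonoidHom.range_eq_map, Subgroup.range_subtype, _root_.commutator_def,
        Subgroup.map_commutator, ← MonoidHom.range_eq_map, Subgroup.range_subtype, hBB]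
    set W := Z ⊓ ⁅B, B⁆
    have hWn : W.Normal := ih _ hDlt _ rfl hDn (hBp.to_le hDB)
    have hWc : ∀ w ∈ W, ∀ g : G, ∀ x ∈ X, Commute w (g * x * g⁻¹) := by
      intro w hw g x hx
      have h1 : g⁻¹ * w * g ∈ Z := ((hWn.conj_mem' w hw g)).1
      have h2 : Commute (g⁻¹ * w * g) x := (hx.1.2 _ h1.1)
      have := h2.map (MulAut.conj g).toMonoidHom
      simpa [mul_assoc] using this
    have hDW : ⁅B, B⁆ ≤ W := by
      rw [Subgroup.commutator_le]
      intro s hs t ht
      rw [← hNlt] at hs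
      have key : N ≤ (Subgroup.centralizer ((B.map (QuotientGroup.mk' W) : Subgroup (G ⧸ W)) : Set (G ⧸ W))).comap
          (QuotientGroup.mk' W) := by
        have : (B.map (QuotientGroup.mk' W)).Normal := hBn.map _ (QuotientGroup.mk'_surjective W)
        refine Subgroup.normalClosure_le_normal ?_
        intro x hx
        rw [SetLike.mem_coe, Subgroup.mem_comap, Subgroup.mem_centralizer_iff]
        rintro _ ⟨b, hb, rfl⟩
        rw [← map_mul, ← map_mul]
        refine QuotientGroup.eq.mpr ?_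
        have hbX : b⁻¹ * x * b ∈ X := (Subgroup.mem_normalizer_iff''.mp (hSX (hBS hb)) x).mp hx
        refine ⟨?_, ?_⟩
        · have : (b * x)⁻¹ * (x * b) = x⁻¹ * (b⁻¹ * x * b) := by group
          rw [this]
          exact Z.mul_mem (Z.inv_mem hx.1) hbX.1
        · have : (b * x)⁻¹ * (x * b) = ⁅x⁻¹, b⁻¹⁆ := by rw [commutatorElement_def]; group
          rw [this]
          exact Subgroup.commutator_mem_commutator (B.inv_mem hx.2) (B.inv_mem hb)
      have h := Subgroup.mem_centralizer_iff.mp (key hs) _ ⟨t, ht, rfl⟩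
      rw [← QuotientGroup.eq_one_iff]
      show QuotientGroup.mk' W ⁅s, t⁆ = 1
      rw [map_commutatorElement, commutatorElement_eq_one_iff_commute]
      exact h.symm
    have hWB : B ≤ Subgroup.centralizer (W : Set G) := by
      rw [← hNlt]
      refine (Subgroup.closure_le _).mpr ?_
      intro y hy
      obtain ⟨x, hx, hxy⟩ := Group.mem_conjugatesOfSet_iff.mp hy
      obtain ⟨g, rfl⟩ := isConj_iff.mp hxy
      exact fun w hw => (hWc w hw g x hx).eq
    have hB2 : ∀ x ∈ B, ∀ y ∈ B, ∀ z ∈ B, Commute z (x * y * x⁻¹ * y⁻¹) := fun x hx y hy z hz =>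
      (hWB hz _ (hDW (Subgroup.commutator_mem_commutator hx hy))).symm
    set B₁ := omegaSub p hp2 B hB2
    have hB₁B : B₁ ≤ B := fun x hx => hx.1
    have hB₁n : B₁.Normal := ⟨fun x hx g => ⟨hBn.conj_mem x hx.1 g, by rw [conj_pow, hx.2]; group⟩⟩
    have hB₁p : IsPGroup p B₁ := hBp.to_le hB₁B
    -- the largest normal subgroup normalizing `X`
    set L := (Subgroup.normalizer (X : Set G)).normalCore
    have hLn : L.Normal := Subgroup.normalCore_normal _
    by_contra hnot
    set R := (S : Subgroup G) ⊓ L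
    have hLX : L ≤ Subgroup.normalizer (X : Set G) := Subgroup.normalCore_le _
    have htop : ∀ Y : Subgroup G, L ≤ Y → Subgroup.normalizer (R : Set G) ≤ Y → Y = ⊤ := fun Y h1 h2 =>
      top_le_iff.mp fun g _ => by
        obtain ⟨c, hc, n, hn, rfl⟩ := CfsgLib.PLocal.frattini_mul S L g
        exact Y.mul_mem (h1 hc) (h2 hn)
    have hAL : ∃ A ∈ CfsgLib.PLocal.maxElemIn p (S : Subgroup G), ¬ A ≤ L := by
      by_contra hall
      apply hnot
      have hall' : J ≤ R := by
        refine le_inf (CfsgLib.PLocal.thompsonOf_le _) ?_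
        rw [hJ, CfsgLib.PLocal.thompsonOf_eq]
        exact sSup_le fun A hA => by_contra fun h => hall ⟨A, hA, h⟩
      refine Subgroup.normalizer_eq_top_iff.mp (htop _ hLX ?_)
      intro g hg
      have h2 : g ∈ Subgroup.normalizer (Z : Set G) := by
        have := normalizer_le_normalizer_centerThompsonOf (p := p) R hg
        rwa [show Cfsg.centerThompsonOf p R = Z by
          rw [hZ, Cfsg.centerThompsonOf, Cfsg.centerThompsonOf,
            CfsgLib.PLocal.thompsonOf_eq_of_le hall' inf_le_left]] at this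
      rw [Subgroup.mem_normalizer_iff_map_conj_eq, Subgroup.map_inf _ _ _ (MulAut.conj g).injective,
        Subgroup.mem_normalizer_iff_map_conj_eq.mp h2,
        Subgroup.mem_normalizer_iff_map_conj_eq.mp (Subgroup.normalizer_eq_top B ▸ Subgroup.mem_top g)]
    -- quadratic elements on `B₁` lie in `L`
    have hquadL : ∀ a ∈ (S : Subgroup G),
        (∀ x ∈ B₁, a * (a * x * a⁻¹ * x⁻¹) * a⁻¹ = a * x * a⁻¹ * x⁻¹) → a ∈ L := by
      intro a _ hq
      obtain ⟨K, hKn, haK, hK⟩ := exists_normal_of_quadratic hodd B₁ hB₁p hq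
      set C := Subgroup.centralizer (B : Set G)
      have hK' : ∀ g ∈ K, (orderOf g).Coprime p → g ∈ C := by
        intro g hg hord
        refine le_centralizer_of_fixes_order_p (fun h => absurd (h ▸ hp2 : Odd 2) (by decide)) hBp
          (le_top.trans (Subgroup.normalizer_eq_top B).ge) (by rwa [Nat.card_zpowers]) ?_
          (Subgroup.mem_zpowers g)
        intro x hx hxp c hc
        have h1 : g ∈ Subgroup.centralizer (B₁ : Set G) := hK g hg hord
        have h2 : c ∈ Subgroup.centralizer (B₁ : Set G) := (Subgroup.zpowers_le.mpr h1) hc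
        rw [← Subgroup.mem_centralizer_iff.mp h2 x ⟨hx, hxp⟩, mul_inv_cancel_right]
      have hmap := map_le_pCore_of_p'_le C K hK'
      set f := QuotientGroup.mk' C
      have := CfsgLib.Solvable.pCore_normal p (G ⧸ C)
      have hPL : (Cfsg.pCore p (G ⧸ C)).comap f ≤ L := by
        refine (Subgroup.normal_le_normalCore (hN := Subgroup.Normal.comap inferInstance f)).mpr ?_
        intro g hg
        obtain ⟨s, hs, hsg⟩ :=
          CfsgLib.Solvable.pCore_le_sylow (S.mapSurjective (QuotientGroup.mk'_surjective C)) hg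
        have h1 : s⁻¹ * g ∈ C := QuotientGroup.eq.mp hsg
        have h2 : s⁻¹ * g ∈ Subgroup.normalizer (X : Set G) :=
          Subgroup.centralizer_le_normalizer _ (Subgroup.centralizer_le (inf_le_right : X ≤ B) h1)
        simpa using Subgroup.mul_mem _ (hSX hs) h2
      exact hPL (hmap ⟨a, haK, rfl⟩)
    obtain ⟨A, ⟨hAmem, hAnL⟩, hAmax⟩ := Set.exists_max_image
      {A | A ∈ CfsgLib.PLocal.maxElemIn p (S : Subgroup G) ∧ ¬ A ≤ L}
      (fun A => Nat.card ↥(A ⊓ B₁)) (Set.toFinite _) (by obtain ⟨A, h1, h2⟩ := hAL; exact ⟨A, h1, h2⟩)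
    obtain ⟨a, haA, haL⟩ := SetLike.not_le_iff_exists.mp hAnL
    have hnn : ¬ B₁ ≤ Subgroup.normalizer (A : Set G) := fun h =>
      haL (hquadL a (hAmem.1 haA) fun x hx => quad_of_normalizes hAmem.2.1.1 haA (h hx))
    obtain ⟨A', hA', hA'N, hlt⟩ := elementary_replacement hp2 S.2 hAmem (hB₁B.trans hBS)
      (le_top.trans (Subgroup.normalizer_eq_top B₁).ge) (fun x hx => hx.2)
      (fun x hx y hy z hz => hB2 x hx.1 y hy.1 z hz.1)
      (fun x hx y hy b hb => by
        have h : x * y * x⁻¹ * y⁻¹ ∈ Z := (hDW (Subgroup.commutator_mem_commutator hx.1 hy.1)).1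
        exact h.2 b (CfsgLib.PLocal.le_thompsonOf hAmem hb)) hnn
    have hA'L : A' ≤ L := by
      by_contra h
      exact absurd (hAmax A' ⟨hA', h⟩) (not_le.mpr hlt)
    have hA'R : A' ≤ R := le_inf hA'.1 hA'L
    -- `B` centralizes `A'`
    set JR := Cfsg.thompsonSubgroupOf p R
    have hJR : JR ≤ J := by
      have h1 : JR = _ := CfsgLib.PLocal.thompsonOf_eq R
      rw [h1, hJ, CfsgLib.PLocal.thompsonOf_eq]
      refine sSup_le fun E hE => le_sSup ?_
      exact ((CfsgLib.PLocal.maxElemIn_of_le inf_le_left hA' hA'R).mp hE).1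
    have hA'JR : A' ≤ JR := CfsgLib.PLocal.le_thompsonOf
      ((CfsgLib.PLocal.maxElemIn_of_le inf_le_left hA' hA'R).mpr ⟨hA', hA'R⟩)
    have hXJR : X ≤ Subgroup.centralizer (JR : Set G) :=
      inf_le_left.trans (inf_le_right.trans (Subgroup.centralizer_le hJR))
    have hBc : B ≤ Subgroup.centralizer (JR : Set G) := by
      rw [← hNlt]
      refine (Subgroup.closure_le _).mpr ?_
      intro y hy
      obtain ⟨x, hx, hxy⟩ := Group.mem_conjugatesOfSet_iff.mp hy
      obtain ⟨g, rfl⟩ := isConj_iff.mp hxy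
      obtain ⟨c, hc, n, hn, he⟩ := CfsgLib.PLocal.frattini_mul S L g⁻¹
      obtain ⟨r, hr, l, hl, rfl⟩ : ∃ r ∈ Subgroup.normalizer (R : Set G), ∃ l ∈ L, g = r * l :=
        ⟨n⁻¹, Subgroup.inv_mem _ hn, c⁻¹, L.inv_mem hc, by rw [← inv_inv g, he]; group⟩
      have h1 : l * x * l⁻¹ ∈ X := (Subgroup.mem_normalizer_iff.mp (hLX hl) x).mp hx
      have h2 := CfsgLib.PLocal.normalizer_le_normalizer_thompsonOf (p := p) R hr
      intro j hj
      have h3 : r⁻¹ * j * r ∈ JR := (Subgroup.mem_normalizer_iff''.mp h2 j).mp hj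
      have h4 : Commute (r⁻¹ * j * r) (l * x * l⁻¹) := hXJR h1 _ h3
      have := (h4.map (MulAut.conj r).toMonoidHom).eq
      simpa [mul_assoc] using this
    have hB₁A' : B₁ ≤ A' := fun x hx => CfsgLib.PLocal.mem_maxElemIn_of_centralizes hA' (hBS hx.1) hx.2
      (fun b hb => hBc hx.1 b (hA'JR hb))
    exact haL (hquadL a (hAmem.1 haA) fun x hx =>
      quad_of_normalizes hAmem.2.1.1 haA (hA'N (hB₁A' hx)))

/-- The `ZJ` theorem when `O_{p'}(G) = 1`. -/
theorem centerThompsonOf_normal [Finite G] [Group.IsSolvable G] (hodd : Odd (Nat.card G))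
    {p : ℕ} [hp : Fact p.Prime] (hO : Cfsg.pPrimeCore p G = ⊥) (S : Sylow p G) :
    (Cfsg.centerThompsonOf p (S : Subgroup G)).Normal := by
  rcases hp.out.eq_two_or_odd' with h2 | hp2
  · have hS1 : (S : Subgroup G) = ⊥ := by
      obtain ⟨k, hk⟩ := IsPGroup.iff_card.mp S.2
      refine Subgroup.card_eq_one.mp ?_
      rw [hk, h2]
      rcases Nat.eq_zero_or_pos k with h | h
      · rw [h, pow_zero]
      · exact absurd (hodd.of_dvd_nat ((h2 ▸ hk ▸ dvd_pow_self p h.ne' : 2 ∣ Nat.card (S : Subgroup G)).trans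
          (Subgroup.card_subgroup_dvd_card _))) (by decide)
    have : Cfsg.centerThompsonOf p (S : Subgroup G) = ⊥ := le_bot_iff.mp (hS1 ▸ centerThompsonOf_le _)
    rw [this]; infer_instance
  set Z := Cfsg.centerThompsonOf p (S : Subgroup G) with hZdef
  have hTn := CfsgLib.Solvable.pCore_normal p G
  set T := Cfsg.pCore p G
  have hT := CfsgLib.Solvable.pCore_isPGroup (G := G) p
  have hZT : Z ≤ T := by
    intro a ha
    have hC : IsPGroup p (Subgroup.centralizer (T : Set G)) :=
      hT.to_le (CfsgLib.Solvable.centralizer_pCore_le p hO)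
    exact comap_pCore_le _ hC (quadratic_mem_pCore hodd T hT _ le_rfl fun x hx =>
      quad_of_normalizes (centerThompsonOf_comm _) ha
        (normalizer_le_normalizer_centerThompsonOf _
          (Subgroup.le_normalizer (CfsgLib.Solvable.pCore_le_sylow S hx))))
  have h := centerThompsonOf_inf_normal hodd hp2 S T hTn hT
  rwa [inf_eq_left.mpr hZT] at h

/-- A `p`-subgroup whose image modulo `O_{p'}(G)` is normal generates a normal subgroup with it. -/
theorem sup_pPrimeCore_normal {p : ℕ} [(Cfsg.pPrimeCore p G).Normal] (Z : Subgroup G)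
    (h : (Z.map (QuotientGroup.mk' (Cfsg.pPrimeCore p G))).Normal) :
    (Z ⊔ Cfsg.pPrimeCore p G).Normal := by
  have := h.comap (QuotientGroup.mk' (Cfsg.pPrimeCore p G))
  rwa [Subgroup.comap_map_eq, QuotientGroup.ker_mk'] at this

end CfsgLib.OddLocal
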