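import Cfsg.Agent.Lib.OddLocal.HallHigmanLinear
import Cfsg.Agent.Lib.OddLocal.Stab
import Cfsg.Agent.Lib.Coprime.Sylow

/-!
# A fixed-point-free element of prime order on a `q`-group centralizes modulo the kernel
-/

set_option autoImplicit false
set_option linter.style.haveILetI false
set_option linter.unusedSectionVars false

namespace CfsgLib.OddLocal

open Subgroup CfsgLib.Coprime
open scoped commutatorElement

universe u v w

section Linear

variable {k : Type v} [Field k] [IsAlgClosed k] {Γ : Type u} [Group Γ] [Finite Γ]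

/-- The reducible case. -/
theorem linear_fixed {p r : ℕ} [hp : Fact p.Prime] (hr : r.Prime)
    (hpr : p ≠ r) (hpk : (p : k) ≠ 0) (hrk : (r : k) ≠ 0)
    (P : Subgroup Γ) [hPn : P.Normal] (hP : IsPGroup p P) (x : Γ) (hx : orderOf x = r)
    (hgen : P ⊔ Subgroup.zpowers x = ⊤) (hPx : ⁅P, Subgroup.zpowers x⁆ = P)
    (hexc : p = 2 → (∃ m : ℕ, r = 2 ^ m + 1) → IsMulCommutative P)
    {V : Type w} [AddCommGroup V] [Module k V] [FiniteDimensional k V] (ρ : Γ →* Module.End k V)
    (hmin : ∀ Q : Subgroup Γ, Q ≤ P → x ∈ Subgroup.normalizer (Q : Set Γ) → Q ≠ P →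
      ∀ u ∈ Q, ρ (x * u) = ρ (u * x))
    (hfree : ∀ v, ρ x v = v → v = 0) : ∀ u ∈ P, ρ u = 1 := by
  classical
  induction hd : Module.finrank k V using Nat.strong_induction_on generalizing V with
  | _ d ih =>
    subst hd
    intro u hu
    rcases subsingleton_or_nontrivial V with hV | hV
    · exact LinearMap.ext fun v => Subsingleton.elim _ _
    by_cases hirr : ∀ W : Submodule k V, (∀ g, ∀ w ∈ W, ρ g w ∈ W) → W = ⊥ ∨ W = ⊤
    · -- pass to the faithful quotient
      let σ := ρ.toHomUnits
      let Γ' := σ.range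
      let f : Γ →* Γ' := σ.rangeRestrict
      let ρ' : Γ' →* Module.End k V := (Units.coeHom _).comp Γ'.subtype
      have hρ' : Function.Injective ρ' := Units.val_injective.comp Γ'.subtype_injective
      have hf : ∀ g, ρ' (f g) = ρ g := fun g => rfl
      have hfs : Function.Surjective f := σ.rangeRestrict_surjective
      haveI : (P.map f).Normal := hPn.map f hfs
      haveI : Finite Γ' := Finite.of_surjective f hfs
      have hx' : orderOf (f x) = r := by
        refine ((Nat.dvd_prime hr).1 (hx ▸ orderOf_map_dvd f x)).resolve_left fun h => ?_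
        rw [orderOf_eq_one_iff] at h
        obtain ⟨v, hv⟩ := exists_ne (0 : V)
        exact hv (hfree v (by rw [← hf, h, map_one]; rfl))
      have hz : (Subgroup.zpowers x).map f = Subgroup.zpowers (f x) := MonoidHom.map_zpowers f x
      have hP' : P.map f = ⊥ := by
        refine irreducible_fixed_point ρ' hρ' (fun W hW => hirr W fun g w hw => hf g ▸ hW (f g) w hw)
          hr hpr hpk hrk (P.map f) (hP.map f) (f x) hx' ?_ ?_ ?_ ?_ (fun v hv => hfree v hv)
        · rw [← hz, ← Subgroup.map_sup, hgen, Subgroup.map_top_of_surjective f hfs]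
        · rw [← hz, ← Subgroup.map_commutator, hPx]
        · intro h1 h2
          haveI := hexc h1 h2
          refine IsMulCommutative.mk ⟨?_⟩
          rintro ⟨_, a, ha, rfl⟩ ⟨_, b, hb, rfl⟩
          refine Subtype.ext ?_
          show f a * f b = f b * f a
          rw [← map_mul, ← map_mul]
          exact congrArg f (congrArg Subtype.val ((hexc h1 h2).is_comm.comm ⟨a, ha⟩ ⟨b, hb⟩))
        · intro Q hQ hxQ hne w hw
          obtain ⟨w', hw', rfl⟩ := hQ hw
          apply hρ'
          rw [← map_mul, ← map_mul, hf, hf]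
          refine hmin (P ⊓ Q.comap f) inf_le_left ?_ ?_ w' ⟨hw', hw⟩
          · refine Subgroup.inf_normalizer_le_normalizer_inf (Subgroup.mem_inf.2 ⟨?_, ?_⟩)
            · rw [Subgroup.normalizer_eq_top]; exact Subgroup.mem_top x
            · rw [Subgroup.mem_normalizer_iff]
              intro v
              simp only [Subgroup.mem_comap, map_mul, map_inv]
              exact Subgroup.mem_normalizer_iff.1 hxQ (f v)
          · intro h
            refine hne (le_antisymm hQ ?_)
            rintro _ ⟨y, hy, rfl⟩
            exact (h.ge hy).2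
      have : f u = 1 := Subgroup.mem_bot.1 (hP' ▸ Subgroup.mem_map_of_mem f hu)
      rw [← hf, this, map_one]
    push Not at hirr
    obtain ⟨W, hW, hW0, hW1⟩ := hirr
    have hlt1 : Module.finrank k W < Module.finrank k V := Submodule.finrank_lt hW1
    have hlt2 : Module.finrank k (V ⧸ W) < Module.finrank k V := by
      have h := Submodule.finrank_quotient_add_finrank W
      have : 0 < Module.finrank k W := by
        rw [Nat.pos_iff_ne_zero]
        exact fun h' => hW0 (Submodule.finrank_eq_zero.1 h')
      omega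
    let ρ₁ : Γ →* Module.End k W :=
      { toFun := fun g => (ρ g).restrict (fun w hw => hW g w hw)
        map_one' := LinearMap.ext fun w => Subtype.ext (by simp)
        map_mul' := fun g g' => LinearMap.ext fun w => Subtype.ext (by simp) }
    let ρ₂ : Γ →* Module.End k (V ⧸ W) :=
      { toFun := fun g => W.mapQ W (ρ g) (fun w hw => hW g w hw)
        map_one' := Submodule.linearMap_qext _ (LinearMap.ext fun v => by simp)
        map_mul' := fun g g' => Submodule.linearMap_qext _ (LinearMap.ext fun v => by simp) }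
    have h1 : ∀ u ∈ P, ρ₁ u = 1 := ih _ hlt1 ρ₁
      (fun Q hQ hxQ hne w hw => LinearMap.ext fun v => Subtype.ext
        (by simpa [ρ₁] using congrArg (fun A : Module.End k V => A (v : V)) (hmin Q hQ hxQ hne w hw)))
      (fun v hv => Subtype.ext (hfree v (congrArg Subtype.val hv))) rfl
    have hfree2 : ∀ v, ρ₂ x v = v → v = 0 := by
      intro v
      induction v using Submodule.Quotient.induction_on with
      | _ v =>
        intro hv
        have hd : ρ x v - v ∈ W := (Submodule.Quotient.eq W).1 hv
        have hi : ∀ i : ℕ, (ρ x ^ i) v - v ∈ W := by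
          intro i
          induction i with
          | zero => simp
          | succ i ih' =>
            have : (ρ x ^ (i + 1)) v - v = ρ x ((ρ x ^ i) v - v) + (ρ x v - v) := by
              rw [pow_succ', Module.End.mul_apply, map_sub]; abel
            rw [this]
            exact W.add_mem (hW x _ ih') hd
        have hfix : ∑ i ∈ Finset.range r, (ρ x ^ i) v = 0 := by
          apply hfree
          rw [map_sum]
          have h1 := Finset.sum_range_succ' (fun i => (ρ x ^ i) v) r
          have h2 := Finset.sum_range_succ (fun i => (ρ x ^ i) v) r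
          rw [h2, show ρ x ^ r = ρ x ^ 0 by rw [← map_pow, ← hx, pow_orderOf_eq_one, map_one, pow_zero]] at h1
          refine Eq.trans ?_ (add_right_cancel h1).symm
          exact Finset.sum_congr rfl fun i _ => by rw [pow_succ', Module.End.mul_apply]
        have hsum : ∑ i ∈ Finset.range r, ((ρ x ^ i) v - v) ∈ W := W.sum_mem fun i _ => hi i
        rw [Finset.sum_sub_distrib, hfix, zero_sub, Finset.sum_const, Finset.card_range,
          ← Nat.cast_smul_eq_nsmul k, neg_mem_iff] at hsum
        rw [Submodule.Quotient.mk_eq_zero]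
        have := W.smul_mem ((r : k)⁻¹) hsum
        rwa [inv_smul_smul₀ hrk] at this
    have h2 : ∀ u ∈ P, ρ₂ u = 1 := ih _ hlt2 ρ₂
      (fun Q hQ hxQ hne w hw => Submodule.linearMap_qext _ (LinearMap.ext fun v => by
        simpa [ρ₂] using congrArg (fun A : Module.End k V => (Submodule.Quotient.mk (A v) : V ⧸ W))
          (hmin Q hQ hxQ hne w hw)))
      hfree2 rfl
    -- unipotent of order prime to the characteristic
    have hsq : (ρ u - 1) * (ρ u - 1) = 0 := LinearMap.ext fun v => by
      have hm : ρ u v - v ∈ W := (Submodule.Quotient.eq W).1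
        (congrArg (fun A : Module.End k (V ⧸ W) => A (Submodule.Quotient.mk v)) (h2 u hu))
      have := congrArg (fun A : Module.End k W => ((A ⟨_, hm⟩ : W) : V)) (h1 u hu)
      simp only [Module.End.mul_apply, LinearMap.sub_apply, Module.End.one_apply, LinearMap.zero_apply]
      exact sub_eq_zero.2 this
    have hpow : ∀ i : ℕ, ρ u ^ i = 1 + (i : k) • (ρ u - 1) := by
      intro i
      induction i with
      | zero => simp
      | succ i ih' =>
        rw [pow_succ, ih', Nat.cast_succ, add_smul, one_smul, add_mul, one_mul, smul_mul_assoc]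
        have : (ρ u - 1) * ρ u = ρ u - 1 := by
          calc (ρ u - 1) * ρ u = (ρ u - 1) * (ρ u - 1) + (ρ u - 1) := by noncomm_ring
            _ = _ := by rw [hsq, zero_add]
        rw [this]
        abel
    obtain ⟨m, hm⟩ := hP ⟨u, hu⟩
    have hum : u ^ p ^ m = 1 := congrArg Subtype.val hm
    have h := hpow (p ^ m)
    rw [← map_pow, hum, map_one, left_eq_add, smul_eq_zero, Nat.cast_pow] at h
    exact sub_eq_zero.1 (h.resolve_left (pow_ne_zero _ hpk))

end Linear

/-- If an element `x` of prime order `r` acts fixed-point-freely on a `q`-group `V` normalized by an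
`x`-invariant `p`-group `P`, then `[P, x]` centralizes `V` (`q` odd or `V` of exponent `q`; if `p = 2` and
`r = 2 ^ m + 1` then `P` is abelian). -/
theorem commutator_le_centralizer_of_fixedPointFree'' {G : Type u} [Group G] [Finite G]
    {p q r : ℕ} [hp : Fact p.Prime] [hq : Fact q.Prime] (hr : r.Prime)
    (hpr : p ≠ r) (hqp : q ≠ p) (hqr : q ≠ r)
    {x : G} (hx : orderOf x = r) {P V : Subgroup G} (hP : IsPGroup p P) (hV : IsPGroup q V)
    (hxP : x ∈ Subgroup.normalizer (P : Set G)) (hxV : x ∈ Subgroup.normalizer (V : Set G))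
    (hPV : P ≤ Subgroup.normalizer (V : Set G))
    (hexc : p = 2 → (∃ m : ℕ, r = 2 ^ m + 1) → IsMulCommutative P)
    (hq2 : q ≠ 2 ∨ ∀ v ∈ V, v ^ q = 1)
    (hfree : V ⊓ Subgroup.centralizer (Subgroup.zpowers x : Set G) = ⊥) :
    ⁅P, Subgroup.zpowers x⁆ ≤ Subgroup.centralizer (V : Set G) := by
  classical
  induction hn : Nat.card P + Nat.card V using Nat.strong_induction_on generalizing P V with
  | _ n ih =>
    subst hn
    set R := Subgroup.zpowers x with hR
    have hRP : R ≤ Subgroup.normalizer (P : Set G) := Subgroup.zpowers_le.2 hxP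
    have hRV : R ≤ Subgroup.normalizer (V : Set G) := Subgroup.zpowers_le.2 hxV
    have hRcard : Nat.card R = r := by rw [hR, Nat.card_zpowers, hx]
    haveI := hP.isNilpotent
    haveI := hV.isNilpotent
    obtain ⟨a, ha⟩ := IsPGroup.iff_card.1 hP
    obtain ⟨b, hb⟩ := IsPGroup.iff_card.1 hV
    have hcopRP : (Nat.card R).Coprime (Nat.card P) := by
      rw [hRcard, ha]
      exact Nat.Coprime.pow_right a ((Nat.coprime_primes hr hp.out).2 hpr.symm)
    have hcopRV : (Nat.card R).Coprime (Nat.card V) := by
      rw [hRcard, hb]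
      exact Nat.Coprime.pow_right b ((Nat.coprime_primes hr hq.out).2 hqr.symm)
    have hcopPV : (Nat.card P).Coprime (Nat.card V) := by
      rw [ha, hb]
      exact Nat.Coprime.pow _ _ ((Nat.coprime_primes hp.out hq.out).2 hqp.symm)
    have conjN : ∀ {A B : Subgroup G} {g : G}, g ∈ Subgroup.normalizer (A : Set G) →
        g ∈ Subgroup.normalizer (B : Set G) → g ∈ Subgroup.normalizer ((⁅A, B⁆ : Subgroup G) : Set G) := by
      intro A B g hA hB
      rw [mem_normalizer_iff_map_conj, Subgroup.map_commutator, map_conj_of_mem_normalizer hA,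
        map_conj_of_mem_normalizer hB]
    have hlt : ∀ {A B : Subgroup G}, A ≤ B → A ≠ B → Nat.card A < Nat.card B := fun h hne =>
      lt_of_le_of_ne (Nat.le_of_dvd Nat.card_pos (Subgroup.card_dvd_of_le h))
        fun e => hne (Subgroup.eq_of_le_of_card_ge h e.ge)
    have subP : ∀ Q : Subgroup G, Q ≤ P → Q ≠ P → x ∈ Subgroup.normalizer (Q : Set G) →
        ⁅Q, R⁆ ≤ Subgroup.centralizer (V : Set G) := fun Q hQ hne hxQ =>
      ih _ (Nat.add_lt_add_right (hlt hQ hne) _) (hP.to_le hQ) hV hxQ hxV (hQ.trans hPV) (fun h1 h2 => by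
        haveI := hexc h1 h2
        exact IsMulCommutative.mk ⟨fun a b => Subtype.ext (congrArg (fun w : P => (w : G))
          ((hexc h1 h2).is_comm.comm ⟨a, hQ a.2⟩ ⟨b, hQ b.2⟩))⟩) hq2 hfree rfl
    by_cases hPx : ⁅P, R⁆ = P
    swap
    · have hxQ : x ∈ Subgroup.normalizer ((⁅P, R⁆ : Subgroup G) : Set G) :=
        Subgroup.normalizer_commutator_ge_right P R (Subgroup.mem_zpowers x)
      have h := subP _ (le_normalizer_iff_commutator_le_left.1 hRP) hPx hxQ
      rwa [commutator_commutator_eq hRP hcopRP (Or.inr inferInstance)] at h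
    rw [hPx]
    have subV : ∀ W : Subgroup G, W ≤ V → W ≠ V → x ∈ Subgroup.normalizer (W : Set G) →
        P ≤ Subgroup.normalizer (W : Set G) → P ≤ Subgroup.centralizer (W : Set G) := by
      intro W hW hne hxW hPW
      have h := ih _ (Nat.add_lt_add_left (hlt hW hne) _) hP (hV.to_le hW) hxP hxW hPW hexc (hq2.imp_right fun h w hw => h w (hW hw))
        (eq_bot_iff.2 (hfree ▸ inf_le_inf_right _ hW)) rfl
      rwa [hPx] at h
    by_cases hV1 : V = ⊥
    · subst hV1
      intro u _
      rw [Subgroup.mem_centralizer_iff]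
      intro v hv
      rw [Subgroup.mem_bot.1 hv, one_mul, mul_one]
    -- `V` is generated by elements of order `q`
    set Ω : Subgroup G := Subgroup.closure {v | v ∈ V ∧ v ^ q = 1} with hΩ
    have hΩV : Ω ≤ V := (Subgroup.closure_le V).2 fun v hv => hv.1
    have hΩn : ∀ g : G, g ∈ Subgroup.normalizer (V : Set G) → g ∈ Subgroup.normalizer (Ω : Set G) := by
      intro g hg
      rw [mem_normalizer_iff_map_conj, hΩ, MonoidHom.map_closure]
      congr 1
      ext v
      constructor
      · rintro ⟨w, ⟨hw1, hw2⟩, rfl⟩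
        refine ⟨(Subgroup.mem_normalizer_iff.1 hg w).1 hw1, ?_⟩
        rw [← map_pow, hw2, map_one]
      · rintro ⟨hv1, hv2⟩
        refine ⟨(MulAut.conj g).symm v, ⟨?_, by rw [← map_pow, hv2, map_one]⟩, MulEquiv.apply_symm_apply _ v⟩
        rw [MulAut.conj_symm_apply]
        exact (Subgroup.mem_normalizer_iff''.1 hg v).1 hv1
    by_cases hΩeq : Ω = V
    swap
    · have h := subV Ω hΩV hΩeq (hΩn x hxV) fun u hu => hΩn u (hPV hu)
      have hq2 : q ≠ 2 := hq2.resolve_right fun h' =>
        hΩeq (le_antisymm hΩV fun v hv => Subgroup.subset_closure ⟨hv, h' v hv⟩)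
      refine le_centralizer_of_fixes_order_p hq2 hV hPV ?_ fun v hv hvq u hu => ?_
      · rw [ha]; exact Nat.Coprime.pow_left a ((Nat.coprime_primes hp.out hq.out).2 hqp.symm)
      · exact mul_inv_eq_iff_eq_mul.2
          (Subgroup.mem_centralizer_iff.1 (h hu) v (Subgroup.subset_closure ⟨hv, hvq⟩)).symm
    set D : Subgroup G := ⁅V, V⁆ with hD
    have hDV : D ≤ V := le_normalizer_iff_commutator_le_left.1 Subgroup.le_normalizer
    have hDne : D ≠ V := by
      intro h
      haveI : Nontrivial V := (Subgroup.nontrivial_iff_ne_bot V).2 hV1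
      have hlt := Group.IsSolvable.commutator_lt_top_of_nontrivial V
      apply hlt.ne
      apply Subgroup.map_injective V.subtype_injective
      rw [_root_.commutator_def, Subgroup.map_commutator, ← MonoidHom.range_eq_map, Subgroup.range_subtype]
      exact h
    have hPD : P ≤ Subgroup.centralizer (D : Set G) :=
      subV D hDV hDne (conjN hxV hxV) fun u hu => conjN (hPV hu) (hPV hu)
    refine le_centralizer_of_stabilizes hDV hcopPV hPD ?_
    -- the linear action of `P R` on `V / [V, V]`
    let Γ : Subgroup G := P ⊔ R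
    have hΓV : Γ ≤ Subgroup.normalizer (V : Set G) := sup_le hPV hRV
    let A := Abelianization V
    haveI : Finite A := Finite.of_surjective _ (QuotientGroup.mk_surjective (s := commutator V))
    let cv : Γ → (V →* V) := fun g => (V.normalizerMonoidHom ⟨g, hΓV g.2⟩).toMonoidHom
    have hcv : ∀ g v, ((cv g v : V) : G) = (g : G) * v * (g : G)⁻¹ := fun g v => rfl
    have hAq : ∀ w : A, w ^ q = 1 := by
      intro w
      obtain ⟨v, rfl⟩ := QuotientGroup.mk_surjective (s := commutator V) w
      show (Abelianization.of v) ^ q = 1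
      have hv : (v : G) ∈ Ω := hΩeq.ge v.2
      suffices ∀ g ∈ Ω, ∀ hg : g ∈ V, (Abelianization.of (⟨g, hg⟩ : V)) ^ q = 1 from this v hv v.2
      intro g hg
      rw [hΩ] at hg
      induction hg using Subgroup.closure_induction with
      | mem y hy =>
        intro hyV
        rw [← map_pow, show (⟨y, hyV⟩ : V) ^ q = 1 from Subtype.ext hy.2, map_one]
      | one => intro _; rw [show (⟨1, _⟩ : V) = 1 from rfl, map_one, one_pow]
      | mul y z hy hz ihy ihz =>
        intro hyz
        have hyV := hΩV hy
        have hzV := hΩV hz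
        rw [show (⟨y * z, hyz⟩ : V) = ⟨y, hyV⟩ * ⟨z, hzV⟩ from rfl, map_mul, mul_pow, ihy hyV, ihz hzV,
          one_mul]
      | inv y hy ihy =>
        intro hyi
        rw [show (⟨y⁻¹, hyi⟩ : V) = (⟨y, hΩV hy⟩)⁻¹ from rfl, map_inv, inv_pow, ihy (hΩV hy), inv_one]
    have : Module (ZMod q) (Additive A) := AddCommGroup.zmodModule fun w => by
      apply Additive.toMul.injective
      rw [toMul_nsmul, toMul_zero]
      exact hAq _
    have hrep : ∀ w : Additive A, ∃ v : V, w = Additive.ofMul (Abelianization.of v) := fun w => by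
      obtain ⟨v, hv⟩ := QuotientGroup.mk_surjective (s := commutator V) (Additive.toMul w)
      exact ⟨v, (congrArg Additive.ofMul hv).symm⟩
    let ρ₀ : Γ →* Module.End (ZMod q) (Additive A) :=
      { toFun := fun g =>
          { (MonoidHom.toAdditive (Abelianization.map (cv g))) with
            map_smul' := ZMod.map_smul (MonoidHom.toAdditive (Abelianization.map (cv g))) }
        map_one' := by
          refine LinearMap.ext fun w => ?_
          obtain ⟨v, rfl⟩ := hrep w
          apply Additive.toMul.injective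
          show Abelianization.map (cv 1) (Abelianization.of v) = Abelianization.of v
          rw [Abelianization.map_of]
          congr 1
          exact Subtype.ext (by simp [hcv])
        map_mul' := fun g h => by
          refine LinearMap.ext fun w => ?_
          obtain ⟨v, rfl⟩ := hrep w
          apply Additive.toMul.injective
          show Abelianization.map (cv (g * h)) (Abelianization.of v) =
            Abelianization.map (cv g) (Abelianization.map (cv h) (Abelianization.of v))
          rw [Abelianization.map_of, Abelianization.map_of, Abelianization.map_of]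
          congr 1
          exact Subtype.ext (by simp [hcv, mul_assoc]) }
    have hρ₀ : ∀ g v, ρ₀ g (Additive.ofMul (Abelianization.of v)) =
        Additive.ofMul (Abelianization.of (cv g v)) := fun g v => rfl
    have hofeq : ∀ v w : V, (Abelianization.of v : A) = Abelianization.of w →
        (v : G)⁻¹ * w ∈ D := by
      intro v w h
      have h' : v⁻¹ * w ∈ commutator V := (QuotientGroup.eq).1 h
      have := Subgroup.mem_map_of_mem V.subtype h'
      rw [_root_.commutator_def, Subgroup.map_commutator, ← MonoidHom.range_eq_map, Subgroup.range_subtype] at this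
      exact this
    let xΓ : Γ := ⟨x, mem_sup_right (Subgroup.mem_zpowers x)⟩
    have hfree₀ : ∀ w, ρ₀ xΓ w = w → w = 0 := by
      intro w hw
      obtain ⟨v, hwv⟩ := hrep w
      rw [hwv, hρ₀] at hw
      have h1 : ((cv xΓ v : V) : G)⁻¹ * v ∈ D := hofeq _ _ (Additive.ofMul.injective hw)
      rw [hcv] at h1
      -- the coset `v D` is fixed by `x`
      let S : Subgroup G :=
        { carrier := {g | g ∈ Subgroup.normalizer (D : Set G) ∧ (v : G)⁻¹ * g * v * g⁻¹ ∈ D}
          one_mem' := ⟨one_mem _, by simp [D.one_mem]⟩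
          mul_mem' := fun {g g'} hg hg' => by
            refine ⟨mul_mem hg.1 hg'.1, ?_⟩
            have e : (v : G)⁻¹ * (g * g') * v * (g * g')⁻¹ =
                ((v : G)⁻¹ * g * v * g⁻¹) * (g * ((v : G)⁻¹ * g' * v * g'⁻¹) * g⁻¹) := by group
            rw [e]
            exact D.mul_mem hg.2 ((Subgroup.mem_normalizer_iff.1 hg.1 _).1 hg'.2)
          inv_mem' := fun {g} hg => by
            refine ⟨inv_mem hg.1, ?_⟩
            have e : (v : G)⁻¹ * g⁻¹ * v * g⁻¹⁻¹ = g⁻¹ * ((v : G)⁻¹ * g * v * g⁻¹)⁻¹ * g := by group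
            rw [e]
            exact (Subgroup.mem_normalizer_iff''.1 hg.1 _).1 (D.inv_mem hg.2) }
      have hxS : x ∈ S := by
        refine ⟨conjN hxV hxV, ?_⟩
        have e : (v : G)⁻¹ * x * v * x⁻¹ = ((x * v * x⁻¹)⁻¹ * v)⁻¹ := by group
        rw [e]
        exact D.inv_mem h1
      obtain ⟨m, hm, hc⟩ := exists_mem_centralizer_of_coset hRV
        (Subgroup.zpowers_le.2 (conjN hxV hxV) : R ≤ Subgroup.normalizer (D : Set G)) hDV hcopRV
        (Or.inr (by
          haveI : Group.IsNilpotent D :=
            (Group.isNilpotent_congr (Subgroup.subgroupOfEquivOfLe hDV)).1 inferInstance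
          infer_instance)) v.2
        (fun g hg => ((Subgroup.zpowers_le.2 hxS : R ≤ S) hg).2)
      have hvm : (v : G) * m ∈ V ⊓ Subgroup.centralizer (R : Set G) := ⟨V.mul_mem v.2 (hDV hm), hc⟩
      rw [hfree, Subgroup.mem_bot] at hvm
      rw [hwv]
      have hvD : (v : G) ∈ D := by rw [eq_inv_of_mul_eq_one_left hvm]; exact D.inv_mem hm
      have : v ∈ commutator V := by
        have e : (commutator V).map V.subtype = D := by
          rw [_root_.commutator_def, Subgroup.map_commutator, ← MonoidHom.range_eq_map, Subgroup.range_subtype]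
        rw [← e] at hvD
        obtain ⟨v', hv', hvv⟩ := hvD
        rwa [← V.subtype_injective hvv]
      rw [show (Abelianization.of v : A) = 1 from (QuotientGroup.eq_one_iff v).2 this, ofMul_one]
    -- extend the scalars
    let k := AlgebraicClosure (ZMod q)
    haveI : Module.Finite (ZMod q) (Additive A) := Module.Finite.of_finite
    let bas := Module.finBasis (ZMod q) (Additive A)
    let e₁ : Module.End (ZMod q) (Additive A) →+*
        Matrix (Fin (Module.finrank (ZMod q) (Additive A))) (Fin (Module.finrank (ZMod q) (Additive A))) (ZMod q) :=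
      (LinearMap.toMatrixAlgEquiv bas).toAlgHom.toRingHom
    let e₃ : Matrix (Fin (Module.finrank (ZMod q) (Additive A))) (Fin (Module.finrank (ZMod q) (Additive A))) k →+*
        Module.End k (Fin (Module.finrank (ZMod q) (Additive A)) → k) :=
      (Matrix.toLinAlgEquiv' (R := k)).toAlgHom.toRingHom
    let E := e₃.comp (((algebraMap (ZMod q) k).mapMatrix).comp e₁)
    have hE : Function.Injective E := by
      intro M N h
      exact (LinearMap.toMatrixAlgEquiv bas).injective
        (Matrix.map_injective (algebraMap (ZMod q) k).injective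
          ((Matrix.toLinAlgEquiv' (R := k)).injective h))
    let ρ : Γ →* Module.End k (Fin (Module.finrank (ZMod q) (Additive A)) → k) := E.toMonoidHom.comp ρ₀
    haveI : CharP k q := charP_of_injective_algebraMap (algebraMap (ZMod q) k).injective q
    have hcast : ∀ s : ℕ, s.Prime → s ≠ q → (s : k) ≠ 0 := fun s hs hsq h => by
      rw [CharP.cast_eq_zero_iff k q, Nat.prime_dvd_prime_iff_eq hq.out hs] at h
      exact hsq h.symm
    haveI : (P.subgroupOf Γ).Normal :=
      (Subgroup.normal_subgroupOf_iff_le_normalizer le_sup_left).2 (sup_le Subgroup.le_normalizer hRP)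
    have hzΓ : (Subgroup.zpowers xΓ).map Γ.subtype = R := by
      rw [MonoidHom.map_zpowers]; rfl
    have hPΓ : (P.subgroupOf Γ).map Γ.subtype = P := Subgroup.map_subgroupOf_eq_of_le le_sup_left
    have key : ∀ u ∈ P.subgroupOf Γ, ρ u = 1 := by
      refine linear_fixed (k := k) hr hpr (hcast p hp.out hqp.symm) (hcast r hr hqr.symm)
        (P.subgroupOf Γ) (IsPGroup.comap_subtype hP) xΓ ((Subgroup.orderOf_mk _ _).trans hx) ?_ ?_ ?_ ρ ?_ ?_
      · apply Subgroup.map_injective Γ.subtype_injective
        rw [Subgroup.map_sup, hPΓ, hzΓ, ← MonoidHom.range_eq_map, Subgroup.range_subtype]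
      · apply Subgroup.map_injective Γ.subtype_injective
        rw [Subgroup.map_commutator, hPΓ, hzΓ, hPx]
      · intro h1 h2
        exact IsMulCommutative.mk ⟨fun a b => Subtype.ext (Subtype.ext (congrArg (fun w : P => (w : G))
          ((hexc h1 h2).is_comm.comm ⟨_, a.2⟩ ⟨_, b.2⟩)))⟩
      · intro Q hQ hxQ hne u hu
        have hQ' : Q.map Γ.subtype ≤ P := (Subgroup.map_mono hQ).trans hPΓ.le
        have hne' : Q.map Γ.subtype ≠ P := fun h =>
          hne (Subgroup.map_injective Γ.subtype_injective (h.trans hPΓ.symm))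
        have hxQ' : x ∈ Subgroup.normalizer ((Q.map Γ.subtype : Subgroup G) : Set G) :=
          Subgroup.le_normalizer_map Γ.subtype ⟨xΓ, hxQ, rfl⟩
        have hc : ⁅(u : G), x⁆ ∈ Subgroup.centralizer (V : Set G) :=
          subP _ hQ' hne' hxQ' (commutator_mem_commutator (Subgroup.mem_map_of_mem Γ.subtype hu)
            (Subgroup.mem_zpowers x))
        show E (ρ₀ (xΓ * u)) = E (ρ₀ (u * xΓ))
        congr 1
        refine LinearMap.ext fun w => ?_
        obtain ⟨v, rfl⟩ := hrep w
        rw [hρ₀, hρ₀]
        congr 2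
        apply Subtype.ext
        rw [hcv, hcv]
        show x * (u : G) * v * (x * (u : G))⁻¹ = (u : G) * x * v * ((u : G) * x)⁻¹
        set y := x * (u : G) * v * (x * (u : G))⁻¹
        have hy : y ∈ V := (Subgroup.mem_normalizer_iff.1 (mul_mem hxV (hΓV u.2)) _).1 v.2
        calc y = ⁅(u : G), x⁆ * y * ⁅(u : G), x⁆⁻¹ :=
              (mul_inv_eq_iff_eq_mul.2 (Subgroup.mem_centralizer_iff.1 hc y hy).symm).symm
          _ = _ := by simp only [y, commutatorElement_def]; group
      · intro w hw
        have h0 : Function.Injective (ρ₀ xΓ - (1 : Module.End (ZMod q) (Additive A))) :=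
          (injective_iff_map_eq_zero (ρ₀ xΓ - (1 : Module.End (ZMod q) (Additive A)))).2 fun z hz => hfree₀ z (sub_eq_zero.1 hz)
        have hu : IsUnit (E (ρ₀ xΓ - 1)) :=
          ((Module.End.isUnit_iff _).2 ⟨h0, Finite.injective_iff_surjective.1 h0⟩).map E
        rw [map_sub, map_one] at hu
        apply ((Module.End.isUnit_iff _).1 hu).1
        rw [map_zero]
        exact sub_eq_zero.2 hw
    intro u hu v hv
    have hu1 : ρ₀ ⟨u, mem_sup_left hu⟩ = 1 := hE (by rw [map_one]; exact key ⟨u, mem_sup_left hu⟩ hu)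
    have h := congrArg (fun f : Module.End (ZMod q) (Additive A) =>
      f (Additive.ofMul (Abelianization.of (⟨v, hv⟩ : V)))) hu1
    simp only [hρ₀, Module.End.one_apply] at h
    have h' := D.inv_mem (hofeq _ _ (Additive.ofMul.injective h))
    rw [hcv] at h'
    have hn : v ∈ Subgroup.normalizer (D : Set G) :=
      le_trans (le_normalizer_iff_commutator_le_left.2 (Subgroup.commutator_mono hDV le_rfl)) le_rfl hv
    have := (Subgroup.mem_normalizer_iff.1 hn _).1 h'
    simpa [mul_assoc] using this

/-- The version for `p`, `r` odd. -/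
theorem commutator_le_centralizer_of_fixedPointFree' {G : Type u} [Group G] [Finite G]
    {p q r : ℕ} [hp : Fact p.Prime] [hq : Fact q.Prime] (hr : r.Prime)
    (hp2 : p ≠ 2) (hr2 : r ≠ 2) (hpr : p ≠ r) (hqp : q ≠ p) (hqr : q ≠ r)
    {x : G} (hx : orderOf x = r) {P V : Subgroup G} (hP : IsPGroup p P) (hV : IsPGroup q V)
    (hxP : x ∈ Subgroup.normalizer (P : Set G)) (hxV : x ∈ Subgroup.normalizer (V : Set G))
    (hPV : P ≤ Subgroup.normalizer (V : Set G))
    (hq2 : q ≠ 2 ∨ ∀ v ∈ V, v ^ q = 1)
    (hfree : V ⊓ Subgroup.centralizer (Subgroup.zpowers x : Set G) = ⊥) :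
    ⁅P, Subgroup.zpowers x⁆ ≤ Subgroup.centralizer (V : Set G) := by
  exact commutator_le_centralizer_of_fixedPointFree'' hr hpr hqp hqr hx hP hV hxP hxV hPV
    (fun h _ => absurd h hp2) hq2 hfree

/-- If an element `x` of prime order `r` acts fixed-point-freely on a `q`-group `V` normalized by an
`x`-invariant `p`-group `P`, then `[P, x]` centralizes `V` (all primes odd and distinct). -/
theorem commutator_le_centralizer_of_fixedPointFree {G : Type u} [Group G] [Finite G]
    {p q r : ℕ} [hp : Fact p.Prime] [hq : Fact q.Prime] (hr : r.Prime)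
    (hp2 : p ≠ 2) (hq2 : q ≠ 2) (hr2 : r ≠ 2) (hpr : p ≠ r) (hqp : q ≠ p) (hqr : q ≠ r)
    {x : G} (hx : orderOf x = r) {P V : Subgroup G} (hP : IsPGroup p P) (hV : IsPGroup q V)
    (hxP : x ∈ Subgroup.normalizer (P : Set G)) (hxV : x ∈ Subgroup.normalizer (V : Set G))
    (hPV : P ≤ Subgroup.normalizer (V : Set G))
    (hfree : V ⊓ Subgroup.centralizer (Subgroup.zpowers x : Set G) = ⊥) :
    ⁅P, Subgroup.zpowers x⁆ ≤ Subgroup.centralizer (V : Set G) :=
  commutator_le_centralizer_of_fixedPointFree' hr hp2 hr2 hpr hqp hqr hx hP hV hxP hxV hPV (Or.inl hq2) hfree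

end CfsgLib.OddLocal
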