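import Cfsg.Agent.Lib.OddLocal.UniqueTools
import Cfsg.Agent.Lib.PLocal.Basic
import Cfsg.Agent.Lib.Comp.Signalizer
import Cfsg.Agent.Lib.OddLocal.RankTwoStructure
import Cfsg.Agent.Lib.Transfer.ClassTwo
import Cfsg.Agent.Lib.Transfer.PGroupNormal

/-!
A `p`-group (`p` odd) of rank at least three has a noncyclic characteristic subgroup of exponent `p`
whose elementary abelian subgroups of order `p²` all have centralizers of rank at least three.
-/

set_option autoImplicit false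
set_option linter.style.haveILetI false

open Subgroup
open scoped commutatorElement

namespace CfsgLib.OddLocal

universe u
variable {R : Type u} [Group R] [Finite R] {p : ℕ} [hp : Fact p.Prime]

/-- A group of exponent `p` and order at least `p²` contains an elementary abelian subgroup of order
at least `p²`. -/
theorem exists_elemSq_of_exponent {W : Subgroup R} (hW : ∀ x ∈ W, x ^ p = 1) (h2 : p ^ 2 ≤ Nat.card W) :
    ∃ Y : Subgroup R, Y ≤ W ∧ Cfsg.IsElementaryAbelian p Y ∧ p ^ 2 ≤ Nat.card Y := by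
  have hWp : IsPGroup p W := fun x => ⟨1, Subtype.ext (by simpa using hW _ x.2)⟩
  have hord : ∀ x ∈ W, x ≠ 1 → orderOf x = p := fun x hx hx1 => orderOf_eq_prime (hW x hx) hx1
  haveI : Nontrivial W := Finite.one_lt_card_iff_nontrivial.1
    ((Nat.one_lt_pow two_ne_zero hp.out.one_lt).trans_le h2)
  obtain ⟨z, hz, hz1⟩ := (center W).bot_or_exists_ne_one.resolve_left
    (fun h => hWp.bot_lt_center.ne h.symm)
  have hz1' : (z : R) ≠ 1 := fun h => hz1 (Subtype.ext h)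
  obtain ⟨y, hy, hyz⟩ : ∃ y ∈ W, y ∉ zpowers (z : R) := by
    by_contra hall
    push Not at hall
    have h := (card_le_of_le hall : Nat.card W ≤ Nat.card (zpowers (z : R)))
    rw [Nat.card_zpowers, hord _ z.2 hz1'] at h
    have : p < p ^ 2 := lt_self_pow₀ hp.out.one_lt one_lt_two
    omega
  have hel : ∀ x ∈ W, Cfsg.IsElementaryAbelian p (zpowers x) := by
    refine fun x hx => ⟨inferInstance, fun a ha => hW a (zpowers_le.2 hx ha)⟩
  have hcomm : Commute y (z : R) := congrArg Subtype.val (mem_center_iff.1 hz ⟨y, hy⟩)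
  have hY := CfsgLib.PLocal.elemAb_sup (hel _ z.2) (hel y hy) (by
    rw [zpowers_le, mem_centralizer_iff]
    intro a ha
    obtain ⟨i, rfl⟩ := ha
    exact (hcomm.zpow_left i).eq)
  refine ⟨zpowers (z : R) ⊔ zpowers y, sup_le (zpowers_le.2 z.2) (zpowers_le.2 hy), hY, ?_⟩
  obtain ⟨n, hn⟩ := IsPGroup.iff_card.1 (CfsgLib.Comp.isPGroup_of_elemAb hY)
  have hlt : zpowers (z : R) < zpowers (z : R) ⊔ zpowers y :=
    lt_of_le_of_ne le_sup_left fun h => hyz (h.ge (mem_sup_right (mem_zpowers y)))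
  have h1 : p < p ^ n := by
    rw [← hn, ← hord _ z.2 hz1', ← Nat.card_zpowers]
    exact lt_of_le_of_ne (card_le_of_le le_sup_left) fun h => hlt.ne (eq_of_le_of_card_ge le_sup_left h.ge)
  rw [hn]
  refine Nat.pow_le_pow_right hp.out.pos ?_
  by_contra hlt'
  have := (Nat.pow_le_pow_right hp.out.pos (show n ≤ 1 by omega)).trans (pow_one p).le
  omega

/-- The subgroup. -/
theorem exists_char_exponent_rank_three (hp2 : p ≠ 2) (hR : IsPGroup p R)
    (hr : ¬ Cfsg.PRankLE p 2 R) :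
    ∃ W : Subgroup R, W.Characteristic ∧ (∀ x ∈ W, x ^ p = 1) ∧ p ^ 2 ≤ Nat.card W ∧
      ∀ Y : Subgroup R, Y ≤ W → Cfsg.IsElementaryAbelian p Y → p ^ 2 ≤ Nat.card Y →
        ¬ Cfsg.PRankLE p 2 ↥(centralizer (Y : Set R)) := by
  have hpr := hp.out
  set Ω : Subgroup R :=
    { carrier := {x | x ∈ center R ∧ x ^ p = 1}
      mul_mem' := fun {a b} ha hb => ⟨mul_mem ha.1 hb.1, by
        rw [(show Commute a b from (mem_center_iff.1 hb.1 a)).mul_pow, ha.2, hb.2, one_mul]⟩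
      one_mem' := ⟨one_mem _, one_pow p⟩
      inv_mem' := fun {a} ha => ⟨inv_mem ha.1, by rw [inv_pow, ha.2, inv_one]⟩ } with hΩdef
  have hΩ : ∀ x, x ∈ Ω ↔ x ∈ center R ∧ x ^ p = 1 := fun x => Iff.rfl
  obtain ⟨E, hEc, hEe, hE3⟩ : ∃ E : Subgroup R, IsMulCommutative E ∧ (∀ a ∈ E, a ^ p = 1) ∧
      p ^ 3 ≤ Nat.card E := by
    rw [Cfsg.PRankLE] at hr
    push Not at hr
    obtain ⟨E, hc, he, hlt⟩ := hr
    obtain ⟨n, hn⟩ := IsPGroup.iff_card.1 (hR.to_subgroup E)
    exact ⟨E, hc, he, hn ▸ Nat.pow_le_pow_right hpr.pos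
      ((Nat.pow_lt_pow_iff_right hpr.one_lt).1 (hn ▸ hlt))⟩
  by_cases hΩ2 : p ^ 2 ≤ Nat.card Ω
  · refine ⟨Ω, characteristic_iff_le_comap.2 fun φ x hx => ?_, fun x hx => ((hΩ x).1 hx).2, hΩ2,
      fun Y hY _ _ => ?_⟩
    · refine (hΩ _).2 ⟨?_, by rw [← map_pow]; show φ.toMonoidHom (x ^ p) = 1; rw [((hΩ x).1 hx).2, map_one]⟩
      exact (characteristic_iff_le_comap.1 centerCharacteristic φ) ((hΩ x).1 hx).1
    · refine not_pRankLE_of_le_elemAb (k := 2) (E := E) ⟨hEc, hEe⟩ (fun x _ => ?_) hE3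
      exact mem_centralizer_iff.2 fun y hy => (mem_center_iff.1 ((hΩ y).1 (hY hy)).1 x).symm
  -- the centre has rank one
  push Not at hΩ2
  obtain ⟨E0, hE0n, hE0e, hE0c⟩ := exists_normal_elementary_sq hp2 hR hr
  haveI := hE0n
  have hE0ne : E0 ≠ ⊥ := fun h => by
    rw [h, card_bot] at hE0c
    exact absurd hE0c.symm (Nat.one_lt_pow two_ne_zero hpr.one_lt).ne'
  obtain ⟨M, hMn, hME, hMc, hMcomm, -⟩ := CfsgLib.Transfer.exists_chief_below hR E0 hE0ne
  haveI := hMn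
  have hMp : Nat.card M = p := by
    rw [hE0c, sq] at hMc
    exact (Nat.eq_of_mul_eq_mul_left hpr.pos hMc).symm
  have hMne : M ≠ ⊥ := fun h => by
    rw [h, card_bot] at hMp
    exact hpr.ne_one hMp.symm
  have hMZ : M ≤ center R := by
    obtain ⟨M', -, -, hM'c, hM'comm, -⟩ := CfsgLib.Transfer.exists_chief_below hR M hMne
    have hM' : M' = ⊥ := eq_bot_of_card_eq _ (by
      rw [hMp] at hM'c
      exact (Nat.eq_of_mul_eq_mul_left hpr.pos ((mul_one p).trans hM'c)).symm)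
    intro m hm
    rw [mem_center_iff]
    intro g
    have h := hM'comm m hm g
    rw [hM', mem_bot] at h
    exact mul_inv_eq_iff_eq_mul.1 (mul_inv_eq_one.1 h)
  have hMΩ : M = Ω := by
    refine eq_of_le_of_card_ge (fun x hx => (hΩ x).2 ⟨hMZ hx, hE0e.2 x (hME hx)⟩) ?_
    obtain ⟨n, hn⟩ := IsPGroup.iff_card.1 (hR.to_subgroup Ω)
    rw [hn] at hΩ2 ⊢
    rw [hMp]
    have := (Nat.pow_lt_pow_iff_right hpr.one_lt).1 hΩ2
    calc p ^ n ≤ p ^ 1 := Nat.pow_le_pow_right hpr.pos (by omega)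
      _ = p := pow_one p
  set K := Subgroup.upperCentralSeriesStep (center R) with hKdef
  have hKmem : ∀ x, x ∈ K ↔ ∀ y, ⁅x, y⁆ ∈ center R := fun x => Subgroup.mem_upperCentralSeriesStep _ x
  have hKc : ∀ a b : K, ⁅a, b⁆ ∈ center K := by
    intro a b
    rw [mem_center_iff]
    intro c
    exact Subtype.ext (mem_center_iff.1 ((hKmem _).1 a.2 b) c)
  set W : Subgroup R :=
    { carrier := {x | x ∈ K ∧ x ^ p = 1}
      mul_mem' := fun {a b} ha hb => ⟨mul_mem ha.1 hb.1, by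
        have h := CfsgLib.Transfer.mul_pow_prime_class_two hKc hpr hp2 (⟨a, ha.1⟩ : K) ⟨b, hb.1⟩ (by
          rw [← CfsgLib.Transfer.commutatorElement_pow_left hKc,
            show (⟨b, hb.1⟩ : K) ^ p = 1 from Subtype.ext hb.2, commutatorElement_one_left])
        have h' := congrArg Subtype.val h
        simp only [SubmonoidClass.coe_pow, MulMemClass.coe_mul] at h'
        rw [h', ha.2, hb.2, one_mul]⟩
      one_mem' := ⟨one_mem _, one_pow p⟩
      inv_mem' := fun {a} ha => ⟨inv_mem ha.1, by rw [inv_pow, ha.2, inv_one]⟩ } with hWdef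
  have hW : ∀ x, x ∈ W ↔ x ∈ K ∧ x ^ p = 1 := fun x => Iff.rfl
  have hE0W : E0 ≤ W := fun x hx => (hW x).2 ⟨(hKmem x).2 fun y => by
    have h := hMcomm x hx y
    have h' : ⁅x, y⁆ = (y * x * y⁻¹ * x⁻¹)⁻¹ := by rw [commutatorElement_def]; group
    rw [h']
    exact inv_mem (hMZ h), hE0e.2 x hx⟩
  refine ⟨W, characteristic_iff_le_comap.2 fun φ x hx => (hW _).2 ⟨?_, ?_⟩,
    fun x hx => ((hW x).1 hx).2, hE0c.ge.trans (card_le_of_le hE0W), fun Y hY hYe hY2 => ?_⟩
  · exact (characteristic_iff_le_comap.1 (inferInstance : K.Characteristic) φ) ((hW x).1 hx).1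
  · rw [← map_pow]; show φ.toMonoidHom (x ^ p) = 1; rw [((hW x).1 hx).2, map_one]
  obtain ⟨n, hn⟩ := IsPGroup.iff_card.1 (CfsgLib.Comp.isPGroup_of_elemAb hYe)
  by_cases hY3 : p ^ 3 ≤ Nat.card Y
  · exact not_pRankLE_of_le_elemAb (k := 2) hYe (fun x hx => mem_centralizer_iff.2 fun y hy =>
      congrArg Subtype.val (hYe.1.is_comm.comm ⟨y, hy⟩ ⟨x, hx⟩)) hY3
  have hYn : Nat.card Y = p ^ 2 := by
    rw [hn] at hY2 hY3 ⊢
    rw [Nat.pow_le_pow_iff_right hpr.one_lt] at hY2 hY3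
    rw [show n = 2 by omega]
  have hMel : Cfsg.IsElementaryAbelian p M := CfsgLib.Comp.elemAb_mono hE0e hME
  have hbig : ∀ D : Subgroup R, Cfsg.IsElementaryAbelian p D → D ≤ centralizer (Y : Set R) →
      ¬ D ≤ Y → ¬ Cfsg.PRankLE p 2 ↥(centralizer (Y : Set R)) := by
    intro D hD hDC hDY
    have hS := CfsgLib.PLocal.elemAb_sup hYe hD (le_centralizer_iff.1 hDC)
    refine not_pRankLE_of_le_elemAb (k := 2) hS (sup_le (fun x hx => mem_centralizer_iff.2 fun y hy =>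
      congrArg Subtype.val (hYe.1.is_comm.comm ⟨y, hy⟩ ⟨x, hx⟩)) hDC) ?_
    obtain ⟨m, hm⟩ := IsPGroup.iff_card.1 (CfsgLib.Comp.isPGroup_of_elemAb hS)
    have hlt : p ^ 2 < p ^ m := by
      rw [← hYn, ← hm]
      exact lt_of_le_of_ne (card_le_of_le le_sup_left) fun h =>
        hDY (le_sup_right.trans (eq_of_le_of_card_ge le_sup_left h.ge).ge)
    rw [hm]
    exact Nat.pow_le_pow_right hpr.pos ((Nat.pow_lt_pow_iff_right hpr.one_lt).1 hlt)
  by_cases hMY : M ≤ Y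
  swap
  · exact hbig M hMel (fun x hx => mem_centralizer_iff.2 fun y _ => mem_center_iff.1 (hMZ hx) y) hMY
  obtain ⟨v, hvY, hvM⟩ : ∃ v ∈ Y, v ∉ M := by
    by_contra hall
    push Not at hall
    have h := card_le_of_le (hall : Y ≤ M)
    rw [hYn, hMp] at h
    have : p < p ^ 2 := lt_self_pow₀ hpr.one_lt one_lt_two
    omega
  have hMv : M ⊔ zpowers v = Y := by
    refine eq_of_le_of_card_ge (sup_le hMY (zpowers_le.2 hvY)) ?_
    obtain ⟨m, hm⟩ := IsPGroup.iff_card.1 (hR.to_subgroup (M ⊔ zpowers v))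
    have hlt : p ^ 1 < p ^ m := by
      rw [pow_one, ← hm]
      nth_rewrite 1 [← hMp]
      exact lt_of_le_of_ne (card_le_of_le le_sup_left) fun h =>
        hvM ((eq_of_le_of_card_ge le_sup_left h.ge).ge (mem_sup_right (mem_zpowers v)))
    rw [hYn, hm]
    exact Nat.pow_le_pow_right hpr.pos ((Nat.pow_lt_pow_iff_right hpr.one_lt).1 hlt)
  obtain ⟨hvK, hvp⟩ := (hW v).1 (hY hvY)
  have hval : ∀ y : R, ⁅v, y⁆ ∈ M := by
    intro y
    rw [hMΩ, hΩ]
    refine ⟨(hKmem v).1 hvK y, ?_⟩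
    have hcen : ∀ w : R, Commute ⁅v, y⁆ w := fun w => ((mem_center_iff.1 ((hKmem v).1 hvK y)) w).symm
    have h := comm_zpow_of_central (x := v) (y := y) hcen (p : ℤ) 1
    simp only [zpow_natCast, zpow_one, mul_one, hvp, commutatorElement_one_left] at h
    exact h.symm
  set ψ : R →* M :=
    { toFun := fun y => ⟨⁅v, y⁆, hval y⟩
      map_one' := Subtype.ext (commutatorElement_one_right v)
      map_mul' := fun a b => Subtype.ext (by
        show ⁅v, a * b⁆ = ⁅v, a⁆ * ⁅v, b⁆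
        have h : a * ⁅v, b⁆ * a⁻¹ = ⁅v, b⁆ := by
          rw [(mem_center_iff.1 (hMZ (hval b)) a), mul_inv_cancel_right]
        calc ⁅v, a * b⁆ = ⁅v, a⁆ * (a * ⁅v, b⁆ * a⁻¹) := by
              simp only [commutatorElement_def]; group
          _ = ⁅v, a⁆ * ⁅v, b⁆ := by rw [h]) }
  have hker : ψ.ker ≤ centralizer (Y : Set R) := by
    intro y hy
    refine le_centralizer_iff.1 (?_ : Y ≤ centralizer (ψ.ker : Set R)) hy
    rw [← hMv]
    refine sup_le (fun x hx => mem_centralizer_iff.2 fun z _ => mem_center_iff.1 (hMZ hx) z) ?_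
    rw [zpowers_le, mem_centralizer_iff]
    intro z hz
    exact ((commutatorElement_eq_one_iff_mul_comm).1 (congrArg Subtype.val hz :)).symm
  set D := E ⊓ ψ.ker
  have hD2 : p ^ 2 ≤ Nat.card D := by
    have h := card_le_card_inf_mul_index E ψ.ker
    have hi : ψ.ker.index ≤ p := by
      rw [index_ker, ← hMp]
      exact card_le_card_group ψ.range
    rw [inf_comm] at h
    refine Nat.le_of_mul_le_mul_right ?_ hpr.pos
    calc p ^ 2 * p = p ^ 3 := by ring
      _ ≤ Nat.card D * p := hE3.trans (h.trans (Nat.mul_le_mul_left _ hi))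
  by_cases hDY : D ≤ Y
  · have hDY' : D = Y := eq_of_le_of_card_ge hDY (hYn ▸ hD2)
    refine not_pRankLE_of_le_elemAb (k := 2) (E := E) ⟨hEc, hEe⟩ (fun x hx => mem_centralizer_iff.2 fun y hy => ?_) hE3
    have hyE : y ∈ E := (hDY'.ge hy).1
    exact congrArg Subtype.val (hEc.is_comm.comm (⟨y, hyE⟩ : E) ⟨x, hx⟩)
  · exact hbig D (CfsgLib.Comp.elemAb_mono ⟨hEc, hEe⟩ inf_le_left) (inf_le_right.trans hker) hDY

end CfsgLib.OddLocal
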