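import Cfsg.Agent.Lib.OddLocal.Transitivity
import Cfsg.Agent.S1460

set_option autoImplicit false

namespace CfsgLib.OddLocal

open Subgroup CfsgLib.Coprime

universe u
variable {G : Type u} [Group G] [Finite G] {A : Subgroup G} {q : ℕ}

theorem transK_inf_eq (hG : Cfsg.IsMinSimpleOddOrder G) (hA : Cfsg.TransitivityHypothesis A)
    {B : Subgroup G} (hAB : A ≤ B) :
    transK A ⊓ Subgroup.centralizer (B : Set G) =
      Cfsg.piCoreOf (Cfsg.primesNotDvd (Nat.card A)) (Subgroup.centralizer (B : Set G)) := by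
  refine le_antisymm (le_piCoreOf inf_le_right ?_ fun p hp hd =>
    piCoreOf_spec _ _ p hp (hd.trans (Subgroup.card_dvd_of_le inf_le_left))) (le_inf ?_ (piCoreOf_le _ _))
  · refine le_trans (le_inf ?_ le_normalizer) inf_normalizer_le_normalizer_inf
    exact (Subgroup.centralizer_le hAB).trans (le_normalizer.trans (le_normalizer_piCoreOf _ _))
  · exact le_transK hG hA ((piCoreOf_le _ _).trans (Subgroup.centralizer_le hAB)) (piCoreOf_spec _ _)

/-- `B ≥ A` inherits transitivity and maximality from `A`. -/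
def TransGood (A B : Subgroup G) (q : ℕ) : Prop :=
  Cfsg.maxInvSubgroups ⊤ B {q} ⊆ Cfsg.maxInvSubgroups ⊤ A {q} ∧
    ∀ Q₁ ∈ Cfsg.maxInvSubgroups ⊤ B {q}, ∀ Q₂ ∈ Cfsg.maxInvSubgroups ⊤ B {q},
      ∃ k ∈ transK A ⊓ Subgroup.centralizer (B : Set G), Q₂ = Q₁.map (MulAut.conj k).toMonoidHom

theorem transGood_step (hG : Cfsg.IsMinSimpleOddOrder G) (hA : Cfsg.TransitivityHypothesis A)
    [Fact q.Prime] (hqA : ¬ q ∣ Nat.card A) {B C : Subgroup G} (hAB : A ≤ B) (hBC : B ≤ C)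
    (hCB : C ≤ Subgroup.normalizer (B : Set G)) (hC : C ≠ ⊤)
    (hCπ : ∀ r : ℕ, r.Prime → r ∣ Nat.card C → r ∣ Nat.card A) (hB : TransGood A B q) :
    TransGood A C q := by
  set π := Cfsg.primesNotDvd (Nat.card A)
  set KB := transK A ⊓ Subgroup.centralizer (B : Set G) with hKB
  have hCK : C ≤ Subgroup.normalizer (KB : Set G) := by
    rw [hKB, transK_inf_eq hG hA hAB]
    refine hCB.trans (le_trans ?_ (le_normalizer_piCoreOf π _))
    intro g hg
    rw [mem_normalizer_iff]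
    intro y
    rw [mem_centralizer_iff, mem_centralizer_iff]
    constructor
    · intro h b hb
      have hb' : g⁻¹ * b * g ∈ B := by
        have := (mem_normalizer_iff''.mp hg b).mp hb
        exact this
      calc b * (g * y * g⁻¹) = g * ((g⁻¹ * b * g) * y) * g⁻¹ := by group
        _ = g * (y * (g⁻¹ * b * g)) * g⁻¹ := by rw [h _ hb']
        _ = g * y * g⁻¹ * b := by group
    · intro h b hb
      have hb' : g * b * g⁻¹ ∈ B := (mem_normalizer_iff.mp hg b).mp hb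
      have := h _ hb'
      calc b * y = g⁻¹ * ((g * b * g⁻¹) * (g * y * g⁻¹)) * g := by group
        _ = g⁻¹ * ((g * y * g⁻¹) * (g * b * g⁻¹)) * g := by rw [this]
        _ = y * b := by group
  have hs : ∀ O : Subgroup G, Group.IsSolvable C ∨ Group.IsSolvable O := fun _ =>
    Or.inl (minSimple_isSolvable hG hC)
  have hcopO : ∀ O : Subgroup G, (∀ p : ℕ, p.Prime → p ∣ Nat.card O → p ∈ π) →
      (Nat.card C).Coprime (Nat.card O) := fun O hO =>
    Nat.coprime_of_dvd fun p hp h1 h2 => (hO p hp h2).2 (hCπ p hp h1)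
  have hcopK : (Nat.card C).Coprime (Nat.card KB) := hcopO KB fun p hp hd =>
    piCoreOf_spec _ _ p hp (hd.trans (Subgroup.card_dvd_of_le inf_le_left))
  have hdown : ∀ Q ∈ Cfsg.invSubgroups ⊤ C {q}, Q ∈ Cfsg.invSubgroups ⊤ B {q} :=
    fun Q hQ => ⟨hQ.1, hQ.2.1, hBC.trans hQ.2.2⟩
  have hmax : Cfsg.maxInvSubgroups ⊤ C {q} ⊆ Cfsg.maxInvSubgroups ⊤ B {q} := by
    intro Q hQ
    obtain ⟨R, hR, hQR⟩ := exists_maxInv_ge (hdown Q hQ.1)
    rcases eq_or_lt_of_le hQR with rfl | hlt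
    · exact hR
    exfalso
    by_cases hQ1 : Q = ⊥
    · -- a fixed point of `C` on the maximal `B`-invariant subgroups
      obtain ⟨k, hk, hkn⟩ := exists_invariant_conjugate hCK hcopK (hs _) (H := R) fun c hc => by
        obtain ⟨k, hk, hk2⟩ := hB.2 R hR _ (map_conj_mem_maxInv (hCB hc) hR)
        exact ⟨k, hk, hk2⟩
      have h := hQ.2 _ (inv_of_isPGroup ((isPGroup_of_mem_inv hR.1).map _) hkn) (hQ1 ▸ bot_le)
      rw [hQ1, Subgroup.map_eq_bot_iff_of_injective _ (MulAut.conj k).injective] at h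
      rw [hQ1, h] at hlt
      exact lt_irrefl _ hlt
    set H := Subgroup.normalizer (Q : Set G)
    have hH : H ≠ ⊤ := minSimple_normalizer_ne_top hG hQ1 fun h => hlt.not_ge (le_top.trans h.ge)
    set O := Cfsg.piCoreOf π H
    have hCH : C ≤ H := hQ.1.2.2
    have hAH : A ≤ H := (hAB.trans hBC).trans hCH
    have hCO : C ≤ Subgroup.normalizer (O : Set G) :=
      hCH.trans (le_normalizer.trans (le_normalizer_piCoreOf π H))
    have hqπ : q ∈ π := ⟨Fact.out, hqA⟩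
    have hUO : ∀ U : Subgroup G, IsPGroup q U → U ≤ H → A ≤ Subgroup.normalizer (U : Set G) → U ≤ O := by
      intro U hU hUH hAU
      show U ≤ Cfsg.piCoreOf π H
      rw [← hA.2.2 H hH hAH]
      refine le_sSup ⟨hUH, fun p hp hd => ?_, hAU⟩
      rw [show p = q from (inv_of_isPGroup hU hAU).2.1 p hp hd]
      exact hqπ
    have hQp := isPGroup_of_mem_inv hQ.1
    obtain ⟨S, hS, hSC⟩ := exists_invariant_sylow_ge hCO (hcopO O (piCoreOf_spec π H)) (hs _) hQp
      (hUO Q hQp le_normalizer (hAB.trans (hBC.trans hCH))) hCH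
    have hSQ := hQ.2 _ (inv_of_isPGroup (S.2.map O.subtype) hSC) hS
    set U := R ⊓ H
    have hUp : IsPGroup q U := (isPGroup_of_mem_inv hR.1).to_inf_left
    have hAU : A ≤ Subgroup.normalizer (U : Set G) :=
      le_trans (le_inf (hAB.trans hR.1.2.2) (hAH.trans le_normalizer)) inf_normalizer_le_normalizer_inf
    have hle : (S : Subgroup O) ≤ U.subgroupOf O := fun x hx =>
      (le_inf hlt.le le_normalizer : Q ≤ U) (hSQ ▸ ⟨x, hx, rfl⟩)
    have hUS := S.3 (IsPGroup.comap_subtype hUp) hle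
    obtain ⟨x, hxR, hxH, hxQ⟩ :=
      CfsgLib.Transfer.exists_mem_normalizer_not_mem (isPGroup_of_mem_inv hR.1) hlt
    have hxO : x ∈ O := hUO U hUp inf_le_right hAU ⟨hxR, hxH⟩
    exact hxQ (hSQ ▸ ⟨⟨x, hxO⟩, hUS ▸ (show x ∈ U from ⟨hxR, hxH⟩), rfl⟩)
  refine ⟨fun Q hQ => hB.1 (hmax hQ), fun Q₁ h₁ Q₂ h₂ => ?_⟩
  obtain ⟨k, hk, hkQ⟩ := hB.2 Q₁ (hmax h₁) Q₂ (hmax h₂)
  obtain ⟨c, hc, hcQ⟩ := exists_conj_centralizer_of_invariant hCK hcopK (hs _) h₁.1.2.2 h₂.1.2.2
    ⟨k, hk, hkQ.symm⟩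
  exact ⟨c, ⟨hc.1.1, hc.2⟩, hcQ.symm⟩

theorem transGood_subnormal (hG : Cfsg.IsMinSimpleOddOrder G) (hA : Cfsg.TransitivityHypothesis A)
    [Fact q.Prime] (hqA : ¬ q ∣ Nat.card A) {P : Subgroup G} (hP : P ≠ ⊤)
    (hPπ : ∀ r : ℕ, r.Prime → r ∣ Nat.card P → r ∣ Nat.card A) {C : Subgroup P} (hC : C.IsSubnormal) :
    A ≤ C.map P.subtype → TransGood A (C.map P.subtype) q → TransGood A P q := by
  induction hC with
  | top =>
    intro _ h
    rwa [← MonoidHom.range_eq_map, Subgroup.range_subtype] at h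
  | step H K hle hK hn ih =>
    intro hAH hH
    refine ih (hAH.trans (map_mono hle)) (transGood_step hG hA hqA hAH (map_mono hle) ?_ ?_ ?_ hH)
    · exact (map_mono ((normal_subgroupOf_iff_le_normalizer hle).mp hn)).trans (le_normalizer_map _)
    · exact fun h => hP (top_le_iff.mp (h ▸ map_subtype_le K))
    · exact fun r hr hd => hPπ r hr (hd.trans (Subgroup.card_dvd_of_le (map_subtype_le K)))

end CfsgLib.OddLocal
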