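import Cfsg.Agent.Lib.OddLocal.FixedPointLemma
import Cfsg.Agent.Lib.Comp.PConstrained

/-! In a `p`-constrained group, `p'`-subgroups invariant under a big abelian `p`-subgroup lie in
the `p'`-core. -/

set_option autoImplicit false

namespace CfsgLib.OddLocal

open Subgroup CfsgLib.Comp
open scoped commutatorElement
set_option linter.style.haveILetI false

universe u
variable {G : Type u} [Group G] [Finite G] {p : ℕ} [hp : Fact p.Prime]

omit [Finite G] hp in
/-- A subgroup of class at most two, elementwise. -/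
theorem commute_commutator_of_class {S : Subgroup G} [Group.IsNilpotent S]
    (h : Group.nilpotencyClass S ≤ 2) {a b c : G} (ha : a ∈ S) (hb : b ∈ S) (hc : c ∈ S) :
    Commute ⁅a, b⁆ c := by
  have h2 := Subgroup.lowerCentralSeries_eq_bot_of_nilpotencyClass_le h
  rw [Subgroup.lowerCentralSeries_succ, Subgroup.lowerCentralSeries_succ,
    Subgroup.commutator_eq_bot_iff_le_centralizer] at h2
  exact (Subgroup.mem_centralizer_iff.1 (h2 (commutator_mem_commutator ha hb)) c hc).symm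

theorem le_pPrimeCore_of_invariant {H : Type u} [Group H] [Finite H]
    (hcon : Cfsg.IsPConstrained p H)
    (h2 : p = 2 → ∀ S : Sylow p H, ∀ a ∈ (S : Subgroup H), ∀ b ∈ (S : Subgroup H),
      ∀ c ∈ (S : Subgroup H), Commute ⁅a, b⁆ c)
    (E Q : Subgroup H) (hE : IsPGroup p E)
    (hfull : ∀ x ∈ Subgroup.centralizer (E : Set H), IsPGroup p (Subgroup.zpowers x) → x ∈ E)
    (hEQ : E ≤ Subgroup.normalizer (Q : Set H)) (hQ : (Nat.card Q).Coprime p) :
    Q ≤ Cfsg.pPrimeCore p H := by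
  haveI := Cfsg.pPrimeCore_normal p H
  set f := QuotientGroup.mk' (Cfsg.pPrimeCore p H) with hf
  have hfs : Function.Surjective f := QuotientGroup.mk'_surjective _
  have hC := (isPConstrained_iff p H).1 hcon
  set P := Cfsg.pCore p (H ⧸ Cfsg.pPrimeCore p H) with hPdef
  have hP : IsPGroup p P := isPGroup_pCore p _
  haveI hPn : P.Normal := Cfsg.pCore_normal p _
  have hnorm : ∀ K : Subgroup (H ⧸ Cfsg.pPrimeCore p H),
      K ≤ Subgroup.normalizer (P : Set (H ⧸ Cfsg.pPrimeCore p H)) := fun K => by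
    rw [normalizer_eq_top]; exact le_top
  have hQb : (Nat.card (Q.map f)).Coprime p := hQ.coprime_dvd_left (Subgroup.card_map_dvd _ f)
  have hEQb : E.map f ≤ Subgroup.normalizer ((Q.map f : Subgroup _) : Set (H ⧸ Cfsg.pPrimeCore p H)) :=
    (map_mono hEQ).trans (le_normalizer_map f)
  have hfix : P ⊓ Subgroup.centralizer ((E.map f : Subgroup _) : Set (H ⧸ Cfsg.pPrimeCore p H)) ≤
      Subgroup.centralizer ((Q.map f : Subgroup _) : Set (H ⧸ Cfsg.pPrimeCore p H)) := by
    intro x hx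
    have hx2 := hx.2
    rw [← map_centralizer_eq (coprime_card_pPrimeCore p H) hE] at hx2
    obtain ⟨c, hc, rfl⟩ := hx2
    obtain ⟨a, m, hm, hn⟩ := Nat.exists_eq_pow_mul_and_not_dvd (isOfFinOrder_of_finite c).orderOf_pos.ne'
      p hp.out.ne_one
    have hcm : c ^ m ∈ E := by
      refine hfull _ (pow_mem hc m) (IsPGroup.of_card (n := a) ?_)
      rw [Nat.card_zpowers, orderOf_pow, hn, Nat.gcd_eq_right (dvd_mul_left m _),
        Nat.mul_div_cancel _ (Nat.pos_of_ne_zero (fun h => hm (by simp [h])))]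
    have hxE : f c ∈ E.map f := by
      obtain ⟨b, hb⟩ := IsPGroup.iff_orderOf.1 hP ⟨f c, hx.1⟩
      obtain ⟨j, hj⟩ := exists_pow_eq_self_of_coprime (x := f c) (n := m)
        (by
          rw [Subgroup.orderOf_mk] at hb
          rw [hb]
          exact (((Nat.Prime.coprime_iff_not_dvd hp.out).2 hm).symm).pow_right b)
      rw [← hj, ← map_pow, ← map_pow]
      exact Subgroup.mem_map_of_mem f (pow_mem hcm j)
    rw [Subgroup.mem_centralizer_iff]
    intro v hv
    have h1 : v * f c * v⁻¹ * (f c)⁻¹ ∈ P ⊓ Q.map f := by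
      refine ⟨P.mul_mem (hPn.conj_mem _ hx.1 v) (P.inv_mem hx.1), ?_⟩
      have : v * f c * v⁻¹ * (f c)⁻¹ = v * (f c * v⁻¹ * (f c)⁻¹) := by group
      rw [this]
      exact mul_mem hv ((Subgroup.mem_normalizer_iff.1 (hEQb hxE) v⁻¹).1 (inv_mem hv))
    rw [inf_eq_bot_of_isPGroup hP hQb, Subgroup.mem_bot] at h1
    exact mul_inv_eq_iff_eq_mul.1 (mul_inv_eq_one.1 h1)
  have hor : p ≠ 2 ∨ ∀ x ∈ P, ∀ e ∈ E.map f,
      ⁅x, e⁆ ∈ Subgroup.centralizer ((E.map f : Subgroup _) : Set (H ⧸ Cfsg.pPrimeCore p H)) := by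
    by_cases hp2 : p = 2
    swap
    · exact Or.inl hp2
    refine Or.inr ?_
    obtain ⟨S', hS'⟩ := (hP.to_sup_of_normal_left (hE.map f)).exists_le_sylow
    obtain ⟨S, rfl⟩ := Sylow.mapSurjective_surjective hfs p S'
    rw [Sylow.coe_mapSurjective] at hS'
    intro x hx e he
    obtain ⟨a, ha, rfl⟩ := hS' (mem_sup_left hx)
    obtain ⟨b, hb, rfl⟩ := hS' (mem_sup_right he)
    rw [Subgroup.mem_centralizer_iff]
    intro e' he'
    obtain ⟨c, hc, rfl⟩ := hS' (mem_sup_right he')
    rw [← map_commutatorElement]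
    exact (((h2 hp2 S a ha b hb c hc).map f).eq).symm
  have hQP := centralizes_of_fixed hP (hE.map f) (hnorm _) hEQb (hnorm _) hQb hor hfix
  have h3 : Q.map f ≤ P := hQP.trans hC
  have h4 : Q.map f = ⊥ := by
    rw [← inf_eq_bot_of_isPGroup hP hQb]
    exact le_antisymm (le_inf h3 le_rfl) inf_le_right
  rwa [Subgroup.map_eq_bot_iff, hf, QuotientGroup.ker_mk'] at h4

/-- The same in a normalizer of a nontrivial `p`-subgroup. -/
theorem le_piCoreOf_of_invariant {E T Q : Subgroup G}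
    (hcon : Cfsg.IsPConstrained p ↥(Subgroup.normalizer (T : Set G)))
    (h2 : p = 2 → ∀ S : Sylow p G, Group.IsNilpotent (S : Subgroup G) ∧
      Group.nilpotencyClass (S : Subgroup G) ≤ 2)
    (hE : IsPGroup p E)
    (hfull : ∀ x ∈ Subgroup.centralizer (E : Set G), IsPGroup p (Subgroup.zpowers x) → x ∈ E)
    (hEN : E ≤ Subgroup.normalizer (T : Set G)) (hQN : Q ≤ Subgroup.normalizer (T : Set G))
    (hEQ : E ≤ Subgroup.normalizer (Q : Set G)) (hQ : (Nat.card Q).Coprime p) :
    Q ≤ (Cfsg.pPrimeCore p ↥(Subgroup.normalizer (T : Set G))).map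
      (Subgroup.normalizer (T : Set G)).subtype := by
  set N := Subgroup.normalizer (T : Set G)
  have h := le_pPrimeCore_of_invariant (H := N) hcon ?_ (E.subgroupOf N) (Q.subgroupOf N)
    (IsPGroup.comap_subtype hE) ?_ ?_ ?_
  · intro x hx
    exact ⟨⟨x, hQN hx⟩, h hx, rfl⟩
  · intro hp2 S a ha b hb c hc
    obtain ⟨S', hS'⟩ := (S.2.map N.subtype).exists_le_sylow
    obtain ⟨hn, hcl⟩ := h2 hp2 S'
    have h' := commute_commutator_of_class hcl (hS' ⟨a, ha, rfl⟩) (hS' ⟨b, hb, rfl⟩) (hS' ⟨c, hc, rfl⟩)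
    rw [← map_commutatorElement] at h'
    exact Subtype.ext h'.eq
  · intro x hx hxp
    refine hfull (x : G) ?_ ?_
    · rw [Subgroup.mem_centralizer_iff]
      intro e he
      exact congrArg Subtype.val (Subgroup.mem_centralizer_iff.1 hx ⟨e, hEN he⟩ he)
    · have := hxp.map N.subtype
      rwa [MonoidHom.map_zpowers] at this
  · intro e he
    rw [Subgroup.mem_normalizer_iff]
    intro v
    exact Subgroup.mem_normalizer_iff.1 (hEQ he) v
  · rwa [CfsgLib.Coprime.card_subgroupOf hQN]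

end CfsgLib.OddLocal
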