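import Cfsg.Agent.S1545
import Cfsg.Agent.Lib.OddLocal.Stab
import Cfsg.Agent.Lib.Coprime.Generation
import Cfsg.Agent.Lib.Coprime.Action
import Cfsg.Agent.Lib.Solvable.Nilpotent

/-! A Frobenius group `KR` (`R` of prime order) acting coprimely on a nilpotent group with cyclic
`R`-fixed points: `K'` acts trivially. -/

set_option autoImplicit false
set_option linter.style.haveILetI false
set_option linter.unusedSectionVars false

namespace CfsgLib.OddLocal

open Subgroup CfsgLib.Coprime
open scoped commutatorElement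

universe u
variable {X : Type u} [Group X]

/-- Endomorphisms commuting with a commutative family that makes `V` cyclic commute. -/
theorem comm_of_cyclic_family {V : Type*} [CommGroup V] {ι : Type*} (c : ι → V →* V)
    (hc : ∀ i j w, c i (c j w) = c j (c i w)) (v : V)
    (hgen : Subgroup.closure (Set.range fun i => c i v) = ⊤) (f g : V →* V)
    (hf : ∀ i w, f (c i w) = c i (f w)) (hg : ∀ i w, g (c i w) = c i (g w)) :
    ∀ w, f (g w) = g (f w) := by
  let S : (V →* V) → Prop := fun h => ∀ i w, h (c i w) = c i (h w)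
  have key : ∀ w : V, ∃ μ : V →* V, S μ ∧ (∀ h, S h → ∀ x, μ (h x) = h (μ x)) ∧ μ v = w := by
    intro w
    have hw : w ∈ Subgroup.closure (Set.range fun i => c i v) := hgen ▸ Subgroup.mem_top w
    induction hw using Subgroup.closure_induction with
    | mem x hx =>
      obtain ⟨i, rfl⟩ := hx
      exact ⟨c i, fun j x => hc i j x, fun h hh x => (hh i x).symm, rfl⟩
    | one => exact ⟨1, fun j x => by simp, fun h _ x => by simp, rfl⟩
    | mul x y _ _ hx hy =>
      obtain ⟨a, ha1, ha2, ha3⟩ := hx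
      obtain ⟨b, hb1, hb2, hb3⟩ := hy
      exact ⟨a * b, fun j z => by simp [ha1 j z, hb1 j z],
        fun h hh z => by simp [ha2 h hh z, hb2 h hh z], by simp [ha3, hb3]⟩
    | inv x _ hx =>
      obtain ⟨a, ha1, ha2, ha3⟩ := hx
      exact ⟨a⁻¹, fun j z => by simp [ha1 j z], fun h hh z => by simp [ha2 h hh z],
        by simp [ha3]⟩
  intro w
  obtain ⟨a, ha1, ha2, ha3⟩ := key (g v)
  obtain ⟨b, hb1, hb2, hb3⟩ := key (f v)
  obtain ⟨d, hd1, hd2, hd3⟩ := key w
  have hv : f (g v) = g (f v) := by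
    rw [← ha3, ← ha2 f hf v, ← hb3, ha2 b hb1 v, ha3, hb2 g hg v, hb3]
  rw [← hd3, ← hd2 g hg v, ← hd2 f hf _, hv, ← hd2 f hf v, ← hd2 g hg _]

variable [Finite X]

theorem isSolvable_of_isMulCommutative {V : Subgroup X} (hV : IsMulCommutative V) : Group.IsSolvable V := by
  letI : CommGroup V := { (inferInstance : Group V) with mul_comm := fun a b => hV.is_comm.comm a b }
  infer_instance

theorem formula {U E H : Subgroup X} (hU1 : U ≠ ⊥) (hE1 : E ≠ ⊥) (hUE : U ⊓ E = ⊥)
    (hEU : E ≤ Subgroup.normalizer (U : Set X))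
    (hfpf : ∀ e ∈ E, e ≠ 1 → U ⊓ Subgroup.centralizer ({e} : Set X) = ⊥)
    (hH : U ⊔ E ≤ Subgroup.normalizer (H : Set X)) (hs : Group.IsSolvable H)
    (hcop : (Nat.card ↥(U ⊔ E)).Coprime (Nat.card H))
    (hfix : H ⊓ Subgroup.centralizer (U : Set X) = ⊥) :
    Nat.card H = Nat.card ↥(H ⊓ Subgroup.centralizer (E : Set X)) ^ Nat.card E := by
  have h := Cfsg.Agent.S1545.result U E H hU1 hE1 hUE
    (fun e he u hu => (Subgroup.mem_normalizer_iff.1 (hEU he) u).1 hu)
    (fun e he he1 u hu heu => Subgroup.mem_bot.1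
      (hfpf e he he1 ▸ ⟨hu, Subgroup.mem_centralizer_singleton_iff.2 heu.symm⟩))
    (fun x hx h hh => (Subgroup.mem_normalizer_iff.1 (hH hx) h).1 hh)
    (CfsgLib.Coprime.inf_eq_bot_of_coprime hcop.symm) hs hcop.symm
  have h0 : H ⊓ Subgroup.centralizer ((U ⊔ E : Subgroup X) : Set X) = ⊥ := by
    rw [eq_bot_iff, ← hfix]
    exact inf_le_inf_left H (Subgroup.centralizer_le (SetLike.coe_subset_coe.2 le_sup_left))
  rw [hfix, h0, Subgroup.card_bot, one_pow, one_mul, mul_one] at h
  exact h

/-- A proper drop for commutators with a nilpotent overgroup. -/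
theorem commutator_ne_self {K Z : Subgroup X} (hK : Group.IsNilpotent K) (hZK : Z ≤ K)
    (hZ : Z ≠ ⊥) : ⁅Z, K⁆ ≠ Z := by
  intro h
  apply hZ
  obtain ⟨n, hn⟩ := (Subgroup.isNilpotent_iff_lowerCentralSeries K).1 hK
  rw [eq_bot_iff, ← hn]
  clear hn
  induction n with
  | zero => exact hZK
  | succ n ih =>
    rw [Subgroup.lowerCentralSeries_succ, ← h]
    exact Subgroup.commutator_mono ih le_rfl

/-- The abelian case. -/
theorem commutator_le_centralizer_abelian {K R : Subgroup X} (hR : (Nat.card R).Prime)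
    (hK : Group.IsNilpotent K) (hRK : R ≤ Subgroup.normalizer (K : Set X))
    (hfrob : ∀ r ∈ R, r ≠ 1 → K ⊓ Subgroup.centralizer ({r} : Set X) = ⊥) :
    ∀ V : Subgroup X, IsMulCommutative V → K ⊔ R ≤ Subgroup.normalizer (V : Set X) →
      (Nat.card ↥(K ⊔ R)).Coprime (Nat.card V) → V ⊓ Subgroup.centralizer (K : Set X) = ⊥ →
      IsCyclic ↥(V ⊓ Subgroup.centralizer (R : Set X)) →
      ⁅K, K⁆ ≤ Subgroup.centralizer (V : Set X) := by
  intro V
  induction hcard : Nat.card V using Nat.strong_induction_on generalizing V with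
  | _ n ih =>
    subst hcard
    intro hV hN hcop hfix hcyc
    haveI := hV
    by_cases hKV : K ≤ Subgroup.centralizer (V : Set X)
    · exact (Subgroup.commutator_le.2 fun a ha b hb => by
        rw [commutatorElement_def]
        exact mul_mem (mul_mem (mul_mem ha hb) (inv_mem ha)) (inv_mem hb)).trans hKV
    -- a minimal invariant subgroup moving `V`
    haveI : Finite (Subgroup X) := Finite.of_injective _ SetLike.coe_injective
    obtain ⟨Z, hZm⟩ := exists_minimal_of_wellFoundedLT (fun Z : Subgroup X => Z ≤ K ∧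
      K ⊔ R ≤ Subgroup.normalizer (Z : Set X) ∧ ¬ Z ≤ Subgroup.centralizer (V : Set X))
      ⟨K, le_rfl, sup_le Subgroup.le_normalizer hRK, hKV⟩
    obtain ⟨hZK, hZN, hZV⟩ := hZm.prop
    have hZ1 : Z ≠ ⊥ := fun h => hZV (h ▸ bot_le)
    have hc : ⁅Z, K⁆ ≤ Subgroup.centralizer (V : Set X) := by
      by_contra hcon
      have hle : ⁅Z, K⁆ ≤ Z := le_normalizer_iff_commutator_le_left.1 (le_sup_left.trans hZN)
      have hn : K ⊔ R ≤ Subgroup.normalizer ((⁅Z, K⁆ : Subgroup X) : Set X) := by
        refine sup_le (Subgroup.normalizer_commutator_ge_right Z K) fun r hr => ?_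
        rw [mem_normalizer_iff_map_conj, Subgroup.map_commutator,
          map_conj_of_mem_normalizer (hZN (mem_sup_right hr)), map_conj_of_mem_normalizer (hRK hr)]
      exact commutator_ne_self hK hZK hZ1
        (le_antisymm hle (hZm.le_of_le ⟨hle.trans hZK, hn, hcon⟩ hle))
    have hRne : R ≠ ⊥ := fun h => by
      rw [h, Subgroup.card_bot] at hR
      exact Nat.not_prime_one hR
    have hcopZ : (Nat.card ↥(Z ⊔ R)).Coprime (Nat.card V) :=
      hcop.coprime_dvd_left (Subgroup.card_dvd_of_le (sup_le_sup_right hZK R))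
    have hZVn : Z ≤ Subgroup.normalizer (V : Set X) := hZK.trans (le_sup_left.trans hN)
    by_cases hC0 : V ⊓ Subgroup.centralizer (Z : Set X) = ⊥
    swap
    · -- split `V`
      have hcopZ' : (Nat.card Z).Coprime (Nat.card V) :=
        hcopZ.coprime_dvd_left (Subgroup.card_dvd_of_le le_sup_left)
      haveI : Group.IsSolvable V := isSolvable_of_isMulCommutative hV
      have hsplit := commutator_sup_centralizer hZVn hcopZ' (Or.inr inferInstance)
      have hdisj := commutator_inf_centralizer_eq_bot hV hZVn hcopZ'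
      have hle : ⁅V, Z⁆ ≤ V := le_normalizer_iff_commutator_le_left.1 hZVn
      have hn1 : K ⊔ R ≤ Subgroup.normalizer ((⁅V, Z⁆ : Subgroup X) : Set X) := by
        intro g hg
        rw [mem_normalizer_iff_map_conj, Subgroup.map_commutator,
          map_conj_of_mem_normalizer (hN hg), map_conj_of_mem_normalizer (hZN hg)]
      have hn2 : K ⊔ R ≤ Subgroup.normalizer ((V ⊓ Subgroup.centralizer (Z : Set X) : Subgroup X) : Set X) := by
        refine le_trans (le_inf hN ?_) Subgroup.inf_normalizer_le_normalizer_inf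
        intro g hg
        rw [Subgroup.mem_normalizer_iff]
        intro w
        have h := hZN hg
        rw [Subgroup.mem_centralizer_iff, Subgroup.mem_centralizer_iff]
        constructor
        · intro hw z hz
          have hz' := hw _ ((Subgroup.mem_normalizer_iff''.1 h z).1 hz)
          calc z * (g * w * g⁻¹) = g * ((g⁻¹ * z * g) * w) * g⁻¹ := by group
            _ = g * (w * (g⁻¹ * z * g)) * g⁻¹ := by rw [hz']
            _ = _ := by group
        · intro hw z hz
          have hz' := hw _ ((Subgroup.mem_normalizer_iff.1 h z).1 hz)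
          calc z * w = g⁻¹ * ((g * z * g⁻¹) * (g * w * g⁻¹)) * g := by group
            _ = g⁻¹ * ((g * w * g⁻¹) * (g * z * g⁻¹)) * g := by rw [hz']
            _ = _ := by group
      have part : ∀ U : Subgroup X, U ≤ V → U ≠ V → K ⊔ R ≤ Subgroup.normalizer (U : Set X) →
          ⁅K, K⁆ ≤ Subgroup.centralizer (U : Set X) := by
        intro U hUV hne hUn
        refine ih (Nat.card U) ?_ U rfl
          (IsMulCommutative.mk ⟨fun a b => Subtype.ext
            (congrArg (fun w : V => (w : X)) (hV.is_comm.comm ⟨a, hUV a.2⟩ ⟨b, hUV b.2⟩))⟩) hUn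
          (hcop.coprime_dvd_right (Subgroup.card_dvd_of_le hUV))
          (eq_bot_iff.2 (hfix ▸ inf_le_inf_right _ hUV)) ?_
        · refine lt_of_le_of_ne (Nat.le_of_dvd Nat.card_pos (Subgroup.card_dvd_of_le hUV)) fun h => ?_
          exact hne (Subgroup.eq_of_le_of_card_ge hUV h.ge)
        · haveI := hcyc
          exact isCyclic_of_injective (Subgroup.inclusion (inf_le_inf_right _ hUV))
            (Subgroup.inclusion_injective _)
      have h1 := part _ hle (fun h => hC0 (by
        rw [h] at hdisj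
        exact hdisj)) hn1
      have h2 := part _ inf_le_left (fun h => hZV (Subgroup.le_centralizer_iff.1 (h ▸ inf_le_right))) hn2
      rw [← hsplit]
      exact Subgroup.le_centralizer_iff.1
        (sup_le (Subgroup.le_centralizer_iff.1 h1) (Subgroup.le_centralizer_iff.1 h2))
    -- `Z` makes `V` cyclic
    obtain ⟨v, hv⟩ := hcyc.exists_generator
    have hvV : (v : X) ∈ V := v.2.1
    set W : Subgroup X := Subgroup.closure ((fun z : Z => (z : X) * v * (z : X)⁻¹) '' Set.univ) with hW
    have hWV : W ≤ V := by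
      rw [hW, Subgroup.closure_le]
      rintro _ ⟨z, -, rfl⟩
      exact (Subgroup.mem_normalizer_iff.1 (hZVn z.2) _).1 hvV
    have hWn : Z ⊔ R ≤ Subgroup.normalizer (W : Set X) := by
      refine sup_le (fun a ha => ?_) fun a ha => ?_
      all_goals rw [mem_normalizer_iff_map_conj, hW, MonoidHom.map_closure]
      all_goals congr 1
      all_goals ext w
      · constructor
        · rintro ⟨_, ⟨z, -, rfl⟩, rfl⟩
          refine ⟨⟨a, ha⟩ * z, Set.mem_univ _, ?_⟩
          simp [mul_assoc]
        · rintro ⟨z, -, rfl⟩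
          refine ⟨_, ⟨(⟨a, ha⟩ : Z)⁻¹ * z, Set.mem_univ _, rfl⟩, ?_⟩
          simp [mul_assoc]
      · have hva : a * (v : X) = v * a := Subgroup.mem_centralizer_iff.1 v.2.2 a ha
        have haZ := hZN (mem_sup_right ha : a ∈ K ⊔ R)
        constructor
        · rintro ⟨_, ⟨z, -, rfl⟩, rfl⟩
          refine ⟨⟨a * z * a⁻¹, (Subgroup.mem_normalizer_iff.1 haZ z).1 z.2⟩, Set.mem_univ _, ?_⟩
          show a * z * a⁻¹ * v * (a * z * a⁻¹)⁻¹ = a * (z * v * (z : X)⁻¹) * a⁻¹
          calc a * z * a⁻¹ * v * (a * z * a⁻¹)⁻¹ = a * z * (a⁻¹ * (v * a)) * (z : X)⁻¹ * a⁻¹ := by group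
            _ = a * z * (a⁻¹ * (a * v)) * (z : X)⁻¹ * a⁻¹ := by rw [hva]
            _ = _ := by group
        · rintro ⟨z, -, rfl⟩
          refine ⟨_, ⟨⟨a⁻¹ * z * a, (Subgroup.mem_normalizer_iff''.1 haZ z).1 z.2⟩, Set.mem_univ _, rfl⟩, ?_⟩
          show a * (a⁻¹ * z * a * v * (a⁻¹ * z * a)⁻¹) * a⁻¹ = z * v * (z : X)⁻¹
          calc a * (a⁻¹ * z * a * v * (a⁻¹ * z * a)⁻¹) * a⁻¹
              = z * ((a * v) * a⁻¹) * (z : X)⁻¹ := by group
            _ = z * ((v * a) * a⁻¹) * (z : X)⁻¹ := by rw [hva]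
            _ = _ := by group
    have hvW : (v : X) ∈ W := Subgroup.subset_closure ⟨1, Set.mem_univ _, by simp⟩
    have hfr : ∀ e ∈ R, e ≠ 1 → Z ⊓ Subgroup.centralizer ({e} : Set X) = ⊥ := fun e he he1 =>
      eq_bot_iff.2 (hfrob e he he1 ▸ inf_le_inf_right _ hZK)
    have hZR : Z ⊓ R = ⊥ := by
      rw [eq_bot_iff]
      intro x hx
      by_contra hx1
      have : x ∈ Z ⊓ Subgroup.centralizer ({x} : Set X) :=
        ⟨hx.1, Subgroup.mem_centralizer_singleton_iff.2 rfl⟩
      rw [hfr x hx.2 hx1] at this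
      exact hx1 this
    have hRZ : R ≤ Subgroup.normalizer (Z : Set X) := le_sup_right.trans hZN
    have hWcomm : IsMulCommutative W := IsMulCommutative.mk ⟨fun a b => Subtype.ext
      (congrArg (fun w : V => (w : X)) (hV.is_comm.comm ⟨a, hWV a.2⟩ ⟨b, hWV b.2⟩))⟩
    have eV := formula hZ1 hRne hZR hRZ hfr (sup_le_sup_right hZK R |>.trans hN) (isSolvable_of_isMulCommutative hV) hcopZ hC0
    have eW := formula (H := W) hZ1 hRne hZR hRZ hfr hWn (isSolvable_of_isMulCommutative hWcomm)
      (hcopZ.coprime_dvd_right (Subgroup.card_dvd_of_le hWV))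
      (eq_bot_iff.2 (hC0 ▸ inf_le_inf_right _ hWV))
    have hCeq : W ⊓ Subgroup.centralizer (R : Set X) = V ⊓ Subgroup.centralizer (R : Set X) := by
      refine le_antisymm (inf_le_inf_right _ hWV) fun x hx => ⟨?_, hx.2⟩
      obtain ⟨k, hk⟩ := hv ⟨x, hx⟩
      have hk' : (v : X) ^ k = x := congrArg Subtype.val hk
      rw [← hk']
      exact zpow_mem hvW k
    rw [hCeq] at eW
    have hWeq : W = V := Subgroup.eq_of_le_of_card_ge hWV (eV.trans eW.symm).le
    -- so elements of `K` commute on `V`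
    letI : CommGroup V := { (inferInstance : Group V) with mul_comm := fun a b => hV.is_comm.comm a b }
    let cj : Subgroup.normalizer (V : Set X) → V →* V := fun g => (V.normalizerMonoidHom g).toMonoidHom
    have hcj : ∀ g (w : V), ((cj g w : V) : X) = g * w * (g : X)⁻¹ := fun g w => rfl
    have hKN : ∀ k ∈ K, k ∈ Subgroup.normalizer (V : Set X) := fun k hk => hN (mem_sup_left hk)
    have hcz : ∀ k ∈ K, ∀ z ∈ Z, ∀ w ∈ V, k * (z * w * z⁻¹) * k⁻¹ = z * (k * w * k⁻¹) * z⁻¹ := by
      intro k hk z hz w hw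
      have h1 : ⁅z, k⁆ ∈ Subgroup.centralizer (V : Set X) := hc (commutator_mem_commutator hz hk)
      have hx : (k * z) * w * (k * z)⁻¹ ∈ V :=
        (Subgroup.mem_normalizer_iff.1 (mul_mem (hKN k hk) (hZVn hz)) w).1 hw
      have h2 : ⁅z, k⁆ * ((k * z) * w * (k * z)⁻¹) * ⁅z, k⁆⁻¹ = (k * z) * w * (k * z)⁻¹ :=
        mul_inv_eq_iff_eq_mul.2 (Subgroup.mem_centralizer_iff.1 h1 _ hx).symm
      calc k * (z * w * z⁻¹) * k⁻¹ = (k * z) * w * (k * z)⁻¹ := by group
        _ = ⁅z, k⁆ * ((k * z) * w * (k * z)⁻¹) * ⁅z, k⁆⁻¹ := h2.symm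
        _ = _ := by rw [commutatorElement_def]; group
    have hgen : Subgroup.closure (Set.range fun z : Z => cj ⟨z, hZVn z.2⟩ ⟨v, hvV⟩) = ⊤ := by
      apply Subgroup.map_injective V.subtype_injective
      rw [MonoidHom.map_closure, ← MonoidHom.range_eq_map, Subgroup.range_subtype,
        show Subgroup.closure (V.subtype '' Set.range fun z : Z => cj ⟨z, hZVn z.2⟩ ⟨v, hvV⟩) = W from ?_,
        hWeq]
      rw [hW]
      congr 1
      ext w
      constructor
      · rintro ⟨_, ⟨z, rfl⟩, rfl⟩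
        exact ⟨z, Set.mem_univ _, rfl⟩
      · rintro ⟨z, -, rfl⟩
        exact ⟨_, ⟨z, rfl⟩, rfl⟩
    have key : ∀ a (ha : a ∈ K) b (hb : b ∈ K), ∀ w : V,
        cj ⟨a, hKN a ha⟩ (cj ⟨b, hKN b hb⟩ w) = cj ⟨b, hKN b hb⟩ (cj ⟨a, hKN a ha⟩ w) := by
      intro a ha b hb
      refine comm_of_cyclic_family (fun z : Z => cj ⟨z, hZVn z.2⟩) ?_ ⟨v, hvV⟩ hgen _ _ ?_ ?_
      · exact fun i j w => Subtype.ext (hcz i (hZK i.2) j j.2 w w.2)
      · exact fun i w => Subtype.ext (hcz a ha i i.2 w w.2)
      · exact fun i w => Subtype.ext (hcz b hb i i.2 w w.2)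
    refine Subgroup.commutator_le.2 fun a ha b hb => ?_
    rw [Subgroup.mem_centralizer_iff]
    intro w hw
    have hu : a⁻¹ * (b⁻¹ * w * b) * a ∈ V :=
      (Subgroup.mem_normalizer_iff''.1 (hKN a ha) _).1 ((Subgroup.mem_normalizer_iff''.1 (hKN b hb) w).1 hw)
    have h' := congrArg Subtype.val (key a ha b hb ⟨a⁻¹ * (b⁻¹ * w * b) * a, hu⟩)
    simp only [hcj] at h'
    have h2 : ⁅a, b⁆ * w * ⁅a, b⁆⁻¹ = w := by
      calc ⁅a, b⁆ * w * ⁅a, b⁆⁻¹
          = a * (b * (a⁻¹ * (b⁻¹ * w * b) * a) * b⁻¹) * a⁻¹ := by rw [commutatorElement_def]; group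
        _ = b * (a * (a⁻¹ * (b⁻¹ * w * b) * a) * a⁻¹) * b⁻¹ := h'
        _ = w := by group
    exact (mul_inv_eq_iff_eq_mul.1 h2).symm

/-- The nilpotent case. -/
theorem commutator_le_centralizer_of_cyclic_fixed : ∀ {X : Type u} [Group X] [Finite X]
    (K R : Subgroup X), (Nat.card R).Prime → Group.IsNilpotent K →
    R ≤ Subgroup.normalizer (K : Set X) →
    (∀ r ∈ R, r ≠ 1 → K ⊓ Subgroup.centralizer ({r} : Set X) = ⊥) →
    ∀ M : Subgroup X, Group.IsNilpotent M → K ⊔ R ≤ Subgroup.normalizer (M : Set X) →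
      (Nat.card ↥(K ⊔ R)).Coprime (Nat.card M) → M ⊓ Subgroup.centralizer (K : Set X) = ⊥ →
      IsCyclic ↥(M ⊓ Subgroup.centralizer (R : Set X)) →
      ⁅K, K⁆ ≤ Subgroup.centralizer (M : Set X) := by
  intro X _ _ K R hR hK hRK hfrob M
  induction hcard : Nat.card M using Nat.strong_induction_on generalizing X with
  | _ n ih =>
    subst hcard
    intro hM hN hcop hfix hcyc
    haveI := hM
    set Z := M ⊓ Subgroup.centralizer (M : Set X) with hZdef
    by_cases hab : Z = M
    · have hV : IsMulCommutative M := IsMulCommutative.mk ⟨fun a b => Subtype.ext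
        (Subgroup.mem_centralizer_iff.1 ((hab.ge b.2).2) a a.2)⟩
      exact commutator_le_centralizer_abelian hR hK hRK hfrob M hV hN hcop hfix hcyc
    have hM1 : M ≠ ⊥ := fun h => hab (le_antisymm inf_le_left (h ▸ bot_le))
    have hZ1 : Z ≠ ⊥ := by
      intro h
      haveI : Nontrivial M := (Subgroup.nontrivial_iff_ne_bot M).2 hM1
      obtain ⟨z, hz', hz1⟩ := ((⊤ : Subgroup M) ⊓ Subgroup.center M).bot_or_exists_ne_one.resolve_left
        (CfsgLib.Solvable.normal_inf_center_ne_bot ⊤ top_ne_bot)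
      have hz := hz'.2
      have hzZ : (z : X) ∈ Z := ⟨z.2, Subgroup.mem_centralizer_iff.2 fun a ha =>
        congrArg Subtype.val (Subgroup.mem_center_iff.1 hz ⟨a, ha⟩)⟩
      exact hz1 (Subtype.ext (Subgroup.mem_bot.1 (h ▸ hzZ)))
    have hMZ : M ≤ Subgroup.normalizer (Z : Set X) :=
      le_trans (fun m hm => Subgroup.mem_centralizer_iff.2 fun z hz =>
        (Subgroup.mem_centralizer_iff.1 hz.2 m hm).symm) (Subgroup.centralizer_le_normalizer _)
    have hKRZ : K ⊔ R ≤ Subgroup.normalizer (Z : Set X) := by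
      refine le_trans (le_inf hN ?_) Subgroup.inf_normalizer_le_normalizer_inf
      intro g hg
      rw [Subgroup.mem_normalizer_iff]
      intro w
      have h := hN hg
      rw [Subgroup.mem_centralizer_iff, Subgroup.mem_centralizer_iff]
      constructor
      · intro hw z hz
        have hz' := hw _ ((Subgroup.mem_normalizer_iff''.1 h z).1 hz)
        calc z * (g * w * g⁻¹) = g * ((g⁻¹ * z * g) * w) * g⁻¹ := by group
          _ = g * (w * (g⁻¹ * z * g)) * g⁻¹ := by rw [hz']
          _ = _ := by group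
      · intro hw z hz
        have hz' := hw _ ((Subgroup.mem_normalizer_iff.1 h z).1 hz)
        calc z * w = g⁻¹ * ((g * z * g⁻¹) * (g * w * g⁻¹)) * g := by group
          _ = g⁻¹ * ((g * w * g⁻¹) * (g * z * g⁻¹)) * g := by rw [hz']
          _ = _ := by group
    have hZlt : Nat.card Z < Nat.card M :=
      lt_of_le_of_ne (Nat.le_of_dvd Nat.card_pos (Subgroup.card_dvd_of_le inf_le_left))
        fun h => hab (Subgroup.eq_of_le_of_card_ge inf_le_left h.ge)
    have hKZ : ⁅K, K⁆ ≤ Subgroup.centralizer (Z : Set X) := by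
      refine ih (Nat.card Z) hZlt K R hR hK hRK hfrob Z rfl
        ((Group.isNilpotent_congr (Subgroup.subgroupOfEquivOfLe (inf_le_left : Z ≤ M))).1 inferInstance)
        hKRZ (hcop.coprime_dvd_right (Subgroup.card_dvd_of_le inf_le_left))
        (eq_bot_iff.2 (hfix ▸ inf_le_inf_right _ inf_le_left)) ?_
      haveI := hcyc
      exact isCyclic_of_injective
        (Subgroup.inclusion (inf_le_inf_right _ (inf_le_left : Z ≤ M))) (Subgroup.inclusion_injective _)
    -- pass to the quotient by `Z`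
    set N := Subgroup.normalizer (Z : Set X) with hNdef
    haveI : (Z.subgroupOf N).Normal := Subgroup.normal_in_normalizer
    set q := QuotientGroup.mk' (Z.subgroupOf N) with hq
    have hKN : K ≤ N := le_sup_left.trans hKRZ
    have hRN : R ≤ N := le_sup_right.trans hKRZ
    let img : Subgroup X → Subgroup (N ⧸ Z.subgroupOf N) := fun A => (A.subgroupOf N).map q
    have hn : ∀ A B : Subgroup X, A ≤ Subgroup.normalizer (B : Set X) →
        img A ≤ Subgroup.normalizer (img B : Set (N ⧸ Z.subgroupOf N)) := by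
      intro A B h
      refine le_trans (map_mono (fun a ha => ?_)) (Subgroup.le_normalizer_map q)
      rw [Subgroup.mem_normalizer_iff]
      intro w
      exact Subgroup.mem_normalizer_iff.1 (h ha) w
    have hcard : ∀ A : Subgroup X, A ≤ N → Nat.card (img A) ∣ Nat.card A := fun A hA => by
      rw [← card_subgroupOf hA]
      exact Subgroup.card_map_dvd _ q
    have hsupimg : img K ⊔ img R = img (K ⊔ R) := by
      show (K.subgroupOf N).map q ⊔ (R.subgroupOf N).map q = _
      rw [← Subgroup.map_sup, ← Subgroup.subgroupOf_sup hKN hRN]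
    have hcop' : (Nat.card ↥(img K ⊔ img R)).Coprime (Nat.card (img M)) := by
      rw [hsupimg]
      exact (hcop.coprime_dvd_left (hcard _ hKRZ)).coprime_dvd_right (hcard _ hMZ)
    have hinter : ∀ A B : Subgroup X, A ≤ N → B ≤ N →
        A.subgroupOf N ⊓ Subgroup.centralizer ((B.subgroupOf N : Subgroup N) : Set N) =
          (A ⊓ Subgroup.centralizer (B : Set X)).subgroupOf N := by
      intro A B _ hB
      ext x
      constructor
      · intro hx
        exact ⟨hx.1, Subgroup.mem_centralizer_iff.2 fun b hb =>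
          congrArg Subtype.val (Subgroup.mem_centralizer_iff.1 hx.2 ⟨b, hB hb⟩ hb)⟩
      · intro hx
        exact ⟨hx.1, Subgroup.mem_centralizer_iff.2 fun b hb =>
          Subtype.ext (Subgroup.mem_centralizer_iff.1 hx.2 (b : X) hb)⟩
    have hfixmap : ∀ A B : Subgroup X, A ≤ N → B ≤ N → A ≤ Subgroup.normalizer (B : Set X) →
        (Nat.card A).Coprime (Nat.card B) → Group.IsSolvable A ∨ Group.IsSolvable B →
        img B ⊓ Subgroup.centralizer (img A : Set (N ⧸ Z.subgroupOf N)) =
          img (B ⊓ Subgroup.centralizer (A : Set X)) := by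
      intro A B hA hB hAB hco hs
      show (B.subgroupOf N).map q ⊓ Subgroup.centralizer (((A.subgroupOf N).map q : Subgroup _) : Set _) = _
      rw [← map_inf_centralizer q (A := A.subgroupOf N) (G := B.subgroupOf N) ?_ ?_ ?_, hinter B A hB hA]
      · intro a ha
        rw [Subgroup.mem_normalizer_iff]
        intro w
        exact Subgroup.mem_normalizer_iff.1 (hAB ha) w
      · rwa [card_subgroupOf hA, card_subgroupOf hB]
      · exact hs.imp (isSolvable_subgroupOf hA) (isSolvable_subgroupOf hB)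
    have hKq : Group.IsNilpotent (img K) := by
      haveI : Group.IsNilpotent (K.subgroupOf N) :=
        (Group.isNilpotent_congr (Subgroup.subgroupOfEquivOfLe hKN)).2 hK
      exact Group.nilpotent_of_surjective (q.subgroupMap (K.subgroupOf N))
        (q.subgroupMap_surjective _)
    have hMq : Group.IsNilpotent (img M) := by
      haveI : Group.IsNilpotent (M.subgroupOf N) :=
        (Group.isNilpotent_congr (Subgroup.subgroupOfEquivOfLe hMZ)).2 hM
      exact Group.nilpotent_of_surjective (q.subgroupMap (M.subgroupOf N))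
        (q.subgroupMap_surjective _)
    have hcard' : ∀ A : Subgroup X, A ≤ K ⊔ R → Nat.card (img A) = Nat.card A := by
      intro A hA
      have hinj : Function.Injective (q.comp (A.subgroupOf N).subtype) := by
        rw [← MonoidHom.ker_eq_bot_iff, eq_bot_iff]
        intro x hx
        rw [MonoidHom.mem_ker, MonoidHom.comp_apply, hq, QuotientGroup.mk'_apply,
          QuotientGroup.eq_one_iff] at hx
        have : ((x : N) : X) ∈ (K ⊔ R) ⊓ M := ⟨hA x.2, (inf_le_left : Z ≤ M) hx⟩
        rw [CfsgLib.Coprime.inf_eq_bot_of_coprime hcop, Subgroup.mem_bot] at this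
        exact Subgroup.mem_bot.2 (Subtype.ext (Subtype.ext this))
      show Nat.card ((A.subgroupOf N).map q) = _
      rw [← card_subgroupOf (hA.trans hKRZ)]
      calc Nat.card ((A.subgroupOf N).map q) = Nat.card (q.comp (A.subgroupOf N).subtype).range := by
            rw [MonoidHom.range_comp, Subgroup.range_subtype]
        _ = _ := Nat.card_congr (MonoidHom.ofInjective hinj).toEquiv.symm
    have hsK : Group.IsSolvable K := inferInstance
    have hR' : (Nat.card (img R)).Prime := by rw [hcard' R le_sup_right]; exact hR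
    have hdis : K ⊓ R = ⊥ := by
      rw [eq_bot_iff]
      intro x hx
      by_contra hx1
      have hxc : x ∈ K ⊓ Subgroup.centralizer ({x} : Set X) :=
        ⟨hx.1, Subgroup.mem_centralizer_singleton_iff.2 rfl⟩
      rw [hfrob x hx.2 hx1] at hxc
      exact hx1 hxc
    have hfrob' : ∀ r ∈ img R, r ≠ 1 →
        img K ⊓ Subgroup.centralizer ({r} : Set (N ⧸ Z.subgroupOf N)) = ⊥ := by
      rintro _ ⟨r, hr, rfl⟩ hr1
      rw [eq_bot_iff]
      rintro _ ⟨⟨k, hk, rfl⟩, hkr⟩
      have hkr' := Subgroup.mem_centralizer_singleton_iff.1 hkr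
      have hc1 : q (k * r * k⁻¹ * r⁻¹) = 1 := by
        simp only [map_mul, map_inv]
        rw [hkr']
        group
      rw [hq, QuotientGroup.mk'_apply, QuotientGroup.eq_one_iff] at hc1
      have hc2 : ((k : X) * r * (k : X)⁻¹ * (r : X)⁻¹) ∈ (K ⊔ R) ⊓ M :=
        ⟨(K ⊔ R).mul_mem ((K ⊔ R).mul_mem ((K ⊔ R).mul_mem (mem_sup_left hk) (mem_sup_right hr))
          ((K ⊔ R).inv_mem (mem_sup_left hk))) ((K ⊔ R).inv_mem (mem_sup_right hr)), (inf_le_left : Z ≤ M) hc1⟩
      rw [CfsgLib.Coprime.inf_eq_bot_of_coprime hcop, Subgroup.mem_bot] at hc2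
      have hkC : (k : X) ∈ K ⊓ Subgroup.centralizer ({(r : X)} : Set X) :=
        ⟨hk, Subgroup.mem_centralizer_singleton_iff.2 (mul_inv_eq_iff_eq_mul.1 (mul_inv_eq_one.1 hc2))⟩
      rw [hfrob r hr fun h => hr1 (by rw [show r = 1 from Subtype.ext h, map_one]), Subgroup.mem_bot] at hkC
      rw [Subgroup.mem_bot, show k = 1 from Subtype.ext hkC, map_one]
    have hlt : Nat.card (img M) < Nat.card M := by
      refine lt_of_le_of_ne (Nat.le_of_dvd Nat.card_pos (hcard M hMZ)) fun he => ?_
      have hinj : Function.Injective (q.subgroupMap (M.subgroupOf N)) :=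
        ((Nat.bijective_iff_surjective_and_card _).2 ⟨q.subgroupMap_surjective _,
          (card_subgroupOf hMZ).trans he.symm⟩).1
      obtain ⟨z, hz, hz1⟩ := Z.bot_or_exists_ne_one.resolve_left hZ1
      have : (⟨⟨z, hMZ hz.1⟩, hz.1⟩ : M.subgroupOf N) = 1 := hinj (Subtype.ext (by
        rw [map_one]
        show q ⟨z, hMZ hz.1⟩ = 1
        rw [hq, QuotientGroup.mk'_apply, QuotientGroup.eq_one_iff]
        exact hz))
      exact hz1 (congrArg (fun w : M.subgroupOf N => ((w : N) : X)) this)
    have hres := ih (Nat.card (img M)) hlt (img K) (img R) hR' hKq (hn R K hRK) hfrob' (img M) rfl hMq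
      (sup_le (hn K M (le_sup_left.trans hN)) (hn R M (le_sup_right.trans hN))) hcop' ?_ ?_
    · -- stabilizer of the series
      have hKKN : ⁅K, K⁆ ≤ K := Subgroup.commutator_le.2 fun a ha b hb => by
        rw [commutatorElement_def]
        exact mul_mem (mul_mem (mul_mem ha hb) (inv_mem ha)) (inv_mem hb)
      refine le_centralizer_of_stabilizes inf_le_left
        (hcop.coprime_dvd_left (Subgroup.card_dvd_of_le (hKKN.trans le_sup_left))) hKZ ?_
      intro a ha m hm
      have himg : q ⟨a, hKN (hKKN ha)⟩ ∈ ⁅img K, img K⁆ := by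
        have e : (⁅K, K⁆).subgroupOf N = ⁅K.subgroupOf N, K.subgroupOf N⁆ := by
          apply Subgroup.map_injective N.subtype_injective
          rw [Subgroup.map_subgroupOf_eq_of_le (hKKN.trans hKN), Subgroup.map_commutator,
            Subgroup.map_subgroupOf_eq_of_le hKN]
        show _ ∈ ⁅(K.subgroupOf N).map q, (K.subgroupOf N).map q⁆
        rw [← Subgroup.map_commutator, ← e]
        exact Subgroup.mem_map_of_mem q ha
      have h1 := Subgroup.mem_centralizer_iff.1 (hres himg) (q ⟨m, hMZ hm⟩)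
        (Subgroup.mem_map_of_mem q (show (⟨m, hMZ hm⟩ : N) ∈ M.subgroupOf N from hm))
      have h2 : q (⟨a, hKN (hKKN ha)⟩ * ⟨m, hMZ hm⟩ * (⟨a, hKN (hKKN ha)⟩ : N)⁻¹ * (⟨m, hMZ hm⟩ : N)⁻¹) = 1 := by
        simp only [map_mul, map_inv]
        rw [← h1]
        group
      rw [hq, QuotientGroup.mk'_apply, QuotientGroup.eq_one_iff] at h2
      exact h2
    · rw [hfixmap K M hKN hMZ (le_sup_left.trans hN)
        (hcop.coprime_dvd_left (Subgroup.card_dvd_of_le le_sup_left)) (Or.inl hsK), hfix]
      show ((⊥ : Subgroup X).subgroupOf N).map q = ⊥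
      rw [Subgroup.bot_subgroupOf, Subgroup.map_bot]
    · have hsR : Group.IsSolvable R := by
        haveI := Fact.mk hR
        haveI := isCyclic_of_prime_card (α := R) rfl
        haveI : IsMulCommutative R := IsCyclic.isMulCommutative
        infer_instance
      rw [hfixmap R M hRN hMZ (le_sup_right.trans hN)
        (hcop.coprime_dvd_left (Subgroup.card_dvd_of_le le_sup_right)) (Or.inl hsR)]
      haveI := hcyc
      haveI : IsCyclic ↥((M ⊓ Subgroup.centralizer (R : Set X)).subgroupOf N) :=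
        isCyclic_of_surjective (Subgroup.subgroupOfEquivOfLe (inf_le_left.trans hMZ)).symm
          (Subgroup.subgroupOfEquivOfLe (inf_le_left.trans hMZ)).symm.surjective
      exact isCyclic_of_surjective (q.subgroupMap _) (q.subgroupMap_surjective _)

end CfsgLib.OddLocal
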