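import Cfsg.Agent.Lib.OddLocal.HallHigmanFix
import Cfsg.Agent.Lib.OddLocal.Norm
import Cfsg.Agent.Lib.OddLocal.UniqueBasic
import Cfsg.Agent.Lib.Coprime.Generation

/-!
`e` of order `p` acting on `V = [V, e]` and both acting on an `r`-group `X`: if `C_X(e) ≤ C(V)` then
`V` centralizes `X`.
-/

set_option autoImplicit false
set_option linter.style.haveILetI false

open Subgroup
open scoped commutatorElement

namespace CfsgLib.OddLocal

universe u
variable {G : Type u} [Group G] [Finite G] {p q r : ℕ}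
  [hp : Fact p.Prime] [hq : Fact q.Prime] [hr : Fact r.Prime]

/-- The abelian case. -/
theorem le_centralizer_of_fixed_abelian (hp2 : p ≠ 2) (hq2 : q ≠ 2) (hr2 : r ≠ 2) (hqp : q ≠ p)
    (hrq : r ≠ q) (hrp : r ≠ p) {e : G} (he : orderOf e = p) {V X : Subgroup G} (hV : IsPGroup q V)
    (hX : IsPGroup r X) (hXc : IsMulCommutative X) (heV : e ∈ normalizer (V : Set G))
    (heX : e ∈ normalizer (X : Set G)) (hVX : V ≤ normalizer (X : Set G))
    (hVe : ⁅V, zpowers e⁆ = V) (hfix : X ⊓ centralizer (zpowers e : Set G) ≤ centralizer (V : Set G)) :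
    V ≤ centralizer (X : Set G) := by
  have hcop : (Nat.card V).Coprime (Nat.card X) := by
    obtain ⟨n, hn⟩ := IsPGroup.iff_card.1 hV
    obtain ⟨m, hm⟩ := IsPGroup.iff_card.1 hX
    rw [hn, hm]
    exact ((Nat.coprime_primes hq.out hr.out).2 hrq.symm).pow n m
  set W := ⁅X, V⁆
  have hWX : W ≤ X := le_normalizer_iff_commutator_le_left.mp hVX
  have hfree : W ⊓ centralizer (zpowers e : Set G) = ⊥ := by
    rw [eq_bot_iff, ← CfsgLib.Coprime.commutator_inf_centralizer_eq_bot hXc hVX hcop]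
    exact le_inf inf_le_left ((inf_le_inf_right _ hWX).trans hfix)
  have heW : e ∈ normalizer (W : Set G) := by
    rw [mem_normalizer_iff_map_conj_eq, Subgroup.map_commutator, mem_normalizer_iff_map_conj_eq.1 heV,
      mem_normalizer_iff_map_conj_eq.1 heX]
  have h := commutator_le_centralizer_of_fixedPointFree (p := q) (q := r) hp.out hq2 hr2 hp2 hqp
    hrq hrp he hV (hX.to_le hWX) heV heW (normalizer_commutator_ge_right X V) hfree
  rw [hVe] at h
  refine (commutator_eq_bot_iff_le_centralizer.1 ?_)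
  rw [commutator_comm]
  exact CfsgLib.Coprime.commutator_eq_bot_of_commutator_commutator hVX hcop
    (Or.inl (haveI := hV.isNilpotent; inferInstance))
    (commutator_eq_bot_iff_le_centralizer.2 (le_centralizer_iff.1 h))

/-- The general case. -/
theorem le_centralizer_of_fixed (hp2 : p ≠ 2) (hq2 : q ≠ 2) (hr2 : r ≠ 2) (hqp : q ≠ p) (hrq : r ≠ q)
    (hrp : r ≠ p) {e : G} (he : orderOf e = p) {V X : Subgroup G} (hV : IsPGroup q V) (hX : IsPGroup r X)
    (heV : e ∈ normalizer (V : Set G)) (heX : e ∈ normalizer (X : Set G))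
    (hVX : V ≤ normalizer (X : Set G)) (hVe : ⁅V, zpowers e⁆ = V)
    (hfix : X ⊓ centralizer (zpowers e : Set G) ≤ centralizer (V : Set G)) :
    V ≤ centralizer (X : Set G) := by
  set K := normalizer ((⁅X, X⁆ : Subgroup G) : Set G) with hK
  have hnK : ∀ g : G, g ∈ normalizer (X : Set G) → g ∈ K := fun g hg => by
    rw [hK, mem_normalizer_iff_map_conj_eq, Subgroup.map_commutator, mem_normalizer_iff_map_conj_eq.1 hg]
  have hXK : X ≤ K := fun x hx => hnK x (le_normalizer hx)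
  have hVK : V ≤ K := fun v hv => hnK v (hVX hv)
  have heK : zpowers e ≤ K := zpowers_le.2 (hnK e heX)
  set X₀ := X.subgroupOf K
  set V₀ := V.subgroupOf K
  set e₀ : K := ⟨e, hnK e heX⟩ with he₀
  have hDn : (⁅X₀, X₀⁆).map K.subtype = ⁅X, X⁆ := by
    rw [Subgroup.map_commutator, map_subgroupOf_eq_of_le hXK]
  haveI hN : (⁅X₀, X₀⁆).Normal := by
    rw [← normalizer_eq_top_iff, eq_top_iff]
    intro k _
    rw [mem_normalizer_iff]
    intro x
    have hiff : ∀ y : K, y ∈ ⁅X₀, X₀⁆ ↔ (y : G) ∈ ⁅X, X⁆ := fun y => by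
      rw [← hDn, mem_map]
      exact ⟨fun h => ⟨y, h, rfl⟩, fun ⟨z, hz, hzy⟩ => (Subtype.ext hzy : z = y) ▸ hz⟩
    rw [hiff, hiff]
    exact mem_normalizer_iff.1 k.2 x
  set f := QuotientGroup.mk' (⁅X₀, X₀⁆)
  have hV₀ : IsPGroup q V₀ := hV.comap_subtype (K := K)
  have hX₀ : IsPGroup r X₀ := hX.comap_subtype (K := K)
  have hsubN : ∀ {H : Subgroup G} {g : G} (hg : g ∈ K), g ∈ normalizer (H : Set G) →
      (⟨g, hg⟩ : K) ∈ normalizer ((H.subgroupOf K : Subgroup K) : Set K) := by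
    intro H g hg h
    rw [mem_normalizer_iff]
    intro x
    exact mem_normalizer_iff.1 h x
  have hVX₀ : V₀ ≤ normalizer (X₀ : Set K) := fun v hv => hsubN v.2 (hVX (mem_subgroupOf.1 hv))
  have heV₀ : e₀ ∈ normalizer (V₀ : Set K) := hsubN _ heV
  have heX₀ : e₀ ∈ normalizer (X₀ : Set K) := hsubN _ heX
  have hzp : (zpowers e₀).map K.subtype = zpowers e := by rw [MonoidHom.map_zpowers]; rfl
  have hVe₀ : ⁅V₀, zpowers e₀⁆ = V₀ := by
    apply map_injective K.subtype_injective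
    rw [Subgroup.map_commutator, map_subgroupOf_eq_of_le hVK, hzp, hVe]
  have hfix₀ : X₀ ⊓ centralizer (zpowers e₀ : Set K) ≤ centralizer (V₀ : Set K) := by
    rintro x ⟨hx, hxe⟩
    rw [mem_centralizer_iff]
    intro v hv
    refine Subtype.ext (mem_centralizer_iff.1 (hfix ⟨mem_subgroupOf.1 hx, ?_⟩) v (mem_subgroupOf.1 hv))
    rw [SetLike.mem_coe, ← hzp]
    refine mem_centralizer_iff.2 ?_
    rintro _ ⟨z, hz, rfl⟩
    exact congrArg Subtype.val (mem_centralizer_iff.1 hxe z hz)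
  have hcop : (Nat.card V₀).Coprime (Nat.card X₀) := by
    obtain ⟨n, hn⟩ := IsPGroup.iff_card.1 hV₀
    obtain ⟨m, hm⟩ := IsPGroup.iff_card.1 hX₀
    rw [hn, hm]
    exact ((Nat.coprime_primes hq.out hr.out).2 hrq.symm).pow n m
  have heord : orderOf e₀ = p := by rw [he₀, Subgroup.orderOf_mk, he]
  have hcope : (Nat.card (zpowers e₀)).Coprime (Nat.card X₀) := by
    obtain ⟨m, hm⟩ := IsPGroup.iff_card.1 hX₀
    rw [hm, Nat.card_zpowers, heord]
    exact ((Nat.coprime_primes hp.out hr.out).2 hrp.symm).pow_right m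
  have hfe : orderOf (f e₀) = p := by
    refine orderOf_eq_prime (by rw [← map_pow, ← heord, pow_orderOf_eq_one, map_one]) fun h => ?_
    have hmem : e₀ ∈ ⁅X₀, X₀⁆ := (QuotientGroup.eq_one_iff e₀).1 h
    have h1 : orderOf e₀ ∣ Nat.card X₀ := by
      rw [← Nat.card_zpowers]
      exact card_dvd_of_le (zpowers_le.2 ((commutator_le_self X₀) hmem))
    rw [Nat.card_zpowers] at hcope
    exact hp.out.ne_one (heord ▸ Nat.eq_one_of_dvd_coprimes hcope dvd_rfl h1)
  have key := le_centralizer_of_fixed_abelian hp2 hq2 hr2 hqp hrq hrp hfe (V := V₀.map f)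
    (X := X₀.map f) (hV₀.map f) (hX₀.map f) ?_ (le_normalizer_map f ⟨_, heV₀, rfl⟩)
    (le_normalizer_map f ⟨_, heX₀, rfl⟩) ((map_mono hVX₀).trans (le_normalizer_map f))
    (by rw [← MonoidHom.map_zpowers, ← Subgroup.map_commutator, hVe₀]) ?_
  rotate_left
  · refine ⟨⟨fun a b => Subtype.ext ?_⟩⟩
    obtain ⟨x, hx, hxa⟩ := a.2
    obtain ⟨y, hy, hyb⟩ := b.2
    show (a : K ⧸ ⁅X₀, X₀⁆) * b = b * a
    rw [← hxa, ← hyb, ← commutatorElement_eq_one_iff_mul_comm, ← map_commutatorElement]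
    exact (QuotientGroup.eq_one_iff _).2 (commutator_mem_commutator hx hy)
  · rw [← MonoidHom.map_zpowers, ← CfsgLib.Coprime.map_inf_centralizer f (zpowers_le.2 heX₀) hcope
      (Or.inl inferInstance)]
    refine (map_mono hfix₀).trans ?_
    rintro _ ⟨c, hc, rfl⟩
    rw [mem_centralizer_iff]
    rintro _ ⟨v, hv, rfl⟩
    rw [← map_mul, ← map_mul, mem_centralizer_iff.1 hc v hv]
  -- lift: `X₀ = C_{X₀}(V₀) X₀'`
  have hXC : X₀.map f ≤ (X₀ ⊓ centralizer (V₀ : Set K)).map f := by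
    rw [CfsgLib.Coprime.map_inf_centralizer f hVX₀ hcop
      (Or.inl (haveI := hV₀.isNilpotent; inferInstance))]
    exact le_inf le_rfl (le_centralizer_iff.1 key)
  have hX₀le : X₀ ≤ (X₀ ⊓ centralizer (V₀ : Set K)) ⊔ ⁅X₀, X₀⁆ := by
    intro x hx
    have h := hXC ⟨x, hx, rfl⟩
    obtain ⟨c, hc, hcx⟩ := h
    have hmem : c⁻¹ * x ∈ ⁅X₀, X₀⁆ := by
      rw [← QuotientGroup.eq_one_iff (N := ⁅X₀, X₀⁆)]
      show f (c⁻¹ * x) = 1
      rw [map_mul, map_inv, hcx, inv_mul_cancel]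
    have := mul_mem (mem_sup_left (T := ⁅X₀, X₀⁆) hc) (mem_sup_right hmem)
    rwa [mul_inv_cancel_left] at this
  have htop := eq_top_of_sup_commutator_eq_top hX₀.isNilpotent
    (H := (X₀ ⊓ centralizer (V₀ : Set K)).subgroupOf X₀) (by
      apply map_injective X₀.subtype_injective
      rw [Subgroup.map_sup, map_subgroupOf_eq_of_le inf_le_left, _root_.commutator_def,
        Subgroup.map_commutator, ← MonoidHom.range_eq_map, range_subtype]
      exact le_antisymm (sup_le inf_le_left (commutator_le_self X₀)) hX₀le)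
  rw [subgroupOf_eq_top] at htop
  intro v hv
  rw [mem_centralizer_iff]
  intro x hx
  exact congrArg Subtype.val (mem_centralizer_iff.1 ((htop (show (⟨x, hXK hx⟩ : K) ∈ X₀ from hx)).2)
    ⟨v, hVK hv⟩ hv).symm

end CfsgLib.OddLocal
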