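import Cfsg.Agent.Lib.OddLocal.BigPart
import Cfsg.Agent.Lib.OddLocal.FrobeniusTransfer
import Cfsg.Agent.S1450

/-!
Lemmas for the uniqueness of `SCN₃` subgroups: invariant `r`-subgroups of maximal subgroups with a
large `r`-part.
-/

set_option autoImplicit false
set_option linter.style.haveILetI false

open Subgroup
open scoped commutatorElement

namespace CfsgLib.OddLocal

universe u
variable {G : Type u} [Group G] [Finite G] {p : ℕ} [hp : Fact p.Prime]

/-- The standing hypotheses on `A`. -/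
structure TransSetup (p : ℕ) (A : Subgroup G) : Prop where
  pgroup : IsPGroup p A
  comm : IsMulCommutative A
  th : Cfsg.TransitivityHypothesis A
  rank : ¬ Cfsg.PRankLE p 2 A

theorem TransSetup.dvd {A : Subgroup G} (hS : TransSetup p A) : p ∣ Nat.card G :=
  dvd_card_of_pGroup_ne_bot hS.pgroup hS.th.1

theorem TransSetup.not_dvd {A : Subgroup G} (hS : TransSetup p A) {r : ℕ} (hr : r.Prime) (hrp : r ≠ p) :
    ¬ r ∣ Nat.card A := by
  obtain ⟨n, hn⟩ := IsPGroup.iff_card.1 hS.pgroup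
  intro h
  exact hrp ((Nat.prime_dvd_prime_iff_eq hr hp.out).1 (hr.dvd_of_dvd_pow (hn ▸ h)))

theorem TransSetup.le_centralizer {A : Subgroup G} (hS : TransSetup p A) {b : G} (hb : b ∈ A) :
    A ≤ centralizer ({b} : Set G) :=
  (le_centralizer_self hS.comm).trans (centralizer_le_singleton hb)

theorem TransSetup.transitive {A : Subgroup G} (hG : Cfsg.IsMinSimpleOddOrder G) (hS : TransSetup p A)
    {r : ℕ} [hr : Fact r.Prime] (hrp : r ≠ p) :
    ∀ Q₁ ∈ Cfsg.maxInvSubgroups ⊤ A {r}, ∀ Q₂ ∈ Cfsg.maxInvSubgroups ⊤ A {r},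
      ∃ k ∈ transK A, Q₂ = Q₁.map (MulAut.conj k).toMonoidHom := by
  refine Cfsg.Agent.S1393.result hG A hS.th ?_ r hr.out (hS.not_dvd hr.out hrp)
  rw [inf_eq_left.2 (le_centralizer_self hS.comm)]
  exact not_rankLE_of_not_pRankLE hS.rank

/-- A big maximal subgroup over `A` containing one centralizer contains every `A`-invariant
`r`-subgroup. -/
theorem IsBigPart.inv_le (hG : Cfsg.IsMinSimpleOddOrder G) {A M : Subgroup G} (hS : TransSetup p A)
    (hM : IsCoatom M) {r : ℕ} [hr : Fact r.Prime] (h : IsBigPart M r) (hrp : r ≠ p) (hAM : A ≤ M)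
    {b : G} (hb : b ∈ A) (hbM : centralizer ({b} : Set G) ≤ M) {Y : Subgroup G} (hY : IsPGroup r Y)
    (hAY : A ≤ normalizer (Y : Set G)) : Y ≤ M := by
  obtain ⟨E, hE, -, -, hU⟩ := h.exists_elem hG hM
  obtain ⟨Q₀, hQ₀, hRQ₀⟩ := exists_maxInv_ge
    (inv_of_isPGroup (isPGroup_fPart M r) (hAM.trans (le_normalizer_fPart M r)))
  have hQ₀M : Q₀ ≤ M := le_of_inUniqueMax hU hM (hE.trans (fPart_le M r)) (hE.trans hRQ₀)
    (ne_top_of_coprime hS.dvd (singleton_eq_of_prime (isPGroup_of_mem_inv hQ₀.1) hrp))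
  obtain ⟨Q, hQ, hYQ⟩ := exists_maxInv_ge (inv_of_isPGroup hY hAY)
  obtain ⟨k, hk, rfl⟩ := hS.transitive hG hrp Q₀ hQ₀ Q hQ
  have hkM : k ∈ M := hbM (centralizer_le_singleton hb (transK_centralizes hk))
  refine hYQ.trans ?_
  rintro _ ⟨x, hx, rfl⟩
  exact mul_mem (mul_mem hkM (hQ₀M hx)) (inv_mem hkM)

/-- Two maximal overgroups of `A`, the first big, the second of `r`-rank at least three, coincide. -/
theorem IsBigPart.eq_of_rank (hG : Cfsg.IsMinSimpleOddOrder G) {A M N : Subgroup G}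
    (hS : TransSetup p A) (hM : IsCoatom M) {r : ℕ} [hr : Fact r.Prime] (h : IsBigPart M r)
    (hrp : r ≠ p) (hAM : A ≤ M) {b : G} (hb : b ∈ A) (hbM : centralizer ({b} : Set G) ≤ M)
    (hN : IsCoatom N) (hAN : A ≤ N) (hrN : ¬ Cfsg.PRankLE r 2 ↥N) : N = M := by
  obtain ⟨E₁, hE₁, hE₁e, hE₁3, hU₁⟩ := h.exists_elem hG hM
  obtain ⟨E₂, hE₂N, hE₂e, hE₂3⟩ := exists_elemAb_of_not_pRankLE hrN
  obtain ⟨hU₂, g, hg⟩ := spread_rank_three hG hE₁e hE₁3 hU₁ hM (hE₁.trans (fPart_le M r)) hE₂e hE₂3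
  set c := (MulAut.conj g).toMonoidHom with hc
  have hNM : N = M.map c := eq_of_inUniqueMax hU₂ (isCoatom_map_equiv _ hM) hg hN hE₂N
  set E₃ := E₁.map c
  have hE₃N : E₃ ≤ fPart N r := by
    refine (map_mono hE₁).trans (le_piCoreOf ?_ ?_ fun d hd hdd => ?_)
    · rw [hNM]; exact map_mono (fPart_le M r)
    · rw [hNM]; exact (map_mono (le_normalizer_fPart M r)).trans (le_normalizer_map c)
    · exact prime_dvd_pGroup ((isPGroup_fPart M r).map c) hd hdd
  have hE₃M : E₃ ≤ M := hE₃N.trans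
    (h.inv_le hG hS hM hrp hAM hb hbM (isPGroup_fPart N r) (hAN.trans (le_normalizer_fPart N r)))
  exact eq_of_inUniqueMax (inUniqueMax_conj hU₁ g) hM hE₃M hN (hE₃N.trans (fPart_le N r))

/-- The invariant `r`-subgroups of `M` are centralized by `B ≤ M'` if some other maximal overgroup of
`A` is `r`-big. -/
theorem le_centralizer_of_other_big (hG : Cfsg.IsMinSimpleOddOrder G) {A M H B : Subgroup G}
    (hS : TransSetup p A) (hH : IsCoatom H) {r : ℕ} [hr : Fact r.Prime] (h : IsBigPart H r)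
    (hrp : r ≠ p) (hAH : A ≤ H) {b : G} (hb : b ∈ A) (hbH : centralizer ({b} : Set G) ≤ H)
    (hM : IsCoatom M) (hAM : A ≤ M) (hne : H ≠ M) (hBp : IsPGroup p B) (hBM : B ≤ ⁅M, M⁆)
    {Y : Subgroup G} (hY : IsPGroup r Y) (hYM : Y ≤ M) (hBY : B ≤ normalizer (Y : Set G)) :
    Y ≤ centralizer (B : Set G) := by
  by_cases hrk : Cfsg.PRankLE r 2 ↥M
  swap
  · exact absurd (h.eq_of_rank hG hS hH hrp hAH hb hbH hM hAM hrk) hne.symm
  haveI := minSimple_isSolvable hG hM.1
  obtain ⟨-, hle, -⟩ := rank_two_structure (minSimple_odd hG M) (ne_two_of_dvd hG h.dvd) hrk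
  have hBM' : B ≤ M := hBM.trans (commutator_le_self M)
  have hBO : B ≤ oPrime r M := by
    intro x hx
    rw [oPrime_eq]
    refine ⟨⟨x, hBM' hx⟩, ?_, rfl⟩
    haveI := CfsgLib.Solvable.pPrimeCore_normal r M
    set f := QuotientGroup.mk' (Cfsg.pPrimeCore r M)
    have hmem : (⟨x, hBM' hx⟩ : M) ∈ Cfsg.pPrimePCore r M := by
      refine hle ?_
      obtain ⟨y, hy, hyx⟩ : x ∈ (_root_.commutator M).map M.subtype := by
        rw [_root_.commutator_def, Subgroup.map_commutator, ← MonoidHom.range_eq_map, range_subtype]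
        exact hBM hx
      exact (Subtype.ext hyx : y = ⟨x, hBM' hx⟩) ▸ hy
    obtain ⟨k, hk⟩ := IsPGroup.iff_orderOf.1 (CfsgLib.Solvable.pCore_isPGroup r)
      (⟨f ⟨x, hBM' hx⟩, hmem⟩ : Cfsg.pCore r (M ⧸ Cfsg.pPrimeCore r M))
    replace hk : orderOf (f ⟨x, hBM' hx⟩) = r ^ k := by rw [← hk]; exact (Subgroup.orderOf_mk _ _).symm
    obtain ⟨j, hj⟩ := IsPGroup.iff_orderOf.1 hBp ⟨x, hx⟩
    rw [Subgroup.orderOf_mk] at hj
    have h1 : orderOf (⟨x, hBM' hx⟩ : M) = p ^ j := by rw [Subgroup.orderOf_mk, hj]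
    refine (QuotientGroup.eq_one_iff (N := Cfsg.pPrimeCore r M) _).1 (orderOf_eq_one_iff.1 ?_)
    exact Nat.eq_one_of_dvd_coprimes (((Nat.coprime_primes hp.out hr.out).2 hrp.symm).pow j k)
      (h1 ▸ orderOf_map_dvd f _) hk.dvd
  have hbot : oPrime r M ⊓ Y = ⊥ := CfsgLib.Coprime.inf_eq_bot_of_coprime (by
    obtain ⟨n, hn⟩ := IsPGroup.iff_card.1 hY
    rw [hn]
    exact (coprime_oPrime (p := r) M).pow_right n)
  refine commutator_eq_bot_iff_le_centralizer.1 (le_bot_iff.1 (hbot ▸ le_inf ?_ ?_))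
  · exact (commutator_mono le_rfl hBO).trans (le_normalizer_iff_commutator_le_right.mp
      (hYM.trans (le_normalizer.trans (le_normalizer_piCoreOf _ _))))
  · exact le_normalizer_iff_commutator_le_left.mp hBY

/-- Cyclic `X` normalized by `V` and `B` is centralized by `[V, B]`. -/
theorem commutator_le_centralizer_of_isCyclic {X V B : Subgroup G} [IsCyclic X]
    (hV : V ≤ normalizer (X : Set G)) (hB : B ≤ normalizer (X : Set G)) :
    ⁅V, B⁆ ≤ centralizer (X : Set G) := by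
  rw [commutator_le]
  intro v hv b hb
  obtain ⟨g, hg⟩ := IsCyclic.exists_generator (α := X)
  have hx : ∀ n : G, n ∈ normalizer (X : Set G) → ∃ i : ℤ, ∀ x ∈ X, n * x * n⁻¹ = x ^ i := by
    intro n hn
    obtain ⟨i, hi⟩ := mem_zpowers_iff.1 (hg ⟨n * g * n⁻¹, (mem_normalizer_iff.1 hn g).1 g.2⟩)
    refine ⟨i, fun x hx => ?_⟩
    obtain ⟨j, hj⟩ := mem_zpowers_iff.1 (hg ⟨x, hx⟩)
    have hi' : (g : G) ^ i = n * g * n⁻¹ := by simpa using congrArg Subtype.val hi
    have hj' : (g : G) ^ j = x := by simpa using congrArg Subtype.val hj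
    rw [← hj', ← conj_zpow, ← hi', ← zpow_mul, ← zpow_mul, mul_comm]
  obtain ⟨i, hi⟩ := hx v (hV hv)
  obtain ⟨j, hj⟩ := hx b (hB hb)
  have hswap : ∀ x ∈ X, (v * b) * x * (v * b)⁻¹ = (b * v) * x * (b * v)⁻¹ := by
    intro x hx
    calc (v * b) * x * (v * b)⁻¹ = v * (b * x * b⁻¹) * v⁻¹ := by group
      _ = (x ^ j) ^ i := by rw [hj x hx, hi _ (zpow_mem hx j)]
      _ = (x ^ i) ^ j := by rw [← zpow_mul, ← zpow_mul, mul_comm]
      _ = b * (v * x * v⁻¹) * b⁻¹ := by rw [hi x hx, hj _ (zpow_mem hx i)]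
      _ = _ := by group
  rw [mem_centralizer_iff]
  intro x hx
  set y := (b * v)⁻¹ * x * (b * v) with hy
  have hyX : y ∈ X := by
    have h' := (mem_normalizer_iff''.1 (mul_mem (hB hb) (hV hv)) x).1 hx
    exact h'
  calc x * ⁅v, b⁆ = ((b * v) * y * (b * v)⁻¹) * ((v * b) * (b * v)⁻¹) := by
        rw [hy, commutatorElement_def]; group
    _ = ((v * b) * y * (v * b)⁻¹) * ((v * b) * (b * v)⁻¹) := by rw [hswap y hyX]
    _ = ⁅v, b⁆ * x := by rw [hy, commutatorElement_def]; group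

/-- The transfer step: for a moved hyperplane `D` every `e ∈ B ∖ D` has a fixed subgroup on the
witness of a big part not centralized by `B`. -/
theorem not_le_centralizer_of_moved (hG : Cfsg.IsMinSimpleOddOrder G) {H X V B D : Subgroup G}
    {r s : ℕ} [hr : Fact r.Prime] [hs : Fact s.Prime] (hrp : r ≠ p) (hsp : s ≠ p) (hrs : r ≠ s)
    (hp2 : p ≠ 2) (hr2 : r ≠ 2) (hs2 : s ≠ 2)
    (hH : IsCoatom H) (hXH : X ≤ H) (hXp : IsPGroup r X) (hHX : H ≤ normalizer (X : Set G))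
    (hXU : ∀ Y : Subgroup G, Y ≤ X → ¬ IsCyclic Y → Cfsg.InUniqueMaximal Y)
    (hVp : IsPGroup s V) (hVH : V ≤ H) (hBH : B ≤ H) (hBV : B ≤ normalizer (V : Set G))
    (hVB : ⁅V, B⁆ = V) (hB : Cfsg.IsElementaryAbelian p B) (hB3 : p ^ 3 ≤ Nat.card B)
    (hDB : D ≤ B) (hDi : D.relIndex B = p) (hDV : D ≤ centralizer (V : Set G))
    (hDU : ¬ Cfsg.InUniqueMaximal D) (hXV : ¬ X ≤ centralizer (V : Set G))
    {e : G} (heB : e ∈ B) (heD : e ∉ D) :
    ¬ X ⊓ centralizer ({e} : Set G) ≤ centralizer (B : Set G) := by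
  intro hcon
  have hD2 : p ^ 2 ≤ Nat.card D := by
    have h1 := relIndex_mul_relIndex ⊥ D B bot_le hDB
    rw [relIndex_bot_left, relIndex_bot_left, hDi] at h1
    refine Nat.le_of_mul_le_mul_right ?_ hp.out.pos
    calc p ^ 2 * p = p ^ 3 := by ring
      _ ≤ _ := hB3.trans h1.ge
  have hDe := CfsgLib.Comp.elemAb_mono hB hDB
  have hDnc := CfsgLib.Comp.not_isCyclic_elemAb hDe hD2
  set X₁ := X ⊓ centralizer (D : Set G)
  haveI hX₁c : IsCyclic X₁ := by
    by_contra hnc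
    refine hDU (inUniqueMax_of_centralizers hG hH (hDB.trans hBH) hDe hDnc fun d hd hd1 => ?_)
    exact le_of_inUniqueMax (hXU _ inf_le_left hnc) hH (inf_le_left.trans hXH)
      (inf_le_right.trans (centralizer_le_singleton hd)) (minSimple_centralizer_singleton_ne_top hG hd1)
  have hnor : ∀ S : Subgroup G, S ≤ H → S ≤ centralizer (D : Set G) → S ≤ normalizer (X₁ : Set G) :=
    fun S hSH hSD => (le_inf (hSH.trans hHX) ((hSD.trans le_normalizer) )).trans
      inf_normalizer_le_normalizer_inf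
  have hVX₁ : V ≤ centralizer (X₁ : Set G) := by
    have h := commutator_le_centralizer_of_isCyclic (X := X₁)
      (hnor V hVH (le_centralizer_iff.1 hDV))
      (hnor B hBH ((le_centralizer_self hB.1).trans (centralizer_le hDB)))
    rwa [hVB] at h
  have hfix : X ⊓ centralizer (zpowers e : Set G) ≤ centralizer (V : Set G) := by
    rw [CfsgLib.Comp.centralizer_zpowers]
    intro x hx
    exact le_centralizer_iff.1 hVX₁ ⟨hx.1, centralizer_le hDB (hcon hx)⟩
  have hVe : ⁅V, zpowers e⁆ = V := by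
    refine le_antisymm (le_normalizer_iff_commutator_le_left.mp (zpowers_le.2 (hBV heB))) ?_
    conv_lhs => rw [← hVB]
    rw [commutator_le]
    intro v hv b hb
    have hDn : zpowers e ≤ normalizer (D : Set G) := by
      refine zpowers_le.2 (centralizer_le_normalizer _ ?_)
      exact centralizer_le hDB (le_centralizer_self hB.1 heB)
    have hBe : B = D ⊔ zpowers e := by
      refine (eq_of_le_of_card_ge (sup_le hDB (zpowers_le.2 heB)) ?_).symm
      have h1 := relIndex_mul_relIndex ⊥ D B bot_le hDB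
      rw [relIndex_bot_left, relIndex_bot_left, hDi] at h1
      obtain ⟨m, hm⟩ := IsPGroup.iff_card.1 (CfsgLib.Comp.isPGroup_of_elemAb hDe)
      obtain ⟨n, hn⟩ := IsPGroup.iff_card.1
        ((CfsgLib.Comp.isPGroup_of_elemAb hB).to_le (sup_le hDB (zpowers_le.2 heB)))
      have hlt : p ^ m < p ^ n := by
        rw [← hm, ← hn]
        exact lt_of_le_of_ne (card_le_of_le le_sup_left) fun h =>
          heD ((eq_of_le_of_card_ge le_sup_left h.ge).ge (mem_sup_right (mem_zpowers e)))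
      rw [← h1, hm, hn, ← pow_succ]
      exact Nat.pow_le_pow_right hp.out.pos ((Nat.pow_lt_pow_iff_right hp.out.one_lt).1 hlt)
    rw [hBe] at hb
    obtain ⟨d, hd, k, hk, rfl⟩ := (CfsgLib.Coprime.mem_sup_of_le_normalizer hDn).1 hb
    have hdk : d * k = k * d := congrArg Subtype.val
      (hB.1.is_comm.comm (⟨d, hDB hd⟩ : B) ⟨k, zpowers_le.2 heB hk⟩)
    have hdv : d * v = v * d := (mem_centralizer_iff.1 (hDV hd) v hv).symm
    have he : ⁅v, d * k⁆ = ⁅v, k⁆ := by
      rw [commutatorElement_def, commutatorElement_def]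
      calc v * (d * k) * v⁻¹ * (d * k)⁻¹ = v * (k * d) * v⁻¹ * (k * d)⁻¹ := by rw [hdk]
        _ = v * k * (d * v⁻¹ * d⁻¹) * k⁻¹ := by group
        _ = v * k * v⁻¹ * k⁻¹ := by
          rw [show d * v⁻¹ * d⁻¹ = (d * v * d⁻¹)⁻¹ by group, hdv, mul_inv_cancel_right]
    rw [he]
    exact commutator_mem_commutator hv hk
  have heord : orderOf e = p := orderOf_eq_prime (hB.2 e heB) fun h => heD (h ▸ one_mem D)
  exact hXV (le_centralizer_iff.1 (le_centralizer_of_fixed hp2 hs2 hr2 hsp hrs hrp heord hVp hXp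
    (hBV heB) (hHX (hBH heB)) (hVH.trans hHX) hVe hfix))

end CfsgLib.OddLocal
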