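import Mathlib

/-! Baer's trick for class two groups of odd order and a fixed-point consequence. -/

set_option autoImplicit false

namespace CfsgLib.OddLocal

open Subgroup
open scoped commutatorElement

universe u v

/-- The carrier of the Baer addition. -/
@[ext] structure Baer (P : Type u) (m : ℕ) where
  val : P

variable {P : Type u} [Group P]

theorem commutator_mul_right_of_classTwo (hc : ∀ a b c : P, Commute ⁅a, b⁆ c) (z x y : P) :
    ⁅z, x * y⁆ = ⁅z, x⁆ * ⁅z, y⁆ := by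
  calc ⁅z, x * y⁆ = ⁅z, x⁆ * (x * ⁅z, y⁆ * x⁻¹) := by simp only [commutatorElement_def]; group
    _ = _ := by rw [← (hc z y x).eq, mul_inv_cancel_right]

theorem commutator_mul_left_of_classTwo (hc : ∀ a b c : P, Commute ⁅a, b⁆ c) (x y z : P) :
    ⁅x * y, z⁆ = ⁅y, z⁆ * ⁅x, z⁆ := by
  calc ⁅x * y, z⁆ = x * ⁅y, z⁆ * x⁻¹ * ⁅x, z⁆ := by simp only [commutatorElement_def]; group
    _ = _ := by rw [← (hc y z x).eq, mul_inv_cancel_right]

/-- Baer's abelian group on a class two group in which commutators have square roots. -/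
@[reducible] def baerCommGroup {m : ℕ} (hc : ∀ a b c : P, Commute ⁅a, b⁆ c)
    (hm : ∀ a b : P, ⁅a, b⁆ ^ (2 * m) = ⁅a, b⁆) : CommGroup (Baer P m) where
  mul x y := ⟨x.val * y.val * ⁅y.val, x.val⁆ ^ m⟩
  one := ⟨1⟩
  inv x := ⟨x.val⁻¹⟩
  one_mul x := by
    ext
    show 1 * x.val * ⁅x.val, (1 : P)⁆ ^ m = x.val
    simp
  mul_one x := by
    ext
    show x.val * 1 * ⁅(1 : P), x.val⁆ ^ m = x.val
    simp
  inv_mul_cancel x := by
    ext
    show x.val⁻¹ * x.val * ⁅x.val, x.val⁻¹⁆ ^ m = 1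
    rw [commutatorElement_eq_one_iff_commute.2 (Commute.inv_right (Commute.refl _))]
    simp
  mul_assoc x y z := by
    ext
    obtain ⟨a⟩ := x; obtain ⟨b⟩ := y; obtain ⟨c⟩ := z
    show a * b * ⁅b, a⁆ ^ m * c * ⁅c, a * b * ⁅b, a⁆ ^ m⁆ ^ m =
      a * (b * c * ⁅c, b⁆ ^ m) * ⁅b * c * ⁅c, b⁆ ^ m, a⁆ ^ m
    have h1 : ⁅c, a * b * ⁅b, a⁆ ^ m⁆ = ⁅c, a⁆ * ⁅c, b⁆ := by
      rw [commutator_mul_right_of_classTwo hc, commutator_mul_right_of_classTwo hc,
        commutatorElement_eq_one_iff_commute.2 (Commute.pow_right ((hc b a c).symm) m), mul_one]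
    have h2 : ⁅b * c * ⁅c, b⁆ ^ m, a⁆ = ⁅c, a⁆ * ⁅b, a⁆ := by
      rw [commutator_mul_left_of_classTwo hc, commutator_mul_left_of_classTwo hc,
        commutatorElement_eq_one_iff_commute.2 (Commute.pow_left (hc c b a) m), one_mul]
    rw [h1, h2, (hc c a _).mul_pow, (hc c a _).mul_pow]
    have e1 : ⁅b, a⁆ ^ m * c = c * ⁅b, a⁆ ^ m := ((hc b a c).pow_left m).eq
    have e2 : ⁅b, a⁆ ^ m * (⁅c, a⁆ ^ m * ⁅c, b⁆ ^ m) = ⁅c, b⁆ ^ m * (⁅c, a⁆ ^ m * ⁅b, a⁆ ^ m) := by
      rw [((hc b a _).pow_left m).eq, ((hc c a _).pow_left m).eq, mul_assoc]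
    calc a * b * ⁅b, a⁆ ^ m * c * (⁅c, a⁆ ^ m * ⁅c, b⁆ ^ m)
        = a * b * (⁅b, a⁆ ^ m * c) * (⁅c, a⁆ ^ m * ⁅c, b⁆ ^ m) := by simp only [mul_assoc]
      _ = a * b * c * (⁅b, a⁆ ^ m * (⁅c, a⁆ ^ m * ⁅c, b⁆ ^ m)) := by
          rw [e1]; simp only [mul_assoc]
      _ = _ := by rw [e2]; simp only [mul_assoc]
  mul_comm x y := by
    ext
    obtain ⟨a⟩ := x; obtain ⟨b⟩ := y
    show a * b * ⁅b, a⁆ ^ m = b * a * ⁅a, b⁆ ^ m
    have h1 : b * a = a * b * ⁅b, a⁆ := by
      rw [← (hc b a (a * b)).eq, commutatorElement_def]; group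
    have h2 : ⁅b, a⁆ * ⁅a, b⁆ ^ m = ⁅b, a⁆ ^ m := by
      rw [← commutatorElement_inv b a, inv_pow, mul_inv_eq_iff_eq_mul, ← pow_add, ← two_mul]
      exact (hm b a).symm
    rw [h1, mul_assoc _ ⁅b, a⁆, h2]

/-- Conjugation by elements of the normalizer, as automorphisms. -/
theorem baer_map {Q : Type v} [Group Q] {m : ℕ} (f : P →* Q) (x y : P) :
    f (x * y * ⁅y, x⁆ ^ m) = f x * f y * ⁅f y, f x⁆ ^ m := by
  simp [map_commutatorElement]

/-- A norm argument: if the `E`-fixed points of an abelian `p`-group are fixed by the `p'`-group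
`Q` normalized by `E`, then `Q` acts trivially. -/
theorem smul_eq_self_of_fixed {A : Type u} [CommGroup A] [Finite A] {p : ℕ} [Fact p.Prime]
    (hA : IsPGroup p A) {E : Type v} [Group E] [Finite E] (hE : IsPGroup p E)
    {Q : Type v} [Fintype Q] (hQ : (Nat.card Q).Coprime p) (f : Q → A →* A)
    (hfinv : ∀ a u, f u (∏ w : Q, f w a) = ∏ w : Q, f w a)
    (g : E → A →* A) (hg1 : ∀ a, g 1 a = a) (hgmul : ∀ e e' a, g (e * e') a = g e (g e' a))
    (σ : E → Q ≃ Q) (hσ : ∀ e u a, g e (f u a) = f (σ e u) (g e a))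
    (hfix : ∀ a, (∀ e, g e a = a) → ∀ u, f u a = a) : ∀ u a, f u a = a := by
  classical
  let N : A →* A :=
    { toFun := fun a => ∏ w : Q, f w a
      map_one' := by simp
      map_mul' := fun a b => by simp [Finset.prod_mul_distrib] }
  have hN : ∀ a u, f u (N a) = N a := hfinv
  have hNg : ∀ e a, g e (N a) = N (g e a) := by
    intro e a
    show g e (∏ w : Q, f w a) = ∏ w : Q, f w (g e a)
    rw [map_prod]
    simp only [hσ]
    exact Equiv.prod_comp (σ e) (fun w => f w (g e a))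
  have hker : N.ker = ⊥ := by
    by_contra hne
    let act : MulAction E N.ker :=
      { smul := fun e a => ⟨g e a.1, by rw [MonoidHom.mem_ker, ← hNg, a.2, map_one]⟩
        one_smul := fun a => Subtype.ext (hg1 _)
        mul_smul := fun e e' a => Subtype.ext (hgmul e e' _) }
    have hK : IsPGroup p N.ker := hA.to_subgroup _
    have hdvd : p ∣ Nat.card N.ker := by
      obtain ⟨n, hn⟩ := IsPGroup.iff_card.1 hK
      rcases n with _ | n
      · exact absurd (Subgroup.eq_bot_of_card_eq _ (by rw [hn, pow_zero])) hne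
      · rw [hn]; exact dvd_pow_self p (Nat.succ_ne_zero _)
    have h1 : (1 : N.ker) ∈ MulAction.fixedPoints E N.ker := fun e => Subtype.ext (map_one (g e))
    obtain ⟨b, hb, hb1⟩ := hE.exists_fixed_point_of_prime_dvd_card_of_fixed_point (α := N.ker) hdvd h1
    have hbf : ∀ u, f u b.1 = b.1 := hfix _ fun e => congrArg Subtype.val (hb e)
    have hbN : b.1 ^ Nat.card Q = 1 := by
      have h : N b.1 = 1 := b.2
      calc b.1 ^ Nat.card Q = ∏ w : Q, f w b.1 := by
            simp [hbf, Nat.card_eq_fintype_card]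
        _ = 1 := h
    apply hb1
    apply Subtype.ext
    show (1 : A) = b.1
    obtain ⟨n, hn⟩ := hA b.1
    symm
    rw [← orderOf_eq_one_iff]
    exact Nat.eq_one_of_dvd_coprimes (hQ.pow_right n) (orderOf_dvd_of_pow_eq_one hbN)
      (orderOf_dvd_of_pow_eq_one hn)
  intro u a
  have hs : Function.Surjective N :=
    (Finite.injective_iff_surjective).1 ((N.ker_eq_bot_iff).1 hker)
  obtain ⟨b, rfl⟩ := hs a
  exact hN b u

end CfsgLib.OddLocal
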