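import Cfsg.Agent.Lib.Coprime.Metacyclic
import Cfsg.Agent.Lib.Coprime.Generation

/-!
Coprime action on metacyclic `p`-groups, `p` odd: if `[R, A] = R` then `R` is abelian.
-/

set_option autoImplicit false

open Subgroup
open scoped commutatorElement

namespace CfsgLib.OddLocal

/-- Elementary bound: a subgroup of exponent `p` of a metacyclic group has order at most `p²`. -/
theorem card_le_sq_of_metacyclic {R : Type*} [Group R] [Finite R] (h : Cfsg.IsMetacyclic R) {p : ℕ}
    (hp : p.Prime) (E : Subgroup R) (hE : ∀ x ∈ E, x ^ p = 1) : Nat.card E ≤ p ^ 2 := by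
  obtain ⟨N, hN, hc, hq⟩ := h
  have key : ∀ (L : Type _) [Group L] [Finite L], IsCyclic L → (∀ x : L, x ^ p = 1) → Nat.card L ≤ p := by
    intro L _ _ hL hx
    obtain ⟨g, hg⟩ := hL.exists_generator
    rw [← orderOf_eq_card_of_forall_mem_zpowers hg]
    exact Nat.le_of_dvd hp.pos (orderOf_dvd_of_pow_eq_one (hx g))
  set f := (QuotientGroup.mk' N).comp E.subtype with hf
  have h1 : Nat.card f.ker ≤ p := by
    refine key _ ?_ fun x => Subtype.ext (Subtype.ext (hE _ x.1.2))
    let g : f.ker →* N :=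
      { toFun := fun x => ⟨(x.1 : R), by
          have hx : (QuotientGroup.mk (x.1 : R) : R ⧸ N) = 1 := MonoidHom.mem_ker.1 x.2
          exact (QuotientGroup.eq_one_iff _).1 hx⟩
        map_one' := rfl
        map_mul' := fun _ _ => rfl }
    exact isCyclic_of_injective g fun a b hab =>
      Subtype.ext (Subtype.ext (congrArg Subtype.val hab :))
  have h2 : Nat.card f.range ≤ p := by
    refine key _ inferInstance ?_
    rintro ⟨_, x, rfl⟩
    refine Subtype.ext ?_
    show f x ^ p = 1
    rw [← map_pow, show x ^ p = 1 from Subtype.ext (hE _ x.2), map_one]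
  calc Nat.card E = Nat.card f.ker * f.ker.index := (card_mul_index _).symm
    _ = Nat.card f.ker * Nat.card f.range := by rw [Subgroup.index_ker]
    _ ≤ p * p := Nat.mul_le_mul h1 h2
    _ = p ^ 2 := (sq p).symm

/-- Subgroups of metacyclic groups are metacyclic. -/
theorem isMetacyclic_subgroup {R : Type*} [Group R] (h : Cfsg.IsMetacyclic R) (H : Subgroup R) :
    Cfsg.IsMetacyclic H := by
  obtain ⟨N, hN, hc, hq⟩ := h
  refine ⟨N.subgroupOf H, inferInstance, ?_, ?_⟩
  · let g : N.subgroupOf H →* N :=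
      { toFun := fun x => ⟨(x.1 : R), x.2⟩
        map_one' := rfl
        map_mul' := fun _ _ => rfl }
    exact isCyclic_of_injective g fun a b hab =>
      Subtype.ext (Subtype.ext (congrArg Subtype.val hab :))
  · refine isCyclic_of_injective
      (QuotientGroup.map (N.subgroupOf H) N H.subtype le_rfl) ?_
    rw [← MonoidHom.ker_eq_bot_iff, eq_bot_iff]
    intro x hx
    obtain ⟨h, rfl⟩ := QuotientGroup.mk_surjective x
    have hx' : (QuotientGroup.mk (h : R) : R ⧸ N) = 1 := MonoidHom.mem_ker.1 hx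
    rw [Subgroup.mem_bot, QuotientGroup.eq_one_iff]
    exact Subgroup.mem_subgroupOf.2 ((QuotientGroup.eq_one_iff (h : R)).1 hx')

theorem isMetacyclic_of_equiv {R S : Type*} [Group R] [Group S] (e : R ≃* S)
    (h : Cfsg.IsMetacyclic R) : Cfsg.IsMetacyclic S := by
  obtain ⟨N, hN, hc, hq⟩ := h
  haveI hN' : (N.map (e : R →* S)).Normal := hN.map _ e.surjective
  refine ⟨N.map (e : R →* S), hN', ?_, ?_⟩
  · exact (e.subgroupMap N).isCyclic.1 hc
  · exact (QuotientGroup.congr N _ e rfl).isCyclic.1 hq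

/-- Coprime action with `[R, A] = R`: no point outside an invariant `N ≥ R'` is fixed modulo `N`. -/
theorem mem_of_fixed_mod {R A : Type*} [Group R] [Finite R] [Group A] [Finite A] (φ : A →* MulAut R)
    (hcop : (Nat.card A).Coprime (Nat.card R))
    (hgen : closure {x : R | ∃ a : A, ∃ z : R, φ a z * z⁻¹ = x} = ⊤)
    (N : Subgroup R) (hN : commutator R ≤ N) (hinv : ∀ a : A, ∀ z ∈ N, φ a z ∈ N) {y : R}
    (hy : ∀ a : A, φ a y * y⁻¹ ∈ N) : y ∈ N := by
  classical
  have := Fintype.ofFinite A
  haveI : N.Normal := Subgroup.Normal.of_commutator_le R hN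
  letI : CommGroup (R ⧸ N) :=
    { (inferInstance : Group (R ⧸ N)) with
      mul_comm := fun a b => by
        obtain ⟨a, rfl⟩ := QuotientGroup.mk_surjective a
        obtain ⟨b, rfl⟩ := QuotientGroup.mk_surjective b
        rw [← QuotientGroup.mk_mul, ← QuotientGroup.mk_mul, QuotientGroup.eq]
        rw [show (a * b)⁻¹ * (b * a) = ⁅b⁻¹, a⁻¹⁆ by rw [commutatorElement_def]; group]
        exact hN (by rw [_root_.commutator_def]; exact commutator_mem_commutator (mem_top _) (mem_top _)) }
  let θ : R →* R ⧸ N :=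
    { toFun := fun z => ∏ a : A, (QuotientGroup.mk (φ a z) : R ⧸ N)
      map_one' := by simp
      map_mul' := fun u v => by
        rw [← Finset.prod_mul_distrib]
        exact Finset.prod_congr rfl fun a _ => by rw [map_mul, QuotientGroup.mk_mul] }
  have hθ : θ.ker = ⊤ := by
    rw [eq_top_iff, ← hgen, closure_le]
    rintro _ ⟨a, z, rfl⟩
    have h1 : θ (φ a z) = θ z := by
      show ∏ b : A, (QuotientGroup.mk (φ b (φ a z)) : R ⧸ N) = ∏ b : A, (QuotientGroup.mk (φ b z) : R ⧸ N)
      exact Fintype.prod_equiv (Equiv.mulRight a) _ _ fun b => by simp [map_mul]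
    rw [SetLike.mem_coe, MonoidHom.mem_ker, map_mul, map_inv, h1, mul_inv_cancel]
  have h2 : θ y = (QuotientGroup.mk y : R ⧸ N) ^ Nat.card A := by
    show ∏ a : A, (QuotientGroup.mk (φ a y) : R ⧸ N) = _
    rw [Finset.prod_congr rfl (g := fun _ => (QuotientGroup.mk y : R ⧸ N)) fun a _ => ?_,
      Finset.prod_const, Finset.card_univ, Nat.card_eq_fintype_card]
    rw [← mul_inv_eq_one, ← QuotientGroup.mk_inv, ← QuotientGroup.mk_mul, QuotientGroup.eq_one_iff]
    exact hy a
  have h3 : θ y = 1 := by rw [← MonoidHom.mem_ker, hθ]; exact mem_top y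
  rw [← QuotientGroup.eq_one_iff, ← orderOf_eq_one_iff]
  exact Nat.eq_one_of_dvd_coprimes hcop (orderOf_dvd_of_pow_eq_one (h2.symm.trans h3))
    ((orderOf_map_dvd (QuotientGroup.mk' N) y).trans (orderOf_dvd_natCard y))

/-- The determinant on `(ℤ/p)²`. -/
def det2 {p : ℕ} (u v : ZMod p × ZMod p) : ZMod p := u.2 * v.1 - v.2 * u.1

/-- A metacyclic `p`-group with a coprime action and `[R, A] = R` is abelian (`p` odd). -/
theorem commute_of_coprime_action {p : ℕ} [Fact p.Prime] (hp : p ≠ 2) {R A : Type*} [Group R]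
    [Finite R] [Group A] [Finite A] (hR : IsPGroup p R) (hm : Cfsg.IsMetacyclic R)
    (φ : A →* MulAut R) (hcop : (Nat.card A).Coprime (Nat.card R))
    (hgen : closure {x : R | ∃ a : A, ∃ z : R, φ a z * z⁻¹ = x} = ⊤) (g h : R) : Commute g h := by
  classical
  obtain ⟨D⟩ := CfsgLib.Coprime.exists_mcData hR hm
  have hpr := (Fact.out : p.Prime)
  by_cases hn : D.n = 0
  · rw [D.commute_iff]
    haveI : Subsingleton (ZMod (p ^ D.n)) := by rw [hn, pow_zero]; infer_instance
    exact Subsingleton.elim _ _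
  exfalso
  have hpn : p ∣ p ^ D.n := dvd_pow_self p hn
  -- coordinates modulo `p`
  set π : R → ZMod p × ZMod p := fun z =>
    (ZMod.castHom hpn (ZMod p) (D.ψ z).1, ZMod.castHom hpn (ZMod p) (D.ψ z).2) with hπ
  have π_form : ∀ i j : ℕ, π (D.a ^ i * D.b ^ j) = ((i : ZMod p), (j : ZMod p)) := fun i j => by
    simp only [hπ]
    rw [D.ψ_form]
    simp [CfsgLib.Coprime.natCast_phi D.natCast_r]
  have π_mul : ∀ u v : R, π (u * v) = π u + π v := fun u v => by
    obtain ⟨i, j, rfl⟩ := D.gen u
    obtain ⟨i', j', rfl⟩ := D.gen v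
    rw [D.mul_form, π_form, π_form, π_form, Prod.mk_add_mk]
    refine Prod.ext ?_ ?_ <;> simp [D.natCast_r]
  have π_one : π 1 = 0 := by
    have := π_form 0 0
    simp only [pow_zero, mul_one, Nat.cast_zero] at this
    exact this
  have π_inv : ∀ u : R, π u⁻¹ = -π u := fun u => by
    rw [eq_neg_iff_add_eq_zero, ← π_mul, inv_mul_cancel, π_one]
  have π_pow : ∀ (u : R) (m : ℕ), π (u ^ m) = (m : ZMod p) • π u := fun u m => by
    induction m with
    | zero => simp [π_one]
    | succ m ih => rw [pow_succ, π_mul, ih, Nat.cast_succ, add_smul, one_smul]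
  have π_comm : ∀ u : R, u ∈ commutator R → π u = 0 := fun u hu => by
    let P : Subgroup R :=
      { carrier := {z | π z = 0}
        one_mem' := π_one
        mul_mem' := fun {a b} ha hb => by
          show π (a * b) = 0
          rw [π_mul, show π a = 0 from ha, show π b = 0 from hb, add_zero]
        inv_mem' := fun {a} ha => by
          show π a⁻¹ = 0
          rw [π_inv, show π a = 0 from ha, neg_zero] }
    have hle : commutator R ≤ P := by
      rw [_root_.commutator_def, commutator_le]
      intro x _ y _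
      show π _ = 0
      rw [commutatorElement_def, π_mul, π_mul, π_mul, π_inv, π_inv]
      abel
    exact hle hu
  -- the quotient in which the commutator subgroup has order `p`
  set c0 := D.a ^ D.d with hc0
  set W := zpowers (c0 ^ p) with hW
  have hWhom : ∀ σ : R →* R, W ≤ W.comap σ := fun σ => by
    rw [hW, zpowers_le, mem_comap, map_pow]
    have h1 : σ c0 ∈ commutator R := by
      have hle : (commutator R).map σ ≤ commutator R := by
        rw [_root_.commutator_def, map_commutator]
        exact commutator_mono le_top le_top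
      exact hle ⟨c0, by rw [D.commutator_eq]; exact mem_zpowers _, rfl⟩
    rw [D.commutator_eq] at h1
    obtain ⟨i, hi⟩ := h1
    exact ⟨i, by simp only at hi ⊢; rw [← hi, ← zpow_natCast, ← zpow_natCast, ← zpow_mul, ← zpow_mul, mul_comm]⟩
  haveI hWn : W.Normal := ⟨fun w hw t => hWhom (MulAut.conj t).toMonoidHom hw⟩
  set f := QuotientGroup.mk' W with hf
  set cb := f c0 with hcb
  have hc0W : c0 ∉ W := by
    intro h
    obtain ⟨i, hi⟩ := h
    simp only at hi
    have h1 : D.a ^ ((D.d : ℤ) * ((p : ℤ) * i - 1)) = 1 := by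
      rw [mul_sub, mul_one, zpow_sub, ← mul_assoc, zpow_mul, zpow_mul, zpow_natCast, zpow_natCast,
        ← hc0, hi, mul_inv_cancel]
    rw [D.zpow_eq_one_iff] at h1
    have h2 : (p : ℤ) ∣ 1 := by
      have := (dvd_pow_self (p : ℤ) hn).trans h1
      exact (dvd_sub_right (dvd_mul_right _ _)).1 this
    exact hpr.ne_one (by exact_mod_cast Int.eq_one_of_dvd_one (by positivity) h2)
  have hcb1 : cb ≠ 1 := fun h => hc0W (by rwa [hcb, hf, QuotientGroup.mk'_apply, QuotientGroup.eq_one_iff] at h)
  have hcbp : cb ^ p = 1 := by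
    rw [hcb, ← map_pow, hf, QuotientGroup.mk'_apply, QuotientGroup.eq_one_iff]
    exact mem_zpowers _
  have hcbo : orderOf cb = p := orderOf_eq_prime hcbp hcb1
  set pw : ZMod p → R ⧸ W := fun t => cb ^ t.val with hpw
  have pw_cast : ∀ z : ℤ, cb ^ z = pw (z : ZMod p) := fun z => by
    simp only [hpw]
    rw [← zpow_natCast, ← orderOf_dvd_sub_iff_zpow_eq_zpow, hcbo, ← ZMod.intCast_eq_intCast_iff_dvd_sub]
    simp
  have pw_inj : ∀ s t : ZMod p, pw s = pw t → s = t := fun s t h => by
    simp only [hpw] at h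
    rw [pow_eq_pow_iff_modEq, hcbo] at h
    have := (ZMod.natCast_eq_natCast_iff _ _ _).2 h
    simpa using this
  have pw_pow : ∀ (s : ZMod p) (m : ℕ), pw s ^ m = pw ((m : ZMod p) * s) := fun s m => by
    have := pw_cast ((s.val : ℤ) * m)
    rw [zpow_mul, zpow_natCast, zpow_natCast] at this
    simp only [hpw] at this ⊢
    rw [this]; congr 2; push_cast; rw [ZMod.natCast_zmod_val, mul_comm]
  have hcomm : ∀ u v : R, ⁅f u, f v⁆ = pw (det2 (π u) (π v)) := fun u v => by
    obtain ⟨i, j, rfl⟩ := D.gen u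
    obtain ⟨i', j', rfl⟩ := D.gen v
    rw [← map_commutatorElement, D.commutator_form, zpow_mul, zpow_natCast, ← hc0, map_zpow, ← hcb,
      pw_cast, π_form, π_form]
    congr 1
    simp [det2, CfsgLib.Coprime.natCast_phi D.natCast_r]
  have hcen : ∀ (s : ZMod p) (z : R ⧸ W), Commute z (pw s) := fun s z => by
    obtain ⟨z, rfl⟩ := QuotientGroup.mk'_surjective W z
    refine Commute.pow_right (commutatorElement_eq_one_iff_commute.1 ?_) _
    have e : π c0 = 0 := π_comm _ (by rw [D.commutator_eq]; exact mem_zpowers _)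
    rw [hcb, hcomm, e]
    simp [det2, hpw]
  -- powers are homomorphisms
  have hpowm : ∀ (x y : R ⧸ W) (k : ℕ), 1 ≤ k → (x * y) ^ p ^ k = x ^ p ^ k * y ^ p ^ k := by
    intro x y k hk
    obtain ⟨x, rfl⟩ := QuotientGroup.mk'_surjective W x
    obtain ⟨y, rfl⟩ := QuotientGroup.mk'_surjective W y
    set t := det2 (π x⁻¹) (π y⁻¹)
    set X := f x
    set Y := f y
    have hc : Commute (pw (-t)) X ∧ Commute (pw (-t)) Y := ⟨(hcen _ _).symm, (hcen _ _).symm⟩
    have e1 : Y * X = X * Y * pw (-t) := by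
      have e : ⁅Y⁻¹, X⁻¹⁆ = pw (-t) := by
        rw [← map_inv, ← map_inv, hcomm]
        congr 1
        simp only [t, det2]; ring
      rw [← e, commutatorElement_def]; group
    set c := pw (-t)
    have e2 : ∀ m : ℕ, Y ^ m * X = X * Y ^ m * c ^ m := by
      intro m
      induction m with
      | zero => simp
      | succ m ih =>
        calc Y ^ (m + 1) * X = Y * (Y ^ m * X) := by rw [pow_succ', mul_assoc]
          _ = (Y * X) * Y ^ m * c ^ m := by rw [ih]; simp only [mul_assoc]
          _ = X * (Y * (c * Y ^ m)) * c ^ m := by rw [e1]; simp only [mul_assoc]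
          _ = X * (Y * Y ^ m) * (c * c ^ m) := by rw [((hc.2).pow_right m).eq]; simp only [mul_assoc]
          _ = _ := by rw [← pow_succ', ← pow_succ']
    have e3 : ∀ m : ℕ, (X * Y) ^ m = X ^ m * Y ^ m * c ^ m.choose 2 := by
      intro m
      induction m with
      | zero => simp
      | succ m ih =>
        have hcc : Commute (c ^ m.choose 2) (X * Y) := ((hc.1).mul_right hc.2).pow_left _
        calc (X * Y) ^ (m + 1) = X ^ m * Y ^ m * (c ^ m.choose 2 * (X * Y)) := by
              rw [pow_succ, ih, mul_assoc]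
          _ = X ^ m * (Y ^ m * X) * Y * c ^ m.choose 2 := by rw [hcc.eq]; simp only [mul_assoc]
          _ = X ^ m * X * Y ^ m * (c ^ m * Y) * c ^ m.choose 2 := by rw [e2]; simp only [mul_assoc]
          _ = X ^ m * X * Y ^ m * (Y * c ^ m) * c ^ m.choose 2 := by rw [((hc.2).pow_left m).eq]
          _ = (X ^ m * X) * (Y ^ m * Y) * (c ^ m * c ^ m.choose 2) := by simp only [mul_assoc]
          _ = _ := by rw [← pow_succ, ← pow_succ, ← pow_add, Nat.choose_succ_succ' m 1, Nat.choose_one_right]
    rw [e3, mul_eq_left]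
    · rw [pw_pow, Nat.choose_two_right, Nat.mul_div_assoc]
      · simp [hpw, zero_pow (show k ≠ 0 by omega)]
      · have hodd : Odd (p ^ k) := (hpr.odd_of_ne_two hp).pow
        exact (Nat.Odd.sub_odd hodd odd_one).two_dvd
  -- the largest `k` such that `cb` is a `p^k`-th power
  have hQ1 : ∃ z : R, f z ^ p ^ 1 = cb := by
    obtain ⟨e, he⟩ := D.hd
    refine ⟨D.a ^ e, ?_⟩
    rw [hcb, hc0, he, ← map_pow, ← pow_mul, pow_one, mul_comm]
  obtain ⟨k, hk1, ⟨x, hx⟩, hk⟩ : ∃ k, 1 ≤ k ∧ (∃ z : R, f z ^ p ^ k = cb) ∧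
      ∀ z : R, f z ^ p ^ (k + 1) ≠ cb := by
    by_contra hne
    have hall : ∀ m : ℕ, ∃ z : R, f z ^ p ^ (m + 1) = cb := by
      intro m
      induction m with
      | zero => exact hQ1
      | succ m ih =>
        by_contra h
        exact hne ⟨m + 1, by omega, ih, fun z hz => h ⟨z, hz⟩⟩
    obtain ⟨N, hN⟩ := IsPGroup.iff_card.1 hR
    obtain ⟨z, hz⟩ := hall N
    refine hcb1 ?_
    rw [← hz, ← map_pow, pow_succ, pow_mul, ← hN, pow_card_eq_one', one_pow, map_one]
  -- `K` : elements whose `p^k`-th power is a `p^(k+1)`-th power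
  set K : R → Prop := fun z => ∃ w : R, f z ^ p ^ k = f w ^ p ^ (k + 1) with hK
  have K_mul : ∀ u v, K u → K v → K (u * v) := by
    rintro u v ⟨w, hw⟩ ⟨w', hw'⟩
    exact ⟨w * w', by rw [map_mul, map_mul, hpowm _ _ _ hk1, hpowm _ _ _ (by omega), hw, hw']⟩
  have K_inv : ∀ u, K u → K u⁻¹ := by
    rintro u ⟨w, hw⟩
    exact ⟨w⁻¹, by rw [map_inv, map_inv, inv_pow, inv_pow, hw]⟩
  have K_pow : ∀ u (m : ℕ), K u → K (u ^ m) := by
    rintro u m ⟨w, hw⟩
    exact ⟨w ^ m, by rw [map_pow, map_pow, pow_right_comm, hw, pow_right_comm]⟩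
  have K_of_zero : ∀ z, π z = 0 → K z := by
    intro z hz
    obtain ⟨i, j, rfl⟩ := D.gen z
    rw [π_form, Prod.mk_eq_zero, ZMod.natCast_eq_zero_iff, ZMod.natCast_eq_zero_iff] at hz
    obtain ⟨⟨i', rfl⟩, ⟨j', rfl⟩⟩ := hz
    refine K_mul _ _ ⟨D.a ^ i', ?_⟩ ⟨D.b ^ j', ?_⟩
    all_goals rw [← map_pow, ← map_pow, ← pow_mul, ← pow_mul, pow_succ, mul_assoc, mul_comm]; congr 2; ring
  have hxK : ∀ t : ZMod p, K (x ^ t.val) → t = 0 := by
    rintro t ⟨w, hw⟩
    by_contra ht
    refine hk (w ^ (t⁻¹).val) ?_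
    rw [map_pow, pow_right_comm, ← hw, map_pow, pow_right_comm (f x), hx]
    show pw t ^ (t⁻¹).val = cb
    rw [pw_pow, ZMod.natCast_zmod_val, inv_mul_cancel₀ ht]
    simp [hpw, ZMod.val_one]
  set u := π x with hu_def
  have hu : u ≠ 0 := by
    intro h
    have hK1 : K (x ^ (1 : ZMod p).val) := by rw [ZMod.val_one, pow_one]; exact K_of_zero x h
    exact one_ne_zero (hxK 1 hK1)
  -- induced maps
  have key : ∀ a : A, ∃ d : ZMod p, d ≠ 0 ∧ (∀ v w, det2 (π (φ a v)) (π (φ a w)) = d * det2 (π v) (π w)) ∧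
      (∀ z, K z → K (φ a z)) ∧ K (φ a x * (x ^ d.val)⁻¹) := by
    intro a
    set s := QuotientGroup.map W W (φ a).toMonoidHom (hWhom _) with hs
    have hsf : ∀ z, s (f z) = f (φ a z) := fun z => QuotientGroup.map_mk _ _ _ _ z
    have hc : φ a c0 ∈ commutator R := by
      have hle : (commutator R).map (φ a).toMonoidHom ≤ commutator R := by
        rw [_root_.commutator_def, map_commutator]
        exact commutator_mono le_top le_top
      exact hle ⟨c0, by rw [D.commutator_eq]; exact mem_zpowers _, rfl⟩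
    rw [D.commutator_eq] at hc
    obtain ⟨i, hi⟩ := hc
    set d : ZMod p := (i : ZMod p) with hd
    have hsc : s cb = pw d := by
      rw [hcb, hsf, ← hi, map_zpow, ← hc0, ← hcb, pw_cast]
    refine ⟨d, ?_, fun v w => ?_, ?_, ?_⟩
    · intro hd0
      refine hc0W ?_
      have h1 : φ a c0 ∈ W := by
        rw [← QuotientGroup.eq_one_iff, ← QuotientGroup.mk'_apply, ← hf, ← hsf, ← hcb, hsc, hd0]
        simp [hpw]
      simpa using hWhom (φ a).symm.toMonoidHom h1
    · apply pw_inj
      rw [← hcomm, ← hsf, ← hsf, ← map_commutatorElement, hcomm]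
      show s (cb ^ _) = _
      rw [map_pow, hsc, pw_pow, ZMod.natCast_zmod_val, mul_comm]
    · rintro z ⟨w, hw⟩
      exact ⟨φ a w, by rw [← hsf, ← hsf, ← map_pow s, ← map_pow s, hw]⟩
    · refine ⟨1, ?_⟩
      rw [map_one, one_pow, map_mul, hpowm _ _ _ hk1, map_inv, inv_pow, map_pow, pow_right_comm (f x),
        hx, ← hsf, ← map_pow, hx, hsc, mul_inv_eq_one]
  choose d hd0 hdet hKinv hxd using key
  by_cases hcase : ∀ a : A, π (φ a x) = d a • u
  · -- every element is fixed modulo the polar of `x`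
    let N : Subgroup R :=
      { carrier := {z | det2 u (π z) = 0}
        one_mem' := by show det2 u (π 1) = 0; rw [π_one]; simp [det2]
        mul_mem' := fun {a b} ha hb => by
          show det2 u (π (a * b)) = 0
          rw [π_mul, show det2 u (π a + π b) = det2 u (π a) + det2 u (π b) by simp [det2]; ring,
            show det2 u (π a) = 0 from ha, show det2 u (π b) = 0 from hb, add_zero]
        inv_mem' := fun {a} ha => by
          show det2 u (π a⁻¹) = 0
          rw [π_inv, show det2 u (-π a) = -det2 u (π a) by simp [det2]; ring,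
            show det2 u (π a) = 0 from ha, neg_zero] }
    have hall : ∀ (a : A) (z : R), det2 u (π (φ a z)) = det2 u (π z) := fun a z => by
      have h1 := hdet a x z
      rw [hcase, show det2 (d a • u) (π (φ a z)) = d a * det2 u (π (φ a z)) by simp [det2]; ring] at h1
      exact mul_left_cancel₀ (hd0 a) h1
    have hNtop : ∀ z, z ∈ N := fun z => by
      refine mem_of_fixed_mod φ hcop hgen N (fun w hw => ?_) (fun a w hw => ?_) fun a => ?_
      · show det2 u (π w) = 0
        rw [π_comm w hw]; simp [det2]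
      · show det2 u (π (φ a w)) = 0
        rw [hall]; exact hw
      · show det2 u (π (φ a z * z⁻¹)) = 0
        rw [π_mul, π_inv]
        have := hall a z
        simp [det2] at this ⊢
        linear_combination this
    have ha' : det2 u (π D.a) = 0 := hNtop D.a
    have hb' : det2 u (π D.b) = 0 := hNtop D.b
    rw [show π D.a = ((1 : ZMod p), (0 : ZMod p)) by simpa using π_form 1 0] at ha'
    rw [show π D.b = ((0 : ZMod p), (1 : ZMod p)) by simpa using π_form 0 1] at hb'
    simp [det2] at ha' hb'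
    exact hu (Prod.ext hb' ha')
  · push_neg at hcase
    obtain ⟨a₀, ha₀⟩ := hcase
    set y := φ a₀ x * (x ^ (d a₀).val)⁻¹ with hy
    have hyK : K y := hxd a₀
    set v := π y with hv_def
    have hv : v = π (φ a₀ x) - d a₀ • u := by
      rw [hv_def, hy, π_mul, π_inv, π_pow, ZMod.natCast_zmod_val, sub_eq_add_neg]
    have hv0 : v ≠ 0 := by rw [hv, sub_ne_zero]; exact ha₀
    have hcoord : ∀ (z : R) (α β : ZMod p), K z → π z = α • u + β • v → α = 0 := by
      intro z α β hz he
      refine hxK α ?_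
      have h1 : K ((x ^ α.val)⁻¹ * z * (y ^ β.val)⁻¹) := K_of_zero _ (by
        rw [π_mul, π_mul, π_inv, π_inv, π_pow, π_pow, ZMod.natCast_zmod_val, ZMod.natCast_zmod_val, he]
        abel)
      have h2 := K_inv _ (K_mul _ _ (K_mul _ _ h1 (K_pow _ β.val hyK)) (K_inv _ hz))
      simpa [mul_assoc] using h2
    have huv : det2 u v ≠ 0 := by
      intro h
      simp only [det2, sub_eq_zero] at h
      obtain ⟨t, ht⟩ : ∃ t : ZMod p, v = t • u := by
        by_cases h1 : u.1 = 0
        · have h2 : u.2 ≠ 0 := fun h2 => hu (Prod.ext h1 h2)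
          refine ⟨v.2 / u.2, Prod.ext ?_ ?_⟩ <;> simp [h1]
          · rw [h1, mul_zero] at h
            exact (mul_eq_zero.1 h).resolve_left h2
          · field_simp
        · refine ⟨v.1 / u.1, Prod.ext ?_ ?_⟩ <;> simp
          · field_simp
          · field_simp; linear_combination -h
      have := hcoord y t 0 hyK (by rw [zero_smul, add_zero]; exact ht)
      rw [this, zero_smul] at ht
      exact hv0 ht
    have hspan : ∀ w : ZMod p × ZMod p,
        w = (det2 w v / det2 u v) • u + (det2 u w / det2 u v) • v := by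
      intro w
      refine Prod.ext ?_ ?_ <;> simp <;> field_simp <;> simp [det2] <;> ring
    let P : Subgroup R :=
      { carrier := {z | π z = 0}
        one_mem' := π_one
        mul_mem' := fun {a b} ha hb => by
          show π (a * b) = 0
          rw [π_mul, show π a = 0 from ha, show π b = 0 from hb, add_zero]
        inv_mem' := fun {a} ha => by
          show π a⁻¹ = 0
          rw [π_inv, show π a = 0 from ha, neg_zero] }
    refine hv0 (mem_of_fixed_mod φ hcop hgen P (fun w hw => π_comm w hw) (fun a w hw => ?_) fun a => ?_ : y ∈ P)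
    · have hd : ∀ z, det2 (π (φ a w)) (π z) = 0 := fun z => by
        obtain ⟨z, rfl⟩ := (φ a).surjective z
        rw [hdet, show π w = 0 from hw]; simp [det2]
      have ha' := hd D.a
      have hb' := hd D.b
      rw [show π D.a = ((1 : ZMod p), (0 : ZMod p)) by simpa using π_form 1 0] at ha'
      rw [show π D.b = ((0 : ZMod p), (1 : ZMod p)) by simpa using π_form 0 1] at hb'
      simp [det2] at ha' hb'
      exact Prod.ext hb' ha'
    · set w := π (φ a y) with hw_def
      have hα : det2 w v / det2 u v = 0 := hcoord _ _ _ (hKinv a y hyK) (hspan w)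
      set β := det2 u w / det2 u v with hβ
      have hwv : w = β • v := by
        have := hspan w
        rwa [hα, zero_smul, zero_add] at this
      set z := φ a x * (x ^ (d a).val)⁻¹
      have hα' : det2 (π z) v / det2 u v = 0 := hcoord _ _ _ (hxd a) (hspan _)
      have hzv := hspan (π z)
      rw [hα', zero_smul, zero_add] at hzv
      have hxa : π (φ a x) = d a • u + (det2 u (π z) / det2 u v) • v := by
        rw [← hzv, π_mul, π_inv, π_pow, ZMod.natCast_zmod_val, ← hu_def]; abel
      have h1 := hdet a x y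
      rw [← hw_def, hwv, hxa, ← hu_def, ← hv_def] at h1
      have h2 : (β - 1) * (d a * det2 u v) = 0 := by
        simp [det2] at h1
        simp only [det2]
        linear_combination h1
      have hβ1 : β = 1 := sub_eq_zero.1 ((mul_eq_zero.1 h2).resolve_right (mul_ne_zero (hd0 a) huv))
      show π (φ a y * y⁻¹) = 0
      rw [π_mul, π_inv, ← hw_def, hwv, hβ1, one_smul, ← hv_def, add_neg_cancel]

end CfsgLib.OddLocal
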