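import Mathlib.GroupTheory.Coset.Card
import Mathlib.GroupTheory.Subgroup.Centralizer
import Mathlib.Algebra.BigOperators.Group.Finset.Basic
import Mathlib.Algebra.BigOperators.Fin
import Mathlib.GroupTheory.OrderOfElement
import Mathlib.Tactic.Group

set_option autoImplicit false

namespace CfsgLib.OddLocal

open Subgroup

universe u
variable {G : Type u} [Group G]

/-- A Frobenius group `M⟨y⟩` cannot act fixed-point-freely on an abelian group of coprime order. -/
theorem no_fixedPointFree_frobenius [Finite G] {V M : Subgroup G} [V.Normal] [hV : IsMulCommutative V]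
    {y : G} {r : ℕ} (hr : r.Prime) (hy : orderOf y = r) (hV1 : V ≠ ⊥) (hM1 : M ≠ ⊥)
    (hyM : y ∈ Subgroup.normalizer (M : Set G))
    (hcop : (Nat.card M).Coprime (Nat.card V))
    (hfreeM : ∀ i : ℕ, ¬ r ∣ i → ∀ m ∈ M, Commute (y ^ i) m → m = 1)
    (hfreeV : ∀ m ∈ M, m ≠ 1 → ∀ v ∈ V, Commute m v → v = 1)
    (hfreey : ∀ m ∈ M, ∀ v ∈ V, Commute (m * y * m⁻¹) v → v = 1) : False := by
  classical
  obtain ⟨v0, hv0⟩ := Subgroup.ne_bot_iff_exists_ne_one.mp hV1
  obtain ⟨m0, hm0⟩ := Subgroup.ne_bot_iff_exists_ne_one.mp hM1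
  let _ : CommGroup V := { (inferInstance : Group V) with mul_comm := fun a b => hV.is_comm.comm a b }
  have : Fintype M := Fintype.ofFinite M
  let act : G → V → V := fun g v => ⟨g * v * g⁻¹, Subgroup.Normal.conj_mem inferInstance _ v.2 g⟩
  have act_act : ∀ g h v, act g (act h v) = act (g * h) v := fun g h v => Subtype.ext (by
    show g * (h * v * h⁻¹) * g⁻¹ = g * h * v * (g * h)⁻¹
    group)
  let φ : G → V →* V := fun g => MonoidHom.mk' (act g) fun a b => Subtype.ext (by
    show g * (a * b) * g⁻¹ = (g * a * g⁻¹) * (g * b * g⁻¹)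
    group)
  have fix_one : ∀ g : G, (∀ v ∈ V, Commute g v → v = 1) → ∀ w : V, act g w = w → w = 1 :=
    fun g hg w hw => Subtype.ext (hg w w.2 (mul_inv_eq_iff_eq_mul.mp (congrArg Subtype.val hw)))
  -- the sum over `M` is trivial
  have sumM : ∀ w : V, ∏ m : M, act m w = 1 := by
    intro w
    refine fix_one m0 (hfreeV m0 m0.2 fun h => hm0 (Subtype.ext h)) _ ?_
    show φ m0 _ = _
    rw [map_prod]
    refine Fintype.prod_equiv (Equiv.mulLeft m0) _ _ fun m => ?_
    exact act_act m0 m w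
  -- the sum over each conjugate of `⟨y⟩` is trivial
  have sumY : ∀ m : M, ∀ w : V, ∏ i ∈ Finset.range r, act ((m : G) * y ^ i * (m : G)⁻¹) w = 1 := by
    intro m w
    refine fix_one ((m : G) * y * (m : G)⁻¹) (hfreey m m.2) _ ?_
    show φ _ _ = _
    rw [map_prod]
    have hstep : ∀ i, φ ((m : G) * y * (m : G)⁻¹) (act ((m : G) * y ^ i * (m : G)⁻¹) w)
        = act ((m : G) * y ^ (i + 1) * (m : G)⁻¹) w := fun i => by
      refine (act_act _ _ w).trans ?_
      congr 1
      rw [pow_succ']; group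
    rw [Finset.prod_congr rfl fun i _ => hstep i]
    have h1 := Finset.prod_range_succ' (fun i => act ((m : G) * y ^ i * (m : G)⁻¹) w) r
    have h2 := Finset.prod_range_succ (fun i => act ((m : G) * y ^ i * (m : G)⁻¹) w) r
    rw [h1, show y ^ r = y ^ 0 by rw [← hy, pow_orderOf_eq_one, pow_zero]] at h2
    exact mul_right_cancel h2
  have total : ∏ m : M, ∏ i ∈ Finset.range r, act ((m : G) * y ^ i * (m : G)⁻¹) v0 = 1 :=
    Finset.prod_eq_one fun m _ => sumY m v0
  rw [Finset.prod_comm, ← Nat.sub_add_cancel hr.pos, Finset.prod_range_succ'] at total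
  have hrest : ∀ i ∈ Finset.range (r - 1), ∏ m : M, act ((m : G) * y ^ (i + 1) * (m : G)⁻¹) v0 = 1 := by
    intro i hi
    have hyi : y ^ (i + 1) ∈ Subgroup.normalizer (M : Set G) := Subgroup.pow_mem _ hyM _
    have hndvd : ¬ r ∣ i + 1 := fun h => by
      have := Nat.le_of_dvd (Nat.succ_pos i) h
      have := Finset.mem_range.mp hi
      omega
    let e : M → M := fun m => ⟨(m : G) * (y ^ (i + 1) * (m : G)⁻¹ * (y ^ (i + 1))⁻¹),
      M.mul_mem m.2 ((Subgroup.mem_normalizer_iff.mp hyi _).mp (M.inv_mem m.2))⟩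
    have he : Function.Bijective e := by
      refine Finite.injective_iff_bijective.mp fun a b hab => ?_
      have h := congrArg (fun z : M => (z : G) * y ^ (i + 1)) hab
      simp only [e] at h
      have h' : (a : G) * y ^ (i + 1) * (a : G)⁻¹ = (b : G) * y ^ (i + 1) * (b : G)⁻¹ := by
        simpa [mul_assoc] using h
      have hc : Commute (y ^ (i + 1)) ((b : G)⁻¹ * a) := by
        show y ^ (i + 1) * ((b : G)⁻¹ * a) = (b : G)⁻¹ * a * y ^ (i + 1)
        calc y ^ (i + 1) * ((b : G)⁻¹ * a)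
            = (b : G)⁻¹ * ((b : G) * y ^ (i + 1) * (b : G)⁻¹) * a := by group
          _ = _ := by rw [← h']; group
      exact Subtype.ext (inv_mul_eq_one.mp (hfreeM (i + 1) hndvd _
        (M.mul_mem (M.inv_mem b.2) a.2) hc)).symm
    rw [← sumM (act (y ^ (i + 1)) v0)]
    refine Fintype.prod_bijective e he _ _ fun m => ?_
    rw [act_act]
    congr 1
    simp only [e]
    group
  rw [Finset.prod_eq_one hrest, one_mul] at total
  have h0 : ∀ m : M, act ((m : G) * y ^ 0 * (m : G)⁻¹) v0 = v0 := fun m => Subtype.ext (by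
    show (m : G) * y ^ 0 * (m : G)⁻¹ * v0 * ((m : G) * y ^ 0 * (m : G)⁻¹)⁻¹ = v0
    group)
  simp only [h0, Finset.prod_const, Finset.card_univ] at total
  rw [← Nat.card_eq_fintype_card] at total
  exact hv0 (orderOf_eq_one_iff.mp (Nat.eq_one_of_dvd_coprimes hcop
    (orderOf_dvd_of_pow_eq_one total) (_root_.orderOf_dvd_natCard v0)))

end CfsgLib.OddLocal
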