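import Cfsg.Agent.Lib.OddLocal.PiCore
import Cfsg.Agent.Lib.Comp.PConstrained

/-! `O_{r'}` of a local subgroup of a solvable subgroup. -/

set_option autoImplicit false
set_option linter.style.haveILetI false

namespace CfsgLib.OddLocal

open Subgroup CfsgLib.Comp

universe u
variable {G : Type u} [Group G] [Finite G]

theorem pLayer_eq_bot_of_solvable (r : ℕ) [Fact r.Prime] (X : Type u) [Group X] [Finite X]
    [Group.IsSolvable X] : Cfsg.pLayer r X = ⊥ := by
  rw [pLayer_eq_bot_iff]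
  exact eq_bot_of_perfect_of_isSolvable (commutator_layer_self _) inferInstance

/-- `O_{r'}(N_X(P)) ≤ O_{r'}(X)` for an `r`-subgroup `P` of a solvable subgroup `X`. -/
theorem le_piCoreOf_of_local {r : ℕ} [hr : Fact r.Prime] {X P Y : Subgroup G}
    (hX : Group.IsSolvable X) (hPX : P ≤ X) (hP : IsPGroup r P) (hYX : Y ≤ X)
    (hYP : Y ≤ Subgroup.normalizer (P : Set G))
    (hn : X ⊓ Subgroup.normalizer (P : Set G) ≤ Subgroup.normalizer (Y : Set G))
    (hY : (Nat.card Y).Coprime r) :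
    Y ≤ (Cfsg.pPrimeCore r X).map X.subtype := by
  obtain ⟨-, hle⟩ := pLocal_of_pLayer_eq_bot (pLayer_eq_bot_of_solvable r X)
    (IsPGroup.comap_subtype (K := X) hP)
  set N' := Subgroup.normalizer ((P.comap X.subtype : Subgroup X) : Set X)
  have hN' : ∀ x : X, x ∈ N' → (x : G) ∈ Subgroup.normalizer (P : Set G) := by
    intro x hx
    rw [Subgroup.mem_normalizer_iff]
    intro v
    constructor
    · intro hv
      exact (Subgroup.mem_normalizer_iff.1 hx ⟨v, hPX hv⟩).1 hv
    · intro hv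
      have hvX : v ∈ X := by
        have := mul_mem (mul_mem (inv_mem x.2) (hPX hv)) x.2
        simpa [mul_assoc] using this
      exact (Subgroup.mem_normalizer_iff.1 hx ⟨v, hvX⟩).2 hv
  have hYN : Y.subgroupOf X ≤ N' := by
    intro y hy
    rw [Subgroup.mem_normalizer_iff]
    intro v
    exact Subgroup.mem_normalizer_iff.1 (hYP hy) v
  intro y hy
  refine ⟨⟨y, hYX hy⟩, hle ?_, rfl⟩
  have hnorm : ((Y.subgroupOf X).subgroupOf N').Normal := by
    refine ⟨fun a ha g => ?_⟩
    have h1 : ((g : X) : G) ∈ X ⊓ Subgroup.normalizer (P : Set G) := ⟨(g : X).2, hN' (g : X) g.2⟩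
    exact (Subgroup.mem_normalizer_iff.1 (hn h1) _).1 ha
  have h2 : (Nat.card ((Y.subgroupOf X).subgroupOf N')).Coprime r := by
    rwa [CfsgLib.Coprime.card_subgroupOf hYN, CfsgLib.Coprime.card_subgroupOf hYX]
  have h3 : (Y.subgroupOf X).subgroupOf N' ≤ Cfsg.pPrimeCore r N' := le_sSup ⟨hnorm, h2⟩
  exact ⟨⟨⟨y, hYX hy⟩, hYN hy⟩, h3 hy, rfl⟩

end CfsgLib.OddLocal
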