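import Cfsg.Agent.Lib.OddLocal.CNBasic
import Cfsg.Agent.Lib.Solvable.FrobeniusComplement
import Mathlib.Data.Fintype.Order
import Mathlib.GroupTheory.SchurZassenhaus

/-!
# CN-groups: maximal nilpotent subgroups, Frobenius structure
-/

set_option autoImplicit false

namespace CfsgLib.OddLocal

open Subgroup

universe u

variable {G : Type u} [Group G]

/-- A nilpotent subgroup contained in no larger nilpotent subgroup. -/
def IsMaxNilpotent (H : Subgroup G) : Prop :=
  Group.IsNilpotent H ∧ ∀ L : Subgroup G, Group.IsNilpotent L → H ≤ L → L = H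

theorem exists_maxNilpotent_ge [Finite G] {A : Subgroup G} (hA : Group.IsNilpotent A) :
    ∃ H : Subgroup G, A ≤ H ∧ IsMaxNilpotent H := by
  obtain ⟨H, hAH, hH⟩ := Finite.exists_le_maximal (p := fun L : Subgroup G => Group.IsNilpotent L) (a := A) hA
  exact ⟨H, hAH, hH.prop, fun L hL hle => le_antisymm (hH.le_of_ge hL hle) hle⟩

theorem isMaxNilpotent_map_conj {H : Subgroup G} (hH : IsMaxNilpotent H) (g : G) :
    IsMaxNilpotent (H.map (MulAut.conj g).toMonoidHom) := by
  refine ⟨isNilpotent_map _ hH.1, fun L hL hle => ?_⟩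
  have h1 : H ≤ L.map (MulAut.conj g).symm.toMonoidHom := fun x hx =>
    ⟨(MulAut.conj g) x, hle ⟨x, hx, rfl⟩, (MulAut.conj g).symm_apply_apply x⟩
  have h2 := hH.2 _ (isNilpotent_map _ hL) h1
  rw [← h2, Subgroup.map_map]
  convert (Subgroup.map_id L).symm
  ext x
  exact (MulAut.conj g).apply_symm_apply x

/-- A subgroup commuting with every prime-power element of a nilpotent subgroup. -/
theorem le_centralizer_of_forall_prime_power [Finite G] {H : Subgroup G} (hH : Group.IsNilpotent H)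
    {g : G} (h : ∀ p : ℕ, p.Prime → ∀ u ∈ pPart p H, g * u = u * g) :
    g ∈ Subgroup.centralizer (H : Set G) := by
  have : H ≤ Subgroup.centralizer ({g} : Set G) := by
    rw [← iSup_pPart hH]
    exact iSup_le fun p u hu => Subgroup.mem_centralizer_singleton_iff.mpr (h p p.2 u hu).symm
  exact fun x hx => Subgroup.mem_centralizer_singleton_iff.mp (this hx)

theorem exists_pow_eq_one_of_mem_pPart [Finite G] {p : ℕ} {H : Subgroup G} {u : G} (hu : u ∈ pPart p H) :
    ∃ i : ℕ, u ^ p ^ i = 1 := by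
  obtain ⟨i, hi⟩ := pPart_isPGroup p H ⟨u, hu⟩
  exact ⟨i, congrArg Subtype.val hi⟩

variable [Finite G] (hCN : Cfsg.IsCNGroup G)
include hCN

theorem centralizer_eq_of_central {H : Subgroup G} (hH : IsMaxNilpotent H) {z : G}
    (hz1 : z ≠ 1) (hzc : z ∈ Subgroup.centralizer (H : Set G)) :
    Subgroup.centralizer ({z} : Set G) = H :=
  hH.2 _ (hCN z hz1) fun x hx => Subgroup.mem_centralizer_singleton_iff.mpr (hzc x hx)

omit hCN in
theorem maxNilpotent_ne_bot [Nontrivial G] {H : Subgroup G} (hH : IsMaxNilpotent H) : H ≠ ⊥ := by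
  intro h
  obtain ⟨x, hx⟩ := exists_ne (1 : G)
  have := hH.2 (Subgroup.zpowers x) (isNilpotent_of_commute _ fun _ _ _ _ _ a ha b hb _ _ _ _ => by
    obtain ⟨i, rfl⟩ := Subgroup.mem_zpowers_iff.mp ha
    obtain ⟨j, rfl⟩ := Subgroup.mem_zpowers_iff.mp hb
    exact (Commute.zpow_zpow_self x i j).eq) (h ▸ bot_le)
  rw [h, Subgroup.zpowers_eq_bot] at this
  exact hx this

/-- The `p`-part of a maximal nilpotent subgroup is a Sylow subgroup of `G`. -/
theorem exists_sylow_eq_pPart {H : Subgroup G} (hH : IsMaxNilpotent H) {p : ℕ} [hp : Fact p.Prime]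
    (hd : p ∣ Nat.card H) : ∃ S : Sylow p G, (S : Subgroup G) = pPart p H := by
  obtain ⟨z, hzH, hzo, hzc⟩ := exists_central_of_dvd hH.1 hd
  have hz1 : z ≠ 1 := fun h => hp.out.one_lt.ne (by rw [← hzo, h, orderOf_one])
  obtain ⟨S, hS⟩ := (pPart_isPGroup p H).exists_le_sylow
  have hzP : z ∈ pPart p H := mem_pPart hH.1 hzH (i := 1) (by rw [pow_one, ← hzo, pow_orderOf_eq_one])
  obtain ⟨y, hyS, hyo, hyc⟩ := exists_central_of_dvd (H := (S : Subgroup G)) S.2.isNilpotent
    ((dvd_of_eq hzo.symm).trans (Subgroup.orderOf_dvd_natCard _ (hS hzP)))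
  have hy1 : y ≠ 1 := fun h => hp.out.one_lt.ne (by rw [← hyo, h, orderOf_one])
  have hyH : y ∈ H := by
    rw [← centralizer_eq_of_central hCN hH hz1 hzc]
    exact Subgroup.mem_centralizer_singleton_iff.mpr (hyc z (hS hzP)).symm
  have hyp : y ^ p ^ 1 = 1 := by rw [pow_one, ← hyo, pow_orderOf_eq_one]
  have hycH : y ∈ Subgroup.centralizer (H : Set G) := by
    refine le_centralizer_of_forall_prime_power hH.1 fun q hq u hu => ?_
    by_cases hqp : q = p
    · subst hqp; exact (hyc u (hS hu)).symm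
    · obtain ⟨i, hi⟩ := exists_pow_eq_one_of_mem_pPart hu
      exact commute_of_mem_nilpotent hH.1 hyH (pPart_le _ _ hu)
        (coprime_orderOf_of_prime_ne hp.out hq (Ne.symm hqp) hyp hi)
  refine ⟨S, le_antisymm (fun s hs => ?_) hS⟩
  have hsH : s ∈ H := by
    rw [← centralizer_eq_of_central hCN hH hy1 hycH]
    exact Subgroup.mem_centralizer_singleton_iff.mpr (hyc s hs)
  obtain ⟨i, hi⟩ := S.2 ⟨s, hs⟩
  exact mem_pPart hH.1 hsH (i := i) (congrArg Subtype.val hi)

theorem maxNilpotent_coprime_index {H : Subgroup G} (hH : IsMaxNilpotent H) :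
    (Nat.card H).Coprime H.index := by
  refine Nat.coprime_of_dvd fun p hp hd hdi => ?_
  have := Fact.mk hp
  obtain ⟨S, hS⟩ := exists_sylow_eq_pPart hCN hH hd
  exact S.not_dvd_index (hdi.trans (Subgroup.index_dvd_of_le (hS ▸ pPart_le p H)))

/-- Centralizers of non-identity elements of a TI maximal nilpotent subgroup lie in it. -/
theorem centralizer_le_of_TI {H : Subgroup G} (hH : IsMaxNilpotent H)
    (hTI : ∀ g : G, H.map (MulAut.conj g).toMonoidHom ≠ H → H ⊓ H.map (MulAut.conj g).toMonoidHom = ⊥)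
    {x : G} (hxH : x ∈ H) (hx1 : x ≠ 1) : Subgroup.centralizer ({x} : Set G) ≤ H := by
  obtain ⟨p, hp, k, hk⟩ := exists_pow_orderOf_prime hx1
  have := Fact.mk hp
  refine (centralizer_singleton_le_pow x k).trans ?_
  set x' := x ^ k
  have hx'H : x' ∈ H := H.pow_mem hxH k
  have hx'1 : x' ≠ 1 := fun h => hp.one_lt.ne (by rw [← hk, h, orderOf_one])
  have hd : p ∣ Nat.card H := hk ▸ Subgroup.orderOf_dvd_natCard H hx'H
  obtain ⟨z, hzH, hzo, hzc⟩ := exists_central_of_dvd hH.1 hd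
  have hz1 : z ≠ 1 := fun h => hp.one_lt.ne (by rw [← hzo, h, orderOf_one])
  rw [← iSup_pPart (hCN x' hx'1)]
  refine iSup_le fun r y hy => ?_
  have hyC := pPart_le _ _ hy
  obtain ⟨i, hi⟩ := exists_pow_eq_one_of_mem_pPart hy
  by_cases hr : (r : ℕ) = p
  · have hyN : y ∈ Subgroup.normalizer (H : Set G) := by
      rw [Subgroup.mem_normalizer_iff_map_conj_eq]
      by_contra h
      apply hx'1
      rw [← Subgroup.mem_bot, ← hTI y h]
      refine ⟨hx'H, x', hx'H, ?_⟩
      show y * x' * y⁻¹ = x'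
      rw [Subgroup.mem_centralizer_singleton_iff.mp hyC, mul_inv_cancel_right]
    obtain ⟨S, hS⟩ := exists_sylow_eq_pPart hCN hH hd
    have hyS : y ∈ Subgroup.normalizer ((S : Subgroup G) : Set G) :=
      hS.symm ▸ normalizer_le_normalizer_pPart p H hyN
    have hyp : IsPGroup p (Subgroup.zpowers y) := by
      obtain ⟨l, -, hl⟩ := (Nat.dvd_prime_pow hp).mp (orderOf_dvd_of_pow_eq_one (hr ▸ hi))
      exact IsPGroup.of_card (n := l) (by rw [Nat.card_zpowers, hl])
    have h := S.3 (S.2.to_sup_of_normal_left' hyp (Subgroup.zpowers_le.mpr hyS)) le_sup_left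
    exact pPart_le p H (hS ▸ h ▸ Subgroup.mem_sup_right (Subgroup.mem_zpowers y))
  · rw [← centralizer_eq_of_central hCN hH hz1 hzc]
    refine Subgroup.mem_centralizer_singleton_iff.mpr ?_
    exact commute_of_mem_nilpotent (hCN x' hx'1) hyC
      (Subgroup.mem_centralizer_singleton_iff.mpr (hzc x' hx'H).symm)
      (coprime_orderOf_of_prime_ne r.2 hp hr hi
        (show z ^ p ^ 1 = 1 by rw [pow_one, ← hzo, pow_orderOf_eq_one]))

/-- Two maximal nilpotent subgroups of the same order, not a prime power, are equal or meet trivially. -/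
theorem maxNilpotent_eq_of_inf_ne_bot {H₁ H₂ : Subgroup G} (h₁ : IsMaxNilpotent H₁)
    (h₂ : IsMaxNilpotent H₂) (hcard : Nat.card H₂ = Nat.card H₁) (hpp : ¬ IsPrimePow (Nat.card H₁))
    (hne : H₁ ⊓ H₂ ≠ ⊥) : H₁ = H₂ := by
  obtain ⟨⟨x, hxH⟩, hx⟩ := Subgroup.ne_bot_iff_exists_ne_one.mp hne
  have hx1 : x ≠ 1 := fun h => hx (Subtype.ext h)
  obtain ⟨p, hp, k, hk⟩ := exists_pow_orderOf_prime hx1
  have key : ∀ p : ℕ, p.Prime → ∀ x ∈ H₁ ⊓ H₂, orderOf x = p → ∀ q : ℕ, q.Prime → q ≠ p → q ∣ Nat.card H₁ →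
      pPart q H₁ = pPart q H₂ := by
    intro p hp x hx ho q hq hqp hd
    have := Fact.mk hq
    have hx1 : x ≠ 1 := fun h => hp.one_lt.ne (by rw [← ho, h, orderOf_one])
    have hsub : ∀ H : Subgroup G, IsMaxNilpotent H → x ∈ H → q ∣ Nat.card H →
        pPart q H = pPart q (Subgroup.centralizer ({x} : Set G)) := by
      intro H hH hxH hdH
      obtain ⟨S, hS⟩ := exists_sylow_eq_pPart hCN hH hdH
      rw [← hS]
      refine (S.3 (pPart_isPGroup q _) fun u hu => ?_).symm
      rw [hS] at hu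
      obtain ⟨i, hi⟩ := exists_pow_eq_one_of_mem_pPart hu
      refine mem_pPart (hCN x hx1) (i := i) (Subgroup.mem_centralizer_singleton_iff.mpr ?_) hi
      exact commute_of_mem_nilpotent hH.1 (pPart_le _ _ hu) hxH
        (coprime_orderOf_of_prime_ne hq hp hqp hi
          (show x ^ p ^ 1 = 1 by rw [pow_one, ← ho, pow_orderOf_eq_one]))
    rw [hsub H₁ h₁ hx.1 hd, hsub H₂ h₂ hx.2 (hcard ▸ hd)]
  have hxk : x ^ k ∈ H₁ ⊓ H₂ := Subgroup.pow_mem _ hxH k
  -- another prime divisor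
  obtain ⟨q, hq, hqp, hd⟩ : ∃ q : ℕ, q.Prime ∧ q ≠ p ∧ q ∣ Nat.card H₁ := by
    by_contra h
    simp only [not_exists, not_and] at h
    have : Nat.card H₁ ≠ 1 := fun h1 => hx1 (by
      simpa using (Subgroup.card_eq_one.mp h1 ▸ hxH.1 : x ∈ (⊥ : Subgroup G)))
    exact hpp (isPrimePow_iff_unique_prime_dvd.mpr ⟨p, ⟨hp, hk ▸ Subgroup.orderOf_dvd_natCard H₁ hxk.1⟩,
      fun y hy => by_contra fun hne' => h y hy.1 hne' hy.2⟩)
  have := Fact.mk hq
  have heq := key p hp _ hxk hk q hq hqp hd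
  obtain ⟨x', hx', hx'o, -⟩ := exists_central_of_dvd h₁.1 hd
  have hx'2 : x' ∈ H₁ ⊓ H₂ := ⟨hx', pPart_le q H₂ (heq ▸ mem_pPart h₁.1 hx' (i := 1)
    (by rw [pow_one, ← hx'o, pow_orderOf_eq_one]))⟩
  refine (h₁.2 H₂ h₂.1 ?_).symm
  rw [← iSup_pPart h₁.1]
  refine iSup_le fun r => ?_
  by_cases hrd : (r : ℕ) ∣ Nat.card H₁
  · by_cases hrp : (r : ℕ) = p
    · rw [key q hq x' hx'2 hx'o r r.2 (hrp ▸ Ne.symm hqp) hrd]; exact pPart_le _ _
    · rw [key p hp _ hxk hk r r.2 hrp hrd]; exact pPart_le _ _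
  · intro u hu
    obtain ⟨i, hi⟩ := exists_pow_eq_one_of_mem_pPart hu
    obtain ⟨l, -, hl⟩ := (Nat.dvd_prime_pow r.2).mp (orderOf_dvd_of_pow_eq_one hi)
    rcases Nat.eq_zero_or_pos l with h0 | h0
    · rw [h0, pow_zero, orderOf_eq_one_iff] at hl
      rw [hl]; exact one_mem _
    · exact absurd ((hl ▸ dvd_pow_self _ h0.ne' : (r : ℕ) ∣ orderOf u).trans
        (Subgroup.orderOf_dvd_natCard H₁ (pPart_le _ _ hu))) hrd

/-- A Frobenius complement of a CN-group is nilpotent. -/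
theorem isNilpotent_of_isFrobeniusComplement {E : Subgroup G} (hE : Cfsg.IsFrobeniusComplement E) :
    Group.IsNilpotent E := by
  obtain ⟨V, φ, hV, hV1, -, hfpf⟩ := CfsgLib.Solvable.exists_fpf_abelian hE
  have : Nontrivial E := (Subgroup.nontrivial_iff_ne_bot E).mpr hE.1
  have : Nontrivial V := (Subgroup.nontrivial_iff_ne_bot V).mpr hV1
  let _ : CommGroup V := { (inferInstance : Group V) with mul_comm := fun a b => hV.is_comm.comm a b }
  obtain ⟨⟨z, hz⟩, hz1⟩ := Subgroup.ne_bot_iff_exists_ne_one.mp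
    (CfsgLib.Solvable.center_ne_bot_of_fpf φ hfpf)
  refine isNilpotent_of_le (hCN (z : G) (fun h => hz1 (Subtype.ext (Subtype.ext h)))) fun x hx => ?_
  exact Subgroup.mem_centralizer_singleton_iff.mpr
    (congrArg Subtype.val (Subgroup.mem_center_iff.mp hz ⟨x, hx⟩))

/-- A non-nilpotent CN-group with a normal Sylow subgroup is a Frobenius group over `F_H`. -/
theorem frobenius_of_normal_sylow (hnn : ¬ Group.IsNilpotent G) {p : ℕ} [hp : Fact p.Prime] (P : Sylow p G)
    (hP1 : (P : Subgroup G) ≠ ⊥) (hPn : (P : Subgroup G).Normal) :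
    Cfsg.fittingHall G ≠ ⊥ ∧ Cfsg.fittingHall G ≠ ⊤ ∧
      (∃ E : Subgroup G, Subgroup.IsComplement' (Cfsg.fittingHall G) E ∧ Cfsg.IsFrobeniusComplement E ∧
        ∀ e ∈ E, e ≠ 1 → Cfsg.fittingHall G ⊓ Subgroup.centralizer ({e} : Set G) = ⊥) ∧
      Group.IsNilpotent (G ⧸ Cfsg.fittingHall G) := by
  set H := Cfsg.fittingHall G with hH
  obtain ⟨hHnil, hHcop⟩ := fittingHall_spec G
  rw [← hH] at hHnil hHcop
  have hPH : (P : Subgroup G) ≤ H := by
    refine le_sSup ⟨hPn, P.2.isNilpotent, ?_⟩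
    obtain ⟨n, hn⟩ := IsPGroup.iff_card.mp P.2
    rw [hn]
    exact (hp.out.coprime_iff_not_dvd.mpr P.not_dvd_index).pow_left n
  have hH1 : H ≠ ⊥ := fun h => hP1 (le_bot_iff.mp (h ▸ hPH))
  have hH2 : H ≠ ⊤ := fun h => hnn (by
    rw [h] at hHnil
    exact (Group.isNilpotent_congr Subgroup.topEquiv).mp hHnil)
  obtain ⟨E, hE⟩ := Subgroup.exists_right_complement'_of_coprime hHcop
  have hcard : (Nat.card E).Coprime (Nat.card H) := by
    rw [← hE.symm.index_eq_card]; exact hHcop.symm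
  have hfpf : ∀ e ∈ E, e ≠ 1 → H ⊓ Subgroup.centralizer ({e} : Set G) = ⊥ := by
    intro e he he1
    by_contra hne
    obtain ⟨⟨h, hhH, hhe⟩, hh⟩ := Subgroup.ne_bot_iff_exists_ne_one.mp hne
    have hh1 : h ≠ 1 := fun h' => hh (Subtype.ext h')
    obtain ⟨r, hr, l, hl⟩ := exists_pow_orderOf_prime he1
    obtain ⟨q, hq, k, hk⟩ := exists_pow_orderOf_prime hh1
    have := Fact.mk hr
    have := Fact.mk hq
    set e' := e ^ l
    set h' := h ^ k
    have he' : e' ∈ E := E.pow_mem he l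
    have hh' : h' ∈ H := H.pow_mem hhH k
    have hcomm : h' * e' = e' * h' :=
      (((show Commute h e from Subgroup.mem_centralizer_singleton_iff.mp hhe).pow_left k).pow_right l).eq
    have hh'1 : h' ≠ 1 := fun h0 => hq.one_lt.ne (by rw [← hk, h0, orderOf_one])
    have hrq : ∀ t : ℕ, t ∣ Nat.card H → r ≠ t := fun t ht hrt => hr.one_lt.ne'
      (Nat.eq_one_of_dvd_coprimes hcard (hl ▸ Subgroup.orderOf_dvd_natCard E he') (hrt ▸ ht))
    have hqd : q ∣ Nat.card H := hk ▸ Subgroup.orderOf_dvd_natCard H hh'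
    obtain ⟨z, hzH, hzo, hzc⟩ := exists_central_of_dvd hHnil hqd
    have hz1 : z ≠ 1 := fun h0 => hq.one_lt.ne (by rw [← hzo, h0, orderOf_one])
    have hez : e' * z = z * e' := commute_of_mem_nilpotent (hCN h' hh'1)
      (Subgroup.mem_centralizer_singleton_iff.mpr hcomm.symm)
      (Subgroup.mem_centralizer_singleton_iff.mpr (hzc h' hh').symm)
      (by rw [hl, hzo]; exact (Nat.coprime_primes hr hq).mpr (hrq q hqd))
    have heC : e' ∈ Subgroup.centralizer (H : Set G) := by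
      refine le_centralizer_of_forall_prime_power hHnil fun t ht u hu => ?_
      refine commute_of_mem_nilpotent (hCN z hz1) (Subgroup.mem_centralizer_singleton_iff.mpr hez)
        (Subgroup.mem_centralizer_singleton_iff.mpr (hzc u (pPart_le _ _ hu))) ?_
      exact (hcard.coprime_dvd_left (Subgroup.orderOf_dvd_natCard E he')).coprime_dvd_right
        (Subgroup.orderOf_dvd_natCard H (pPart_le _ _ hu))
    set C := Subgroup.centralizer (H : Set G)
    have hCn : C.Normal := Subgroup.normal_centralizer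
    have hCnil : Group.IsNilpotent C := isNilpotent_of_le (hCN h' hh'1) fun x hx =>
      Subgroup.mem_centralizer_singleton_iff.mpr (hx h' hh').symm
    set F := pPart r C
    have hFn : F.Normal := Subgroup.normalizer_eq_top_iff.mp
      (top_le_iff.mp ((Subgroup.normalizer_eq_top C).ge.trans (normalizer_le_normalizer_pPart r C)))
    have heF : e' ∈ F := mem_pPart hCnil heC (i := 1) (by rw [pow_one, ← hl, pow_orderOf_eq_one])
    have he'1 : e' ≠ 1 := fun h0 => hr.one_lt.ne (by rw [← hl, h0, orderOf_one])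
    obtain ⟨S, hS⟩ := (pPart_isPGroup r C).exists_le_sylow
    have : Group.IsNilpotent (S : Subgroup G) := S.2.isNilpotent
    obtain ⟨⟨⟨z', hz'S⟩, hz'F, hz'Z⟩, hz'⟩ := Subgroup.ne_bot_iff_exists_ne_one.mp
      (CfsgLib.Solvable.normal_inf_center_ne_bot (F.subgroupOf (S : Subgroup G)) (fun h0 => by
        have h1 : (⟨e', hS heF⟩ : (S : Subgroup G)) ∈ F.subgroupOf (S : Subgroup G) := heF
        rw [h0, Subgroup.mem_bot] at h1
        exact he'1 (congrArg Subtype.val h1)))
    have hz'1 : z' ≠ 1 := fun h0 => hz' (Subtype.ext (Subtype.ext h0))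
    have hSC : (S : Subgroup G) ≤ C := by
      intro s hs
      refine le_centralizer_of_forall_prime_power hHnil fun t ht u hu => ?_
      obtain ⟨i, hi⟩ := S.2 ⟨s, hs⟩
      refine commute_of_mem_nilpotent (hCN z' hz'1)
        (Subgroup.mem_centralizer_singleton_iff.mpr
          (congrArg Subtype.val (Subgroup.mem_center_iff.mp hz'Z ⟨s, hs⟩)))
        (Subgroup.mem_centralizer_singleton_iff.mpr (pPart_le r C hz'F u (pPart_le _ _ hu))) ?_
      refine (hcard.coprime_dvd_left ?_).coprime_dvd_right (Subgroup.orderOf_dvd_natCard H (pPart_le _ _ hu))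
      obtain ⟨m, -, hm⟩ := (Nat.dvd_prime_pow hr).mp
        (orderOf_dvd_of_pow_eq_one (congrArg Subtype.val hi : s ^ r ^ i = 1))
      have hrE : (Nat.card E) ≠ 0 := Nat.card_pos.ne'
      rw [hm]
      refine (Nat.Coprime.dvd_of_dvd_mul_left (Nat.Coprime.pow_left m
        ((Nat.Prime.coprime_iff_not_dvd hr).mpr fun hd => hrq r hd rfl)) ?_)
      rw [hE.card_mul]
      exact hm ▸ orderOf_dvd_natCard s
    have hSF : (S : Subgroup G) = F := le_antisymm (fun s hs => by
      obtain ⟨i, hi⟩ := S.2 ⟨s, hs⟩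
      exact mem_pPart hCnil (hSC hs) (congrArg Subtype.val hi)) hS
    have hFH : F ≤ H := by
      refine le_sSup ⟨hFn, (pPart_isPGroup r C).isNilpotent, ?_⟩
      obtain ⟨n, hn⟩ := IsPGroup.iff_card.mp S.2
      rw [← hSF, hn]
      exact (hr.coprime_iff_not_dvd.mpr S.not_dvd_index).pow_left n
    exact he'1 (Subgroup.disjoint_def.mp hE.disjoint (hFH heF) he')
  have hE1 : E ≠ ⊥ := fun h0 => hH2 (by
    rw [h0] at hE
    exact Subgroup.isComplement'_bot_right.mp hE)
  have hFC := (CfsgLib.Solvable.isFrobeniusComplement_iff_fpf hE hH1 hE1).mpr hfpf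
  refine ⟨hH1, hH2, ⟨E, hE, hFC, hfpf⟩, ?_⟩
  have hnil := isNilpotent_map (QuotientGroup.mk' H) (isNilpotent_of_isFrobeniusComplement hCN hFC)
  have htop : E.map (QuotientGroup.mk' H) = ⊤ := by
    have h2 := congrArg (Subgroup.map (QuotientGroup.mk' H)) hE.sup_eq_top
    rwa [Subgroup.map_sup, QuotientGroup.map_mk'_self, bot_sup_eq,
      Subgroup.map_top_of_surjective _ (QuotientGroup.mk'_surjective H)] at h2
  rw [htop] at hnil
  exact (Group.isNilpotent_congr Subgroup.topEquiv).mp hnil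

end CfsgLib.OddLocal
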