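import Cfsg.Agent.Lib.OddLocal.Metacyclic
import Cfsg.Agent.Lib.Transfer.ClassThree
import Mathlib.GroupTheory.Sylow

/-!
Coprime action with `[R, A] = R` on a `p`-group, `p > 3`, all of whose subgroups of exponent `p`
have order at most `p²`: such a group is abelian.
-/

set_option autoImplicit false

open Subgroup
open scoped commutatorElement

namespace CfsgLib.OddLocal

universe u v

/-- In a group of order dividing `p³`, commutators are central. -/
theorem commutator_mem_center_of_card_cube {L : Type*} [Group L] [Finite L] {p : ℕ} [Fact p.Prime]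
    (hL : IsPGroup p L) (h3 : Nat.card L ≤ p ^ 3) (a b : L) : ⁅a, b⁆ ∈ center L := by
  have hpr := (Fact.out : p.Prime)
  obtain ⟨n, hn⟩ := IsPGroup.iff_card.1 hL
  rcases Nat.eq_zero_or_pos n with rfl | hn0
  · haveI : Subsingleton L := (Nat.card_eq_one_iff_unique.1 (by simpa using hn)).1
    rw [Subsingleton.elim ⁅a, b⁆ 1]; exact one_mem _
  haveI : Nontrivial L := Finite.one_lt_card_iff_nontrivial.1 (hn ▸ Nat.one_lt_pow hn0.ne' hpr.one_lt)
  haveI := hL.center_nontrivial
  obtain ⟨k, hk⟩ := IsPGroup.iff_card.1 (hL.to_quotient (center L))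
  obtain ⟨l, hl⟩ := IsPGroup.iff_card.1 (hL.to_subgroup (center L))
  have hl0 : l ≠ 0 := by
    rintro rfl
    exact (Finite.one_lt_card (α := center L)).ne' (by rw [hl, pow_zero])
  have h1 := card_eq_card_quotient_mul_card_subgroup (center L)
  rw [hn, hk, hl, ← pow_add] at h1
  have h2 := Nat.pow_right_injective hpr.two_le h1
  rw [hn] at h3
  have h4 := (Nat.pow_le_pow_iff_right hpr.one_lt).1 h3
  have hc : ∀ u v : L ⧸ center L, u * v = v * u := by
    have : k = 0 ∨ k = 1 ∨ k = 2 := by omega
    rcases this with rfl | rfl | rfl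
    · haveI : Subsingleton (L ⧸ center L) := (Nat.card_eq_one_iff_unique.1 (by simpa using hk)).1
      exact fun u v => Subsingleton.elim _ _
    · haveI : IsCyclic (L ⧸ center L) := isCyclic_of_prime_card (by simpa using hk)
      exact (IsCyclic.commGroup).mul_comm
    · exact IsPGroup.commutative_of_card_eq_prime_sq hk
  rw [← QuotientGroup.eq_one_iff, ← QuotientGroup.mk'_apply, map_commutatorElement,
    commutatorElement_eq_one_iff_mul_comm]
  exact hc _ _

/-- If `L/Z` has class two and exponent `p > 3`, with `Z` central of exponent `p`, then `x ↦ x^p`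
is multiplicative on `L`. -/
theorem mul_pow_of_quotient {L : Type*} [Group L] {p : ℕ} [Fact p.Prime] (hp3 : 3 < p) {Z : Subgroup L}
    (hZc : ∀ z ∈ Z, ∀ g : L, z * g = g * z) (hZp : ∀ z ∈ Z, z ^ p = 1)
    (hpow : ∀ x : L, x ^ p ∈ Z) (hcl : ∀ x y w : L, ⁅⁅x, y⁆, w⁆ ∈ Z) (x y : L) :
    (x * y) ^ p = x ^ p * y ^ p := by
  have hpr := (Fact.out : p.Prime)
  have hcen : ∀ z ∈ Z, z ∈ center L := fun z hz => mem_center_iff.2 fun g => (hZc z hz g).symm
  obtain ⟨k, hk⟩ := Nat.Prime.dvd_choose_self hpr (k := 2) (by norm_num) (by omega)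
  obtain ⟨l, hl⟩ : p ∣ (p + 1).choose 3 := by
    have h2 : (p + 1).choose 3 = p.choose 2 + p.choose 3 := Nat.choose_succ_succ p 2
    rw [h2]
    exact dvd_add ⟨k, hk⟩ (Nat.Prime.dvd_choose_self hpr (by norm_num) hp3)
  have hd : ∀ a b w : L, ⁅⁅a, b⁆, w⁆ ^ p = 1 := fun a b w => hZp _ (hcl a b w)
  -- commutators have order dividing `p`
  have hcomm : ∀ a b : L, ⁅a, b⁆ ^ p = 1 := by
    intro a b
    have e : a * b * a⁻¹ = ⁅a, b⁆ * b := by rw [commutatorElement_def]; group
    have h1 : (a * b * a⁻¹) ^ p = b ^ p := by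
      rw [conj_pow, ← hZc _ (hpow b) a, mul_inv_cancel_right]
    rw [e, CfsgLib.Transfer.mul_pow_class_three (hcen _ (hcl _ _ _)) (hcen _ (hcl _ _ _))] at h1
    have hc2 : ⁅b, ⁅a, b⁆⁆ ^ p = 1 := by
      rw [show ⁅b, ⁅a, b⁆⁆ = ⁅⁅a, b⁆, b⁆⁻¹ from (commutatorElement_inv _ _).symm, inv_pow, hd, inv_one]
    rw [hk, hl, pow_mul, hc2, pow_mul, hd, show 2 * (p * l) = p * (2 * l) by ring, pow_mul, hd] at h1
    simp only [one_pow, mul_one] at h1
    exact mul_eq_right.1 h1
  rw [CfsgLib.Transfer.mul_pow_class_three (hcen _ (hcl _ _ _)) (hcen _ (hcl _ _ _)),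
    hk, hl, pow_mul, hcomm, pow_mul, hd, show 2 * (p * l) = p * (2 * l) by ring, pow_mul, hd]
  simp

/-- The automorphism of a quotient by an invariant subgroup. -/
theorem exists_quotient_action {R : Type u} {A : Type v} [Group R] [Finite R] [Group A]
    (φ : A →* MulAut R) (N : Subgroup R) [N.Normal] (hinv : ∀ a : A, ∀ z ∈ N, φ a z ∈ N) :
    ∃ ψ : A →* MulAut (R ⧸ N), ∀ (a : A) (x : R), ψ a (x : R ⧸ N) = ((φ a x : R) : R ⧸ N) := by
  have heq : ∀ a : A, N.map (φ a).toMonoidHom = N := fun a =>
    eq_of_le_of_card_ge (by rintro _ ⟨z, hz, rfl⟩; exact hinv a z hz)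
      (le_of_eq (card_map_of_injective (φ a).injective).symm)
  refine ⟨
    { toFun := fun a => QuotientGroup.congr N N (φ a) (heq a)
      map_one' := ?_
      map_mul' := fun a b => ?_ }, fun a x => rfl⟩
  · ext x
    obtain ⟨x, rfl⟩ := QuotientGroup.mk_surjective x
    show ((φ 1 x : R) : R ⧸ N) = _
    rw [map_one]; rfl
  · ext x
    obtain ⟨x, rfl⟩ := QuotientGroup.mk_surjective x
    show ((φ (a * b) x : R) : R ⧸ N) = _
    rw [map_mul]; rfl

/-- `p > 3`, every subgroup of exponent `p` has order at most `p²`, and `[R, A] = R`: `R` is abelian. -/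
theorem commute_of_small_omega {p : ℕ} [Fact p.Prime] (hp3 : 3 < p) {A : Type v} [Group A] [Finite A] :
    ∀ (R : Type u) [Group R] [Finite R], IsPGroup p R → ∀ (φ : A →* MulAut R),
      (Nat.card A).Coprime (Nat.card R) →
      closure {x : R | ∃ a : A, ∃ z : R, φ a z * z⁻¹ = x} = ⊤ →
      (∀ E : Subgroup R, (∀ x ∈ E, x ^ p = 1) → Nat.card E ≤ p ^ 2) →
      ∀ g h : R, Commute g h := by
  suffices key : ∀ (n : ℕ) (R : Type u) [Group R] [Finite R], Nat.card R = n → IsPGroup p R →
      ∀ (φ : A →* MulAut R), (Nat.card A).Coprime (Nat.card R) →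
      closure {x : R | ∃ a : A, ∃ z : R, φ a z * z⁻¹ = x} = ⊤ →
      (∀ E : Subgroup R, (∀ x ∈ E, x ^ p = 1) → Nat.card E ≤ p ^ 2) →
      ∀ g h : R, Commute g h from fun R _ _ => key _ R rfl
  intro n
  induction n using Nat.strong_induction_on with
  | _ n ih =>
    intro R _ _ hn hR φ hcop hgen hsmall g h
    have hpr := (Fact.out : p.Prime)
    by_cases hR1 : Nat.card R = 1
    · haveI : Subsingleton R := (Nat.card_eq_one_iff_unique.1 hR1).1
      exact Subsingleton.elim _ _
    haveI : Nontrivial R := Finite.one_lt_card_iff_nontrivial.1 (by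
      have := Nat.card_pos (α := R); omega)
    -- the central subgroup
    let Z0 : Subgroup R :=
      { carrier := {z | z ∈ center R ∧ z ^ p = 1}
        one_mem' := ⟨one_mem _, one_pow p⟩
        mul_mem' := fun {a b} ha hb => ⟨mul_mem ha.1 hb.1, by
          rw [(show Commute a b from mem_center_iff.1 hb.1 a).mul_pow, ha.2, hb.2, one_mul]⟩
        inv_mem' := fun {a} ha => ⟨inv_mem ha.1, by rw [inv_pow, ha.2, inv_one]⟩ }
    have hZc : ∀ z ∈ Z0, ∀ w : R, z * w = w * z := fun z hz w => (mem_center_iff.1 hz.1 w).symm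
    haveI hZn : Z0.Normal := ⟨fun z hz w => by rwa [← hZc z hz w, mul_inv_cancel_right]⟩
    have hZne : Z0 ≠ ⊥ := by
      haveI := hR.center_nontrivial
      obtain ⟨k, hk⟩ := IsPGroup.iff_card.1 (hR.to_subgroup (center R))
      have hk0 : k ≠ 0 := by
        rintro rfl
        exact (Finite.one_lt_card (α := center R)).ne' (by rw [hk, pow_zero])
      obtain ⟨z, hz⟩ := exists_prime_orderOf_dvd_card' (G := center R) p (hk ▸ dvd_pow_self p hk0)
      rw [← Subgroup.orderOf_coe] at hz
      intro he
      have : (z : R) ∈ Z0 := ⟨z.2, hz ▸ pow_orderOf_eq_one _⟩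
      rw [he, mem_bot] at this
      rw [this, orderOf_one] at hz
      exact hpr.ne_one hz.symm
    have hZinv : ∀ a : A, ∀ z ∈ Z0, φ a z ∈ Z0 := fun a z hz =>
      ⟨mem_center_iff.2 fun w => by
        obtain ⟨w, rfl⟩ := (φ a).surjective w
        rw [← map_mul, ← map_mul, mem_center_iff.1 hz.1 w], by rw [← map_pow, hz.2, map_one]⟩
    obtain ⟨ψ, hψ⟩ := exists_quotient_action φ Z0 hZinv
    set f := QuotientGroup.mk' Z0
    have hfs : Function.Surjective f := QuotientGroup.mk'_surjective Z0
    have hlt : Nat.card (R ⧸ Z0) < n := by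
      rw [← hn, card_eq_card_quotient_mul_card_subgroup Z0]
      exact lt_mul_of_one_lt_right Nat.card_pos ((one_lt_card_iff_ne_bot Z0).2 hZne)
    have hcop' : (Nat.card A).Coprime (Nat.card (R ⧸ Z0)) :=
      hcop.coprime_dvd_right (card_quotient_dvd_card Z0)
    have hgen' : closure {x : R ⧸ Z0 | ∃ a : A, ∃ z : R ⧸ Z0, ψ a z * z⁻¹ = x} = ⊤ := by
      rw [eq_top_iff, ← map_top_of_surjective f hfs, ← hgen, MonoidHom.map_closure]
      refine closure_mono ?_
      rintro _ ⟨_, ⟨a, z, rfl⟩, rfl⟩
      exact ⟨a, (z : R ⧸ Z0), by rw [hψ]; rfl⟩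
    have hsmall' : ∀ E : Subgroup (R ⧸ Z0), (∀ x ∈ E, x ^ p = 1) → Nat.card E ≤ p ^ 2 := by
      intro E hE
      by_contra hbig
      obtain ⟨e, he⟩ := IsPGroup.iff_card.1 ((hR.to_quotient Z0).to_subgroup E)
      have he3 : 3 ≤ e := by
        rw [he] at hbig
        by_contra hc
        exact hbig (Nat.pow_le_pow_right hpr.pos (by omega))
      obtain ⟨E', hE'⟩ := Sylow.exists_subgroup_card_pow_prime (G := E) p (n := 3) (he ▸ pow_dvd_pow p he3)
      set F := E'.map E.subtype with hF
      have hFc : Nat.card F = p ^ 3 := by rw [hF, card_map_of_injective E.subtype_injective, hE']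
      have hFp : ∀ x ∈ F, x ^ p = 1 := by rintro _ ⟨x, -, rfl⟩; exact hE _ x.2
      set L := F.comap f with hL
      have hfL : ∀ x : L, f x ∈ F := fun x => x.2
      let ZL : Subgroup L := Z0.subgroupOf L
      have hclF : ∀ a b : F, ⁅a, b⁆ ∈ center F := fun a b =>
        commutator_mem_center_of_card_cube ((hR.to_quotient Z0).to_subgroup F) hFc.le a b
      have hcl : ∀ a b w : L, ⁅⁅a, b⁆, w⁆ ∈ ZL := by
        intro a b w
        rw [mem_subgroupOf, ← QuotientGroup.eq_one_iff]
        have h := mem_center_iff.1 (hclF ⟨_, hfL a⟩ ⟨_, hfL b⟩) ⟨_, hfL w⟩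
        show f ((⁅⁅a, b⁆, w⁆ : L) : R) = 1
        rw [show ((⁅⁅a, b⁆, w⁆ : L) : R) = ⁅⁅(a : R), (b : R)⁆, (w : R)⁆ from rfl, map_commutatorElement,
          map_commutatorElement, commutatorElement_eq_one_iff_mul_comm]
        exact (congrArg Subtype.val h).symm
      have hpow : ∀ x : L, x ^ p ∈ ZL := fun x => by
        rw [mem_subgroupOf, SubgroupClass.coe_pow, ← QuotientGroup.eq_one_iff, QuotientGroup.mk_pow]
        exact hFp _ (hfL x)
      let P : L →* Z0 :=
        { toFun := fun x => ⟨((x ^ p : L) : R), hpow x⟩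
          map_one' := Subtype.ext (by simp)
          map_mul' := fun x y => Subtype.ext (congrArg (fun t : L => (t : R))
            (mul_pow_of_quotient hp3 (Z := ZL) (fun z hz w => Subtype.ext (hZc _ hz w))
              (fun z hz => Subtype.ext (hz.2)) hpow hcl x y)) }
      have hker : Nat.card P.ker ≤ p ^ 2 := by
        rw [← card_map_of_injective (f := L.subtype) (K := P.ker) L.subtype_injective]
        refine hsmall _ ?_
        rintro _ ⟨x, hx, rfl⟩
        exact congrArg Subtype.val (MonoidHom.mem_ker.1 hx)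
      have hLc : Nat.card L = p ^ 3 * Nat.card Z0 := by
        let fL : L →* F := (f.comp L.subtype).codRestrict F hfL
        have hsurj : Function.Surjective fL := fun y => by
          obtain ⟨x, hx⟩ := hfs y
          exact ⟨⟨x, by rw [hL, mem_comap, hx]; exact y.2⟩, Subtype.ext hx⟩
        have hk : fL.ker = ZL := by
          ext x
          rw [MonoidHom.mem_ker, mem_subgroupOf, ← QuotientGroup.eq_one_iff]
          exact Subtype.ext_iff
        rw [← fL.ker.card_mul_index, Subgroup.index_ker, MonoidHom.range_eq_top.2 hsurj, card_top, hFc, hk,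
          mul_comm]
        congr 1
        refine Nat.card_congr (subgroupOfEquivOfLe ?_).toEquiv
        intro z hz
        rw [hL, mem_comap, show f z = 1 from (QuotientGroup.eq_one_iff z).2 hz]
        exact F.one_mem
      have h2 : Nat.card L ≤ p ^ 2 * Nat.card Z0 := by
        rw [← P.ker.card_mul_index, Subgroup.index_ker]
        exact Nat.mul_le_mul hker (card_le_card_group _)
      rw [hLc] at h2
      exact absurd (Nat.le_of_mul_le_mul_right h2 Nat.card_pos)
        (not_le.2 (Nat.pow_lt_pow_right hpr.one_lt (by norm_num)))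
    have hab := ih _ hlt (R ⧸ Z0) rfl (hR.to_quotient Z0) ψ hcop' hgen' hsmall'
    -- commutators lie in `Z0`
    have hc : ∀ x y : R, ⁅x, y⁆ ∈ Z0 := fun x y => by
      rw [← QuotientGroup.eq_one_iff]
      show f ⁅x, y⁆ = 1
      rw [map_commutatorElement, commutatorElement_eq_one_iff_mul_comm]
      exact (hab _ _).eq
    have hcl : ∀ x y : R, ⁅x, y⁆ ∈ center R := fun x y => (hc x y).1
    let P : R →* center R :=
      { toFun := fun x => ⟨x ^ p, mem_center_iff.2 fun w => by
          refine (commutatorElement_eq_one_iff_mul_comm.1 ?_).symm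
          rw [CfsgLib.Transfer.commutatorElement_pow_left hcl, (hc x w).2]⟩
        map_one' := Subtype.ext (one_pow p)
        map_mul' := fun x y => Subtype.ext
          (CfsgLib.Transfer.mul_pow_prime_class_two hcl hpr (by omega) x y (hc y x).2) }
    have hker : Nat.card P.ker ≤ p ^ 2 := hsmall _ fun x hx => congrArg Subtype.val (MonoidHom.mem_ker.1 hx)
    set U := P.range.map (center R).subtype with hU
    have hUc : Nat.card U * Nat.card P.ker = Nat.card R := by
      rw [hU, card_map_of_injective (subtype_injective _), ← Subgroup.index_ker, mul_comm, card_mul_index]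
    haveI hUn : U.Normal := ⟨fun z hz w => by
      obtain ⟨⟨z, hz'⟩, -, rfl⟩ := id hz
      rwa [Subgroup.coe_subtype, mem_center_iff.1 hz' w, mul_inv_cancel_right]⟩
    have hUcen : U ≤ center R := map_subtype_le _
    have hpowU : ∀ x : R, x ^ p ∈ U := fun x => ⟨P x, ⟨x, rfl⟩, rfl⟩
    have hQ : Nat.card (R ⧸ U) ≤ p ^ 2 := by
      have h1 := card_eq_card_quotient_mul_card_subgroup U
      rw [← hUc, mul_comm] at h1
      exact (Nat.eq_of_mul_eq_mul_right Nat.card_pos h1).symm.le.trans hker
    obtain ⟨q, hq⟩ := IsPGroup.iff_card.1 (hR.to_quotient U)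
    have hq2 : q ≤ 2 := (Nat.pow_le_pow_iff_right hpr.one_lt).1 (hq ▸ hQ)
    by_cases hcyc : IsCyclic (R ⧸ U)
    · exact commutative_of_cyclic_center_quotient (QuotientGroup.mk' U) (by simpa using hUcen) g h
    have hq2' : q = 2 := by
      by_contra hne
      apply hcyc
      have : q = 0 ∨ q = 1 := by omega
      rcases this with rfl | rfl
      · haveI : Subsingleton (R ⧸ U) := (Nat.card_eq_one_iff_unique.1 (by simpa using hq)).1
        infer_instance
      · exact isCyclic_of_prime_card (by simpa using hq)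
    subst hq2'
    have hRU : ∀ a b : R, ⁅a, b⁆ ∈ U := fun a b => by
      rw [← QuotientGroup.eq_one_iff, ← QuotientGroup.mk'_apply, map_commutatorElement,
        commutatorElement_eq_one_iff_mul_comm]
      exact IsPGroup.commutative_of_card_eq_prime_sq hq _ _
    by_contra hgh
    -- `c` generates the derived group
    have hne : ¬ ∀ a b : R, ⁅a, b⁆ = 1 := fun h1 => hgh (commutatorElement_eq_one_iff_mul_comm.1 (h1 g h))
    set c := ⁅g, h⁆ with hcdef
    have hc1 : c ≠ 1 := fun h1 => hgh (commutatorElement_eq_one_iff_mul_comm.1 h1)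
    -- a maximal root of `c`
    obtain ⟨x, k, hxk, hxU⟩ : ∃ x : R, ∃ k : ℕ, x ^ p ^ k = c ∧ x ∉ U := by
      by_contra hne'
      push Not at hne'
      have hall : ∀ k : ℕ, ∃ x : R, x ^ p ^ k = c := by
        intro k
        induction k with
        | zero => exact ⟨c, by rw [pow_zero, pow_one]⟩
        | succ k ihk =>
          obtain ⟨x, hx⟩ := ihk
          obtain ⟨⟨w, hw⟩, ⟨v, hv⟩, hwx⟩ := hne' x k hx
          refine ⟨v, ?_⟩
          have : v ^ p = x := (congrArg Subtype.val hv).trans hwx
          rw [pow_succ', pow_mul, this, hx]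
      obtain ⟨N, hN⟩ := IsPGroup.iff_card.1 hR
      obtain ⟨x, hx⟩ := hall N
      rw [← hN, pow_card_eq_one'] at hx
      exact hc1 hx.symm
    -- two generators
    have hexpQ : ∀ v : R ⧸ U, v ^ p = 1 := fun v => by
      obtain ⟨v, rfl⟩ := QuotientGroup.mk_surjective v
      rw [← QuotientGroup.mk_pow, QuotientGroup.eq_one_iff]
      exact hpowU v
    have hxne : ((x : R) : R ⧸ U) ≠ 1 := fun h1 => hxU ((QuotientGroup.eq_one_iff x).1 h1)
    have hxo : orderOf ((x : R) : R ⧸ U) = p := orderOf_eq_prime (hexpQ _) hxne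
    obtain ⟨y, hy⟩ : ∃ y : R, (y : R ⧸ U) ∉ zpowers ((x : R) : R ⧸ U) := by
      by_contra hall
      push Not at hall
      apply hcyc
      exact ⟨⟨_, fun v => by obtain ⟨v, rfl⟩ := QuotientGroup.mk_surjective v; exact hall v⟩⟩
    set H := closure ({x, y} : Set R) with hH
    have hHtop : H = ⊤ := by
      by_contra hne'
      obtain ⟨M, hM, hHM⟩ := (eq_top_or_exists_le_coatom H).resolve_left hne'
      have hUM : U ≤ M := by
        rintro _ ⟨w, ⟨v, rfl⟩, rfl⟩
        exact frattini_le_coatom hM (CfsgLib.Transfer.pow_mem_frattini hR v)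
      apply hM.1
      rw [← comap_map_eq_self (f := QuotientGroup.mk' U) (H := M) (by simpa using hUM), ← comap_top (QuotientGroup.mk' U)]
      congr 1
      refine eq_top_of_le_card _ ?_
      rw [hq]
      set B := M.map (QuotientGroup.mk' U)
      have hlt' : zpowers ((x : R) : R ⧸ U) < B := by
        refine lt_of_le_of_ne (zpowers_le.2 ⟨x, hHM (subset_closure (Or.inl rfl)), rfl⟩) fun he => hy ?_
        rw [he]
        exact ⟨y, hHM (subset_closure (Or.inr rfl)), rfl⟩
      obtain ⟨j, hj⟩ := IsPGroup.iff_card.1 ((hR.to_quotient U).to_subgroup B)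
      have h1 : Nat.card (zpowers ((x : R) : R ⧸ U)) < Nat.card B := by
        refine lt_of_le_of_ne (card_le_of_le hlt'.le) fun he => hlt'.ne (eq_of_le_of_card_ge hlt'.le he.ge)
      rw [Nat.card_zpowers, hxo, hj] at h1
      rw [hj]
      refine Nat.pow_le_pow_right hpr.pos ?_
      have : 1 < j := (Nat.pow_lt_pow_iff_right hpr.one_lt).1 (by rwa [pow_one])
      omega
    -- `N = ⟨x⟩` is normal with cyclic quotient
    have hcx : ∀ a b : R, ⁅a, b⁆ ∈ zpowers ⁅x, y⁆ := by
      intro a b
      let T : Subgroup R :=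
        { carrier := {w | ⁅x, w⁆ ∈ zpowers ⁅x, y⁆ ∧ ⁅y, w⁆ ∈ zpowers ⁅x, y⁆}
          one_mem' := by constructor <;> rw [commutatorElement_one_right] <;> exact one_mem _
          mul_mem' := fun {u v} hu hv => by
            constructor <;> rw [CfsgLib.Transfer.commutatorElement_mul_right hcl]
            · exact mul_mem hu.1 hv.1
            · exact mul_mem hu.2 hv.2
          inv_mem' := fun {u} hu => by
            have e : ∀ s : R, ⁅s, u⁻¹⁆ = ⁅s, u⁆⁻¹ := fun s => by
              rw [eq_inv_iff_mul_eq_one, ← CfsgLib.Transfer.commutatorElement_mul_right hcl,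
                inv_mul_cancel, commutatorElement_one_right]
            constructor <;> rw [e] <;> apply inv_mem
            · exact hu.1
            · exact hu.2 }
      have hT : ∀ w : R, w ∈ T := fun w => by
        have hle : H ≤ T := (closure_le _).2 (by
          intro w hw
          simp only [Set.mem_insert_iff, Set.mem_singleton_iff] at hw
          rcases hw with hw | hw <;> rw [hw]
          · exact ⟨by rw [commutatorElement_self]; exact one_mem _,
              by have h' := inv_mem (mem_zpowers ⁅x, y⁆); rwa [commutatorElement_inv] at h'⟩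
          · exact ⟨mem_zpowers _, by rw [commutatorElement_self]; exact one_mem _⟩)
        exact hle (hHtop ▸ mem_top w)
      let T2 : Subgroup R :=
        { carrier := {w | ⁅w, b⁆ ∈ zpowers ⁅x, y⁆}
          one_mem' := by show ⁅(1 : R), b⁆ ∈ zpowers ⁅x, y⁆; rw [commutatorElement_one_left]; exact one_mem _
          mul_mem' := fun {u v} hu hv => by
            show ⁅u * v, b⁆ ∈ zpowers ⁅x, y⁆
            rw [CfsgLib.Transfer.commutatorElement_mul_left hcl]; exact mul_mem hu hv
          inv_mem' := fun {u} hu => by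
            show ⁅u⁻¹, b⁆ ∈ zpowers ⁅x, y⁆
            have e : ⁅u⁻¹, b⁆ = ⁅u, b⁆⁻¹ := by
              rw [eq_inv_iff_mul_eq_one, ← CfsgLib.Transfer.commutatorElement_mul_left hcl,
                inv_mul_cancel, commutatorElement_one_left]
            rw [e]; exact inv_mem hu }
      have hle : H ≤ T2 := (closure_le _).2 (by
        intro w hw
        simp only [Set.mem_insert_iff, Set.mem_singleton_iff] at hw
        rcases hw with hw | hw <;> rw [hw]
        · exact (hT b).1
        · exact (hT b).2)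
      exact hle (hHtop ▸ mem_top a)
    have hcmem : zpowers ⁅x, y⁆ ≤ zpowers x := by
      have hc' : c ∈ zpowers ⁅x, y⁆ := hcx g h
      have hcp : (⁅x, y⁆) ^ p = 1 := (hc x y).2
      have hne' : ⁅x, y⁆ ≠ 1 := fun h1 => hc1 (by rwa [h1, zpowers_one_eq_bot, mem_bot] at hc')
      have heq : zpowers c = zpowers ⁅x, y⁆ := by
        refine eq_of_le_of_card_ge (zpowers_le.2 hc') ?_
        rw [Nat.card_zpowers, Nat.card_zpowers, orderOf_eq_prime hcp hne', orderOf_eq_prime (hc g h).2 hc1]
      rw [← heq, zpowers_le, ← hxk]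
      exact npow_mem_zpowers x _
    haveI hNn : (zpowers x).Normal := ⟨fun w hw v => by
      have h1 : ⁅v, w⁆ ∈ zpowers x := hcmem (hcx v w)
      have := mul_mem h1 hw
      rwa [commutatorElement_def, inv_mul_cancel_right] at this⟩
    have hmeta : Cfsg.IsMetacyclic R := by
      refine ⟨zpowers x, hNn, inferInstance, ⟨⟨(y : R ⧸ zpowers x), fun v => ?_⟩⟩⟩
      obtain ⟨v, rfl⟩ := QuotientGroup.mk_surjective v
      have hle : H ≤ (zpowers ((y : R) : R ⧸ zpowers x)).comap (QuotientGroup.mk' _) := (closure_le _).2 (by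
        intro w hw
        simp only [Set.mem_insert_iff, Set.mem_singleton_iff] at hw
        rcases hw with hw | hw <;> rw [hw]
        · rw [SetLike.mem_coe, mem_comap]
          rw [show QuotientGroup.mk' (zpowers x) x = 1 from (QuotientGroup.eq_one_iff x).2 (mem_zpowers x)]
          exact one_mem _
        · exact mem_zpowers _)
      exact hle (hHtop ▸ mem_top v)
    exact hgh (commute_of_coprime_action (by omega) hR hmeta φ hcop hgen g h)

end CfsgLib.OddLocal
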