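import Cfsg.Agent.Lib.OddLocal.FittingUnique
import Cfsg.Agent.Lib.Transfer.UniqueOrderP

/-!
Spreading uniqueness among elementary abelian subgroups of rank three; `9.4` of the uniqueness
theorem.
-/

set_option autoImplicit false

open Subgroup
open scoped commutatorElement
open CfsgLib.PLocal (SylowIn conjMap)

namespace CfsgLib.OddLocal

universe u
variable {G : Type u} [Group G] [Finite G] {p : ℕ} [hp : Fact p.Prime]

/-- Uniqueness with the same maximal subgroup passes to abelian centralizing subgroups of rank two. -/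
theorem link_uniqueMax (hG : Cfsg.IsMinSimpleOddOrder G) {L K M : Subgroup G}
    (hL : Cfsg.InUniqueMaximal L) (hLc : IsMulCommutative L) (hM : IsCoatom M) (hLM : L ≤ M)
    (hK : K ≤ centralizer (L : Set G)) (hKr : ¬ Cfsg.PRankLE p 1 K) :
    Cfsg.InUniqueMaximal K ∧ K ≤ M :=
  ⟨inUniqueMax_of_centralizes hG hL hK hKr,
    hK.trans (le_of_inUniqueMax hL hM hLM (le_centralizer_self hLc)
      (minSimple_centralizer_ne_top hG (inUniqueMax_ne_bot hG hL)))⟩

/-- Inside a Sylow subgroup, a normal elementary abelian subgroup of order `p²` centralizes a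
subgroup of rank two of each elementary abelian subgroup of rank three. -/
theorem exists_inner_link {S E0 E : Subgroup G} (hS : IsPGroup p S) (hE0S : E0 ≤ S)
    (hSn : S ≤ normalizer (E0 : Set G)) (hE0 : Nat.card E0 = p ^ 2) (hES : E ≤ S)
    (hEe : Cfsg.IsElementaryAbelian p E) (hE3 : p ^ 3 ≤ Nat.card E) :
    ∃ D : Subgroup G, D ≤ E ∧ D ≤ centralizer (E0 : Set G) ∧ ¬ Cfsg.PRankLE p 1 D := by
  haveI : (E0.subgroupOf S).Normal := (normal_subgroupOf_iff_le_normalizer hE0S).2 hSn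
  have h0 : Nat.card (E0.subgroupOf S) ≤ p ^ 2 := by rw [CfsgLib.Coprime.card_subgroupOf hE0S, hE0]
  set C := centralizer ((E0.subgroupOf S : Subgroup S) : Set S)
  have h := (card_le_card_inf_mul_index (E.subgroupOf S) C).trans
    (Nat.mul_le_mul_left _ (index_centralizer_le_prime hS (E0.subgroupOf S) h0))
  rw [CfsgLib.Coprime.card_subgroupOf hES] at h
  set D₀ := C ⊓ E.subgroupOf S
  have hD2 : p ^ 2 ≤ Nat.card D₀ := Nat.le_of_mul_le_mul_right (by
    calc p ^ 2 * p = p ^ 3 := by ring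
      _ ≤ _ := hE3.trans h) hp.out.pos
  have hDE : D₀.map S.subtype ≤ E := by
    rintro _ ⟨x, hx, rfl⟩
    exact mem_subgroupOf.1 hx.2
  refine ⟨D₀.map S.subtype, hDE, ?_, not_pRankLE_of_le_elemAb (k := 1)
    (CfsgLib.Comp.elemAb_mono hEe hDE) le_rfl
    (by rwa [card_map_of_injective S.subtype_injective])⟩
  rintro _ ⟨x, hx, rfl⟩
  rw [mem_centralizer_iff]
  intro e he
  exact congrArg (fun z : S => (z : G)) (mem_centralizer_iff.1 hx.1 ⟨e, hE0S he⟩ (mem_subgroupOf.2 he))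

/-- Uniqueness spreads from one elementary abelian subgroup of order at least `p³` to all others. -/
theorem spread_rank_three (hG : Cfsg.IsMinSimpleOddOrder G) {E₁ E₂ M : Subgroup G}
    (hE₁ : Cfsg.IsElementaryAbelian p E₁) (h₁3 : p ^ 3 ≤ Nat.card E₁) (hU : Cfsg.InUniqueMaximal E₁)
    (hM : IsCoatom M) (hE₁M : E₁ ≤ M) (hE₂ : Cfsg.IsElementaryAbelian p E₂)
    (h₂3 : p ^ 3 ≤ Nat.card E₂) :
    Cfsg.InUniqueMaximal E₂ ∧ ∃ g : G, E₂ ≤ M.map (MulAut.conj g).toMonoidHom := by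
  have hE₁ne := inUniqueMax_ne_bot hG hU
  have hp2 := ne_two_of_dvd hG (dvd_card_of_pGroup_ne_bot (CfsgLib.Comp.isPGroup_of_elemAb hE₁) hE₁ne)
  obtain ⟨S, hS⟩ := (CfsgLib.Comp.isPGroup_of_elemAb hE₁).exists_le_sylow
  obtain ⟨T, hT⟩ := (CfsgLib.Comp.isPGroup_of_elemAb hE₂).exists_le_sylow
  obtain ⟨g, rfl⟩ := MulAction.exists_smul_eq G S T
  obtain ⟨E0, hE0n, hE0e, hE0c⟩ := exists_normal_elementary_sq hp2 S.2
    (not_pRankLE_of_le_elemAb (k := 2) hE₁ hS h₁3)
  set E0' := E0.map (S : Subgroup G).subtype with hE0'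
  have hE0S : E0' ≤ (S : Subgroup G) := map_subtype_le _
  have hE0card : Nat.card E0' = p ^ 2 := by
    rw [hE0', card_map_of_injective (S : Subgroup G).subtype_injective, hE0c]
  have hSn : (S : Subgroup G) ≤ normalizer (E0' : Set G) := by
    haveI := hE0n
    have h := le_normalizer_map (H := E0) (S : Subgroup G).subtype
    rwa [normalizer_eq_top, ← MonoidHom.range_eq_map, range_subtype] at h
  have hE0el : Cfsg.IsElementaryAbelian p E0' := by
    refine ⟨haveI := hE0e.1; inferInstance, ?_⟩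
    rintro _ ⟨a, ha, rfl⟩
    rw [← map_pow, hE0e.2 a ha, map_one]
  -- down to `E0'`
  obtain ⟨D₁, hD₁E, hD₁C, hD₁r⟩ := exists_inner_link S.2 hE0S hSn hE0card hS hE₁ h₁3
  obtain ⟨hUD₁, hD₁M⟩ := link_uniqueMax hG hU hE₁.1 hM hE₁M
    (hD₁E.trans (le_centralizer_self hE₁.1)) hD₁r
  obtain ⟨hUE0, hE0M⟩ := link_uniqueMax hG hUD₁ (CfsgLib.Comp.elemAb_mono hE₁ hD₁E).1 hM hD₁M
    (le_centralizer_iff.1 hD₁C) (not_pRankLE_of_le_elemAb (k := 1) hE0el le_rfl hE0card.ge)
  -- over to the conjugate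
  set c := (MulAut.conj g).toMonoidHom
  have hUc := inUniqueMax_conj hUE0 g
  have hMc : IsCoatom (M.map c) := isCoatom_map_equiv _ hM
  have hE₂' : E₂ ≤ (S : Subgroup G).map c := hT
  have hcn : (S : Subgroup G).map c ≤ normalizer ((E0'.map c : Subgroup G) : Set G) :=
    (map_mono hSn).trans (le_normalizer_map c)
  obtain ⟨D₂, hD₂E, hD₂C, hD₂r⟩ := exists_inner_link (S.2.map c) (map_mono hE0S) hcn
    (by rw [card_map_of_injective (MulAut.conj g).injective, hE0card]) hE₂' hE₂ h₂3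
  obtain ⟨hUD₂, hD₂M⟩ := link_uniqueMax hG hUc (haveI := hE0el.1; inferInstance) hMc
    (map_mono hE0M) hD₂C hD₂r
  obtain ⟨hUE₂, hE₂M⟩ := link_uniqueMax (p := p) hG hUD₂ (CfsgLib.Comp.elemAb_mono hE₂ hD₂E).1 hMc hD₂M
    (le_centralizer_iff.1 (hD₂E.trans (le_centralizer_self hE₂.1)))
    (not_pRankLE_of_le_elemAb (k := 1) hE₂ le_rfl
      ((Nat.pow_le_pow_right hp.out.pos (by norm_num)).trans h₂3))
  exact ⟨hUE₂, g, hE₂M⟩

/-- A maximal subgroup with `p`-rank at least three on its Fitting subgroup makes all elementary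
abelian subgroups of order at least `p³` uniqueness subgroups. -/
theorem uniqueMax_of_fitting_rank_three (hG : Cfsg.IsMinSimpleOddOrder G) {M : Subgroup G}
    (hM : IsCoatom M) (hF : ¬ Cfsg.PRankLE p 2 ↥(Cfsg.fittingOf M)) {E : Subgroup G}
    (hE : Cfsg.IsElementaryAbelian p E) (hE3 : p ^ 3 ≤ Nat.card E) : Cfsg.InUniqueMaximal E := by
  obtain ⟨E', hE'F, hE'e, hE'3⟩ := exists_elemAb_of_not_pRankLE hF
  obtain ⟨A₀, hE'A, hA⟩ := Finite.exists_le_maximal
    (p := fun B : Subgroup G => B ≤ Cfsg.fittingOf M ∧ Cfsg.IsElementaryAbelian p B) (a := E')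
    ⟨hE'F, hE'e⟩
  obtain ⟨hAF, hAe⟩ := hA.prop
  have hA3 : p ^ 3 ≤ Nat.card A₀ := hE'3.trans (card_le_of_le hE'A)
  have hA2 : ¬ Cfsg.PRankLE p 1 A₀ := not_pRankLE_of_le_elemAb (k := 1) hAe le_rfl
    ((Nat.pow_le_pow_right hp.out.pos (by norm_num)).trans hA3)
  by_cases hFp : IsPGroup p ↥(Cfsg.fittingOf M)
  · have hne : Cfsg.fittingOf M ≠ ⊥ := fun h => hF fun C _ _ => by
      haveI : Subsingleton ↥(Cfsg.fittingOf M) := by rw [h]; infer_instance
      rw [Nat.card_eq_one_iff_unique.2 ⟨inferInstance, inferInstance⟩]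
      exact Nat.one_le_pow _ _ hp.out.pos
    obtain ⟨P, hP, hFP⟩ := CfsgLib.PLocal.exists_sylowIn_le hFp (fittingOf_le M)
    have hdvd := dvd_card_of_pGroup_ne_bot hFp hne
    obtain ⟨A, hAscn, -, hAp, hA3'⟩ := exists_isSCN_three (ne_two_of_dvd hG hdvd) P hP.2.1
      (not_pRankLE_of_le_elemAb (k := 2) hAe (hAF.trans hFP) hA3)
    obtain ⟨E'', hE''A, hE''e, hE''3⟩ := exists_elemAb_of_not_pRankLE hA3'
    have hUA := ((scn_uniqueMax_of_fitting_pGroup hG hM hFp hne hP).2 A hAscn hA3').2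
    have hU'' : Cfsg.InUniqueMaximal E'' := inUniqueMax_of_centralizes (p := p) hG hUA
      (hE''A.trans fun a ha => (hAscn.2.2.ge ha).2) (not_pRankLE_of_le_elemAb (k := 1) hE''e le_rfl
        ((Nat.pow_le_pow_right hp.out.pos (by norm_num)).trans hE''3))
    exact (spread_rank_three hG hE''e hE''3 hU'' hM (hE''A.trans (hAscn.1.trans hP.1)) hE hE3).1
  · have hU := inUniqueMax_of_centralizes (p := p) hG
      (inUniqueMax_fitting_inf_centralizer hG hM hAF hAe hA3 hFp)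
      (le_centralizer_iff.1 inf_le_right) hA2
    exact (spread_rank_three hG hAe hA3 hU hM (hAF.trans (fittingOf_le M)) hE hE3).1

/-- The abelian version. -/
theorem uniqueMax_abelian_of_elementary (hG : Cfsg.IsMinSimpleOddOrder G) {A : Subgroup G}
    (hAc : IsMulCommutative A) {k : ℕ} (hk : 1 ≤ k)
    (hA : ¬ Cfsg.PRankLE p k A)
    (h : ∀ E : Subgroup G, Cfsg.IsElementaryAbelian p E → p ^ (k + 1) ≤ Nat.card E → Cfsg.InUniqueMaximal E) :
    Cfsg.InUniqueMaximal A := by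
  obtain ⟨E, hEA, hEe, hE3⟩ := exists_elemAb_of_not_pRankLE hA
  exact inUniqueMax_of_centralizes (p := p) hG (h E hEe hE3)
    (le_centralizer_iff.1 (hEA.trans (le_centralizer_self hAc)))
    (fun h1 => hA (pRankLE_mono hk h1))

end CfsgLib.OddLocal
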