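import Cfsg.Agent.Lib.OddLocal.CharRankThree
import Cfsg.Agent.Lib.OddLocal.UniqueRankThree
import Cfsg.Agent.Lib.OddLocal.Transitivity

/-!
Maximal subgroups `M` of a minimal simple group of odd order whose `r`-part of the Fitting subgroup
has rank at least three.
-/

set_option autoImplicit false
set_option linter.style.haveILetI false

open Subgroup
open scoped commutatorElement

namespace CfsgLib.OddLocal

universe u
variable {G : Type u} [Group G] [Finite G]

/-- `O_r(M)` has rank at least three. -/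
def IsBigPart (M : Subgroup G) (r : ℕ) : Prop := r.Prime ∧ ¬ Cfsg.PRankLE r 2 ↥(fPart M r)

theorem IsBigPart.dvd {M : Subgroup G} {r : ℕ} (h : IsBigPart M r) : r ∣ Nat.card G := by
  haveI := Fact.mk h.1
  refine dvd_card_of_pGroup_ne_bot (isPGroup_fPart M r) fun hb => h.2 fun C _ _ => ?_
  exact (card_le_card_group _).trans
    ((le_of_eq (by rw [hb, card_bot])).trans (Nat.one_le_pow _ _ h.1.pos))

theorem IsBigPart.uniqueMax (hG : Cfsg.IsMinSimpleOddOrder G) {M : Subgroup G} (hM : IsCoatom M)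
    {r : ℕ} [Fact r.Prime] (h : IsBigPart M r) {E : Subgroup G}
    (hE : Cfsg.IsElementaryAbelian r E) (hE3 : r ^ 3 ≤ Nat.card E) : Cfsg.InUniqueMaximal E := by
  refine uniqueMax_of_fitting_rank_three hG hM (fun hF => h.2 fun C hc he => ?_) hE hE3
  have hle := fPart_le_fittingOf M (r := r)
  rw [← card_map_of_injective (f := inclusion hle) (K := C) (inclusion_injective hle)]
  refine hF _ (haveI := hc; inferInstance) ?_
  rintro _ ⟨x, hx, rfl⟩
  rw [← map_pow, he x hx, map_one]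

theorem IsBigPart.exists_elem (hG : Cfsg.IsMinSimpleOddOrder G) {M : Subgroup G} (hM : IsCoatom M)
    {r : ℕ} [Fact r.Prime] (h : IsBigPart M r) :
    ∃ E : Subgroup G, E ≤ fPart M r ∧ Cfsg.IsElementaryAbelian r E ∧ r ^ 3 ≤ Nat.card E ∧
      Cfsg.InUniqueMaximal E := by
  obtain ⟨E, hE, hEe, hE3⟩ := exists_elemAb_of_not_pRankLE h.2
  exact ⟨E, hE, hEe, hE3, h.uniqueMax hG hM hEe hE3⟩

/-- A normal subgroup of `M` inside `O_r(M)`, of exponent `r` and not cyclic, whose noncyclic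
subgroups are uniqueness subgroups and whose elements have centralizers in `M`. -/
theorem IsBigPart.exists_witness (hG : Cfsg.IsMinSimpleOddOrder G) {M : Subgroup G} (hM : IsCoatom M)
    {r : ℕ} [hr : Fact r.Prime] (h : IsBigPart M r) :
    ∃ W : Subgroup G, W ≤ M ∧ IsPGroup r W ∧ (∀ x ∈ W, x ^ r = 1) ∧ M ≤ normalizer (W : Set G) ∧ ¬ IsCyclic W ∧
      (∀ Y : Subgroup G, Y ≤ W → ¬ IsCyclic Y → Cfsg.InUniqueMaximal Y) ∧
      ∀ v ∈ W, v ≠ 1 → centralizer ({v} : Set G) ≤ M := by
  have hr2 : r ≠ 2 := ne_two_of_dvd hG h.dvd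
  set R := fPart M r
  obtain ⟨W, hWc, hWe, hW2, hWY⟩ := exists_char_exponent_rank_three hr2 (isPGroup_fPart M r) h.2
  set W' := W.map R.subtype with hW'
  have hW'R : W' ≤ R := map_subtype_le _
  have hW'e : ∀ x ∈ W', x ^ r = 1 := by
    rintro _ ⟨x, hx, rfl⟩
    rw [← map_pow, hWe x hx, map_one]
  have hW'2 : r ^ 2 ≤ Nat.card W' := by rwa [hW', card_map_of_injective R.subtype_injective]
  have hnc : ∀ Y : Subgroup G, Y ≤ W' → ¬ IsCyclic Y → r ^ 2 ≤ Nat.card Y := by
    intro Y hY hY1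
    obtain ⟨n, hn⟩ := IsPGroup.iff_card.1
      (fun x : Y => (⟨1, Subtype.ext (by simpa using hW'e _ (hY x.2))⟩ : ∃ k, x ^ r ^ k = 1))
    rw [hn]
    refine Nat.pow_le_pow_right hr.out.pos ?_
    by_contra hlt
    rcases n with _ | n
    · refine hY1 ?_
      rw [eq_bot_of_card_eq Y (by rw [hn, pow_zero])]
      infer_instance
    · obtain rfl : n = 0 := by omega
      exact hY1 (isCyclic_of_prime_card (p := r) (by simpa using hn))
  -- small elementary subgroups
  have key : ∀ Y : Subgroup G, Y ≤ W' → Cfsg.IsElementaryAbelian r Y → r ^ 2 ≤ Nat.card Y →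
      Cfsg.InUniqueMaximal Y ∧ centralizer (Y : Set G) ≤ M ∧
        ∃ E : Subgroup G, E ≤ M ∧ Cfsg.InUniqueMaximal E ∧ IsMulCommutative E ∧
          E ≤ centralizer (Y : Set G) := by
    intro Y hY hYe hY2
    have hYR : Y ≤ R := hY.trans hW'R
    have hsub : Y.subgroupOf R ≤ W := fun y hy => by
      obtain ⟨w, hw, hwy⟩ := hY (mem_subgroupOf.1 hy)
      exact (Subtype.ext hwy : w = y) ▸ hw
    obtain ⟨E, hEC, hEe, hE3⟩ := exists_elemAb_of_not_pRankLE (hWY _ hsub
      ⟨haveI := hYe.1; inferInstance, fun a ha => Subtype.ext (by simpa using hYe.2 _ (mem_subgroupOf.1 ha))⟩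
      (by rwa [CfsgLib.Coprime.card_subgroupOf hYR]))
    set E' := E.map R.subtype with hE'
    have hE'e : Cfsg.IsElementaryAbelian r E' := by
      refine ⟨haveI := hEe.1; inferInstance, ?_⟩
      rintro _ ⟨a, ha, rfl⟩
      rw [← map_pow, hEe.2 a ha, map_one]
    have hU : Cfsg.InUniqueMaximal E' := h.uniqueMax hG hM hE'e
      (by rwa [hE', card_map_of_injective R.subtype_injective])
    have hE'M : E' ≤ M := (map_subtype_le _).trans (fPart_le M r)
    have hE'C : E' ≤ centralizer (Y : Set G) := by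
      rintro _ ⟨e, he, rfl⟩
      rw [mem_centralizer_iff]
      intro y hy
      exact congrArg Subtype.val (mem_centralizer_iff.1 (hEC he) ⟨y, hYR hy⟩ (mem_subgroupOf.2 hy))
    obtain ⟨hUY, hYM⟩ := link_uniqueMax hG hU hE'e.1 hM hE'M (le_centralizer_iff.1 hE'C)
      (not_pRankLE_of_le_elemAb (k := 1) hYe le_rfl hY2)
    exact ⟨hUY, le_of_inUniqueMax hU hM hE'M hE'C
      (minSimple_centralizer_ne_top hG (inUniqueMax_ne_bot hG hUY)), E', hE'M, hU, hE'e.1, hE'C⟩
  have hne : ∀ Y : Subgroup G, Y ≤ W' → Y ≠ ⊤ := fun Y hY h' =>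
    hM.1 (top_le_iff.1 (h' ▸ hY.trans (hW'R.trans (fPart_le M r))))
  refine ⟨W', hW'R.trans (fPart_le M r), (isPGroup_fPart M r).to_le hW'R, hW'e, ?_, fun hc => ?_,
    fun Y hY hY1 => ?_, fun v hv hv1 => ?_⟩
  · intro m hm
    haveI := hWc
    have hm' := le_normalizer_fPart M r hm
    let θ : MulAut R := normalizerMonoidHom R ⟨m, hm'⟩
    have hg : ∀ g : G, g ∈ normalizer (R : Set G) → ∀ x ∈ W', g * x * g⁻¹ ∈ W' := by
      rintro g hg _ ⟨x, hx, rfl⟩
      let θ : MulAut R := normalizerMonoidHom R ⟨g, hg⟩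
      exact ⟨θ x, Subgroup.characteristic_iff_map_le.1 hWc θ ⟨x, hx, rfl⟩, rfl⟩
    exact CfsgLib.Comp.le_normalizer_of_conj_mem (A := normalizer (R : Set G)) (U := W') hg hm'
  · obtain ⟨g, hg⟩ := hc.exists_ofOrder_eq_natCard
    have h1 : orderOf g ∣ r := orderOf_dvd_of_pow_eq_one (Subtype.ext (by simpa using hW'e g g.2))
    have h3 := Nat.le_of_dvd hr.out.pos h1
    rw [hg] at h3
    have : r < r ^ 2 := lt_self_pow₀ hr.out.one_lt one_lt_two
    omega
  · obtain ⟨Y₀, hY₀, hY₀e, hY₀2⟩ := exists_elemSq_of_exponent (fun x hx => hW'e x (hY hx)) (hnc Y hY hY1)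
    exact inUniqueMax_mono (key Y₀ (hY₀.trans hY) hY₀e hY₀2).1 hY₀ (hne Y hY)
  · -- every element lies in a noncyclic elementary subgroup
    obtain ⟨Y₁, hY₁, hY₁e, hY₁2⟩ := exists_elemSq_of_exponent
      (W := W' ⊓ centralizer ({v} : Set G)) (fun x hx => hW'e x hx.1) (by
        -- `C_W(v)` has order at least `r²`
        set Cv := W' ⊓ centralizer ({v} : Set G)
        have hWp : IsPGroup r W' := (isPGroup_fPart M r).to_le hW'R
        haveI : Nontrivial W' := Finite.one_lt_card_iff_nontrivial.1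
          ((Nat.one_lt_pow two_ne_zero hr.out.one_lt).trans_le hW'2)
        have hvC : zpowers v ≤ Cv := le_inf (zpowers_le.2 hv) (zpowers_le.2 (mem_centralizer_singleton_iff.2 rfl))
        have hcard : Nat.card (zpowers v) = r := by
          rw [Nat.card_zpowers, orderOf_eq_prime (hW'e v hv) hv1]
        obtain ⟨n, hn⟩ := IsPGroup.iff_card.1 (hWp.to_le (inf_le_left : Cv ≤ W'))
        rw [hn]
        refine Nat.pow_le_pow_right hr.out.pos ?_
        by_contra hlt
        have heq : zpowers v = Cv := eq_of_le_of_card_ge hvC (by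
          rw [hn, hcard]
          exact (Nat.pow_le_pow_right hr.out.pos (show n ≤ 1 by omega)).trans (pow_one r).le)
        have hzv : ∀ z : W', z ∈ center W' → (z : G) ∈ zpowers v := fun z hz => heq.ge
          ⟨z.2, mem_centralizer_singleton_iff.2 (congrArg Subtype.val (mem_center_iff.1 hz ⟨v, hv⟩)).symm⟩
        obtain ⟨z, hz, hz1⟩ := (center W').bot_or_exists_ne_one.resolve_left hWp.bot_lt_center.ne'
        have hzg : zpowers (z : G) = zpowers v := by
          refine eq_of_le_of_card_ge (zpowers_le.2 (hzv z hz)) ?_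
          rw [hcard, Nat.card_zpowers, orderOf_eq_prime (hW'e _ z.2) fun h => hz1 (Subtype.ext h)]
        have hvc : W' ≤ Cv := fun x hx => ⟨hx, mem_centralizer_singleton_iff.2 (by
          obtain ⟨i, hi⟩ := mem_zpowers_iff.1 (hzg.ge (mem_zpowers v))
          have h := congrArg Subtype.val (mem_center_iff.1 hz ⟨x, hx⟩)
          rw [← hi]
          exact ((show Commute x (z : G) from h).zpow_right i).eq)⟩
        have := hW'2.trans (card_le_of_le hvc)
        rw [hn] at this
        rw [Nat.pow_le_pow_iff_right hr.out.one_lt] at this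
        omega)
    obtain ⟨-, -, E, hEM, hUE, -, hEC⟩ := key (Y₁ ⊔ zpowers v) (sup_le (hY₁.trans inf_le_left)
      (zpowers_le.2 hv)) (CfsgLib.PLocal.elemAb_sup hY₁e
        ⟨inferInstance, fun a ha => hW'e a (zpowers_le.2 hv ha)⟩ (by
          intro y hy
          rw [mem_centralizer_iff]
          rintro a ⟨i, rfl⟩
          exact ((show Commute y v from mem_centralizer_singleton_iff.1 (hY₁ hy).2).zpow_right i).eq.symm))
      (hY₁2.trans (card_le_of_le le_sup_left))
    refine le_of_inUniqueMax hUE hM hEM (hEC.trans ?_) (minSimple_centralizer_singleton_ne_top hG hv1)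
    exact centralizer_le_singleton (mem_sup_right (mem_zpowers v))

variable {p : ℕ} [hp : Fact p.Prime]

/-- An elementary abelian `p`-subgroup of order at least `p³` of `M` has an element whose centralizer
lies in `M`. -/
theorem IsBigPart.exists_centralizer_le (hG : Cfsg.IsMinSimpleOddOrder G) {M : Subgroup G}
    (hM : IsCoatom M) {r : ℕ} [hr : Fact r.Prime] (h : IsBigPart M r) (hrp : r ≠ p) {B : Subgroup G}
    (hB : Cfsg.IsElementaryAbelian p B) (hB3 : p ^ 3 ≤ Nat.card B) (hBM : B ≤ M) :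
    ∃ b ∈ B, b ≠ 1 ∧ centralizer ({b} : Set G) ≤ M := by
  obtain ⟨W, hWM, hWp, hWe, hWn, hWnc, hWU, -⟩ := h.exists_witness hG hM
  by_cases hall : ∃ b ∈ B, b ≠ 1 ∧ ¬ IsCyclic ↥(W ⊓ centralizer ({b} : Set G))
  · obtain ⟨b, hb, hb1, hnc⟩ := hall
    exact ⟨b, hb, hb1, le_of_inUniqueMax (hWU _ inf_le_left hnc) hM (inf_le_left.trans hWM) inf_le_right
      (minSimple_centralizer_singleton_ne_top hG hb1)⟩
  push Not at hall
  exfalso
  have hBne : B ≠ ⊥ := fun h' => by
    rw [h', card_bot] at hB3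
    have := Nat.one_lt_pow (show 3 ≠ 0 by norm_num) hp.out.one_lt
    omega
  have hpW : ¬ p ∣ Nat.card W := fun hd => hrp.symm (prime_dvd_pGroup hWp hp.out hd)
  have hgen := CfsgLib.Comp.eq_iSup_centralizer_hyperplane hB hBne hpW (hBM.trans hWn)
  by_cases hsome : ∃ H : {H : Subgroup G // H ≤ B ∧ H.relIndex B = p},
      W ⊓ centralizer ((H : Subgroup G) : Set G) ≠ ⊥
  swap
  · push Not at hsome
    refine hWnc ?_
    rw [hgen, show (⨆ H : {H : Subgroup G // H ≤ B ∧ H.relIndex B = p},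
      W ⊓ centralizer ((H : Subgroup G) : Set G)) = ⊥ from eq_bot_iff.2 (iSup_le fun H => (hsome H).le)]
    infer_instance
  obtain ⟨⟨H₀, hH₀B, hH₀i⟩, hH₀⟩ := hsome
  refine hWnc ?_
  suffices hle : W ≤ W ⊓ centralizer (H₀ : Set G) by
    obtain ⟨b, hb, hb1⟩ := CfsgLib.Comp.exists_mem_ne_one (B := H₀) (fun h' => by
      rw [h', relIndex_bot_left] at hH₀i
      rw [hH₀i] at hB3
      have : p < p ^ 3 := lt_self_pow₀ hp.out.one_lt (by norm_num)
      omega)
    haveI := hall b (hH₀B hb) hb1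
    exact isCyclic_of_injective (inclusion (hle.trans (inf_le_inf_left _ (centralizer_le_singleton hb))))
      (inclusion_injective _)
  conv_lhs => rw [hgen]
  refine iSup_le ?_
  rintro ⟨H, hHB, hHi⟩
  simp only
  have hne : H₀ ⊓ H ≠ ⊥ := by
    intro hbot
    have h' := Subgroup.relIndex_inf_le (H := H₀) (K := H) (L := B)
    rw [hbot, relIndex_bot_left, hH₀i, hHi] at h'
    have : p * p < p ^ 3 := by
      rw [← sq]; exact Nat.pow_lt_pow_right hp.out.one_lt (by norm_num)
    omega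
  obtain ⟨b, hb, hb1⟩ := CfsgLib.Comp.exists_mem_ne_one hne
  haveI := hall b (hH₀B hb.1) hb1
  set C := W ⊓ centralizer ({b} : Set G)
  have h0 : W ⊓ centralizer (H₀ : Set G) ≤ C := inf_le_inf_left _ (centralizer_le_singleton hb.1)
  refine (inf_le_inf_left _ (centralizer_le_singleton hb.2) : W ⊓ centralizer (H : Set G) ≤ C).trans ?_
  obtain ⟨n, hn⟩ := IsPGroup.iff_card.1 (hWp.to_le (inf_le_left : C ≤ W))
  obtain ⟨g, hg⟩ := (inferInstance : IsCyclic C).exists_ofOrder_eq_natCard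
  refine (eq_of_le_of_card_ge h0 ?_).ge
  rcases n with _ | n
  · rw [hn, pow_zero]; exact Nat.card_pos
  obtain ⟨m, hm⟩ := IsPGroup.iff_card.1 (hWp.to_le (inf_le_left : W ⊓ centralizer (H₀ : Set G) ≤ W))
  rw [hm]
  have hm0 : m ≠ 0 := fun h' => hH₀ (eq_bot_of_card_eq _ (by rw [hm, h', pow_zero]))
  have hgr : orderOf g ∣ r := orderOf_dvd_of_pow_eq_one (Subtype.ext (by
    simpa using hWe (g : G) g.2.1))
  calc Nat.card C = orderOf g := hg.symm
    _ ≤ r := Nat.le_of_dvd hr.out.pos hgr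
    _ ≤ r ^ m := Nat.le_self_pow hm0 r

end CfsgLib.OddLocal
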