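import Cfsg.Agent.Lib.OddLocal.CNMax
import Cfsg.Agent.Lib.Solvable.HallHigman
import Cfsg.Agent.Lib.Solvable.SchurZassenhaus
import Cfsg.Agent.Lib.Solvable.FixedPointFree
import Cfsg.Agent.Lib.Coprime.Basic
import Mathlib.GroupTheory.SpecificGroups.ZGroup

/-!
# The structure of solvable CN-groups
-/

set_option autoImplicit false

namespace CfsgLib.OddLocal

open Subgroup
open scoped Pointwise

universe u

variable {G : Type u} [Group G]

theorem isCyclic_of_fpf_of_isNilpotent_of_odd {E : Type u} [Group E] [Finite E]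
    (hE : Group.IsNilpotent E) (hodd : Odd (Nat.card E)) {V : Type u} [CommGroup V] [Finite V]
    [Nontrivial V] (φ : E →* MulAut V) (hfpf : ∀ e : E, e ≠ 1 → ∀ v : V, φ e v = v → v = 1) :
    IsCyclic E := by
  have : IsZGroup E := ⟨fun p hp P => by
    have := Fact.mk hp
    rcases CfsgLib.Solvable.isCyclic_or_quaternion_of_fpf φ hfpf P with h | ⟨h2, n, ⟨e⟩⟩
    · exact h
    · subst h2
      have : (P : Subgroup E) = ⊥ := by
        obtain ⟨k, hk⟩ := IsPGroup.iff_card.mp P.2
        rcases Nat.eq_zero_or_pos k with h0 | h0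
        · exact Subgroup.card_eq_one.mp (by rw [hk, h0, pow_zero])
        · exact absurd (hodd.of_dvd_nat ((hk ▸ dvd_pow_self 2 h0.ne' : 2 ∣ Nat.card (P : Subgroup E)).trans
            (Subgroup.card_subgroup_dvd_card _))) (by decide)
      rw [show (P : Subgroup E) = ⊥ from this]
      infer_instance⟩
  infer_instance

variable [Finite G] (hCN : Cfsg.IsCNGroup G)
include hCN

/-- If `O_p(G)` and `O_{p'}(G)` are nontrivial, a solvable CN-group is `p`-closed. -/
theorem sylow_normal_of_pPrimeCore_ne_bot [Group.IsSolvable G] {p : ℕ} [hp : Fact p.Prime]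
    (hT : Cfsg.pCore p G ≠ ⊥) (hO : Cfsg.pPrimeCore p G ≠ ⊥) (S : Sylow p G) :
    (S : Subgroup G).Normal := by
  have hTn := CfsgLib.Solvable.pCore_normal p G
  have hOn := CfsgLib.Solvable.pPrimeCore_normal p G
  obtain ⟨N, hNn, hN1, hNO, hmin⟩ := CfsgLib.Solvable.exists_minimal_normal_le hOn hO
  have := hNn
  have hNc := CfsgLib.Solvable.isMulCommutative_of_minimal_normal hN1 hmin
  have hNF := CfsgLib.Solvable.le_fittingSubgroup_of_isMulCommutative hNn hNc
  set T := Cfsg.pCore p G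
  have hTS : T ≤ (S : Subgroup G) := CfsgLib.Solvable.pCore_le_sylow S
  have hcopN : (Nat.card N).Coprime p :=
    (CfsgLib.Solvable.pPrimeCore_coprime p).coprime_dvd_left (Subgroup.card_dvd_of_le hNO)
  have : Group.IsNilpotent (S : Subgroup G) := S.2.isNilpotent
  obtain ⟨⟨⟨z, hzS⟩, hzT, hzZ⟩, hz⟩ := Subgroup.ne_bot_iff_exists_ne_one.mp
    (CfsgLib.Solvable.normal_inf_center_ne_bot (T.subgroupOf (S : Subgroup G)) (fun h => hT (by
      have := congrArg (Subgroup.map (S : Subgroup G).subtype) h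
      rwa [Subgroup.map_subgroupOf_eq_of_le hTS, Subgroup.map_bot] at this)))
  have hz1 : z ≠ 1 := fun h => hz (Subtype.ext (Subtype.ext h))
  obtain ⟨m, hm⟩ := IsPGroup.iff_card.mp (CfsgLib.Solvable.pCore_isPGroup (G := G) p)
  have hSN : (S : Subgroup G) ≤ Subgroup.centralizer (N : Set G) := by
    intro s hs u hu
    obtain ⟨i, hi⟩ := S.2 ⟨s, hs⟩
    have hzu : z * u = u * z := by
      have h1 : z * u * z⁻¹ * u⁻¹ ∈ T ⊓ N := by
        refine ⟨?_, N.mul_mem (hNn.conj_mem u hu z) (N.inv_mem hu)⟩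
        rw [show z * u * z⁻¹ * u⁻¹ = z * (u * z⁻¹ * u⁻¹) by group]
        exact T.mul_mem hzT (hTn.conj_mem _ (T.inv_mem hzT) u)
      have h2 : T ⊓ N = ⊥ := Subgroup.card_eq_one.mp (Nat.eq_one_of_dvd_coprimes
        ((hcopN.symm.pow_left m)) (hm ▸ Subgroup.card_dvd_of_le inf_le_left)
        (Subgroup.card_dvd_of_le inf_le_right))
      rw [h2, Subgroup.mem_bot, mul_inv_eq_one, mul_inv_eq_iff_eq_mul] at h1
      exact h1
    refine commute_of_mem_nilpotent (hCN z hz1)
      (Subgroup.mem_centralizer_singleton_iff.mpr hzu.symm)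
      (Subgroup.mem_centralizer_singleton_iff.mpr
        (congrArg Subtype.val (Subgroup.mem_center_iff.mp hzZ ⟨s, hs⟩))) ?_
    exact ((hcopN.pow_right i).coprime_dvd_left (Subgroup.orderOf_dvd_natCard N hu)).coprime_dvd_right
      (orderOf_dvd_of_pow_eq_one (congrArg Subtype.val hi))
  obtain ⟨⟨u, hu⟩, hu1⟩ := Subgroup.ne_bot_iff_exists_ne_one.mp hN1
  have hCn : (Subgroup.centralizer (N : Set G)).Normal := Subgroup.normal_centralizer
  have hCF : Subgroup.centralizer (N : Set G) ≤ Cfsg.fittingSubgroup G :=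
    CfsgLib.Solvable.le_fittingSubgroup hCn (isNilpotent_of_le (hCN u fun h => hu1 (Subtype.ext h))
      fun x hx => Subgroup.mem_centralizer_singleton_iff.mpr (hx u hu).symm)
  set F := Cfsg.fittingSubgroup G
  have hFn := CfsgLib.Solvable.fittingSubgroup_normal G
  have hPn : (pPart p F).Normal := Subgroup.normalizer_eq_top_iff.mp
    (top_le_iff.mp ((Subgroup.normalizer_eq_top F).ge.trans (normalizer_le_normalizer_pPart p F)))
  have hSP : (S : Subgroup G) = pPart p F := by
    refine (S.3 (pPart_isPGroup p F) fun s hs => ?_).symm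
    obtain ⟨i, hi⟩ := S.2 ⟨s, hs⟩
    exact mem_pPart CfsgLib.Solvable.fittingSubgroup_isNilpotent (hCF (hSN hs)) (congrArg Subtype.val hi)
  rw [hSP]; exact hPn

/-- A solvable CN-group with `O_p(G) ≠ 1` is `p`-closed or a three-step group. -/
theorem sylow_normal_or_threeStep [Group.IsSolvable G] {p : ℕ} [hp : Fact p.Prime]
    (hT : Cfsg.pCore p G ≠ ⊥) (S : Sylow p G) :
    (S : Subgroup G).Normal ∨ Cfsg.IsThreeStepGroup p G := by
  classical
  by_cases hO : Cfsg.pPrimeCore p G ≠ ⊥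
  · exact Or.inl (sylow_normal_of_pPrimeCore_ne_bot hCN hT hO S)
  rw [not_not] at hO
  by_cases hSn : (S : Subgroup G).Normal
  · exact Or.inl hSn
  right
  have hHn := CfsgLib.Solvable.pCore_normal p G
  have hHp := CfsgLib.Solvable.pCore_isPGroup (G := G) p
  have hCH := CfsgLib.Solvable.centralizer_pCore_le p hO
  set H := Cfsg.pCore p G with hHdef
  obtain ⟨n, hn⟩ := IsPGroup.iff_card.mp hHp
  set f := QuotientGroup.mk' H
  have hfs : Function.Surjective f := QuotientGroup.mk'_surjective H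
  have hidx : p ∣ H.index := by
    by_contra h
    have hle : H ≤ (S : Subgroup G) := CfsgLib.Solvable.pCore_le_sylow S
    obtain ⟨S', hS'⟩ : ∃ S' : Sylow p G, (S' : Subgroup G) = H := ⟨hHp.toSylow h, rfl⟩
    exact hSn ((S'.3 S.2 (hS' ▸ hle) ▸ hS').symm ▸ hHn)
  have : Nontrivial (G ⧸ H) := by
    rw [← Finite.one_lt_card_iff_nontrivial, ← Subgroup.index_eq_card]
    exact lt_of_lt_of_le hp.out.one_lt (Nat.le_of_dvd (Nat.pos_of_ne_zero Subgroup.FiniteIndex.index_ne_zero) hidx)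
  -- the Fitting subgroup of the quotient
  set Fq := Cfsg.fittingSubgroup (G ⧸ H)
  have hFqn := CfsgLib.Solvable.fittingSubgroup_normal (G ⧸ H)
  have hFq1 : Fq ≠ ⊥ := CfsgLib.Solvable.fittingSubgroup_ne_bot
  have hFqp : ¬ p ∣ Nat.card Fq := by
    have h := CfsgLib.Solvable.map_pCore_le p Fq
    rw [CfsgLib.Solvable.pCore_quotient_eq_bot p, le_bot_iff,
      Subgroup.map_eq_bot_iff_of_injective _ Fq.subtype_injective] at h
    have h2 := CfsgLib.Solvable.isNilpotent_iff_pCore_index.mp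
      (CfsgLib.Solvable.fittingSubgroup_isNilpotent (G := G ⧸ H)) p hp.out
    rwa [h, Subgroup.index_bot] at h2
  set M := Fq.comap f with hMdef
  have hMn : M.Normal := Subgroup.Normal.comap hFqn f
  have hHM : H ≤ M := fun x hx => by
    show f x ∈ Fq
    rw [show f x = 1 from (QuotientGroup.eq_one_iff x).mpr hx]; exact one_mem _
  have hMmap : M.map f = Fq := Subgroup.map_comap_eq_self_of_surjective hfs _
  have hMcard : Nat.card M = Nat.card Fq * p ^ n := by rw [hMdef, CfsgLib.Solvable.card_comap_mk', hn]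
  -- `H` is a Sylow subgroup of `M`
  set H' := H.subgroupOf M
  have hH'p : IsPGroup p H' := hHp.comap_subtype
  have hH'i : ¬ p ∣ H'.index := by
    have h := H'.index_mul_card
    rw [Nat.card_congr (Subgroup.subgroupOfEquivOfLe hHM).toEquiv, hn, hMcard] at h
    rwa [Nat.eq_of_mul_eq_mul_right (pow_pos hp.out.pos n) h]
  set P : Sylow p M := hH'p.toSylow hH'i with hP
  have hPc : (P : Subgroup M) = H' := rfl
  have hPn : (P : Subgroup M).Normal := hPc ▸ Subgroup.normal_subgroupOf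
  have hP1 : (P : Subgroup M) ≠ ⊥ := by
    rw [hPc]
    intro h
    have := congrArg (Subgroup.map M.subtype) h
    rw [Subgroup.map_subgroupOf_eq_of_le hHM, Subgroup.map_bot] at this
    exact hT this
  have hMnn : ¬ Group.IsNilpotent M := fun h => hFq1 (by
    have hMF := CfsgLib.Solvable.le_fittingSubgroup hMn h
    rw [CfsgLib.Solvable.fittingSubgroup_eq_pCore p hO] at hMF
    rw [← hMmap, le_bot_iff.mp ((Subgroup.map_mono hMF).trans (QuotientGroup.map_mk'_self H).le)])
  obtain ⟨-, -, ⟨E, hEc, hEF, hEfpf⟩, -⟩ :=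
    frobenius_of_normal_sylow (isCNGroup_subgroup hCN M) hMnn P hP1 hPn
  have hHH' : Cfsg.fittingHall M = H' := by
    obtain ⟨hnil, -⟩ := fittingHall_spec M
    have hH'F : H' ≤ Cfsg.fittingHall M := le_sSup ⟨hPn, hH'p.isNilpotent, by
      rw [Nat.card_congr (Subgroup.subgroupOfEquivOfLe hHM).toEquiv, hn]
      exact (hp.out.coprime_iff_not_dvd.mpr hH'i).pow_left n⟩
    refine le_antisymm ?_ hH'F
    rw [← iSup_pPart hnil]
    refine iSup_le fun q u hu => ?_
    obtain ⟨i, hi⟩ := exists_pow_eq_one_of_mem_pPart hu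
    by_cases hqp : (q : ℕ) = p
    · rw [hqp] at hu
      have := P.3 (P.2.to_sup_of_normal_left (pPart_isPGroup p (Cfsg.fittingHall M))) le_sup_left
      exact hPc ▸ this ▸ Subgroup.mem_sup_right hu
    · have huH : (u : G) ∈ H := by
        refine hCH fun h hh => ?_
        obtain ⟨j, hj⟩ := hHp ⟨h, hh⟩
        exact congrArg Subtype.val (commute_of_mem_nilpotent hnil (a := (⟨h, hHM hh⟩ : M)) (b := u)
          (hH'F (show (⟨h, hHM hh⟩ : M) ∈ H' from hh))
          (pPart_le _ _ hu)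
          (coprime_orderOf_of_prime_ne hp.out q.2 (Ne.symm hqp)
            (show (⟨h, hHM hh⟩ : M) ^ p ^ j = 1 from
              Subtype.ext (by simpa using congrArg Subtype.val hj)) hi))
      exact huH
  rw [hHH'] at hEc hEfpf
  set A := E.map M.subtype with hA
  have hAM : A ≤ M := Subgroup.map_subtype_le E
  have hAE : Nat.card A = Nat.card E := Subgroup.card_map_of_injective M.subtype_injective
  have hA1 : A ≠ ⊥ := fun h => hEF.1 ((Subgroup.map_eq_bot_iff_of_injective _ M.subtype_injective).mp h)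
  have hAnil : Group.IsNilpotent A :=
    isNilpotent_map _ (isNilpotent_of_isFrobeniusComplement (isCNGroup_subgroup hCN M) hEF)
  have hEcard : (Nat.card E).Coprime p := by
    rw [← hEc.symm.index_eq_card]; exact (hp.out.coprime_iff_not_dvd.mpr hH'i).symm
  have hAcop : (Nat.card A).Coprime p := hAE ▸ hEcard
  have hHA : H ⊓ A = ⊥ := Subgroup.card_eq_one.mp (Nat.eq_one_of_dvd_coprimes
    (hAcop.symm.pow_left n) (hn ▸ Subgroup.card_dvd_of_le inf_le_left) (Subgroup.card_dvd_of_le inf_le_right))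
  have hsup : H ⊔ A = M := by
    have h := congrArg (Subgroup.map M.subtype) hEc.sup_eq_top
    rwa [Subgroup.map_sup, Subgroup.map_subgroupOf_eq_of_le hHM, ← MonoidHom.range_eq_map,
      Subgroup.range_subtype] at h
  have hfpf : ∀ a ∈ A, a ≠ 1 → H ⊓ Subgroup.centralizer ({a} : Set G) = ⊥ := by
    rintro _ ⟨e, he, rfl⟩ he1
    rw [eq_bot_iff]
    rintro h ⟨hh, hhe⟩
    have : (⟨h, hHM hh⟩ : M) ∈ H' ⊓ Subgroup.centralizer ({e} : Set M) :=
      ⟨hh, Subgroup.mem_centralizer_singleton_iff.mpr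
        (Subtype.ext (Subgroup.mem_centralizer_singleton_iff.mp hhe))⟩
    rw [hEfpf e he (fun h0 => he1 (by rw [h0]; rfl)), Subgroup.mem_bot] at this
    exact Subgroup.mem_bot.mpr (congrArg Subtype.val this)
  have hAmap : A.map f = Fq := by
    rw [← hMmap, ← hsup, Subgroup.map_sup, QuotientGroup.map_mk'_self, bot_sup_eq]
  -- Frattini
  have hfrat : ∀ g : G, ∃ h ∈ H, ∃ k ∈ Subgroup.normalizer (A : Set G), g = h * k := by
    intro g
    set B := (A.map (MulAut.conj g).toMonoidHom).subgroupOf M with hB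
    have hgM : A.map (MulAut.conj g).toMonoidHom ≤ M := by
      rintro _ ⟨a, ha, rfl⟩; exact hMn.conj_mem a (hAM ha) g
    have hBc : Subgroup.IsComplement' H' B := by
      refine Subgroup.isComplement'_of_coprime ?_ ?_
      · rw [← hEc.card_mul]
        congr 1
        rw [hB, Nat.card_congr (Subgroup.subgroupOfEquivOfLe hgM).toEquiv,
          Subgroup.card_map_of_injective (MulAut.conj g).injective, hAE]
      · rw [hB, Nat.card_congr (Subgroup.subgroupOfEquivOfLe hgM).toEquiv,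
          Subgroup.card_map_of_injective (MulAut.conj g).injective,
          Nat.card_congr (Subgroup.subgroupOfEquivOfLe hHM).toEquiv, hn]
        exact hAcop.symm.pow_left n
    have : H'.Normal := hPn
    obtain ⟨h, hh, hh'⟩ := CfsgLib.Solvable.exists_mem_conj_eq_of_isComplement' H'
      (by rw [Nat.card_congr (Subgroup.subgroupOfEquivOfLe hHM).toEquiv, hn]
          exact (hp.out.coprime_iff_not_dvd.mpr hH'i).pow_left n)
      (Or.inl (by have := hH'p.isNilpotent; infer_instance)) hEc hBc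
    refine ⟨(h : G), hh, (h : G)⁻¹ * g, ?_, by group⟩
    rw [Subgroup.mem_normalizer_iff_map_conj_eq]
    refine Subgroup.eq_of_le_of_card_ge ?_
      (le_of_eq (Subgroup.card_map_of_injective (MulAut.conj ((h : G)⁻¹ * g)).injective).symm)
    rintro _ ⟨a, ha, rfl⟩
    have h1 : (⟨g * a * g⁻¹, hMn.conj_mem a (hAM ha) g⟩ : M) ∈ MulAut.conj h • E :=
      hh'.symm ▸ (⟨a, ha, rfl⟩ : g * a * g⁻¹ ∈ A.map (MulAut.conj g).toMonoidHom)
    obtain ⟨e, he, heq⟩ := h1
    have heq' : (h : G) * e * (h : G)⁻¹ = g * a * g⁻¹ := congrArg Subtype.val heq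
    refine ⟨e, he, ?_⟩
    show (e : G) = ((h : G)⁻¹ * g) * a * ((h : G)⁻¹ * g)⁻¹
    calc (e : G) = (h : G)⁻¹ * ((h : G) * e * (h : G)⁻¹) * h := by group
      _ = ((h : G)⁻¹ * g) * a * ((h : G)⁻¹ * g)⁻¹ := by rw [heq']; group
  have hcentA : ∀ h ∈ H, h ∈ Subgroup.normalizer (A : Set G) → h = 1 := by
    intro h hh hN
    obtain ⟨⟨a, ha⟩, ha1⟩ := Subgroup.ne_bot_iff_exists_ne_one.mp hA1
    have h1 : h * a * h⁻¹ * a⁻¹ ∈ H ⊓ A := by
      refine ⟨?_, A.mul_mem ((Subgroup.mem_normalizer_iff.mp hN a).mp ha) (A.inv_mem ha)⟩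
      rw [show h * a * h⁻¹ * a⁻¹ = h * (a * h⁻¹ * a⁻¹) by group]
      exact H.mul_mem hh (hHn.conj_mem _ (H.inv_mem hh) a)
    rw [hHA, Subgroup.mem_bot, mul_inv_eq_one, mul_inv_eq_iff_eq_mul] at h1
    rw [← Subgroup.mem_bot, ← hfpf a ha (fun h0 => ha1 (Subtype.ext h0))]
    exact ⟨hh, Subgroup.mem_centralizer_singleton_iff.mpr h1⟩
  have hKM : ∀ k ∈ Subgroup.normalizer (A : Set G), k ∈ M → k ∈ A := by
    intro k hk hkM
    rw [← hsup] at hkM
    obtain ⟨h, hh, a, ha, rfl⟩ := (CfsgLib.Coprime.mem_sup_of_le_normalizer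
      (le_top.trans (Subgroup.normalizer_eq_top H).ge)).mp hkM
    have : h = 1 := hcentA h hh (by simpa using Subgroup.mul_mem _ hk (inv_mem (Subgroup.le_normalizer ha)))
    rwa [this, one_mul]
  -- `p`-elements of `N(A)` act fixed-point-freely on `A`
  have hpfpf : ∀ k ∈ Subgroup.normalizer (A : Set G), ∀ i : ℕ, k ^ p ^ i = 1 → k ≠ 1 →
      ∀ a ∈ A, k * a = a * k → a = 1 := by
    intro k hk i hi hk1 a ha hcomm
    by_contra ha1
    have hzk : IsPGroup p (Subgroup.zpowers k) := by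
      obtain ⟨l, -, hl⟩ := (Nat.dvd_prime_pow hp.out).mp (orderOf_dvd_of_pow_eq_one hi)
      exact IsPGroup.of_card (n := l) (by rw [Nat.card_zpowers, hl])
    have hU : IsPGroup p ↥(H ⊔ Subgroup.zpowers k) := hHp.to_sup_of_normal_left hzk
    have : Group.IsNilpotent ↥(H ⊔ Subgroup.zpowers k) := hU.isNilpotent
    obtain ⟨⟨⟨z, hzU⟩, hzH, hzZ⟩, hz⟩ := Subgroup.ne_bot_iff_exists_ne_one.mp
      (CfsgLib.Solvable.normal_inf_center_ne_bot (H.subgroupOf (H ⊔ Subgroup.zpowers k)) (fun h => hT (by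
        have := congrArg (Subgroup.map (H ⊔ Subgroup.zpowers k).subtype) h
        rwa [Subgroup.map_subgroupOf_eq_of_le le_sup_left, Subgroup.map_bot] at this)))
    have hz1 : z ≠ 1 := fun h => hz (Subtype.ext (Subtype.ext h))
    have hzk' : k * z = z * k := congrArg Subtype.val
      (Subgroup.mem_center_iff.mp hzZ ⟨k, Subgroup.mem_sup_right (Subgroup.mem_zpowers k)⟩)
    have haz := commute_of_mem_nilpotent (hCN k hk1) (Subgroup.mem_centralizer_singleton_iff.mpr hcomm.symm)
      (Subgroup.mem_centralizer_singleton_iff.mpr hzk'.symm)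
      ((hAcop.coprime_dvd_left (Subgroup.orderOf_dvd_natCard A ha)).pow_right n |>.coprime_dvd_right
        (hn ▸ Subgroup.orderOf_dvd_natCard H hzH))
    have : z ∈ H ⊓ Subgroup.centralizer ({a} : Set G) :=
      ⟨hzH, Subgroup.mem_centralizer_singleton_iff.mpr haz.symm⟩
    rw [hfpf a ha ha1, Subgroup.mem_bot] at this
    exact hz1 this
  -- a fixed-point-free action of `E`
  obtain ⟨V, φ, hV, hV1, -, hVfpf⟩ := CfsgLib.Solvable.exists_fpf_abelian hEF
  have : Nontrivial V := (Subgroup.nontrivial_iff_ne_bot V).mpr hV1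
  let _ : CommGroup V := { (inferInstance : Group V) with mul_comm := fun a b => hV.is_comm.comm a b }
  obtain ⟨kp, hkpN, hkp1, ikp, hkp⟩ : ∃ k ∈ Subgroup.normalizer (A : Set G), k ≠ 1 ∧ ∃ i, k ^ p ^ i = 1 := by
    obtain ⟨g, hg⟩ := exists_prime_orderOf_dvd_card' (G := G ⧸ H) p (Subgroup.index_eq_card H ▸ hidx)
    obtain ⟨g, rfl⟩ := hfs g
    obtain ⟨h, hh, k, hk, rfl⟩ := hfrat g
    have hfk : f (h * k) = f k := by
      rw [map_mul, show f h = 1 from (QuotientGroup.eq_one_iff h).mpr hh, one_mul]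
    rw [hfk] at hg
    obtain ⟨m, -, hm⟩ := (Nat.dvd_prime_pow hp.out).mp (orderOf_dvd_of_pow_eq_one (x := k ^ ((orderOf k) / p ^ (orderOf k).factorization p))
      (n := p ^ (orderOf k).factorization p) (by
        rw [← pow_mul, Nat.div_mul_cancel (Nat.ordProj_dvd _ _), pow_orderOf_eq_one]))
    refine ⟨k ^ ((orderOf k) / p ^ (orderOf k).factorization p), pow_mem hk _, fun h0 => ?_, m, ?_⟩
    · have h1 : (f k) ^ ((orderOf k) / p ^ (orderOf k).factorization p) = 1 := by rw [← map_pow, h0, map_one]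
      have h2 := orderOf_dvd_of_pow_eq_one h1
      rw [hg] at h2
      exact Nat.not_dvd_ordCompl hp.out (orderOf_pos k).ne' h2
    · rw [← hm, pow_orderOf_eq_one]
  have hAodd : Odd (Nat.card A) := by
    rw [← Nat.not_even_iff_odd]
    intro heven
    have : Fact (Nat.Prime 2) := ⟨Nat.prime_two⟩
    obtain ⟨t, ht⟩ := exists_prime_orderOf_dvd_card' (G := A) 2 heven.two_dvd
    have htG : orderOf (t : G) = 2 := by rwa [Subgroup.orderOf_coe]
    have hconj : kp * t * kp⁻¹ ∈ A := (Subgroup.mem_normalizer_iff.mp hkpN t).mp t.2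
    obtain ⟨e, he, het⟩ := t.2
    obtain ⟨e', he', het'⟩ := hconj
    have h1 : orderOf (⟨e, he⟩ : E) = 2 := by
      rw [← Subgroup.orderOf_coe, ← Subgroup.orderOf_coe]
      show orderOf (M.subtype e) = 2
      rw [het]; exact htG
    have h2 : orderOf (⟨e', he'⟩ : E) = 2 := by
      rw [← Subgroup.orderOf_coe, ← Subgroup.orderOf_coe]
      show orderOf (M.subtype e') = 2
      rw [het', show kp * (t : G) * kp⁻¹ = MulAut.conj kp (t : G) from rfl, MulEquiv.orderOf_eq]; exact htG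
    have h3 : e = e' := congrArg Subtype.val
      (CfsgLib.Solvable.involution_unique_of_fpf φ hVfpf h1 h2)
    have h4 : kp * (t : G) * kp⁻¹ = t := by rw [← het', ← h3, het]
    have := hpfpf kp hkpN ikp hkp hkp1 t t.2 (mul_inv_eq_iff_eq_mul.mp h4)
    rw [this, orderOf_one] at htG
    omega
  have hAcyc : IsCyclic A := by
    have := isCyclic_of_fpf_of_isNilpotent_of_odd
      (isNilpotent_of_isFrobeniusComplement (isCNGroup_subgroup hCN M) hEF) (hAE ▸ hAodd) φ hVfpf
    exact isCyclic_of_surjective _ (E.equivMapOfInjective M.subtype M.subtype_injective).surjective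
  have hFqc : IsCyclic Fq := by
    rw [← hAmap]
    exact isCyclic_of_surjective _ (f.subgroupMap_surjective A)
  have hab : ∀ x y : G ⧸ H, x * y * x⁻¹ * y⁻¹ ∈ Fq := by
    intro x y
    refine CfsgLib.Solvable.centralizer_fittingSubgroup_le (Subgroup.mem_centralizer_iff.mpr fun c hc => ?_)
    obtain ⟨c₀, hc₀⟩ := hFqc.exists_generator (α := Fq)
    obtain ⟨i, hi⟩ := Subgroup.mem_zpowers_iff.mp (hc₀ ⟨c, hc⟩)
    have hact : ∀ z : G ⧸ H, ∃ m : ℤ, ∀ u ∈ Fq, z * u * z⁻¹ = u ^ m := by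
      intro z
      obtain ⟨m, hm⟩ := MonoidHom.map_cyclic (MulAut.conjNormal (H := Fq) z).toMonoidHom
      exact ⟨m, fun u hu => by simpa using congrArg Subtype.val (hm ⟨u, hu⟩)⟩
    obtain ⟨m, hm⟩ := hact x
    obtain ⟨l, hl⟩ := hact y
    obtain ⟨m', hm'⟩ := hact x⁻¹
    obtain ⟨l', hl'⟩ := hact y⁻¹
    have e1 : x * y * x⁻¹ * y⁻¹ * c * (x * y * x⁻¹ * y⁻¹)⁻¹ = c := by
      have h1 : (c ^ m') ^ m = c := by rw [← hm _ (Fq.zpow_mem hc m'), ← hm' c hc]; group
      have h2 : (c ^ l') ^ l = c := by rw [← hl _ (Fq.zpow_mem hc l'), ← hl' c hc]; group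
      calc x * y * x⁻¹ * y⁻¹ * c * (x * y * x⁻¹ * y⁻¹)⁻¹
          = x * (y * (x⁻¹ * (y⁻¹ * c * y⁻¹⁻¹) * x⁻¹⁻¹) * y⁻¹) * x⁻¹ := by group
        _ = x * (y * ((c ^ l') ^ m') * y⁻¹) * x⁻¹ := by
          rw [hl' c hc, hm' _ (Fq.zpow_mem hc l')]
        _ = (((c ^ l') ^ m') ^ l) ^ m := by
          rw [hl _ (Fq.zpow_mem (Fq.zpow_mem hc l') m'),
            hm _ (Fq.zpow_mem (Fq.zpow_mem (Fq.zpow_mem hc l') m') l)]
        _ = (((c ^ l') ^ l) ^ m') ^ m := by rw [zpow_comm (c ^ l') m' l]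
        _ = c := by rw [h2, h1]
    exact (mul_inv_eq_iff_eq_mul.mp e1).symm
  have hquot : ∀ x : G ⧸ H, (orderOf x).Coprime p → x ∈ Fq := by
    intro x hx
    obtain ⟨x, rfl⟩ := hfs x
    set T := Fq ⊔ Subgroup.zpowers (f x)
    have hTn : T.Normal := ⟨fun t ht z => by
      have : z * t * z⁻¹ * t⁻¹ ∈ T := Subgroup.mem_sup_left (hab z t)
      simpa using T.mul_mem this ht⟩
    set N₀ := T.comap f
    have hN₀n : N₀.Normal := hTn.comap f
    have hMN : M ≤ N₀ := Subgroup.comap_mono le_sup_left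
    have hN₀map : N₀.map f = T := Subgroup.map_comap_eq_self_of_surjective hfs _
    have hTp : ¬ p ∣ Nat.card T := by
      intro hd
      obtain ⟨t, ht⟩ := exists_prime_orderOf_dvd_card' (G := T) p hd
      obtain ⟨u, hu, w, hw, huw⟩ := (CfsgLib.Coprime.mem_sup_of_le_normalizer
        (le_top.trans (Subgroup.normalizer_eq_top Fq).ge)).mp t.2
      have h1 : ((t : G ⧸ H)) ^ (Nat.card Fq * orderOf (f x)) = 1 := by
        have hq : (QuotientGroup.mk' Fq (t : G ⧸ H)) ^ orderOf (f x) = 1 := by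
          rw [← huw, map_mul, show QuotientGroup.mk' Fq u = 1 from (QuotientGroup.eq_one_iff u).mpr hu,
            one_mul, ← map_pow]
          obtain ⟨i, rfl⟩ := Subgroup.mem_zpowers_iff.mp hw
          rw [← zpow_natCast, ← zpow_mul, mul_comm, zpow_mul, zpow_natCast, pow_orderOf_eq_one, one_zpow,
            map_one]
        rw [← map_pow] at hq
        have := pow_card_eq_one' (x := (⟨_, (QuotientGroup.eq_one_iff _).mp hq⟩ : Fq))
        rw [mul_comm, pow_mul]
        exact congrArg Subtype.val this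
      have h2 := orderOf_dvd_of_pow_eq_one h1
      rw [Subgroup.orderOf_coe, ht] at h2
      exact (hp.out.dvd_mul.mp h2).elim hFqp (hp.out.coprime_iff_not_dvd.mp hx.symm)
    have hH0 : H ≤ N₀ := hHM.trans hMN
    have hi0 : ¬ p ∣ (H.subgroupOf N₀).index := by
      have h := (H.subgroupOf N₀).index_mul_card
      rw [Nat.card_congr (Subgroup.subgroupOfEquivOfLe hH0).toEquiv, hn,
        show Nat.card N₀ = Nat.card T * p ^ n by rw [CfsgLib.Solvable.card_comap_mk', hn]] at h
      rwa [Nat.eq_of_mul_eq_mul_right (pow_pos hp.out.pos n) h]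
    set P₀ : Sylow p N₀ := (hHp.comap_subtype (K := N₀)).toSylow hi0
    have hP₀c : (P₀ : Subgroup N₀) = H.subgroupOf N₀ := rfl
    have hnn₀ : ¬ Group.IsNilpotent N₀ := fun h => hMnn
      ((Group.isNilpotent_congr (Subgroup.subgroupOfEquivOfLe hMN)).mp (by have := h; infer_instance))
    obtain ⟨-, -, -, hqn⟩ := frobenius_of_normal_sylow (isCNGroup_subgroup hCN N₀) hnn₀ P₀
      (fun h => hT (by
        have := congrArg (Subgroup.map N₀.subtype) (hP₀c ▸ h)
        rwa [Subgroup.map_subgroupOf_eq_of_le hH0, Subgroup.map_bot] at this))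
      (hP₀c ▸ Subgroup.normal_subgroupOf)
    have hfh : Cfsg.fittingHall N₀ ≤ H.subgroupOf N₀ := by
      obtain ⟨hnil, -⟩ := fittingHall_spec N₀
      have hnormal : (H.subgroupOf N₀).Normal := Subgroup.normal_subgroupOf
      have hmemH : (H.subgroupOf N₀) ≤ Cfsg.fittingHall N₀ := le_sSup ⟨hnormal,
        (hHp.comap_subtype (K := N₀)).isNilpotent, by
        rw [Nat.card_congr (Subgroup.subgroupOfEquivOfLe hH0).toEquiv, hn]
        exact (hp.out.coprime_iff_not_dvd.mpr hi0).pow_left n⟩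
      rw [← iSup_pPart hnil]
      refine iSup_le fun q u hu => ?_
      obtain ⟨i, hi⟩ := exists_pow_eq_one_of_mem_pPart hu
      by_cases hqp : (q : ℕ) = p
      · rw [hqp] at hu
        have : (P₀ : Subgroup N₀).Normal := hP₀c ▸ hnormal
        have := P₀.3 (P₀.2.to_sup_of_normal_left (pPart_isPGroup p (Cfsg.fittingHall N₀))) le_sup_left
        exact hP₀c ▸ this ▸ Subgroup.mem_sup_right hu
      · refine hCH fun h hh => ?_
        obtain ⟨j, hj⟩ := hHp ⟨h, hh⟩
        exact congrArg Subtype.val (commute_of_mem_nilpotent hnil (a := (⟨h, hH0 hh⟩ : N₀)) (b := u)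
          (hmemH hh) (pPart_le _ _ hu)
          (coprime_orderOf_of_prime_ne hp.out q.2 (Ne.symm hqp)
            (show (⟨h, hH0 hh⟩ : N₀) ^ p ^ j = 1 from
              Subtype.ext (by simpa using congrArg Subtype.val hj)) hi))
    let ψ : N₀ →* T := (f.comp N₀.subtype).codRestrict T fun y => y.2
    have hψ : Function.Surjective ψ := fun t => by
      obtain ⟨y, hy⟩ := hfs (t : G ⧸ H)
      exact ⟨⟨y, by show f y ∈ T; rw [hy]; exact t.2⟩, Subtype.ext hy⟩
    have hker : Cfsg.fittingHall N₀ ≤ ψ.ker := fun y hy =>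
      MonoidHom.mem_ker.mpr (Subtype.ext ((QuotientGroup.eq_one_iff _).mpr (hfh hy)))
    have hTnil : Group.IsNilpotent T := by
      have := hqn
      refine Group.nilpotent_of_surjective (QuotientGroup.lift _ ψ hker) fun t => ?_
      obtain ⟨y, hy⟩ := hψ t
      exact ⟨QuotientGroup.mk y, hy⟩
    exact CfsgLib.Solvable.le_fittingSubgroup hTn hTnil (Subgroup.mem_sup_right (Subgroup.mem_zpowers _))
  have hMi : ∃ i, M.index = p ^ i := by
    rw [hMdef, Subgroup.index_comap_of_surjective _ hfs, Subgroup.index_eq_card]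
    refine IsPGroup.iff_card.mp fun y => ?_
    induction y using QuotientGroup.induction_on with
    | _ y =>
      refine ⟨(orderOf y).factorization p, ?_⟩
      rw [← QuotientGroup.mk_pow, QuotientGroup.eq_one_iff]
      refine hquot _ ?_
      rw [orderOf_pow' y (pow_ne_zero _ hp.out.ne_zero), Nat.gcd_eq_right (Nat.ordProj_dvd (orderOf y) p)]
      exact (Nat.coprime_ordCompl hp.out (orderOf_pos y).ne').symm
  refine ⟨hT, A, hA1, hAcyc, hAodd, hAcop, hsup.symm ▸ hMn, ?_, hsup.symm ▸ hMi, hfpf, ?_⟩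
  · intro htop
    rw [hsup] at htop
    apply hFqp
    have : Fq = ⊤ := by rw [← hMmap, htop, Subgroup.map_top_of_surjective _ hfs]
    rw [this, Subgroup.card_top, ← Subgroup.index_eq_card]
    exact hidx
  intro x hx a ha ha1 hxa
  rw [hsup] at hx
  obtain ⟨h, hh, k, hk, rfl⟩ := hfrat x
  have hka : k * a * k⁻¹ * a⁻¹ ∈ H ⊓ A := by
    refine ⟨?_, A.mul_mem ((Subgroup.mem_normalizer_iff.mp hk a).mp ha) (A.inv_mem ha)⟩
    refine (QuotientGroup.eq_one_iff _).mp ?_
    show f (k * a * k⁻¹ * a⁻¹) = 1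
    have hfh : f h = 1 := (QuotientGroup.eq_one_iff h).mpr hh
    have h1 : f (h * k * a * (h * k)⁻¹ * a⁻¹) = 1 := (QuotientGroup.eq_one_iff _).mpr hxa
    simpa [map_mul, hfh] using h1
  rw [hHA, Subgroup.mem_bot, mul_inv_eq_one, mul_inv_eq_iff_eq_mul] at hka
  apply hx
  set m := orderOf k / p ^ (orderOf k).factorization p
  have hkm : (k ^ m) ^ p ^ (orderOf k).factorization p = 1 := by
    rw [← pow_mul, Nat.div_mul_cancel (Nat.ordProj_dvd _ _), pow_orderOf_eq_one]
  refine M.mul_mem (hHM hh) ?_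
  by_cases hkm1 : k ^ m = 1
  · show f k ∈ Fq
    exact hquot _ (((Nat.coprime_ordCompl hp.out (orderOf_pos k).ne').symm.coprime_dvd_left
      (orderOf_dvd_of_pow_eq_one hkm1)).coprime_dvd_left (orderOf_map_dvd f k))
  · exact absurd (hpfpf _ (pow_mem hk m) _ hkm hkm1 a ha ((show Commute k a from hka).pow_left m).eq) ha1

omit hCN in
/-- A nilpotent group acting fixed-point-freely is cyclic or cyclic odd times quaternion. -/
theorem cyclic_or_quaternion_product {E : Type u} [Group E] [Finite E] (hE : Group.IsNilpotent E)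
    {V : Type u} [CommGroup V] [Finite V] [Nontrivial V] (φ : E →* MulAut V)
    (hfpf : ∀ e : E, e ≠ 1 → ∀ v : V, φ e v = v → v = 1) :
    IsCyclic E ∨ ∃ C Q : Subgroup E, C ⊔ Q = ⊤ ∧ (∀ a ∈ C, ∀ b ∈ Q, a * b = b * a) ∧ IsCyclic C ∧
      Odd (Nat.card C) ∧ ∃ n : ℕ, Nonempty (↥Q ≃* QuaternionGroup (2 ^ n)) := by
  have : Fact (Nat.Prime 2) := ⟨Nat.prime_two⟩
  obtain ⟨P⟩ := (inferInstance : Nonempty (Sylow 2 E))
  rcases CfsgLib.Solvable.isCyclic_or_quaternion_of_fpf φ hfpf P with hc | ⟨-, n, ⟨e⟩⟩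
  · left
    have : IsZGroup E := ⟨fun q hq T => by
      have := Fact.mk hq
      rcases CfsgLib.Solvable.isCyclic_or_quaternion_of_fpf φ hfpf T with h | ⟨h2, -⟩
      · exact h
      · subst h2
        obtain ⟨g, hg⟩ := MulAction.exists_smul_eq E P T
        exact isCyclic_of_surjective _ (Sylow.equiv P T).surjective⟩
    infer_instance
  · right
    have hPn : (P : Subgroup E).Normal :=
      ((Group.isNilpotent_of_finite_tfae (G := E)).out 0 3 rfl rfl).mp hE 2 inferInstance P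
    obtain ⟨k, hk⟩ := IsPGroup.iff_card.mp P.2
    obtain ⟨C, hC⟩ := Subgroup.exists_right_complement'_of_coprime (N := (P : Subgroup E))
      (hk ▸ ((Fact.out : Nat.Prime 2).coprime_iff_not_dvd.mpr P.not_dvd_index).pow_left k)
    have hCodd : Odd (Nat.card C) := by
      rw [← hC.symm.index_eq_card, ← Nat.not_even_iff_odd, even_iff_two_dvd]
      exact P.not_dvd_index
    refine ⟨C, (P : Subgroup E), by rw [sup_comm]; exact hC.sup_eq_top, fun a ha b hb => ?_, ?_, hCodd, n, ⟨e⟩⟩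
    · refine (commute_of_coprime_of_isNilpotent hE ?_).eq
      refine (Nat.Coprime.coprime_dvd_left (Subgroup.orderOf_dvd_natCard C ha) ?_).coprime_dvd_right
        (Subgroup.orderOf_dvd_natCard _ hb)
      rw [hk]
      exact (Nat.coprime_two_right.mpr hCodd).pow_right k
    · have := hE
      exact isCyclic_of_fpf_of_isNilpotent_of_odd (inferInstance : Group.IsNilpotent C) hCodd
        (φ.comp C.subtype) fun c hc v hv => hfpf c (fun h => hc (Subtype.ext h)) v hv

/-- The three cases for a solvable CN-group. -/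
theorem solvable_cn_cases [Group.IsSolvable G] :
    Group.IsNilpotent G ∨
      (∃ K E : Subgroup G, K.Normal ∧ Subgroup.IsComplement' K E ∧ Cfsg.IsFrobeniusComplement E ∧
        (IsCyclic E ∨ ∃ C Q : Subgroup G, C ⊔ Q = E ∧ (∀ a ∈ C, ∀ b ∈ Q, a * b = b * a) ∧ IsCyclic C ∧
          Odd (Nat.card C) ∧ ∃ n : ℕ, Nonempty (↥Q ≃* QuaternionGroup (2 ^ n)))) ∨
      ∃ p : ℕ, p.Prime ∧ Cfsg.IsThreeStepGroup p G := by
  by_cases hnil : Group.IsNilpotent G
  · exact Or.inl hnil
  right
  have : Nontrivial G := by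
    by_contra h
    rw [not_nontrivial_iff_subsingleton] at h
    exact hnil inferInstance
  obtain ⟨N, hNn, hN1, -, hmin⟩ := CfsgLib.Solvable.exists_minimal_normal_le
    (N := (⊤ : Subgroup G)) inferInstance top_ne_bot
  have := hNn
  have hNc := CfsgLib.Solvable.isMulCommutative_of_minimal_normal hN1 hmin
  obtain ⟨p, hp, hNp⟩ := CfsgLib.Solvable.exists_prime_pow_eq_one_of_minimal_normal hN1 hmin
  have := Fact.mk hp
  have hT : Cfsg.pCore p G ≠ ⊥ := fun h => hN1 (le_bot_iff.mp (h ▸ CfsgLib.Solvable.le_pCore hNn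
    (fun x => ⟨1, Subtype.ext (by simpa using hNp x x.2)⟩)))
  obtain ⟨S⟩ := (inferInstance : Nonempty (Sylow p G))
  rcases sylow_normal_or_threeStep hCN hT S with hS | h3
  · left
    have hS1 : (S : Subgroup G) ≠ ⊥ := fun h => hT (le_bot_iff.mp (h ▸ CfsgLib.Solvable.pCore_le_sylow S))
    obtain ⟨-, -, ⟨E, hEc, hEF, -⟩, -⟩ := frobenius_of_normal_sylow hCN hnil S hS1 hS
    refine ⟨_, E, inferInstance, hEc, hEF, ?_⟩
    obtain ⟨V, φ, hV, hV1, -, hfpf⟩ := CfsgLib.Solvable.exists_fpf_abelian hEF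
    have : Nontrivial V := (Subgroup.nontrivial_iff_ne_bot V).mpr hV1
    let _ : CommGroup V := { (inferInstance : Group V) with mul_comm := fun a b => hV.is_comm.comm a b }
    rcases cyclic_or_quaternion_product (isNilpotent_of_isFrobeniusComplement hCN hEF) φ hfpf with
      h | ⟨C, Q, hsup, hcomm, hC, hodd, n, ⟨e⟩⟩
    · exact Or.inl h
    · refine Or.inr ⟨C.map E.subtype, Q.map E.subtype, ?_, ?_, ?_, ?_, n,
        ⟨(Q.equivMapOfInjective E.subtype E.subtype_injective).symm.trans e⟩⟩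
      · rw [← Subgroup.map_sup, hsup, ← MonoidHom.range_eq_map, Subgroup.range_subtype]
      · rintro _ ⟨a, ha, rfl⟩ _ ⟨b, hb, rfl⟩
        exact congrArg E.subtype (hcomm a ha b hb)
      · exact isCyclic_of_surjective _ (C.equivMapOfInjective E.subtype E.subtype_injective).surjective
      · rwa [Subgroup.card_map_of_injective E.subtype_injective]
  · exact Or.inr ⟨p, hp, h3⟩

end CfsgLib.OddLocal
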