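import Mathlib

/-!
# Field and character preliminaries for the field configuration
-/

set_option autoImplicit false
set_option linter.unusedSectionVars false

namespace CfsgLib.OddLocal.FieldArith

open Polynomial

section field

variable {p q : ℕ} [Fact p.Prime] {F : Type*} [Field F] [Fintype F] [Algebra (ZMod p) F]

local notation "ι" => algebraMap (ZMod p) F

/-- The number of elements of norm one. -/
def nn (p q : ℕ) : ℕ := (p ^ q - 1) / (p - 1)

theorem nn_mul (p q : ℕ) : nn p q * (p - 1) = p ^ q - 1 :=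
  Nat.div_mul_cancel (by simpa using Nat.sub_dvd_pow_sub_pow p 1 q)

theorem nn_ne_zero (hq : q ≠ 0) : nn p q ≠ 0 := by
  intro h
  have h1 := nn_mul p q
  rw [h, zero_mul] at h1
  have h2 : p ≤ p ^ q := Nat.le_self_pow hq p
  have := (Fact.out : p.Prime).two_le
  omega

theorem eq_algebraMap_of_pow_eq {x : F} (hx : x ^ p = x) : ∃ c : ZMod p, ι c = x := by
  classical
  by_contra hc
  push Not at hc
  have hp := (Fact.out : p.Prime)
  set P : F[X] := X ^ p - X with hP
  have hP0 : P ≠ 0 := FiniteField.X_pow_card_sub_X_ne_zero F hp.one_lt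
  have hsub : insert x ((Finset.univ : Finset (ZMod p)).image (algebraMap (ZMod p) F)) ⊆
      P.roots.toFinset := by
    intro z hz
    rw [Finset.mem_insert, Finset.mem_image] at hz
    rw [Multiset.mem_toFinset, mem_roots hP0]
    rcases hz with rfl | ⟨c, -, rfl⟩
    · simp [hP, hx, sub_self]
    · simp [hP, ← map_pow, ZMod.pow_card, sub_self]
  have h1 := Finset.card_le_card hsub
  rw [Finset.card_insert_of_notMem (by simpa using hc),
    Finset.card_image_of_injective _ (algebraMap (ZMod p) F).injective, Finset.card_univ,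
    ZMod.card] at h1
  have hdeg : P.natDegree = p := FiniteField.X_pow_card_sub_X_natDegree_eq F hp.one_lt
  have h2 := (Multiset.toFinset_card_le P.roots).trans (card_roots' P)
  omega

variable (hq : q ≠ 0) (hcop : (nn p q).Coprime (p - 1)) (hF : Fintype.card F = p ^ q)

include hq hcop in
theorem pow_nn_injective : Function.Injective fun c : ZMod p => c ^ nn p q := by
  intro c d h
  simp only at h
  by_cases hc : c = 0
  · subst hc
    rw [zero_pow (nn_ne_zero (p := p) hq)] at h
    exact (eq_zero_of_pow_eq_zero h.symm).symm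
  by_cases hd : d = 0
  · subst hd
    rw [zero_pow (nn_ne_zero (p := p) hq)] at h
    exact eq_zero_of_pow_eq_zero h
  have h1 : (c / d) ^ nn p q = 1 := by rw [div_pow, h, div_self (pow_ne_zero _ hd)]
  have h2 : (c / d) ^ (p - 1) = 1 := ZMod.pow_card_sub_one_eq_one (div_ne_zero hc hd)
  have h3 := pow_gcd_eq_one.2 ⟨h1, h2⟩
  rw [hcop, pow_one, div_eq_one_iff_eq hd] at h3
  exact h3

include hq hcop hF in
theorem exists_cl (x : F) : ∃ c : ZMod p, (ι c) ^ nn p q = x ^ nn p q := by
  obtain ⟨r, hr⟩ : ∃ r : ZMod p, ι r = x ^ nn p q := by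
    apply eq_algebraMap_of_pow_eq
    by_cases hx : x = 0
    · simp [hx, zero_pow (nn_ne_zero (p := p) hq), zero_pow (Fact.out : p.Prime).ne_zero]
    · have h1 : (x ^ nn p q) ^ (p - 1) = 1 := by
        rw [← pow_mul, nn_mul, ← hF]
        exact FiniteField.pow_card_sub_one_eq_one x hx
      calc (x ^ nn p q) ^ p = (x ^ nn p q) ^ (p - 1 + 1) := by
            rw [Nat.sub_add_cancel (Fact.out : p.Prime).one_le]
        _ = x ^ nn p q := by rw [pow_succ, h1, one_mul]
  obtain ⟨c, hc⟩ := (Finite.injective_iff_surjective.1 (pow_nn_injective hq hcop)) r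
  exact ⟨c, by rw [← map_pow, ← hr]; exact congrArg _ hc⟩

/-- The class of `x`: the `n`th root of its norm. -/
noncomputable def cl (p q : ℕ) [Algebra (ZMod p) F] (x : F) : ZMod p :=
  open Classical in
  if h : ∃ c : ZMod p, (algebraMap (ZMod p) F c) ^ nn p q = x ^ nn p q then h.choose else 0

include hq hcop hF in
theorem cl_spec (x : F) : (ι (cl p q x)) ^ nn p q = x ^ nn p q := by
  rw [cl, dif_pos (exists_cl hq hcop hF x)]
  exact (exists_cl hq hcop hF x).choose_spec

include hq hcop hF in
theorem cl_eq {x : F} {c : ZMod p} (h : (ι c) ^ nn p q = x ^ nn p q) : cl p q x = c := by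
  apply pow_nn_injective hq hcop
  apply (algebraMap (ZMod p) F).injective
  simp only [map_pow]
  rw [cl_spec hq hcop hF, h]

include hq hcop hF in
theorem cl_smul (c : ZMod p) (x : F) : cl p q (ι c * x) = c * cl p q x := by
  apply cl_eq hq hcop hF
  rw [map_mul, mul_pow, mul_pow, cl_spec hq hcop hF]

include hq hcop hF in
theorem cl_algebraMap (c : ZMod p) : cl p q (ι c) = c := cl_eq hq hcop hF rfl

include hq hcop hF in
theorem cl_neg (x : F) : cl p q (-x) = -cl p q x := by
  have h := cl_smul hq hcop hF (-1) x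
  simpa [map_neg, map_one] using h

include hq hcop hF in
theorem cl_ne_zero {x : F} (hx : x ≠ 0) : cl p q x ≠ 0 := by
  intro h
  have := cl_spec hq hcop hF x
  rw [h, map_zero, zero_pow (nn_ne_zero (p := p) hq)] at this
  exact pow_ne_zero _ hx this.symm

include hq hcop hF in
theorem exists_unit_part {x : F} (hx : x ≠ 0) :
    ∃ w, w ^ nn p q = 1 ∧ x = ι (cl p q x) * w := by
  have hc : ι (cl p q x) ≠ 0 :=
    (map_ne_zero_iff _ (algebraMap (ZMod p) F).injective).2 (cl_ne_zero hq hcop hF hx)
  refine ⟨x / ι (cl p q x), ?_, by field_simp⟩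
  rw [div_pow, cl_spec hq hcop hF, div_self (pow_ne_zero _ hx)]

include hq in
theorem eq_zero_of_pow_nn (hqp : q < p) [CharP F p] {T : F}
    (h : ∀ c : ZMod p, (1 + ι c * T) ^ nn p q = 1) : T = 0 := by
  have hp := (Fact.out : p.Prime)
  have hn : nn p q = ∑ i ∈ Finset.range q, p ^ i := (Nat.geomSum_eq hp.two_le q).symm
  set R : F[X] := ∏ i ∈ Finset.range q, (1 + C (T ^ p ^ i) * X) - 1 with hR
  have hev : ∀ c : ZMod p, R.eval (ι c) = 0 := by
    intro c
    rw [hR, eval_sub, eval_prod, eval_one, sub_eq_zero]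
    conv_rhs => rw [← h c, hn, ← Finset.prod_pow_eq_pow_sum]
    refine Finset.prod_congr rfl fun i _ => ?_
    rw [add_pow_char_pow, one_pow, mul_pow, ← map_pow, ZMod.pow_card_pow]
    simp only [eval_add, eval_one, eval_mul, eval_C, eval_X]
    ring
  have hdeg : R.natDegree < Fintype.card (ZMod p) := by
    rw [ZMod.card, hR]
    refine lt_of_le_of_lt ((natDegree_sub_le _ _).trans ?_) hqp
    simp only [natDegree_one, max_le_iff, zero_le, and_true]
    refine (natDegree_prod_le _ _).trans ?_
    refine (Finset.sum_le_card_nsmul _ _ 1 fun i _ => ?_).trans (by simp)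
    compute_degree
  have hR0 : R = 0 := eq_zero_of_natDegree_lt_card_of_eval_eq_zero R
    (algebraMap (ZMod p) F).injective hev hdeg
  by_contra hT
  have h1 := congrArg (Polynomial.eval (-T⁻¹)) hR0
  rw [hR, eval_sub, eval_prod, eval_one, eval_zero, sub_eq_zero,
    Finset.prod_eq_zero (Finset.mem_range.2 (Nat.pos_of_ne_zero hq))] at h1
  · exact zero_ne_one h1
  · simp [hT]

end field

/-- Characters from a cyclic operator of order `p` on an abelian group of order prime to `p`. -/
theorem exists_addChar {p : ℕ} [Fact p.Prime] {V : Type*} [AddCommGroup V] [Finite V]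
    (hV : (Nat.card V).Coprime p) (τ : V →+ V) (yq : ZMod p → V)
    (hτ : ∀ i, τ (yq i) = yq (i + 1)) (hne : yq 1 ≠ yq 0) :
    ∃ (K : Type) (_ : Field K) (e : AddChar (ZMod p) K), (∀ x, e x = 1 → x = 0) ∧ (p : K) ≠ 0 ∧
      ∀ i₁ i₂ i₃ i₄ i₅ i₆, yq i₁ - yq i₂ = yq i₃ - yq i₄ + yq i₅ - yq i₆ →
        e i₁ - e i₂ = e i₃ - e i₄ + e i₅ - e i₆ := by
  let T : AddMonoid.End V := τ
  set z := yq 1 - yq 0 with hz
  have hpow : ∀ (k : ℕ) (i : ZMod p), (T ^ k) (yq i) = yq (i + k) := by
    intro k
    induction k with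
    | zero => intro i; simp
    | succ k ih =>
      intro i
      rw [pow_succ']
      show τ ((T ^ k) (yq i)) = _
      rw [ih, hτ, Nat.cast_succ, add_assoc]
  let I : Ideal ℤ[X] :=
    { carrier := {r | (aeval T r) z = 0}
      add_mem' := fun {a b} (ha : (aeval T a) z = 0) (hb : (aeval T b) z = 0) => by
        show (aeval T (a + b)) z = 0
        rw [map_add]
        show (aeval T a) z + (aeval T b) z = 0
        rw [ha, hb, add_zero]
      zero_mem' := by
        show (aeval T (0 : ℤ[X])) z = 0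
        rw [map_zero]
        rfl
      smul_mem' := fun s a (ha : (aeval T a) z = 0) => by
        show (aeval T (s * a)) z = 0
        rw [map_mul]
        show (aeval T s) ((aeval T a) z) = 0
        rw [ha]
        exact _root_.map_zero (aeval T s) }
  have hI : ∀ r : ℤ[X], r ∈ I ↔ (aeval T r) z = 0 := fun r => Iff.rfl
  have hmon : ∀ k : ℕ, (aeval T (X ^ k : ℤ[X])) z = yq (1 + k) - yq k := by
    intro k
    rw [map_pow, aeval_X, hz, _root_.map_sub (T ^ k), hpow, hpow, zero_add]
  have hper : (X ^ p - 1 : ℤ[X]) ∈ I := by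
    rw [hI, map_sub (aeval (R := ℤ) T)]
    show (aeval T (X ^ p : ℤ[X])) z - (aeval T (1 : ℤ[X])) z = 0
    rw [hmon, map_one, ZMod.natCast_self, add_zero]
    exact sub_self _
  have hcard : ((Nat.card V : ℕ) : ℤ[X]) ∈ I := by
    rw [hI, map_natCast, AddMonoid.End.natCast_apply]
    exact card_nsmul_eq_zero'
  have hgeom : (∑ k ∈ Finset.range p, X ^ k : ℤ[X]) ∈ I := by
    have happly : ∀ s : Finset ℕ, (aeval T (∑ k ∈ s, X ^ k : ℤ[X])) z =
        ∑ k ∈ s, (yq ((1 : ZMod p) + k) - yq k) := by
      intro s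
      induction s using Finset.induction with
      | empty => rw [Finset.sum_empty, map_zero]; rfl
      | insert a s has ih =>
        rw [Finset.sum_insert has, map_add, Finset.sum_insert has, ← hmon, ← ih]
        rfl
    rw [hI, happly]
    have h1 := Finset.sum_range_sub (fun k : ℕ => yq (k : ZMod p)) p
    simp only [Nat.cast_succ, ZMod.natCast_self, Nat.cast_zero, sub_self] at h1
    rw [← h1]
    exact Finset.sum_congr rfl fun k _ => by rw [add_comm]
  have hItop : I ≠ ⊤ := by
    rw [Ideal.ne_top_iff_one, hI, map_one]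
    show z ≠ 0
    exact sub_ne_zero.2 hne
  obtain ⟨M, hM, hIM⟩ := Ideal.exists_le_maximal I hItop
  let π := Ideal.Quotient.mk M
  have hπ : ∀ r ∈ I, π r = 0 := fun r hr => Ideal.Quotient.eq_zero_iff_mem.2 (hIM hr)
  let : Field (ℤ[X] ⧸ M) := Ideal.Quotient.field M
  set ζ := π X with hζ
  have hζp : ζ ^ p = 1 := by
    have := hπ _ hper
    rwa [map_sub, map_pow, map_one, sub_eq_zero] at this
  have hp0 : (p : ℤ[X] ⧸ M) ≠ 0 := by
    intro h0
    have hm : ((Nat.card V : ℕ) : ℤ[X] ⧸ M) = 0 := by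
      have := hπ _ hcard
      rwa [map_natCast] at this
    have h1 := congrArg (fun z : ℤ => (z : ℤ[X] ⧸ M)) (Nat.gcd_eq_gcd_ab (Nat.card V) p)
    simp only [Int.cast_add, Int.cast_mul, Int.cast_natCast, hV.gcd_eq_one, Nat.cast_one,
      Int.cast_one, hm, h0, zero_mul, add_zero] at h1
    exact one_ne_zero h1
  have hζ1 : ζ ≠ 1 := by
    intro h1
    have := hπ _ hgeom
    rw [map_sum] at this
    simp only [map_pow, ← hζ, h1, one_pow, Finset.sum_const, Finset.card_range, nsmul_eq_mul,
      mul_one] at this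
    exact hp0 this
  let e : AddChar (ZMod p) (ℤ[X] ⧸ M) :=
    { toFun := fun i => ζ ^ i.val
      map_zero_eq_one' := by simp
      map_add_eq_mul' := fun a b => by
        rw [ZMod.val_add, ← pow_add]
        exact (pow_eq_pow_mod _ hζp).symm }
  refine ⟨ℤ[X] ⧸ M, inferInstance, e, ?_, hp0, ?_⟩
  · intro x hx
    by_contra hx0
    have hv : ¬ p ∣ x.val := fun h => hx0 ((ZMod.val_eq_zero x).1
      (Nat.eq_zero_of_dvd_of_lt h (ZMod.val_lt x)))
    have h1 := pow_gcd_eq_one.2 ⟨(show ζ ^ x.val = 1 from hx), hζp⟩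
    rw [((Fact.out : p.Prime).coprime_iff_not_dvd.2 hv).symm.gcd_eq_one, pow_one] at h1
    exact hζ1 h1
  · intro i₁ i₂ i₃ i₄ i₅ i₆ hrel
    have hr : (X ^ i₁.val - X ^ i₂.val -
        (X ^ i₃.val - X ^ i₄.val + X ^ i₅.val - X ^ i₆.val) : ℤ[X]) ∈ I := by
      rw [hI]
      simp only [map_sub, map_add]
      show (aeval T (X ^ i₁.val : ℤ[X])) z - (aeval T (X ^ i₂.val : ℤ[X])) z -
        ((aeval T (X ^ i₃.val : ℤ[X])) z - (aeval T (X ^ i₄.val : ℤ[X])) z +
          (aeval T (X ^ i₅.val : ℤ[X])) z - (aeval T (X ^ i₆.val : ℤ[X])) z) = 0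
      simp only [hmon, ZMod.natCast_zmod_val]
      have h' := congrArg τ hrel
      simp only [_root_.map_sub, _root_.map_add, hτ] at h'
      rw [← sub_eq_zero] at hrel h'
      simp only [add_comm (1 : ZMod p)]
      linear_combination (norm := module) h' - hrel
    have := hπ _ hr
    simp only [map_sub, map_add, map_pow, sub_eq_zero] at this
    exact this

end CfsgLib.OddLocal.FieldArith
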