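import Mathlib

/-!
# The scalar equations of the field configuration

A function `H` on `ZMod p` which satisfies, at the two levels `2 d` and `d`, the additive
equation and the character equation of a scalar triangle is `x ↦ -x`.
-/

set_option autoImplicit false

namespace CfsgLib.OddLocal.FieldScalar

variable {p : ℕ} [Fact p.Prime] {K : Type*} [Field K] (e : AddChar (ZMod p) K)

/-- The odd part of a character. -/
def odd (r h : ZMod p) : K := e (r * h) - e (-(r * h))

/-- The coefficient of `r` in `odd e r`, read at `s`. -/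
def coeff (r s : ZMod p) : K := (if r = s then 1 else 0) - (if -r = s then 1 else 0)

variable (he : ∀ x, e x = 1 → x = 0) (hp0 : (p : K) ≠ 0)

include he in
theorem sum_char (t : ZMod p) :
    ∑ h : ZMod p, e (t * h) = if t = 0 then (p : K) else 0 := by
  split_ifs with ht
  · simp [ht, ZMod.card]
  · have h1 : ∑ h : ZMod p, e (t * h) = e t * ∑ h : ZMod p, e (t * h) := by
      rw [Finset.mul_sum]
      conv_lhs => rw [← Equiv.sum_comp (Equiv.addRight (1 : ZMod p))]
      refine Finset.sum_congr rfl fun h _ => ?_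
      rw [← AddChar.map_add_eq_mul, Equiv.coe_addRight]
      congr 1
      ring
    have h2 : (e t - 1) * ∑ h : ZMod p, e (t * h) = 0 := by linear_combination -h1
    exact (mul_eq_zero.1 h2).resolve_left fun h3 => ht (he _ (sub_eq_zero.1 h3))

include he hp0 in
/-- Independence of characters, for four odd parts. -/
theorem coeff_eq_zero {c₁ c₂ c₃ c₄ : K} {r₁ r₂ r₃ r₄ : ZMod p}
    (h : ∀ x, c₁ * odd e r₁ x + c₂ * odd e r₂ x + c₃ * odd e r₃ x + c₄ * odd e r₄ x = 0)
    (s : ZMod p) :
    c₁ * coeff r₁ s + c₂ * coeff r₂ s + c₃ * coeff r₃ s + c₄ * coeff r₄ s = 0 := by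
  have hr : ∀ r : ZMod p, ∑ x, odd e r x * e (-(s * x)) = (p : K) * coeff r s := by
    intro r
    have hx : ∀ x, odd e r x * e (-(s * x)) = e ((r - s) * x) - e ((-r - s) * x) := by
      intro x
      rw [odd, sub_mul, ← AddChar.map_add_eq_mul, ← AddChar.map_add_eq_mul]
      congr 2 <;> ring
    rw [Finset.sum_congr rfl fun x _ => hx x, Finset.sum_sub_distrib, sum_char e he,
      sum_char e he, coeff, mul_sub]
    simp [sub_eq_zero, mul_ite]
  have h0 : ∑ x, (c₁ * odd e r₁ x + c₂ * odd e r₂ x + c₃ * odd e r₃ x + c₄ * odd e r₄ x)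
      * e (-(s * x)) = 0 := Finset.sum_eq_zero fun x _ => by rw [h x, zero_mul]
  simp only [add_mul, mul_assoc, Finset.sum_add_distrib, ← Finset.mul_sum, hr] at h0
  refine mul_left_cancel₀ hp0 ?_
  rw [mul_zero]
  linear_combination h0

theorem natCast_ne_zero_of_lt {m : ℕ} (hm : 0 < m) (hmp : m < p) : (m : ZMod p) ≠ 0 := by
  rw [Ne, ZMod.natCast_eq_zero_iff]
  exact Nat.not_dvd_of_pos_of_lt hm hmp

/-- The equations carried by a scalar triangle at level `L`. -/
def Eqn (H : ZMod p → ZMod p) (L : ZMod p) : Prop :=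
  ∀ x, x ≠ L - x →
    H x - H (L - x) = (2 * x - L) / L * H L ∧
    e ((2 * x - L) / L * H L - L) - e (-L) =
      e (H x - x) - e (-x) + e ((2 * x - L) / L * H L - L + x) - e (H x - L + x)

variable (hp5 : 5 ≤ p) {H : ZMod p → ZMod p} {d : ZMod p} (hd : d ≠ 0)

include he in
theorem eq_zero_of_H_eq_zero {L x : ZMod p} (hE : Eqn e H L) (hxL : x ≠ L - x) (hx : x ≠ 0)
    (hH : H x = 0) : (2 * x - L) / L * H L = 0 := by
  obtain ⟨-, h⟩ := hE x hxL
  rw [hH] at h
  set c := (2 * x - L) / L * H L
  have e1 : e (c - L) = e c * e (-L) := by rw [← AddChar.map_add_eq_mul]; congr 1; ring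
  have e2 : e (c - L + x) = e c * e (x - L) := by rw [← AddChar.map_add_eq_mul]; congr 1; ring
  rw [e1, e2, show (0 : ZMod p) - L + x = x - L by ring, show (0 : ZMod p) - x = -x by ring] at h
  have hfac : (e c - 1) * (e (-L) - e (x - L)) = 0 := by linear_combination h
  rcases mul_eq_zero.1 hfac with h1 | h1
  · exact he c (sub_eq_zero.1 h1)
  · exfalso
    apply hx
    apply he
    have h2 : e (x - L) = e x * e (-L) := by rw [← AddChar.map_add_eq_mul]; congr 1; ring
    have h3 : e (-L) ≠ 0 := by
      intro h3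
      have h4 := e.map_add_eq_mul (-L) L
      rw [neg_add_cancel, AddChar.map_zero_eq_one, h3, zero_mul] at h4
      exact one_ne_zero h4
    rw [h2] at h1
    exact mul_right_cancel₀ h3 (by linear_combination -h1)

include he hp5 hd in
theorem H_ne_zero (hE : Eqn e H (2 * d)) (hE' : Eqn e H d) (hL : H (2 * d) ≠ 0) :
    ∀ x, x ≠ 0 → H x ≠ 0 := by
  have h2 : (2 : ZMod p) ≠ 0 := by exact_mod_cast natCast_ne_zero_of_lt (p := p) two_pos (by omega)
  have h3 : (3 : ZMod p) ≠ 0 := by exact_mod_cast natCast_ne_zero_of_lt (p := p) three_pos (by omega)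
  intro x hx hH
  by_cases hxd : x = d
  · subst hxd
    have hx2 : 2 * x ≠ x - 2 * x := fun h => hd (mul_left_cancel₀ h3 (by linear_combination h))
    have h4 := (hE' (2 * x) hx2).1
    rw [hH, mul_zero] at h4
    have h5 : H (x - 2 * x) ≠ 0 := by rwa [← sub_eq_zero.1 h4]
    have hx3 : x - 2 * x ≠ x - (x - 2 * x) := fun h => hx2 (by linear_combination -h)
    have h6 := eq_zero_of_H_eq_zero e he hE' (x := x) (fun h => hd (by linear_combination h)) hx hH
    rw [hH, mul_zero] at h6
    -- at level `x` the value vanishes; propagate to `2 * x`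
    obtain ⟨-, h7⟩ := hE' (2 * x) hx2
    rw [hH, mul_zero, show (0 : ZMod p) - x = -x by ring, sub_self,
      show H (2 * x) - x + 2 * x = H (2 * x) + x by ring,
      show -x + 2 * x = x by ring, AddChar.map_add_eq_mul, show H (2 * x) - 2 * x = H (2 * x) + -(2 * x) by ring,
      AddChar.map_add_eq_mul] at h7
    have hfac : (e (H (2 * x)) - 1) * (e (-(2 * x)) - e x) = 0 := by linear_combination -h7
    rcases mul_eq_zero.1 hfac with h8 | h8
    · exact hL (he _ (sub_eq_zero.1 h8))
    · refine hd (mul_left_cancel₀ h3 ?_)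
      rw [mul_zero]
      apply he
      have h9 : e (3 * x) * e (-(2 * x)) = e x := by rw [← AddChar.map_add_eq_mul]; congr 1; ring
      rw [sub_eq_zero.1 h8] at h9
      refine mul_right_cancel₀ (b := e x) ?_ (by rw [h9, one_mul])
      intro h10
      have := e.map_add_eq_mul x (-x)
      rw [add_neg_cancel, AddChar.map_zero_eq_one, h10, zero_mul] at this
      exact one_ne_zero this
  · have hxL : x ≠ 2 * d - x := fun h => hxd (mul_left_cancel₀ h2 (by linear_combination h))
    have h4 := eq_zero_of_H_eq_zero e he hE hxL hx hH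
    rw [mul_eq_zero, div_eq_zero_iff] at h4
    rcases h4 with (h4 | h4) | h4
    · exact hxL (by linear_combination h4)
    · exact (mul_ne_zero h2 hd) h4
    · exact hL h4

include hp5 hd in
theorem H_quadratic (h0 : H 0 = 0) (hE : Eqn e H (2 * d)) (hE' : Eqn e H d) :
    ∃ a b : ZMod p, ∀ x, H x = a * x ^ 2 + b * x := by
  have h2 : (2 : ZMod p) ≠ 0 := by exact_mod_cast natCast_ne_zero_of_lt (p := p) two_pos (by omega)
  have r1 : ∀ y, H (y + d) - H (d - y) = y / d * H (2 * d) := by
    intro y
    by_cases hy : y + d = 2 * d - (y + d)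
    · have : y = 0 := mul_left_cancel₀ h2 (by linear_combination hy)
      subst this
      simp
    · have h := (hE (y + d) hy).1
      rw [show 2 * d - (y + d) = d - y by ring] at h
      rw [h]
      field_simp
      ring
  have r2 : ∀ y, H y - H (d - y) = (2 * y - d) / d * H d := by
    intro y
    by_cases hy : y = d - y
    · rw [← hy, sub_self, show 2 * y - d = 0 by linear_combination hy, zero_div, zero_mul]
    · exact (hE' y hy).1
  have step : ∀ y, H (y + d) = H y + y / d * (H (2 * d) - 2 * H d) + H d := by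
    intro y
    have e1 := r1 y
    have e2 := r2 y
    have e3 : (2 * y - d) / d = 2 * (y / d) - 1 := by field_simp
    rw [e3] at e2
    linear_combination e1 - e2
  refine ⟨(H (2 * d) - 2 * H d) / (2 * d ^ 2),
    H d / d - (H (2 * d) - 2 * H d) / (2 * d), fun x => ?_⟩
  obtain ⟨m, rfl⟩ : ∃ m : ℕ, (m : ZMod p) * d = x :=
    ⟨(x / d).val, by rw [ZMod.natCast_zmod_val, div_mul_cancel₀ _ hd]⟩
  induction m with
  | zero => simp [h0]
  | succ m ih =>
    rw [Nat.cast_succ, add_mul, one_mul, step, ih]
    field_simp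
    ring

variable (hE : Eqn e H (2 * d))

include he hp0 hp5 hd hE in
/-- The linear case. -/
theorem eq_one_of_linear {u : ZMod p} (hu : u ≠ 0) (hH : ∀ x, H x = -u * x) : u = 1 := by
  have h2 : (2 : ZMod p) ≠ 0 := by exact_mod_cast natCast_ne_zero_of_lt (p := p) two_pos (by omega)
  have h3 : (3 : ZMod p) ≠ 0 := by exact_mod_cast natCast_ne_zero_of_lt (p := p) three_pos (by omega)
  have key : ∀ h, e (-d) * odd e u h + (-e (-(u * d))) * odd e 1 h + (-1) * odd e (u - 1) h
      + 0 * odd e 0 h = 0 := by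
    intro h
    by_cases h0 : h = 0
    · subst h0; simp [odd]
    have hx : d - h ≠ 2 * d - (d - h) := fun hc =>
      h0 (mul_left_cancel₀ h2 (by linear_combination -hc))
    obtain ⟨-, hq⟩ := hE (d - h) hx
    rw [hH, hH, show (2 * (d - h) - 2 * d) / (2 * d) * (-u * (2 * d)) = 2 * u * h by
      field_simp; ring] at hq
    have hm := congrArg (fun z => e (d - u * h) * z) hq
    simp only [mul_add, mul_sub, ← AddChar.map_add_eq_mul] at hm
    simp only [odd]
    rw [mul_sub, mul_sub, ← AddChar.map_add_eq_mul, ← AddChar.map_add_eq_mul, neg_mul,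
      neg_mul, ← AddChar.map_add_eq_mul, ← AddChar.map_add_eq_mul]
    ring_nf at hm ⊢
    linear_combination hm
  by_contra hne
  by_cases hneg : u = -1
  · subst hneg
    have h := coeff_eq_zero e he hp0 key (-2)
    have a1 : (-1 : ZMod p) ≠ -2 := fun hc => one_ne_zero (α := ZMod p) (by linear_combination hc)
    have a2 : (1 : ZMod p) ≠ -2 := fun hc => h3 (by linear_combination hc)
    have a3 : (2 : ZMod p) ≠ -2 := fun hc => h2 (mul_left_cancel₀ h2 (by linear_combination hc))
    simp [coeff, a1, a2, a3, show (-1 : ZMod p) - 1 = -2 by ring, neg_neg] at h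
  · by_cases hu2 : u = 2
    · subst hu2
      have h := coeff_eq_zero e he hp0 key 2
      have a1 : (1 : ZMod p) ≠ 2 := fun hc => one_ne_zero (α := ZMod p) (by linear_combination -hc)
      have a2 : (-1 : ZMod p) ≠ 2 := fun hc => h3 (by linear_combination -hc)
      have a3 : (-2 : ZMod p) ≠ 2 := fun hc => h2 (mul_left_cancel₀ h2 (by linear_combination -hc))
      simp [coeff, a1, a2, a3, show (2 : ZMod p) - 1 = 1 by ring, h2.symm] at h
      exact (fun hz => one_ne_zero (α := K) (by
        have h4 := e.map_add_eq_mul (-d) d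
        rwa [neg_add_cancel, AddChar.map_zero_eq_one, hz, zero_mul] at h4)) h
    · have h := coeff_eq_zero e he hp0 key 1
      have a1 : -u ≠ 1 := fun hc => hneg (by linear_combination -hc)
      have a2 : u - 1 ≠ 1 := fun hc => hu2 (by linear_combination hc)
      have a3 : -(u - 1) ≠ 1 := fun hc => hu (by linear_combination -hc)
      have a4 : (-1 : ZMod p) ≠ 1 := fun hc => h2 (by linear_combination -hc)
      simp [coeff, hne, a1, a2, a4, hu] at h
      exact (fun hz => one_ne_zero (α := K) (by
        have h4 := e.map_add_eq_mul (-(u * d)) (u * d)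
        rwa [neg_add_cancel, AddChar.map_zero_eq_one, hz, zero_mul] at h4)) h

include hp5 hE hd in
/-- The equation of the quadratic case. -/
theorem quad_eqn {a : ZMod p} (hH : ∀ x, H x = a * x ^ 2) (h : ZMod p) :
    e (a * d ^ 2) * (e (a * h ^ 2) * odd e 1 h) =
      e (-d) * odd e (-2 * a * d) h + odd e (1 - -2 * a * d) h := by
  have h2 : (2 : ZMod p) ≠ 0 := by exact_mod_cast natCast_ne_zero_of_lt (p := p) two_pos (by omega)
  by_cases h0 : h = 0
  · subst h0; simp [odd]
  have hx : d - h ≠ 2 * d - (d - h) := fun hc =>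
    h0 (mul_left_cancel₀ h2 (by linear_combination -hc))
  obtain ⟨-, hq⟩ := hE (d - h) hx
  rw [hH, hH, show (2 * (d - h) - 2 * d) / (2 * d) * (a * (2 * d) ^ 2) = -4 * a * d * h by
    field_simp; ring] at hq
  have hm := congrArg (fun z => e (d + 2 * a * d * h) * z) hq
  simp only [mul_add, mul_sub, ← AddChar.map_add_eq_mul] at hm
  simp only [odd]
  simp only [mul_sub, ← AddChar.map_add_eq_mul]
  ring_nf at hm ⊢
  linear_combination -hm

include he hp0 hp5 hd hE in
/-- The quadratic case is impossible. -/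
theorem not_quadratic (hE' : Eqn e H d) {a : ZMod p} (ha : a ≠ 0)
    (hH : ∀ x, H x = a * x ^ 2) : False := by
  have h2 : (2 : ZMod p) ≠ 0 := by exact_mod_cast natCast_ne_zero_of_lt (p := p) two_pos (by omega)
  have h3 : (3 : ZMod p) ≠ 0 := by exact_mod_cast natCast_ne_zero_of_lt (p := p) three_pos (by omega)
  have h5 : ∀ x, e x ≠ 0 := by
    intro x hx
    have h4 := e.map_add_eq_mul x (-x)
    rw [add_neg_cancel, AddChar.map_zero_eq_one, hx, zero_mul] at h4
    exact one_ne_zero h4
  have hd2 : d / 2 ≠ 0 := div_ne_zero hd h2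
  have q1 := quad_eqn e hp5 hd hE hH
  have q2 := quad_eqn e hp5 (d := d / 2) hd2 (by rwa [mul_div_cancel₀ _ h2]) hH
  set b := -2 * a * d with hb
  have hb2 : -2 * a * (d / 2) = b / 2 := by rw [hb]; ring
  rw [hb2] at q2
  have hb0 : b ≠ 0 := mul_ne_zero (mul_ne_zero (neg_ne_zero.2 h2) ha) hd
  have key : ∀ h, (e (a * (d / 2) ^ 2) * e (-d)) * odd e b h
      + e (a * (d / 2) ^ 2) * odd e (1 - b) h
      + (-(e (a * d ^ 2) * e (-(d / 2)))) * odd e (b / 2) h
      + (-e (a * d ^ 2)) * odd e (1 - b / 2) h = 0 := by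
    intro h
    linear_combination e (a * d ^ 2) * q2 h - e (a * (d / 2) ^ 2) * q1 h
  obtain ⟨c, hc⟩ : ∃ c, b = 2 * c := ⟨b / 2, by field_simp⟩
  rw [show b / 2 = c by rw [hc]; field_simp, hc] at key
  have hc0 : c ≠ 0 := fun h => hb0 (by rw [hc, h, mul_zero])
  by_cases e1 : 3 * c = 1
  · have ha' := coeff_eq_zero e he hp0 key (2 * c)
    have hb' := coeff_eq_zero e he hp0 key c
    have t1 : 1 - 2 * c = c := by linear_combination -e1
    have t2 : 1 - c = 2 * c := by linear_combination -e1
    have n1 : c ≠ 2 * c := fun h => hc0 (by linear_combination -h)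
    have n2 : -c ≠ 2 * c := fun h => hc0 (mul_left_cancel₀ h3 (by linear_combination -h))
    have n3 : -(2 * c) ≠ 2 * c := fun h =>
      hc0 (mul_left_cancel₀ h2 (mul_left_cancel₀ h2 (by linear_combination -h)))
    have n4 : -c ≠ c := fun h => hc0 (mul_left_cancel₀ h2 (by linear_combination -h))
    have n5 : -(2 * c) ≠ c := fun h => hc0 (mul_left_cancel₀ h3 (by linear_combination -h))
    rw [t1, t2] at ha' hb'
    simp only [coeff, if_true, if_neg n1, if_neg n2, if_neg n3] at ha'
    simp only [coeff, if_true, if_neg n1.symm, if_neg n4, if_neg n5] at hb'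
    have hprod : e (-(d + d / 2)) = 1 := by
      refine mul_left_cancel₀ (h5 (a * (d / 2) ^ 2)) ?_
      rw [show -(d + d / 2) = -d + -(d / 2) by ring, AddChar.map_add_eq_mul]
      linear_combination e (-(d / 2)) * ha' - hb'
    have := he _ hprod
    refine hd (mul_left_cancel₀ h3 ?_)
    field_simp at this
    linear_combination -this
  by_cases e2 : 4 * c = 1
  · have h' := coeff_eq_zero e he hp0 key c
    have t : 1 - 2 * c = 2 * c := by linear_combination -e2
    have t' : 1 - c = 3 * c := by linear_combination -e2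
    have n1 : 2 * c ≠ c := fun h => hc0 (by linear_combination h)
    have n2 : -(2 * c) ≠ c := fun h => hc0 (mul_left_cancel₀ h3 (by linear_combination -h))
    have n3 : -c ≠ c := fun h => hc0 (mul_left_cancel₀ h2 (by linear_combination -h))
    have n4 : 3 * c ≠ c := fun h => hc0 (mul_left_cancel₀ h2 (by linear_combination h))
    have n5 : -(3 * c) ≠ c := fun h =>
      hc0 (mul_left_cancel₀ h2 (mul_left_cancel₀ h2 (by linear_combination -h)))
    rw [t, t'] at h'
    simp [coeff, if_neg n1, if_neg n2, if_neg n3, if_neg n4, if_neg n5, h5] at h'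
  by_cases e3 : c = -1
  · subst e3
    have h' := coeff_eq_zero e he hp0 key (-1)
    have n1 : (2 : ZMod p) * -1 ≠ -1 := fun h => one_ne_zero (α := ZMod p) (by linear_combination -h)
    have n2 : -((2 : ZMod p) * -1) ≠ -1 := fun h => h3 (by linear_combination h)
    have n3 : (1 : ZMod p) - 2 * -1 ≠ -1 := fun h =>
      h2 (mul_left_cancel₀ h2 (by linear_combination h))
    have n4 : -((1 : ZMod p) - 2 * -1) ≠ -1 := fun h => h2 (by linear_combination -h)
    have n5 : -(-1 : ZMod p) ≠ -1 := fun h => h2 (by linear_combination h)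
    have n6 : (1 : ZMod p) - -1 ≠ -1 := fun h => h3 (by linear_combination h)
    have n7 : -((1 : ZMod p) - -1) ≠ -1 := fun h => one_ne_zero (α := ZMod p) (by linear_combination -h)
    simp only [coeff, if_true, if_neg n1, if_neg n2, if_neg n3, if_neg n4, if_neg n5,
      if_neg n6, if_neg n7] at h'
    simp [h5] at h'
  have h' := coeff_eq_zero e he hp0 key (2 * c)
  have n1 : -(2 * c) ≠ 2 * c := fun h =>
    hc0 (mul_left_cancel₀ h2 (mul_left_cancel₀ h2 (by linear_combination -h)))
  have n2 : 1 - 2 * c ≠ 2 * c := fun h => e2 (by linear_combination -h)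
  have n3 : -(1 - 2 * c) ≠ 2 * c := fun h => one_ne_zero (α := ZMod p) (by linear_combination -h)
  have n4 : c ≠ 2 * c := fun h => hc0 (by linear_combination -h)
  have n5 : -c ≠ 2 * c := fun h => hc0 (mul_left_cancel₀ h3 (by linear_combination -h))
  have n6 : 1 - c ≠ 2 * c := fun h => e1 (by linear_combination -h)
  have n7 : -(1 - c) ≠ 2 * c := fun h => e3 (by linear_combination -h)
  simp only [coeff, if_true, if_neg n1, if_neg n2, if_neg n3, if_neg n4, if_neg n5, if_neg n6,
    if_neg n7] at h'
  simp [h5] at h'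

include he hp0 hp5 hd hE in
/-- Main lemma: the scalar function is `x ↦ -x`. -/
theorem H_eq_neg (hE' : Eqn e H d) (h0 : H 0 = 0) (hL : H (2 * d) ≠ 0) :
    ∀ x, H x = -x := by
  obtain ⟨a, b, hab⟩ := H_quadratic e hp5 hd h0 hE hE'
  have hne := H_ne_zero e he hp5 hd hE hE' hL
  have hor : a = 0 ∨ b = 0 := by
    by_contra hc
    push Not at hc
    refine hne (-b / a) (div_ne_zero (neg_ne_zero.2 hc.2) hc.1) ?_
    rw [hab]
    have := hc.1
    field_simp
    ring
  rcases hor with rfl | rfl
  · have hu : -b ≠ 0 := by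
      rintro hb
      exact hL (by rw [hab, neg_eq_zero.1 hb]; ring)
    have h1 := eq_one_of_linear e he hp0 hp5 hd hE hu (fun x => by rw [hab]; ring)
    intro x
    rw [hab]
    linear_combination -x * h1
  · exfalso
    have ha : a ≠ 0 := by
      rintro rfl
      exact hL (by rw [hab]; ring)
    exact not_quadratic e he hp0 hp5 hd hE hE' ha (fun x => by rw [hab]; ring)

end CfsgLib.OddLocal.FieldScalar
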