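import Cfsg.Agent.Lib.OddLocal.FieldTriangle
import Cfsg.Agent.Lib.OddLocal.FieldScalar
import Cfsg.Agent.Lib.OddLocal.FieldArith

/-!
# The core of the field configuration: `N(a) = N(2 - a) = 1` implies `N(2 a - 1) = 1`
-/

set_option autoImplicit false
set_option linter.unusedSectionVars false

namespace CfsgLib.OddLocal.FieldCore

open FieldTri FieldScalar FieldArith

/-- The group data of the field configuration. -/
structure Config (p q : ℕ) [Fact p.Prime] (G F K : Type*) [Group G] [Field F]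
    [Algebra (ZMod p) F] [Field K] where
  el : ZMod p → F → G
  U : Subgroup G
  lab : ZMod p → G → F
  e : AddChar (ZMod p) K
  he : ∀ x, e x = 1 → x = 0
  hp0 : (p : K) ≠ 0
  hadd : ∀ i x z, el i (x + z) = el i x * el i z
  disj : ∀ i j, i ≠ j → ∀ x z, el i x = el j z → x = 0 ∧ z = 0
  conj : ∀ u ∈ U, ∀ i x, u * el i x * u⁻¹ = el i (lab i u * x)
  lab_mul : ∀ i, ∀ u ∈ U, ∀ v ∈ U, lab i (u * v) = lab i u * lab i v
  lab_pow : ∀ i, ∀ u ∈ U, lab i u ^ nn p q = 1
  lab_surj : ∀ i w, w ^ nn p q = 1 → ∃ u ∈ U, lab i u = w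
  R0 : IsR el (fun _ => (1 : F))
  scalar : ∀ α δ γ a c b : ZMod p, Tri el α δ γ (algebraMap _ F a) (algebraMap _ F c)
    (algebraMap _ F b) →
    c = a + b ∧ e (c - δ) - e (-δ) = e (a - α) - e (-α) + e (c - γ) - e (a - γ)

variable {p q : ℕ} [Fact p.Prime] {G F K : Type*} [Group G] [Field F]
    [Algebra (ZMod p) F] [Field K] (C : Config p q G F K)

local notation "ι" => algebraMap (ZMod p) F

namespace Config

theorem lab_ne_zero (hq : q ≠ 0) (i : ZMod p) {u : G} (hu : u ∈ C.U) : C.lab i u ≠ 0 := by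
  intro h
  have := C.lab_pow i u hu
  rw [h, zero_pow (nn_ne_zero (p := p) hq)] at this
  exact zero_ne_one this

theorem lab_one (hq : q ≠ 0) (i : ZMod p) : C.lab i 1 = 1 := by
  have h := C.lab_mul i 1 (one_mem _) 1 (one_mem _)
  rw [one_mul] at h
  exact mul_right_cancel₀ (C.lab_ne_zero hq i (one_mem _)) (by rw [← h, one_mul])

theorem lab_npow (hq : q ≠ 0) (i : ZMod p) {u : G} (hu : u ∈ C.U) (k : ℕ) :
    C.lab i (u ^ k) = C.lab i u ^ k := by
  induction k with
  | zero => simpa using C.lab_one hq i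
  | succ k ih => rw [pow_succ, pow_succ, C.lab_mul i _ (pow_mem hu k) _ hu, ih]

theorem tri_conj {u : G} (hu : u ∈ C.U) {α δ γ : ZMod p} {X Z Y : F}
    (h : Tri C.el α δ γ X Z Y) :
    Tri C.el α δ γ (C.lab α u * X) (C.lab δ u * Z) (C.lab γ u * Y) := by
  unfold Tri at h ⊢
  rw [← C.conj u hu, ← C.conj u hu, ← C.conj u hu, h]
  group

theorem isR_lab {u : G} (hu : u ∈ C.U) : IsR C.el (fun i => C.lab i u) := fun α δ γ =>
  (C.tri_conj hu (C.R0 α δ γ)).congr rfl rfl rfl (by simp [mul_comm]) (by simp [mul_comm])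
    (by simp [mul_comm])

theorem tri_unique {α δ γ : ZMod p} (hne : α ≠ γ) {X Z Y X' Y' : F}
    (h : Tri C.el α δ γ X Z Y) (h' : Tri C.el α δ γ X' Z Y') : X = X' ∧ Y = Y' := by
  unfold Tri at h h'
  have e1 : C.el α (-X' + X) = C.el γ (Y' + -Y) := by
    rw [C.hadd, C.hadd, el_neg C.hadd, el_neg C.hadd, eq_mul_inv_iff_mul_eq, mul_assoc,
      inv_mul_eq_iff_eq_mul, ← h, ← h']
  obtain ⟨h1, h2⟩ := C.disj α γ hne _ _ e1
  exact ⟨(neg_add_eq_zero.1 h1).symm, (add_neg_eq_zero.1 h2).symm⟩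

variable [Fintype F] (hq : q ≠ 0) (hcop : (nn p q).Coprime (p - 1))
  (hF : Fintype.card F = p ^ q)

include hq hcop hF in
/-- Uniqueness and the Frobenius automorphism make a triangle scalar. -/
theorem slot [CharP F p] {α δ γ : ZMod p} (hne : α ≠ γ) {X Z Y : F}
    (h : Tri C.el α δ γ X Z Y) (h' : Tri C.el α δ γ (X ^ p) (Z ^ p) (Y ^ p)) :
    Tri C.el α δ γ (ι (cl p q X)) (ι (cl p q Z)) (ι (cl p q Y)) := by
  have hz : C.el δ 0 = 1 := el_zero C.hadd δ
  have hcl0 : cl p q (0 : F) = 0 := by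
    simpa using cl_algebraMap (F := F) hq hcop hF 0
  by_cases hZ : Z = 0
  · subst hZ
    have h0 : Tri C.el α δ γ (0 : F) 0 0 := by
      unfold Tri
      rw [hz, el_zero C.hadd, el_zero C.hadd, one_mul]
    obtain ⟨rfl, rfl⟩ := C.tri_unique hne h h0
    rw [hcl0, map_zero]
    exact h0
  obtain ⟨w, hw, hZw⟩ := exists_unit_part hq hcop hF hZ
  have hw0 : w ≠ 0 := fun h0 => hZ (by rw [hZw, h0, mul_zero])
  obtain ⟨u, hu, huw⟩ := C.lab_surj δ w⁻¹ (by rw [inv_pow, hw, inv_one])
  set c := cl p q Z with hc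
  have hZu : C.lab δ u * Z = ι c := by rw [huw, hZw]; field_simp
  have t1 := (C.tri_conj hu h).congr rfl rfl rfl rfl hZu rfl
  have hfix : ∀ a : ZMod p, (ι a) ^ p = ι a := fun a => by rw [← map_pow, ZMod.pow_card]
  have t2 := (C.tri_conj (pow_mem hu p) h').congr rfl rfl rfl
    (show C.lab α (u ^ p) * X ^ p = (C.lab α u * X) ^ p by rw [C.lab_npow hq α hu, mul_pow])
    (show C.lab δ (u ^ p) * Z ^ p = ι c by
      rw [C.lab_npow hq δ hu, ← mul_pow, hZu, hfix])
    (show C.lab γ (u ^ p) * Y ^ p = (C.lab γ u * Y) ^ p by rw [C.lab_npow hq γ hu, mul_pow])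
  obtain ⟨e1, e2⟩ := C.tri_unique hne t1 t2
  obtain ⟨a, ha⟩ := eq_algebraMap_of_pow_eq e1.symm
  obtain ⟨b, hb⟩ := eq_algebraMap_of_pow_eq e2.symm
  have key : ∀ (i : ZMod p) (x : F) (a : ZMod p), ι a = C.lab i u * x → cl p q x = a := by
    intro i x a hax
    refine cl_eq hq hcop hF ?_
    rw [hax, mul_pow, C.lab_pow i u hu, one_mul]
  rw [key α X a ha, key γ Y b hb]
  exact t1.congr rfl rfl rfl ha.symm rfl hb.symm

include hq hcop hF in
/-- The scalar equations at the level `L` of a family of triangles. -/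
theorem eqn [CharP F p] {L : ZMod p} (P : ZMod p → F) (Z : ZMod p → F)
    (hZ : ∀ x, cl p q (Z x) = (2 * x - L) / L * cl p q (P L))
    (h : ∀ x, Tri C.el x L (L - x) (P x) (Z x) (-P (L - x)))
    (h' : ∀ x, Tri C.el x L (L - x) (P x ^ p) (Z x ^ p) ((-P (L - x)) ^ p)) :
    Eqn C.e (fun x => cl p q (P x)) L := by
  intro x hx
  have h1 := C.slot hq hcop hF hx (h x) (h' x)
  rw [hZ, cl_neg hq hcop hF] at h1
  obtain ⟨e1, e2⟩ := C.scalar _ _ _ _ _ _ h1
  simp only at e1 e2 ⊢
  refine ⟨by rw [e1]; ring, ?_⟩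
  rw [show (2 * x - L) / L * cl p q (P L) - L + x = (2 * x - L) / L * cl p q (P L) - (L - x) by
      ring, show cl p q (P x) - L + x = cl p q (P x) - (L - x) by ring]
  exact e2

include hq hcop hF in
theorem sum_eq_two [CharP F p] (hp5 : 5 ≤ p) (hqp : q < p) {u v : G} (hu : u ∈ C.U)
    (hv : v ∈ C.U) (huv : C.lab 0 u + C.lab 0 v = 2) (x : ZMod p) :
    C.lab x u + C.lab x v = 2 := by
  by_cases hx0 : x = 0
  · rw [hx0, huv]
  set A := fun i => C.lab i u with hA
  set B := fun i => C.lab i v with hB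
  have hA' : ∀ i, C.lab i (u ^ p) = frobenius F p (A i) := fun i => C.lab_npow hq i hu p
  have hB' : ∀ i, C.lab i (v ^ p) = frobenius F p (B i) := fun i => C.lab_npow hq i hv p
  have hι : ∀ a : ZMod p, frobenius F p (ι a) = ι a := fun a => by
    rw [frobenius_def, ← map_pow, ZMod.pow_card]
  have huv' : C.lab 0 (u ^ p) + C.lab 0 (v ^ p) = 2 := by
    rw [hA', hB', ← map_add, show A 0 + B 0 = 2 from huv, map_ofNat]
  have hup := pow_mem hu p
  have hvp := pow_mem hv p
  set T := C.lab x u + C.lab x v - 2 with hT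
  suffices hall : ∀ c : ZMod p, (1 + ι c * T) ^ nn p q = 1 by
    have := eq_zero_of_pow_nn hq hqp hall
    linear_combination this
  intro c
  by_cases hc : c = 0
  · simp [hc]
  obtain ⟨d, hd⟩ : ∃ d, d = c * x := ⟨_, rfl⟩
  have hd0 : d ≠ 0 := hd ▸ mul_ne_zero hc hx0
  set P := fun i : ZMod p => ι (2 * d - i) - ι d * (A i + B i) with hP
  have h20 : (2 : ZMod p) ≠ 0 := by
    exact_mod_cast natCast_ne_zero_of_lt (p := p) two_pos (by omega)
  have e1 : Eqn C.e (fun i => cl p q (P i)) (2 * d) := by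
    refine C.eqn hq hcop hF P (fun i => ι (d - i) * (A (2 * d) + B (2 * d))) (fun i => ?_)
      (fun i => triG C.hadd C.R0 (C.isR_lab hu) (C.isR_lab hv) huv d i) (fun i => ?_)
    · rw [← cl_smul hq hcop hF]
      congr 1
      have : P (2 * d) = ι (-d) * (A (2 * d) + B (2 * d)) := by simp [hP]
      rw [this, ← mul_assoc, ← map_mul]
      congr 2
      field_simp
      ring
    · refine (triG C.hadd C.R0 (C.isR_lab hup) (C.isR_lab hvp) huv' d i).congr rfl rfl rfl ?_ ?_ ?_
        <;> simp only [hP, hA', hB', ← frobenius_def, map_sub, map_add, map_mul, map_neg, hι]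
  have e2 : Eqn C.e (fun i => cl p q (P i)) d := by
    refine C.eqn hq hcop hF P (fun i => ι (d - 2 * i) * (A d + B d - 1)) (fun i => ?_)
      (fun i => triG2 C.hadd C.R0 (C.isR_lab hu) (C.isR_lab hv) huv d i) (fun i => ?_)
    · rw [← cl_smul hq hcop hF]
      congr 1
      have : P d = ι (-d) * (A d + B d - 1) := by
        simp only [hP, map_sub, map_mul, map_ofNat, map_neg]
        ring
      rw [this, ← mul_assoc, ← map_mul]
      congr 2
      field_simp
      ring
    · refine (triG2 C.hadd C.R0 (C.isR_lab hup) (C.isR_lab hvp) huv' d i).congr rfl rfl rfl ?_ ?_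
        ?_ <;> simp only [hP, hA', hB', ← frobenius_def, map_sub, map_add, map_mul, map_neg, hι,
          map_one]
  have h0 : cl p q (P 0) = 0 := by
    have : P 0 = 0 := by
      simp only [hP, show A 0 + B 0 = 2 from huv, sub_zero, map_mul, map_ofNat]
      ring
    rw [this]
    simpa using cl_algebraMap (F := F) hq hcop hF 0
  have hL : cl p q (P (2 * d)) ≠ 0 := by
    refine cl_ne_zero hq hcop hF ?_
    simp only [hP, sub_self, map_zero, zero_sub]
    refine neg_ne_zero.2 (mul_ne_zero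
      ((map_ne_zero_iff _ (algebraMap (ZMod p) F).injective).2 hd0) ?_)
    intro hs
    have h1 : A (2 * d) = -B (2 * d) := eq_neg_of_add_eq_zero_left hs
    have h2 := congrArg (cl p q) h1
    rw [cl_neg hq hcop hF,
      cl_eq hq hcop hF (c := 1) (x := A (2 * d)) (by rw [map_one, one_pow, C.lab_pow _ u hu]),
      cl_eq hq hcop hF (c := 1) (x := B (2 * d)) (by rw [map_one, one_pow, C.lab_pow _ v hv])]
      at h2
    exact h20 (by linear_combination h2)
  have hH := H_eq_neg C.e C.he C.hp0 hp5 hd0 e1 e2 h0 hL x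
  have hpow := cl_spec hq hcop hF (P x)
  rw [hH] at hpow
  have hPx : P x = ι (-x) * (1 + ι c * T) := by
    simp only [hP, hA, hB, hd, hT, map_sub, map_mul, map_neg, map_ofNat]
    ring
  rw [hPx, mul_pow] at hpow
  exact mul_left_cancel₀ (pow_ne_zero (nn p q) ((map_ne_zero_iff _
    (algebraMap (ZMod p) F).injective).2 (neg_ne_zero.2 hx0))) (hpow.symm.trans (mul_one _).symm)

include hq hcop hF in
/-- `N(a) = N(2 - a) = 1` implies `N(2 a - 1) = 1`. -/
theorem two_mul_sub_one [CharP F p] (hp5 : 5 ≤ p) (hqp : q < p) {u v : G} (hu : u ∈ C.U)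
    (hv : v ∈ C.U) (huv : C.lab 0 u + C.lab 0 v = 2) : (2 * C.lab 0 u - 1) ^ nn p q = 1 := by
  set A := fun i => C.lab i u with hA
  have hS : ∀ i, C.lab i u + C.lab i v = 2 := C.sum_eq_two hq hcop hF hp5 hqp hu hv huv
  have hA' : ∀ i, C.lab i (u ^ p) = frobenius F p (A i) := fun i => C.lab_npow hq i hu p
  have hι : ∀ a : ZMod p, frobenius F p (ι a) = ι a := fun a => by
    rw [frobenius_def, ← map_pow, ZMod.pow_card]
  have hup := pow_mem hu p
  have hvp := pow_mem hv p
  have hS' : ∀ i, C.lab i (u ^ p) + C.lab i (v ^ p) = 2 := fun i => by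
    rw [C.lab_npow hq i hu, C.lab_npow hq i hv, ← add_pow_char, hS, ← frobenius_def, map_ofNat]
  set P := fun i : ZMod p => -ι i * (2 * A i - 1) with hP
  have htri := fun L i => triF C.hadd C.R0 (C.isR_lab hu) (C.isR_lab hv) huv hS L i
  have htri' : ∀ L i, Tri C.el i L (L - i) (P i ^ p) ((ι (L - 2 * i) * (2 * A L - 1)) ^ p)
      ((-P (L - i)) ^ p) := fun L i => by
    refine (triF C.hadd C.R0 (C.isR_lab hup) (C.isR_lab hvp) (hS' 0) hS' L i).congr rfl rfl rfl
      ?_ ?_ ?_ <;> simp only [hP, hA', ← frobenius_def, map_sub, map_mul, map_neg, hι, map_ofNat,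
        map_one]
  have heqn : ∀ L, L ≠ 0 → Eqn C.e (fun i => cl p q (P i)) L := fun L hL => by
    refine C.eqn hq hcop hF P (fun i => ι (L - 2 * i) * (2 * A L - 1)) (fun i => ?_)
      (htri L) (htri' L)
    rw [← cl_smul hq hcop hF]
    congr 1
    simp only [hP, ← map_neg]
    rw [← mul_assoc, ← map_mul]
    congr 2
    field_simp
    ring
  have h20 : (2 : ZMod p) ≠ 0 := by
    exact_mod_cast natCast_ne_zero_of_lt (p := p) two_pos (by omega)
  have hcl0 : cl p q (0 : F) = 0 := by simpa using cl_algebraMap (F := F) hq hcop hF 0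
  have h0 : cl p q (P 0) = 0 := by simpa [hP] using hcl0
  have hne : ∀ i, i ≠ 0 → cl p q (P i) ≠ 0 := by
    intro i hi
    refine cl_ne_zero hq hcop hF (mul_ne_zero (neg_ne_zero.2
      ((map_ne_zero_iff _ (algebraMap (ZMod p) F).injective).2 hi)) ?_)
    intro h1
    have h2 := congrArg (cl p q) (show A i = ι (1 / 2) by
      rw [map_div₀, map_one, map_ofNat]
      have h2F : (2 : F) ≠ 0 := by
        rw [← map_ofNat (algebraMap (ZMod p) F) 2]
        exact (map_ne_zero_iff _ (algebraMap (ZMod p) F).injective).2 h20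
      field_simp
      linear_combination h1)
    rw [cl_algebraMap hq hcop hF,
      cl_eq hq hcop hF (c := 1) (x := A i) (by rw [map_one, one_pow, C.lab_pow _ u hu])] at h2
    field_simp at h2
    exact one_ne_zero (α := ZMod p) (by linear_combination h2)
  have hH : ∀ i, cl p q (P i) = -i := fun i =>
    H_eq_neg C.e C.he C.hp0 hp5 one_ne_zero (heqn _ (mul_ne_zero h20 one_ne_zero))
      (heqn _ one_ne_zero) h0 (hne _ (mul_ne_zero h20 one_ne_zero)) i
  -- the level `0`
  have h1ne : (1 : ZMod p) ≠ 0 - 1 := fun h => h20 (by linear_combination h)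
  have h1 := C.slot hq hcop hF h1ne (htri 0 1) (htri' 0 1)
  obtain ⟨e1, -⟩ := C.scalar _ _ _ _ _ _ h1
  rw [cl_smul hq hcop hF, show cl p q (-ι (1 : ZMod p) * (2 * C.lab 1 u - 1)) = -1 from hH 1,
    cl_neg hq hcop hF,
    show cl p q (-ι ((0 : ZMod p) - 1) * (2 * C.lab (0 - 1) u - 1)) = -(0 - 1) from hH (0 - 1)] at e1
  have hc : cl p q (2 * A 0 - 1) = 1 := mul_left_cancel₀ h20 (by linear_combination -e1)
  have := cl_spec hq hcop hF (2 * A 0 - 1)
  rw [hc, map_one, one_pow] at this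
  exact this.symm

end Config

end CfsgLib.OddLocal.FieldCore
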