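import Mathlib

/-!
# Triangles in the field configuration (Bender–Glauberman, Appendix C)

`el i` is the `i`-th conjugate of the field group. A triangle says that an element of the
middle level is the product of elements of two outer levels. Starting from the three
relations carried by `1`, `A`, `B` and from `A 0 + B 0 = 2`, repeated merging gives the
triangles needed for the appendix.
-/

set_option autoImplicit false
set_option linter.unusedSectionVars false

namespace CfsgLib.OddLocal.FieldTri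

variable {p : ℕ} {G F : Type*} [Group G] [CommRing F] [Algebra (ZMod p) F]

local notation "ι" => algebraMap (ZMod p) F

/-- `el δ Z = el α X * el γ Y`. -/
def Tri (el : ZMod p → F → G) (α δ γ : ZMod p) (X Z Y : F) : Prop :=
  el δ Z = el α X * el γ Y

/-- The standard triangles carried by the label `A`. -/
def IsR (el : ZMod p → F → G) (A : ZMod p → F) : Prop :=
  ∀ α δ γ : ZMod p, Tri el α δ γ (ι (γ - δ) * A α) (ι (γ - α) * A δ) (ι (δ - α) * A γ)

variable {el : ZMod p → F → G}

theorem el_zero (hadd : ∀ i x z, el i (x + z) = el i x * el i z) (i : ZMod p) : el i 0 = 1 := by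
  simpa using hadd i 0 0

theorem el_neg (hadd : ∀ i x z, el i (x + z) = el i x * el i z) (i : ZMod p) (x : F) :
    el i (-x) = (el i x)⁻¹ := by
  refine eq_inv_of_mul_eq_one_left ?_
  rw [← hadd, neg_add_cancel, el_zero hadd]

theorem Tri.congr {α α' δ δ' γ γ' : ZMod p} {X X' Z Z' Y Y' : F}
    (h : Tri el α δ γ X Z Y) (hα : α = α') (hδ : δ = δ') (hγ : γ = γ') (hX : X = X')
    (hZ : Z = Z') (hY : Y = Y') : Tri el α' δ' γ' X' Z' Y' := by
  subst hα hδ hγ hX hZ hY; exact h

section
variable (hadd : ∀ i x z, el i (x + z) = el i x * el i z)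
include hadd

theorem Tri.rot {α δ γ : ZMod p} {X Z Y : F} (h : Tri el α δ γ X Z Y) :
    Tri el δ α γ Z X (-Y) := by
  unfold Tri at h ⊢
  rw [el_neg hadd, h, mul_inv_cancel_right]

theorem Tri.rot' {α δ γ : ZMod p} {X Z Y : F} (h : Tri el α δ γ X Z Y) :
    Tri el α γ δ (-X) Y Z := by
  unfold Tri at h ⊢
  rw [el_neg hadd, h, inv_mul_cancel_left]

theorem Tri.symm {α δ γ : ZMod p} {X Z Y : F} (h : Tri el α δ γ X Z Y) :
    Tri el γ δ α (-Y) (-Z) (-X) := by
  unfold Tri at h ⊢
  rw [el_neg hadd, el_neg hadd, el_neg hadd, h, mul_inv_rev]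

/-- Two consecutive triangles under a third one. -/
theorem Tri.merge {α β δ γ : ZMod p} {X₁ x₁ Y₁ X₂ x₂ Y₂ X₃ x₃ Y₃ : F}
    (h₁ : Tri el α β δ X₁ x₁ Y₁) (h₂ : Tri el δ β γ X₂ x₂ Y₂) (h₃ : Tri el α β γ X₃ x₃ Y₃)
    (hx : x₃ = x₁ + x₂) :
    Tri el α δ γ (X₃ - X₁) (Y₁ + X₂) (Y₃ - Y₂) := by
  unfold Tri at h₁ h₂ h₃ ⊢
  rw [hx, hadd, h₁, h₂] at h₃
  rw [hadd, show X₃ - X₁ = -X₁ + X₃ by ring, show Y₃ - Y₂ = Y₃ + -Y₂ by ring, hadd, hadd,
    el_neg hadd, el_neg hadd,
    show (el α X₁)⁻¹ * el α X₃ * (el γ Y₃ * (el γ Y₂)⁻¹)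
      = (el α X₁)⁻¹ * (el α X₃ * el γ Y₃) * (el γ Y₂)⁻¹ by group, ← h₃]
  group

variable {A B : ZMod p → F} (hR1 : IsR el (fun _ => 1)) (hRA : IsR el A) (hRB : IsR el B)
  (hAB : A 0 + B 0 = 2)
include hR1 hRA hRB hAB

/-- The triangle given by `A 0 + B 0 = 2`. -/
theorem base (l h : ZMod p) :
    Tri el (h - l) h (h + l) (ι (h + l) - ι h * B (h - l))
      (ι (l - h) * B h + ι (l + h) * A h) (ι (l - h) + ι h * A (h + l)) := by
  have h1 := hRB (h - l) 0 h
  have h2 := hRA h 0 (h + l)
  have h3 := hR1 (h - l) 0 (h + l)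
  refine (Tri.merge hadd h1 h2 h3 ?_).congr rfl rfl rfl ?_ ?_ ?_ <;>
    simp only [map_sub, map_add, map_zero]
  · linear_combination -((ι) l) * hAB
  all_goals ring

/-- The triangle carried by `A + B` at level `2 * h`. -/
theorem triG (h x : ZMod p) :
    Tri el x (2 * h) (2 * h - x) (ι (2 * h - x) - ι h * (A x + B x))
      (ι (h - x) * (A (2 * h) + B (2 * h)))
      (-(ι (2 * h - (2 * h - x)) - ι h * (A (2 * h - x) + B (2 * h - x)))) := by
  have h1 := hRA x h (2 * h)
  have h2 := hRB (2 * h) h (2 * h - x)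
  have h3 := (base hadd hR1 hRA hRB hAB (h - x) h).congr (show h - (h - x) = x by ring) rfl
    (show h + (h - x) = 2 * h - x by ring) rfl rfl rfl
  refine (Tri.merge hadd h1 h2 h3 ?_).congr rfl rfl rfl ?_ ?_ ?_ <;>
    simp only [map_sub, map_add, map_mul, map_ofNat,
      show h - (h - x) = x by ring, show h + (h - x) = 2 * h - x by ring] <;> ring

/-- The triangle carried by `2 A - 1`, in general position. -/
theorem triF' (h k : ZMod p) :
    Tri el (2 * h - k) (3 * h - k) h
      (ι h * B (2 * h - k) - ι k - ι (3 * h - 2 * k) * A (2 * h - k))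
      (ι (k - h) * (2 * A (3 * h - k) - 1))
      (ι (k - 2 * h) * B h + ι k * A h - ι (2 * k - 3 * h)) := by
  have h1 := hRA (2 * h - k) k (3 * h - k)
  have h2 := hR1 (3 * h - k) k h
  have h3 := ((base hadd hR1 hRA hRB hAB (k - h) h).rot' hadd).congr
    (show h - (k - h) = 2 * h - k by ring) (show h + (k - h) = k by ring) rfl rfl rfl rfl
  refine (Tri.merge hadd h1 h2 h3 ?_).congr rfl rfl rfl ?_ ?_ ?_ <;>
    simp only [map_sub, map_add, map_mul, map_ofNat,
      show h - (k - h) = 2 * h - k by ring, show h + (k - h) = k by ring] <;> ring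

/-- The second triangle carried by the label of `A + B`: middle level `h`. -/
theorem triG2 (h x : ZMod p) :
    Tri el x h (h - x) (ι (2 * h - x) - ι h * (A x + B x))
      (ι (h - 2 * x) * (A h + B h - 1))
      (-(ι (2 * h - (h - x)) - ι h * (A (h - x) + B (h - x)))) := by
  have h1 := (((base hadd hR1 hRA hRB hAB (h - x) h).rot' hadd).symm hadd).congr rfl
    (show h + (h - x) = 2 * h - x by ring) (show h - (h - x) = x by ring) rfl rfl rfl
  have h2 := hRA x (2 * h - x) (h - x)
  have h3 := (triF' hadd hR1 hRA hRB hAB (h - x) (h - 2 * x)).congr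
    (show 2 * (h - x) - (h - 2 * x) = h by ring)
    (show 3 * (h - x) - (h - 2 * x) = 2 * h - x by ring) rfl rfl rfl rfl
  refine ((Tri.merge hadd h1 h2 h3 ?_).rot hadd).congr rfl rfl rfl ?_ ?_ ?_ <;>
    simp only [map_sub, map_add, map_mul, map_ofNat,
      show h + (h - x) = 2 * h - x by ring, show h - (h - x) = x by ring,
      show 2 * (h - x) - (h - 2 * x) = h by ring,
      show 3 * (h - x) - (h - 2 * x) = 2 * h - x by ring] <;> ring

/-- The triangle carried by `2 A - 1` when `A + B = 2` at every level. -/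
theorem triF (hS : ∀ i, A i + B i = 2) (L x : ZMod p) :
    Tri el x L (L - x) (-ι x * (2 * A x - 1)) (ι (L - 2 * x) * (2 * A L - 1))
      (-(-ι (L - x) * (2 * A (L - x) - 1))) := by
  refine (triF' hadd hR1 hRA hRB hAB (L - x) (2 * L - 3 * x)).congr (by ring) (by ring) rfl
    ?_ ?_ ?_ <;>
    simp only [map_sub, map_mul, map_ofNat,
      show 2 * (L - x) - (2 * L - 3 * x) = x by ring,
      show 3 * (L - x) - (2 * L - 3 * x) = L by ring]
  · linear_combination ((ι) L - (ι) x) * hS x
  · ring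
  · linear_combination -((ι) x) * hS (L - x)

end

end CfsgLib.OddLocal.FieldTri
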