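import Cfsg.Agent.Lib.OddLocal.UniqueCriterion
import Cfsg.Agent.Lib.Comp.Signalizer

/-!
Uniqueness subgroups: centralizer criterion, transfer to centralizing subgroups of rank two.
-/

set_option autoImplicit false

open Subgroup
open scoped commutatorElement

namespace CfsgLib.OddLocal

universe u
variable {G : Type u} [Group G] [Finite G] {p : ℕ} [hp : Fact p.Prime]

theorem centralizer_le_singleton {B : Subgroup G} {b : G} (hb : b ∈ B) :
    centralizer (B : Set G) ≤ centralizer ({b} : Set G) :=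
  centralizer_le (Set.singleton_subset_iff.2 hb)

theorem le_centralizer_self {B : Subgroup G} (hB : IsMulCommutative B) : B ≤ centralizer (B : Set G) :=
  fun a ha => mem_centralizer_iff.2 fun b hb =>
    congrArg (fun z : B => (z : G)) (hB.is_comm.comm ⟨b, hb⟩ ⟨a, ha⟩)

/-- An elementary abelian subgroup of order more than `p ^ k`, from the failure of `PRankLE`. -/
theorem exists_elemAb_of_not_pRankLE {K : Subgroup G} {k : ℕ} (h : ¬ Cfsg.PRankLE p k K) :
    ∃ E : Subgroup G, E ≤ K ∧ Cfsg.IsElementaryAbelian p E ∧ p ^ (k + 1) ≤ Nat.card E := by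
  rw [Cfsg.PRankLE] at h
  push Not at h
  obtain ⟨E, hc, he, hlt⟩ := h
  have hel : Cfsg.IsElementaryAbelian p (E.map K.subtype) := by
    refine ⟨haveI := hc; inferInstance, ?_⟩
    rintro _ ⟨a, ha, rfl⟩
    rw [← map_pow, he a ha, map_one]
  refine ⟨E.map K.subtype, map_subtype_le _, hel, ?_⟩
  obtain ⟨n, hn⟩ := IsPGroup.iff_card.1 (CfsgLib.Comp.isPGroup_of_elemAb hel)
  rw [card_map_of_injective K.subtype_injective] at hn ⊢
  rw [hn] at hlt ⊢
  exact Nat.pow_le_pow_right hp.out.pos ((Nat.pow_lt_pow_iff_right hp.out.one_lt).1 hlt)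

theorem not_pRankLE_of_le_elemAb {K E : Subgroup G} {k : ℕ} (hE : Cfsg.IsElementaryAbelian p E)
    (hEK : E ≤ K) (hc : p ^ (k + 1) ≤ Nat.card E) : ¬ Cfsg.PRankLE p k K := by
  intro h
  have h' := h (E.subgroupOf K) (haveI := hE.1; inferInstance)
    fun a ha => Subtype.ext (by simpa using hE.2 _ (mem_subgroupOf.1 ha))
  rw [CfsgLib.Coprime.card_subgroupOf hEK] at h'
  exact absurd (hc.trans h') (not_le.2 (Nat.pow_lt_pow_right hp.out.one_lt (Nat.lt_succ_self k)))

theorem ne_bot_of_not_isCyclic {B : Subgroup G} (h : ¬ IsCyclic B) : B ≠ ⊥ := by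
  rintro rfl
  exact h inferInstance

/-- All centralizers of nontrivial elements of a noncyclic elementary abelian `B ≤ M` inside `M`
make `B` a uniqueness subgroup. -/
theorem inUniqueMax_of_centralizers (hG : Cfsg.IsMinSimpleOddOrder G) {M B : Subgroup G}
    (hM : IsCoatom M) (hBM : B ≤ M) (hBe : Cfsg.IsElementaryAbelian p B) (hBnc : ¬ IsCyclic B)
    (h : ∀ b ∈ B, b ≠ 1 → centralizer ({b} : Set G) ≤ M) : Cfsg.InUniqueMaximal B := by
  refine inUniqueMax_of_signalizers hG hM (CfsgLib.Comp.isPGroup_of_elemAb hBe)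
    (ne_bot_of_not_isCyclic hBnc) hBM fun Y hY hBY => ?_
  obtain ⟨n, hn⟩ := IsPGroup.iff_card.1 (CfsgLib.Comp.isPGroup_of_elemAb hBe)
  rw [← CfsgLib.Coprime.iSup_centralizer_eq hBe.1 hBnc hBY (hn ▸ hY.symm.pow_left n)]
  exact iSup_le fun b => inf_le_right.trans (h b.1 b.2.1 b.2.2)

/-- A subgroup of rank at least two centralizing a uniqueness subgroup is one. -/
theorem inUniqueMax_of_centralizes (hG : Cfsg.IsMinSimpleOddOrder G) {L K : Subgroup G}
    (hL : Cfsg.InUniqueMaximal L) (hK : K ≤ centralizer (L : Set G))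
    (hKr : ¬ Cfsg.PRankLE p 1 K) : Cfsg.InUniqueMaximal K := by
  obtain ⟨M, hM, hLM⟩ := exists_coatom_ge (inUniqueMax_ne_top hL)
  obtain ⟨E, hEK, hEe, hE2⟩ := exists_elemAb_of_not_pRankLE hKr
  have hEnc : ¬ IsCyclic E := CfsgLib.Comp.not_isCyclic_elemAb hEe (by simpa using hE2)
  have hC : ∀ b ∈ E, b ≠ 1 → centralizer ({b} : Set G) ≤ M := by
    intro b hb hb1
    refine le_of_inUniqueMax hL hM hLM (fun l hl => mem_centralizer_singleton_iff.2 ?_)
      (minSimple_centralizer_singleton_ne_top hG hb1)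
    exact mem_centralizer_iff.1 (hK (hEK hb)) l hl
  have hEM : E ≤ M := by
    intro x hx
    by_cases hx1 : x = 1
    · rw [hx1]; exact one_mem M
    · exact hC x hx hx1 (mem_centralizer_singleton_iff.2 rfl)
  refine inUniqueMax_mono (inUniqueMax_of_centralizers hG hM hEM hEe hEnc hC) hEK fun h => ?_
  exact minSimple_centralizer_ne_top hG (inUniqueMax_ne_bot hG hL) (top_le_iff.1 (h ▸ hK))

end CfsgLib.OddLocal
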