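import Cfsg.Agent.S1393
import Cfsg.Agent.S1395
import Cfsg.Agent.S1396
import Cfsg.Agent.Lib.OddLocal.FittingParts
import Cfsg.Agent.Lib.OddLocal.UniqueTools
import Cfsg.Agent.Lib.Comp.Local
import Cfsg.Agent.Lib.Solvable.Nilpotent
import Cfsg.Agent.Lib.Coprime.Action

/-!
Large Fitting subgroups give uniqueness subgroups (minimal simple groups of odd order).
-/

set_option autoImplicit false

open Subgroup
open scoped commutatorElement
open CfsgLib.PLocal (SylowIn)

namespace CfsgLib.OddLocal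

universe u
variable {G : Type u} [Group G] [Finite G]

theorem le_normalizer_inf' {A X Y : Subgroup G} (hX : A ≤ normalizer (X : Set G))
    (hY : A ≤ normalizer (Y : Set G)) : A ≤ normalizer ((X ⊓ Y : Subgroup G) : Set G) :=
  (le_inf hX hY).trans inf_normalizer_le_normalizer_inf

theorem le_normalizer_centralizer {A X : Subgroup G} (hX : A ≤ normalizer (X : Set G)) :
    A ≤ normalizer ((centralizer (X : Set G) : Subgroup G) : Set G) :=
  hX.trans (normalizer_le_normalizer_centralizer_of_set X)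

theorem coprime_of_dvd_imp {A F : Subgroup G} {Y : Subgroup G}
    (hπ : ∀ r : ℕ, r.Prime → r ∣ Nat.card F → r ∣ Nat.card A)
    (hY : (Nat.card A).Coprime (Nat.card Y)) : (Nat.card F).Coprime (Nat.card Y) :=
  Nat.coprime_of_dvd fun k hk h1 h2 => hk.ne_one (Nat.eq_one_of_dvd_coprimes hY (hπ k hk h1) h2)

/-- An `A`-invariant subgroup of `M` of order prime to `|F(M)|` is trivial when `A ≤ F(M)` is
self-centralizing in each primary part. -/
theorem eq_bot_of_invariant_in_max (hG : Cfsg.IsMinSimpleOddOrder G) {M A W : Subgroup G}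
    (hM : IsCoatom M) (hAF : A ≤ Cfsg.fittingOf M)
    (hsc : ∀ s : ℕ, s.Prime →
      fPart M s ⊓ centralizer ((fPart M s ⊓ A : Subgroup G) : Set G) ≤ fPart M s ⊓ A)
    (hWM : W ≤ M) (hAW : A ≤ normalizer (W : Set G))
    (hcop : (Nat.card (Cfsg.fittingOf M)).Coprime (Nat.card W)) : W = ⊥ := by
  haveI := minSimple_isSolvable hG hM.1
  have hdis : Cfsg.fittingOf M ⊓ W = ⊥ := CfsgLib.Coprime.inf_eq_bot_of_coprime hcop
  have hWA : W ≤ centralizer (A : Set G) := by
    rw [← commutator_eq_bot_iff_le_centralizer, eq_bot_iff, ← hdis, commutator_le]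
    intro w hw a ha
    rw [commutatorElement_def]
    refine mem_inf.2 ⟨?_, ?_⟩
    · exact mul_mem ((mem_normalizer_iff.1 (le_normalizer_fittingOf M (hWM hw)) a).1 (hAF ha))
        (inv_mem (hAF ha))
    · rw [show w * a * w⁻¹ * a⁻¹ = w * (a * w⁻¹ * a⁻¹) by group]
      exact mul_mem hw ((mem_normalizer_iff.1 (hAW ha) _).1 (inv_mem hw))
  have hWC : W ≤ centralizer (Cfsg.fittingOf M : Set G) := by
    refine le_centralizer_fittingOf_of_parts M fun s hs => ?_
    haveI := Fact.mk hs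
    by_cases hbot : fPart M s = ⊥
    · rw [hbot]
      intro y _
      rw [mem_centralizer_iff]
      intro z hz
      rw [mem_bot.1 hz, one_mul, mul_one]
    have hsd : s ∣ Nat.card (Cfsg.fittingOf M) :=
      (dvd_card_of_pGroup_ne_bot' (isPGroup_fPart M s) hbot).trans (card_dvd_of_le (fPart_le_fittingOf M))
    exact le_centralizer_of_selfcent (isPGroup_fPart M s) inf_le_left (hsc s hs)
      (hWM.trans (le_normalizer_fPart M s)) ((hcop.coprime_dvd_left hsd).symm)
      (hWA.trans (centralizer_le inf_le_right))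
  refine eq_bot_iff.2 fun w hw => ?_
  have h : w ∈ Cfsg.fittingOf M ⊓ W := ⟨mem_fittingOf_of_centralizes M (hWM hw) (hWC hw), hw⟩
  rwa [hdis] at h
where
  dvd_card_of_pGroup_ne_bot' {s : ℕ} [Fact s.Prime] {Q : Subgroup G} (hQ : IsPGroup s Q) (h : Q ≠ ⊥) :
      s ∣ Nat.card Q := by
    obtain ⟨n, hn⟩ := IsPGroup.iff_card.1 hQ
    have hn0 : n ≠ 0 := fun h0 => h (eq_bot_of_card_eq _ (by rw [hn, h0, pow_zero]))
    exact hn ▸ dvd_pow_self s hn0

/-- Transitivity with trivial `K`: no nontrivial `A`-invariant subgroup of prime-power order prime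
to `|A|`. -/
theorem invariant_eq_bot_of_transitivity (hG : Cfsg.IsMinSimpleOddOrder G) {M A : Subgroup G}
    (hM : IsCoatom M) (hAF : A ≤ Cfsg.fittingOf M) (hA : Cfsg.TransitivityHypothesis A)
    (hZ : ¬ Cfsg.RankLE 2 ↥(A ⊓ centralizer (A : Set G)))
    (hπ : ∀ r : ℕ, r.Prime → r ∣ Nat.card (Cfsg.fittingOf M) → r ∣ Nat.card A)
    (hsc : ∀ s : ℕ, s.Prime →
      fPart M s ⊓ centralizer ((fPart M s ⊓ A : Subgroup G) : Set G) ≤ fPart M s ⊓ A)
    (hCA : centralizer (A : Set G) ≤ M)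
    {q : ℕ} [hq : Fact q.Prime] (hqA : ¬ q ∣ Nat.card A) {Y : Subgroup G} (hY : IsPGroup q Y)
    (hAY : A ≤ normalizer (Y : Set G)) : Y = ⊥ := by
  have hK : transK A = ⊥ := by
    refine eq_bot_of_invariant_in_max hG hM hAF hsc ((piCoreOf_le _ _).trans hCA) ?_ ?_
    · exact fun a ha => map_conj_piCoreOf _ (le_normalizer_centralizer (le_normalizer) ha)
    · exact coprime_of_dvd_imp hπ (coprime_of_primesNotDvd (piCoreOf_spec _ _))
  have htr := Cfsg.Agent.S1393.result hG A hA hZ q hq.out hqA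
  have hFtop : Cfsg.fittingOf M ≠ ⊤ := fun h => hM.1 (top_le_iff.1 (h ▸ fittingOf_le M))
  haveI := fittingOf_isNilpotent M
  obtain ⟨-, -, hsub, -⟩ := Cfsg.Agent.S1395.result hG A hA q hq.out hqA (Cfsg.fittingOf M) hFtop hπ hAF
    (CfsgLib.Solvable.isSubnormal_of_isNilpotent _) htr
  have huniq : ∀ Q₁ ∈ Cfsg.maxInvSubgroups ⊤ A {q}, ∀ Q₂ ∈ Cfsg.maxInvSubgroups ⊤ A {q}, Q₂ = Q₁ := by
    intro Q₁ h1 Q₂ h2
    obtain ⟨k, hk, he⟩ := htr Q₁ h1 Q₂ h2
    rw [show Cfsg.piCoreOf (Cfsg.primesNotDvd (Nat.card A)) (centralizer (A : Set G)) = transK A from rfl,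
      hK, mem_bot] at hk
    rw [he, hk, map_one]
    exact map_id Q₁
  obtain ⟨Q₁, hQ₁, hYQ₁⟩ := exists_maxInv_ge (inv_of_isPGroup hY hAY)
  obtain ⟨Q, hQ, -⟩ := exists_maxInv_ge (bot_mem_invSubgroups ⊤ (Cfsg.fittingOf M) {q})
  have hQQ : Q₁ = Q := huniq Q (hsub hQ) Q₁ hQ₁
  have hMQ : M ≤ normalizer (Q : Set G) := by
    intro g hg
    rw [mem_normalizer_iff_map_conj_eq]
    exact huniq Q (hsub hQ) _ (hsub (map_conj_mem_maxInv (le_normalizer_fittingOf M hg) hQ))
  have hQ1 : Q = ⊥ := by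
    by_contra hne
    have hQp := isPGroup_of_mem_inv hQ.1
    have hQtop : Q ≠ ⊤ := by
      intro h
      apply minSimple_not_commutative hG
      have hGp : IsPGroup q G := hQp.of_equiv ((MulEquiv.subgroupCongr h).trans topEquiv)
      haveI : Nontrivial G := by
        obtain ⟨u, hu⟩ := ne_bot_iff_exists_ne_one.1 hne
        exact ⟨⟨(u : G), 1, fun e => hu (Subtype.ext e)⟩⟩
      haveI := hGp.center_nontrivial
      exact absurd (minSimple_center_eq_bot hG) ((nontrivial_iff_ne_bot _).1 ‹_›)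
    have hN : normalizer (Q : Set G) = M := by
      rcases hMQ.lt_or_eq with hlt | heq
      · exact absurd (hM.2 _ hlt) (minSimple_normalizer_ne_top hG hne hQtop)
      · exact heq.symm
    refine hne (eq_bot_of_invariant_in_max hG hM hAF hsc (hN ▸ le_normalizer) (hsub hQ).1.2.2 ?_)
    refine coprime_of_dvd_imp hπ ?_
    obtain ⟨n, hn⟩ := IsPGroup.iff_card.1 hQp
    rw [hn]
    exact ((hq.out.coprime_iff_not_dvd.2 hqA).symm).pow_right n
  exact le_bot_iff.1 (hYQ₁.trans (hQQ.le.trans hQ1.le))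

theorem centralizer_le_of_fPart_center (hG : Cfsg.IsMinSimpleOddOrder G) {M A : Subgroup G}
    (hM : IsCoatom M) {s : ℕ} [Fact s.Prime] (hs : fPart M s ≠ ⊥)
    (h : fPart M s ⊓ centralizer (fPart M s : Set G) ≤ A) : centralizer (A : Set G) ≤ M := by
  set Z := fPart M s ⊓ centralizer (fPart M s : Set G) with hZ
  have hZne : Z ≠ ⊥ := by
    haveI : Nontrivial (fPart M s) := (nontrivial_iff_ne_bot _).2 hs
    haveI := (isPGroup_fPart M s).center_nontrivial
    obtain ⟨⟨z, hz⟩, hz1⟩ := exists_ne (1 : center (fPart M s))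
    intro h0
    have hz' : (z : G) ∈ Z := ⟨z.2, mem_centralizer_iff.2 fun w hw =>
      congrArg Subtype.val (mem_center_iff.1 hz ⟨w, hw⟩)⟩
    rw [h0, mem_bot] at hz'
    exact hz1 (Subtype.ext (Subtype.ext hz'))
  have hMZ : M ≤ normalizer (Z : Set G) :=
    le_normalizer_inf' (le_normalizer_fPart M s) (le_normalizer_centralizer (le_normalizer_fPart M s))
  rw [← normalizer_eq_of_coatom hG hM hZne (inf_le_left.trans (fPart_le M s)) hMZ]
  exact (centralizer_le h).trans (centralizer_le_normalizer _)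

theorem exists_two_primes {M : Subgroup G} {p : ℕ} [hp : Fact p.Prime]
    (h : ¬ IsPGroup p ↥(Cfsg.fittingOf M)) : ∃ t : ℕ, t.Prime ∧ t ≠ p ∧ fPart M t ≠ ⊥ := by
  by_contra hall
  push Not at hall
  refine h ((isPGroup_fPart M p).to_le (fittingOf_le_of_parts M fun r hr => ?_))
  by_cases hrp : r = p
  · rw [hrp]
  · rw [hall r hr hrp]; exact bot_le

/-- The transitivity hypothesis for a subgroup of `F(M)` meeting every primary part. -/
theorem transHyp_of_parts (hG : Cfsg.IsMinSimpleOddOrder G) {M A : Subgroup G} (hM : IsCoatom M)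
    (hAF : A ≤ Cfsg.fittingOf M) (hA1 : A ≠ ⊥)
    (hπ : ∀ r : ℕ, r.Prime → r ∣ Nat.card (Cfsg.fittingOf M) → r ∣ Nat.card A)
    (hsc : ∀ s : ℕ, s.Prime →
      fPart M s ⊓ centralizer ((fPart M s ⊓ A : Subgroup G) : Set G) ≤ fPart M s ⊓ A)
    (hCs : ∀ s : ℕ, s.Prime → fPart M s ≠ ⊥ → centralizer ((fPart M s ⊓ A : Subgroup G) : Set G) ≤ M)
    (hother : ∀ r : ℕ, ∃ s : ℕ, s.Prime ∧ s ≠ r ∧ fPart M s ≠ ⊥) :
    Cfsg.TransitivityHypothesis A := by
  have hAM : A ≤ M := hAF.trans (fittingOf_le M)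
  have hAnA : ∀ s : ℕ, A ≤ normalizer ((fPart M s ⊓ A : Subgroup G) : Set G) := fun s =>
    le_normalizer_inf' (hAM.trans (le_normalizer_fPart M s)) le_normalizer
  set F := Cfsg.fittingOf M
  refine ⟨hA1, fun h => hM.1 (top_le_iff.1 (h ▸ hAM)), fun X hX hAX => le_antisymm (sSup_le ?_)
    (le_sSup ⟨piCoreOf_le _ _, piCoreOf_spec _ _,
      hAX.trans (le_normalizer.trans (le_normalizer_piCoreOf _ _))⟩)⟩
  rintro Y ⟨hYX, hYπ, hAY⟩
  haveI := minSimple_isSolvable hG hX
  set π := Cfsg.primesNotDvd (Nat.card A) with hπdef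
  have hcopY : (Nat.card A).Coprime (Nat.card Y) := coprime_of_primesNotDvd hYπ
  obtain ⟨O, hOdef⟩ : ∃ O : Subgroup X, O = Cfsg.piCore π X := ⟨_, rfl⟩
  haveI hOn : O.Normal := hOdef ▸ inferInstance
  have hOspec : ∀ e : ℕ, e.Prime → e ∣ Nat.card O → e ∈ π := hOdef ▸ piCore_spec π
  have hOmax : ∀ N : Subgroup X, N.Normal → (∀ e : ℕ, e.Prime → e ∣ Nat.card N → e ∈ π) → N ≤ O :=
    fun N hN h => hOdef ▸ le_piCore hN h
  set f := QuotientGroup.mk' O with hfdef
  haveI : Group.IsSolvable (X ⧸ O) := Group.isSolvable_of_surjective (QuotientGroup.mk'_surjective O)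
  -- it suffices that the image of `Y` centralizes each `O_r`
  suffices hkey : ∀ r : ℕ, r.Prime → (Y.subgroupOf X).map f ≤
      centralizer ((Cfsg.pCore r (X ⧸ O) : Subgroup _) : Set (X ⧸ O)) by
    have h1 : (Y.subgroupOf X).map f ≤ centralizer ((Cfsg.fittingSubgroup (X ⧸ O) : Subgroup _) : Set (X ⧸ O)) := by
      rw [le_centralizer_iff]
      rw [CfsgLib.Solvable.fittingSubgroup_eq_iSup_pCore]
      exact iSup_le fun r => le_centralizer_iff.1 (hkey r r.2)
    have hFπ : ∀ d : ℕ, d.Prime → d ∣ Nat.card (Cfsg.fittingSubgroup (X ⧸ O)) → d ∣ Nat.card A := by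
      intro d hd hdd
      haveI := Fact.mk hd
      by_contra hdA
      obtain ⟨z, hz⟩ := exists_prime_orderOf_dvd_card' (G := Cfsg.fittingSubgroup (X ⧸ O)) d hdd
      have hzo : orderOf (z : X ⧸ O) = d := by rw [Subgroup.orderOf_coe, hz]
      haveI := CfsgLib.Solvable.fittingSubgroup_normal (G := X ⧸ O)
      have hzr := mem_pCore_of_mem_nilpotent CfsgLib.Solvable.fittingSubgroup_isNilpotent z.2
        (q := d) (IsPGroup.of_card (n := 1) (by rw [Nat.card_zpowers, hzo, pow_one]))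
      haveI := CfsgLib.Solvable.pCore_normal d (X ⧸ O)
      have hle : (Cfsg.pCore d (X ⧸ O)).comap f ≤ O := hOmax _ inferInstance fun e he hed => by
        rw [CfsgLib.Solvable.card_comap_mk'] at hed
        rcases (he.dvd_mul.1 hed).symm with h | h
        · exact hOspec e he h
        · have := prime_dvd_pGroup (CfsgLib.Solvable.pCore_isPGroup (G := X ⧸ O) d) he h
          exact this ▸ ⟨hd, hdA⟩
      obtain ⟨w, hw⟩ := QuotientGroup.mk'_surjective O (z : X ⧸ O)
      have : f w = 1 := (QuotientGroup.eq_one_iff w).2 (hle (show f w ∈ _ from hw ▸ hzr))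
      rw [hfdef, hw] at this
      rw [this, orderOf_one] at hzo
      exact hd.ne_one hzo.symm
    have h2 : (Y.subgroupOf X).map f = ⊥ := by
      rw [eq_bot_iff]
      refine le_trans (le_inf le_rfl (h1.trans CfsgLib.Solvable.centralizer_fittingSubgroup_le)) ?_
      rw [CfsgLib.Coprime.inf_eq_bot_of_coprime]
      refine Nat.coprime_of_dvd fun k hk h2 h3 => hk.ne_one (Nat.eq_one_of_dvd_coprimes hcopY (hFπ k hk h3) ?_)
      exact h2.trans ((card_map_dvd _ f).trans (CfsgLib.Coprime.card_subgroupOf hYX).dvd)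
    rw [Subgroup.map_eq_bot_iff, hfdef, QuotientGroup.ker_mk'] at h2
    intro y hy
    exact ⟨⟨y, hYX hy⟩, hOdef ▸ h2 (mem_subgroupOf.2 hy), rfl⟩
  intro r hr
  haveI := Fact.mk hr
  haveI := CfsgLib.Solvable.pCore_normal r (X ⧸ O)
  set V := Cfsg.pCore r (X ⧸ O) with hVdef
  have hnorm : ∀ K : Subgroup (X ⧸ O), K ≤ normalizer (V : Set (X ⧸ O)) := fun K => by
    rw [normalizer_eq_top]; exact le_top
  by_cases hrA : r ∣ Nat.card A
  swap
  · -- `V` is trivial
    have hle : V.comap f ≤ O := hOmax _ inferInstance fun e he hed => by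
      rw [CfsgLib.Solvable.card_comap_mk'] at hed
      rcases (he.dvd_mul.1 hed).symm with h | h
      · exact hOspec e he h
      · exact (prime_dvd_pGroup (CfsgLib.Solvable.pCore_isPGroup (G := X ⧸ O) r) he h) ▸ ⟨hr, hrA⟩
    intro y _
    rw [mem_centralizer_iff]
    intro v hv
    obtain ⟨w, rfl⟩ := QuotientGroup.mk'_surjective O v
    rw [(QuotientGroup.eq_one_iff w).2 (hle hv) |> fun h => (show QuotientGroup.mk' O w = 1 from h),
      one_mul, mul_one]
  obtain ⟨s, hs, hsr, hsne⟩ := hother r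
  haveI := Fact.mk hs
  have hrne : fPart M r ≠ ⊥ := fun h => by
    obtain ⟨x, hx⟩ := exists_prime_orderOf_dvd_card' (G := F) r (hrA.trans (card_dvd_of_le hAF))
    have hxo : orderOf (x : G) = r := by rw [Subgroup.orderOf_coe, hx]
    have h' := mem_fPart_of_mem_fittingOf M x.2 (r := r)
      (IsPGroup.of_card (n := 1) (by rw [Nat.card_zpowers, hxo, pow_one]))
    rw [h, mem_bot] at h'
    rw [h', orderOf_one] at hxo
    exact hr.ne_one hxo.symm
  set Ar := (fPart M r ⊓ A).subgroupOf X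
  set As := (fPart M s ⊓ A).subgroupOf X
  have hArp : IsPGroup r Ar := ((isPGroup_fPart M r).to_le inf_le_left).comap_subtype
  have hAsp : IsPGroup s As := ((isPGroup_fPart M s).to_le inf_le_left).comap_subtype
  have hAsc : As.map f ≤ centralizer ((V : Subgroup _) : Set (X ⧸ O)) := by
    refine CfsgLib.Comp.le_centralizer_of_centralizes_fixed (p := r) (P := Ar.map f)
      (CfsgLib.Solvable.pCore_isPGroup r) (hArp.map f) ?_ (hnorm _) (hnorm _) ?_ ?_
    · obtain ⟨n, hn⟩ := IsPGroup.iff_card.1 (hAsp.map f)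
      rw [hn]; exact ((Nat.coprime_primes hs hr).2 hsr).pow_left n
    · rintro _ ⟨a, ha, rfl⟩
      rw [mem_centralizer_iff]
      rintro _ ⟨b, hb, rfl⟩
      rw [← map_mul, ← map_mul]
      congr 1
      exact Subtype.ext (mem_centralizer_iff.1 (fPart_commute M hsr (mem_subgroupOf.1 ha).1) b
        (mem_subgroupOf.1 hb).1)
    · rintro _ ⟨a, ha, rfl⟩
      rw [mem_centralizer_iff]
      rintro _ ⟨hvV, hvC⟩
      rename_i v
      rw [← CfsgLib.Comp.map_centralizer_eq (p := r) (O := O) ?_ hArp] at hvC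
      swap
      · exact Nat.coprime_of_dvd fun k hk h1 h2 =>
          (hOspec k hk h1).2 ((Nat.prime_dvd_prime_iff_eq hk hr).1 h2 ▸ hrA)
      obtain ⟨c, hc, rfl⟩ := hvC
      have hcM : (c : G) ∈ M := by
        refine hCs r hr hrne (mem_centralizer_iff.2 fun b hb => ?_)
        exact congrArg Subtype.val (mem_centralizer_iff.1 hc ⟨b, hAX hb.2⟩ (mem_subgroupOf.2 hb))
      set w := c * a * c⁻¹ * a⁻¹ with hw
      have hwV : f w ∈ V := by
        rw [hw, map_mul, map_mul, map_mul, map_inv, map_inv,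
          show f c * f a * (f c)⁻¹ * (f a)⁻¹ = f c * (f a * (f c)⁻¹ * (f a)⁻¹) by group]
        exact mul_mem hvV ((inferInstance : V.Normal).conj_mem _ (inv_mem hvV) _)
      have hws : (w : G) ∈ fPart M s := by
        have ha' := (mem_subgroupOf.1 ha).1
        exact mul_mem ((mem_normalizer_iff.1 (le_normalizer_fPart M s hcM) _).1 ha') (inv_mem ha')
      have hf1 : f w = 1 := by
        obtain ⟨i, hi⟩ := IsPGroup.iff_orderOf.1 (isPGroup_fPart M s) ⟨(w : G), hws⟩
        obtain ⟨j, hj⟩ := IsPGroup.iff_orderOf.1 (CfsgLib.Solvable.pCore_isPGroup (G := X ⧸ O) r) ⟨f w, hwV⟩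
        rw [Subgroup.orderOf_mk] at hi hj
        rw [← orderOf_eq_one_iff]
        refine Nat.eq_one_of_dvd_coprimes (((Nat.coprime_primes hs hr).2 hsr).pow i j) ?_ hj.dvd
        rw [← hi, Subgroup.orderOf_coe]
        exact orderOf_map_dvd f w
      rw [hw, map_mul, map_mul, map_mul, map_inv, map_inv] at hf1
      exact mul_inv_eq_iff_eq_mul.1 (mul_inv_eq_one.1 hf1)
  have hYs : ⁅Y, fPart M s ⊓ A⁆ = Y := by
    have hAsY : fPart M s ⊓ A ≤ normalizer (Y : Set G) := inf_le_right.trans hAY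
    haveI := ((isPGroup_fPart M s).to_le (inf_le_left : fPart M s ⊓ A ≤ _)).isNilpotent
    have hcop : (Nat.card ↥(fPart M s ⊓ A)).Coprime (Nat.card Y) :=
      hcopY.coprime_dvd_left (card_dvd_of_le inf_le_right)
    have hfix : Y ⊓ centralizer ((fPart M s ⊓ A : Subgroup G) : Set G) = ⊥ :=
      eq_bot_of_invariant_in_max hG hM hAF hsc (inf_le_right.trans (hCs s hs hsne))
        (le_normalizer_inf' hAY (le_normalizer_centralizer (hAnA s)))
        (coprime_of_dvd_imp hπ (hcopY.coprime_dvd_right (card_dvd_of_le inf_le_left)))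
    have h := CfsgLib.Coprime.commutator_sup_centralizer hAsY hcop (Or.inl inferInstance)
    rwa [hfix, sup_bot_eq] at h
  have hYmap : (Y.subgroupOf X).map f ≤ ⁅(Y.subgroupOf X).map f, As.map f⁆ := by
    rw [← map_commutator]
    refine map_mono ((map_le_map_iff_of_injective X.subtype_injective).1 ?_)
    rw [map_commutator, map_subgroupOf_eq_of_le hYX, map_subgroupOf_eq_of_le (inf_le_right.trans hAX), hYs]
  refine hYmap.trans (commutator_le.2 fun y hy a ha => ?_)
  rw [commutatorElement_def]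
  have hn := normalizer_le_normalizer_centralizer_of_set V (hnorm _ hy)
  exact mul_mem ((mem_normalizer_iff.1 hn a).1 (hAsc ha)) (inv_mem (hAsc ha))

/-- The case of a Fitting subgroup that is not a `p`-group. -/
theorem inUniqueMax_fitting_inf_centralizer (hG : Cfsg.IsMinSimpleOddOrder G) {M A₀ : Subgroup G}
    (hM : IsCoatom M) {p : ℕ} [hp : Fact p.Prime] (hA₀ : A₀ ≤ Cfsg.fittingOf M)
    (hA₀e : Cfsg.IsElementaryAbelian p A₀) (hA₀3 : p ^ 3 ≤ Nat.card A₀)
    (hF : ¬ IsPGroup p ↥(Cfsg.fittingOf M)) :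
    Cfsg.InUniqueMaximal (Cfsg.fittingOf M ⊓ centralizer (A₀ : Set G)) := by
  haveI := minSimple_isSolvable hG hM.1
  set F := Cfsg.fittingOf M with hFdef
  set A := F ⊓ centralizer (A₀ : Set G) with hAdef
  have hA₀p : IsPGroup p A₀ := CfsgLib.Comp.isPGroup_of_elemAb hA₀e
  have hA₀part : A₀ ≤ fPart M p := le_fPart_of_pGroup M hA₀p hA₀
  have hA₀A : A₀ ≤ A := le_inf hA₀ (le_centralizer_self hA₀e.1)
  have hA₀ne : A₀ ≠ ⊥ := fun h => by
    rw [h, card_bot] at hA₀3
    exact absurd hA₀3 (not_le.2 (Nat.one_lt_pow (by norm_num) hp.out.one_lt))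
  have hA_eq : ∀ s : ℕ, s.Prime → s ≠ p → fPart M s ≤ A := fun s hs hne => by
    haveI := Fact.mk hs
    exact le_inf (fPart_le_fittingOf M) ((fPart_commute M hne).trans (centralizer_le hA₀part))
  have hA₀s : ∀ s : ℕ, s.Prime → fPart M s ≠ ⊥ → fPart M s ⊓ A ≠ ⊥ := by
    intro s hs hne
    by_cases hsp : s = p
    · subst hsp
      exact fun h => hA₀ne (le_bot_iff.1 (h ▸ le_inf hA₀part hA₀A))
    · rwa [inf_eq_left.2 (hA_eq s hs hsp)]
  have hsc : ∀ s : ℕ, s.Prime →
      fPart M s ⊓ centralizer ((fPart M s ⊓ A : Subgroup G) : Set G) ≤ fPart M s ⊓ A := by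
    intro s hs
    by_cases hsp : s = p
    · subst hsp
      refine le_inf inf_le_left (le_inf (inf_le_left.trans (fPart_le_fittingOf M)) ?_)
      exact inf_le_right.trans (centralizer_le (le_inf hA₀part hA₀A))
    · rw [inf_eq_left.2 (hA_eq s hs hsp)]; exact inf_le_left
  have hπ : ∀ r : ℕ, r.Prime → r ∣ Nat.card F → r ∣ Nat.card A := by
    intro r hr hrd
    haveI := Fact.mk hr
    obtain ⟨x, hx⟩ := exists_prime_orderOf_dvd_card' (G := F) r hrd
    have hxo : orderOf (x : G) = r := by rw [Subgroup.orderOf_coe, hx]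
    have hxr : IsPGroup r (zpowers (x : G)) := IsPGroup.of_card (n := 1) (by rw [Nat.card_zpowers, hxo, pow_one])
    have hne : fPart M r ≠ ⊥ := fun h => by
      have h' := mem_fPart_of_mem_fittingOf M x.2 hxr
      rw [h, mem_bot] at h'
      rw [h', orderOf_one] at hxo
      exact hr.ne_one hxo.symm
    obtain ⟨n, hn⟩ := IsPGroup.iff_card.1 ((isPGroup_fPart M r).to_le (inf_le_left : fPart M r ⊓ A ≤ _))
    have hn0 : n ≠ 0 := fun h0 => hA₀s r hr hne (eq_bot_of_card_eq _ (by rw [hn, h0, pow_zero]))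
    exact (hn ▸ dvd_pow_self r hn0).trans (card_dvd_of_le inf_le_right)
  have hAM : A ≤ M := inf_le_left.trans (fittingOf_le M)
  have hA1 : A ≠ ⊥ := fun h => hA₀ne (le_bot_iff.1 (h ▸ hA₀A))
  have hdvdA : p ∣ Nat.card A :=
    (by
      obtain ⟨n, hn⟩ := IsPGroup.iff_card.1 hA₀p
      exact hn ▸ dvd_pow_self p fun h0 => hA₀ne (eq_bot_of_card_eq _ (by rw [hn, h0, pow_zero])) :
      p ∣ Nat.card A₀).trans (card_dvd_of_le hA₀A)
  have hAnA : ∀ s : ℕ, A ≤ normalizer ((fPart M s ⊓ A : Subgroup G) : Set G) := fun s =>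
    le_normalizer_inf' (hAM.trans (le_normalizer_fPart M s)) le_normalizer
  -- centralizers of the parts of `A`
  have hCs : ∀ s : ℕ, s.Prime → fPart M s ≠ ⊥ →
      centralizer ((fPart M s ⊓ A : Subgroup G) : Set G) ≤ M := by
    intro s hs hne
    haveI := Fact.mk hs
    refine centralizer_le_of_fPart_center hG hM hne (le_inf inf_le_left ?_)
    by_cases hsp : s = p
    · subst hsp
      exact le_inf (inf_le_left.trans (fPart_le_fittingOf M)) (inf_le_right.trans (centralizer_le hA₀part))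
    · exact inf_le_left.trans (hA_eq s hs hsp)
  obtain ⟨t₀, ht₀, ht₀p, ht₀ne⟩ := exists_two_primes hF
  have hpne : fPart M p ≠ ⊥ := fun h => hA₀ne (le_bot_iff.1 (h ▸ hA₀part))
  have hother : ∀ r : ℕ, ∃ s : ℕ, s.Prime ∧ s ≠ r ∧ fPart M s ≠ ⊥ := by
    intro r
    by_cases hr : r = p
    · exact ⟨t₀, ht₀, hr ▸ ht₀p, ht₀ne⟩
    · exact ⟨p, hp.out, fun h => hr h.symm, hpne⟩
  have hTH : Cfsg.TransitivityHypothesis A :=
    transHyp_of_parts hG hM inf_le_left hA1 hπ hsc hCs hother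
  have hZ : ¬ Cfsg.RankLE 2 ↥(A ⊓ centralizer (A : Set G)) :=
    not_rankLE_of_not_pRankLE (not_pRankLE_of_le_elemAb (k := 2) hA₀e
      (le_inf hA₀A (le_centralizer_iff.1 inf_le_right)) hA₀3)
  have hCA : centralizer (A : Set G) ≤ M := (centralizer_le inf_le_right).trans (hCs p hp.out hpne)
  refine inUniqueMax_of hM hAM fun H hH hAH => ?_
  haveI := minSimple_isSolvable hG hH.1
  have hHbot : ∀ q : ℕ, q.Prime → ¬ q ∣ Nat.card A → fPart H q = ⊥ := fun q hq hqA => by
    haveI := Fact.mk hq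
    exact invariant_eq_bot_of_transitivity hG hM inf_le_left hTH hZ hπ hsc hCA hqA (isPGroup_fPart H q)
      (hAH.trans (le_normalizer_fPart H q))
  have hMne_of : ∀ r : ℕ, r.Prime → fPart H r ≠ ⊥ → fPart M r ≠ ⊥ := by
    intro r hr hne h
    haveI := Fact.mk hr
    refine hne (hHbot r hr fun hd => ?_)
    obtain ⟨x, hx⟩ := exists_prime_orderOf_dvd_card' (G := F) r (hd.trans (card_dvd_of_le inf_le_left))
    have hxo : orderOf (x : G) = r := by rw [Subgroup.orderOf_coe, hx]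
    have h' := mem_fPart_of_mem_fittingOf M x.2 (r := r)
      (IsPGroup.of_card (n := 1) (by rw [Nat.card_zpowers, hxo, pow_one]))
    rw [h, mem_bot] at h'
    rw [h', orderOf_one] at hxo
    exact hr.ne_one hxo.symm
  -- `A_s` centralizes `O_r(H)`
  have hAsc : ∀ r s : ℕ, r.Prime → s.Prime → r ≠ s →
      fPart M s ⊓ A ≤ centralizer (fPart H r : Set G) := by
    intro r s hr hs hne
    haveI := Fact.mk hr
    haveI := Fact.mk hs
    by_cases hbot : fPart H r = ⊥
    · rw [hbot]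
      intro y _
      rw [mem_centralizer_iff]
      intro z hz
      rw [mem_bot.1 hz, one_mul, mul_one]
    have hrM := hMne_of r hr hbot
    refine CfsgLib.Comp.le_centralizer_of_centralizes_fixed (p := r) (P := fPart M r ⊓ A)
      (isPGroup_fPart H r) ((isPGroup_fPart M r).to_le inf_le_left) ?_
      ((inf_le_right.trans hAH).trans (le_normalizer_fPart H r))
      ((inf_le_right.trans hAH).trans (le_normalizer_fPart H r))
      (inf_le_left.trans ((fPart_commute M hne.symm).trans (centralizer_le inf_le_left))) ?_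
    · obtain ⟨n, hn⟩ := IsPGroup.iff_card.1 ((isPGroup_fPart M s).to_le (inf_le_left : fPart M s ⊓ A ≤ _))
      rw [hn]; exact ((Nat.coprime_primes hs hr).2 hne.symm).pow_left n
    · intro a ha
      rw [mem_centralizer_iff]
      rintro c ⟨hcH, hcC⟩
      have hcM := hCs r hr hrM hcC
      have h1 : c * a * c⁻¹ * a⁻¹ ∈ fPart M s :=
        mul_mem ((mem_normalizer_iff.1 (le_normalizer_fPart M s hcM) a).1 ha.1) (inv_mem ha.1)
      have h2 : c * a * c⁻¹ * a⁻¹ ∈ fPart H r := by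
        rw [show c * a * c⁻¹ * a⁻¹ = c * (a * c⁻¹ * a⁻¹) by group]
        exact mul_mem hcH ((mem_normalizer_iff.1 (le_normalizer_fPart H r (hAH ha.2)) _).1 (inv_mem hcH))
      have h3 : fPart M s ⊓ fPart H r = ⊥ := CfsgLib.Coprime.inf_eq_bot_of_coprime
        (coprime_of_pGroups (isPGroup_fPart M s) (isPGroup_fPart H r) hne.symm)
      have h4 : c * a * c⁻¹ * a⁻¹ ∈ fPart M s ⊓ fPart H r := ⟨h1, h2⟩
      rw [h3, mem_bot] at h4
      exact mul_inv_eq_iff_eq_mul.1 (mul_inv_eq_one.1 h4)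
  have hHM : ∀ r : ℕ, r.Prime → fPart H r ≤ M := by
    intro r hr
    obtain ⟨s, hs, hsr, hsne⟩ := hother r
    exact (le_centralizer_iff.1 (hAsc r s hr hs hsr.symm)).trans (hCs s hs hsne)
  have hcomm : ∀ r s : ℕ, r.Prime → s.Prime → r ≠ s →
      fPart H s ≤ centralizer (fPart M r : Set G) := by
    intro r s hr hs hne
    haveI := Fact.mk hr
    haveI := Fact.mk hs
    have h := le_centralizer_iff.1 (hAsc s r hs hr hne.symm)
    by_cases hrp : r = p
    · subst hrp
      exact le_centralizer_of_selfcent (isPGroup_fPart M r) inf_le_left (hsc r hr)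
        ((hHM s hs).trans (le_normalizer_fPart M r))
        (singleton_eq_of_prime (isPGroup_fPart H s) hne.symm) h
    · rwa [inf_eq_left.2 (hA_eq r hr hrp)] at h
  have hHne : ∀ s : ℕ, s.Prime → fPart M s ≠ ⊥ → fPart H s ≠ ⊥ := by
    intro s hs hne h0
    haveI := Fact.mk hs
    refine hA₀s s hs hne ?_
    have hle : fPart M s ⊓ A ≤ fPart H s := by
      refine le_fPart_of_pGroup H ((isPGroup_fPart M s).to_le inf_le_left) fun a ha => ?_
      refine mem_fittingOf_of_centralizes H (hAH ha.2) ?_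
      refine le_centralizer_fittingOf_of_parts H (W := fPart M s ⊓ A) (fun r hr => ?_) ha
      by_cases hrs : r = s
      · rw [hrs, h0]
        intro y _
        rw [mem_centralizer_iff]
        intro z hz
        rw [mem_bot.1 hz, one_mul, mul_one]
      · exact hAsc r s hr hs hrs
    exact le_bot_iff.1 (h0 ▸ hle)
  have hMH : ∀ r : ℕ, r.Prime → fPart M r ≤ H := by
    intro r hr
    obtain ⟨s, hs, hsr, hsne⟩ := hother r
    rw [← normalizer_eq_of_coatom hG hH (hHne s hs hsne) (fPart_le H s) (le_normalizer_fPart H s)]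
    exact (le_centralizer_iff.1 (hcomm r s hr hs hsr.symm)).trans (centralizer_le_normalizer _)
  exact (eq_of_fitting_commute hG hM hH hMH hHM hcomm hp.out ht₀ ht₀p hpne ht₀ne
    (hHne t₀ ht₀ ht₀ne)).symm


theorem pPrimeCore_eq_bot_of_fitting_pGroup (hG : Cfsg.IsMinSimpleOddOrder G) {M : Subgroup G}
    (hM : IsCoatom M) {p : ℕ} [hp : Fact p.Prime] (hF : IsPGroup p ↥(Cfsg.fittingOf M)) :
    oPrime p M = ⊥ := by
  haveI := minSimple_isSolvable hG hM.1
  set O := oPrime p M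
  obtain ⟨n, hn⟩ := IsPGroup.iff_card.1 hF
  have hdis : Cfsg.fittingOf M ⊓ O = ⊥ := CfsgLib.Coprime.inf_eq_bot_of_coprime
    (hn ▸ (coprime_oPrime M).symm.pow_left n)
  refine eq_bot_iff.2 fun w hw => ?_
  have hwM : w ∈ M := piCoreOf_le _ _ hw
  have hwC : w ∈ centralizer (Cfsg.fittingOf M : Set G) := by
    rw [mem_centralizer_iff]
    intro a ha
    have h : w * a * w⁻¹ * a⁻¹ ∈ Cfsg.fittingOf M ⊓ O := by
      refine mem_inf.2 ⟨mul_mem ((mem_normalizer_iff.1 (le_normalizer_fittingOf M hwM) a).1 ha) (inv_mem ha), ?_⟩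
      rw [show w * a * w⁻¹ * a⁻¹ = w * (a * w⁻¹ * a⁻¹) by group]
      exact mul_mem hw ((mem_normalizer_iff.1 ((le_normalizer.trans (le_normalizer_piCoreOf _ _))
        (fittingOf_le M ha)) _).1 (inv_mem hw))
    rw [hdis, mem_bot] at h
    exact (mul_inv_eq_iff_eq_mul.1 (mul_inv_eq_one.1 h)).symm
  have h : w ∈ Cfsg.fittingOf M ⊓ O := ⟨mem_fittingOf_of_centralizes M hwM hwC, hw⟩
  rwa [hdis] at h

/-- The case of a Fitting subgroup that is a `p`-group. -/
theorem scn_uniqueMax_of_fitting_pGroup (hG : Cfsg.IsMinSimpleOddOrder G) {M : Subgroup G}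
    (hM : IsCoatom M) {p : ℕ} [hp : Fact p.Prime] (hF : IsPGroup p ↥(Cfsg.fittingOf M))
    (hne : Cfsg.fittingOf M ≠ ⊥) {P : Subgroup G} (hP : SylowIn p P M) :
    ¬ p ∣ P.index ∧ ∀ A : Subgroup G, Cfsg.IsSCN P A → ¬ Cfsg.PRankLE p 2 ↥A →
      A ≤ Cfsg.fittingOf M ∧ Cfsg.InUniqueMaximal A := by
  haveI := minSimple_isSolvable hG hM.1
  set F := Cfsg.fittingOf M with hFdef
  have hO := pPrimeCore_eq_bot_of_fitting_pGroup hG hM hF
  have hO' : Cfsg.pPrimeCore p M = ⊥ := by
    apply map_injective M.subtype_injective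
    rw [← oPrime_eq, Subgroup.map_bot]; exact hO
  have hFP : F ≤ P := by
    have h2 : IsPGroup p ↥(F ⊔ P) := IsPGroup.to_sup_of_normal_left' hF hP.2.1
      (hP.1.trans (le_normalizer_fittingOf M))
    exact le_sup_left.trans (hP.eq_of_le h2 (sup_le (fittingOf_le M) hP.1) le_sup_right).ge
  have hP1 : P ≠ ⊥ := fun h => hne (le_bot_iff.1 (h ▸ hFP))
  have hdvd := dvd_card_of_pGroup_ne_bot hP.2.1 hP1
  have hNP : normalizer (P : Set G) ≤ M := by
    obtain ⟨S, hS⟩ := exists_sylow_subgroupOf hP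
    have hn := centerThompsonOf_normal (minSimple_odd hG M) hO' S
    have hle : M ≤ normalizer (Cfsg.centerThompsonOf p P : Set G) := by
      have h := le_normalizer_map (H := Cfsg.centerThompsonOf p (S : Subgroup M)) M.subtype
      rwa [normalizer_eq_top, ← MonoidHom.range_eq_map, range_subtype,
        centerThompsonOf_map M.subtype (fun _ _ h => Subtype.ext h), hS,
        map_subgroupOf_eq_of_le hP.1] at h
    rw [← normalizer_eq_of_coatom hG hM (CfsgLib.Char.centerThompsonOf_ne_bot hP.2.1 hP1)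
      ((centerThompsonOf_le P).trans hP.1) hle]
    exact normalizer_le_normalizer_centerThompsonOf P
  obtain ⟨S, hS⟩ := hP.2.1.exists_le_sylow
  have hSP : (S : Subgroup G) = P := by
    refine (eq_or_lt_of_le hS).elim Eq.symm fun hlt => absurd ?_ hlt.ne'
    obtain ⟨g, hgS, hgN, hgP⟩ := CfsgLib.Transfer.exists_mem_normalizer_not_mem S.2 hlt
    have h := hP.eq_of_le (S.2.to_le (sup_le hlt.le (zpowers_le.2 hgS)))
      (sup_le hP.1 (zpowers_le.2 (hNP hgN))) le_sup_left
    exact absurd (h.ge (mem_sup_right (mem_zpowers g))) hgP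
  refine ⟨hSP ▸ S.not_dvd_index, fun A hA hA3 => ?_⟩
  have hAC : A ≤ centralizer (A : Set G) := fun a ha => ((hA.2.2).ge ha).2
  have hAc : IsMulCommutative A := ⟨⟨fun a b => Subtype.ext (mem_centralizer_iff.1 (hAC b.2) a a.2)⟩⟩
  have hAp : IsPGroup p A := hP.2.1.to_le hA.1
  have hAF : A ≤ F := by
    intro a ha
    have h := mem_pPrimePCore_of_normal_abelian (minSimple_odd hG M) hP hA.1 hA.2.1 hAc ha
    haveI := CfsgLib.Solvable.pPrimeCore_normal p M
    haveI := CfsgLib.Solvable.pCore_normal p (M ⧸ Cfsg.pPrimeCore p M)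
    haveI : (Cfsg.pPrimePCore p M).Normal := Subgroup.Normal.comap inferInstance _
    have hUp : IsPGroup p (Cfsg.pPrimePCore p M) :=
      (CfsgLib.Solvable.pCore_isPGroup p).comap_of_ker_isPGroup _ (by
        rw [QuotientGroup.ker_mk', hO']; exact IsPGroup.of_bot)
    exact ⟨_, CfsgLib.Solvable.le_fittingSubgroup inferInstance hUp.isNilpotent h, rfl⟩
  refine ⟨hAF, ?_⟩
  have hA1 : ¬ Cfsg.PRankLE p 1 A := fun h => hA3 (pRankLE_mono one_le_two h)
  have hAne : A ≠ ⊥ := fun h => hA1 fun C _ _ => by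
    subst h
    exact (card_le_card_group _).trans ((card_bot (G := G)).le.trans (Nat.one_le_pow _ _ hp.out.pos))
  have hTH : Cfsg.TransitivityHypothesis A :=
    Cfsg.Agent.S1396.result hG p hdvd A hAp hAc (Or.inr ⟨S, hSP.symm ▸ hA, hA1⟩)
  have hZ : ¬ Cfsg.RankLE 2 ↥(A ⊓ centralizer (A : Set G)) := by
    rw [inf_eq_left.2 hAC]
    exact not_rankLE_of_not_pRankLE hA3
  have hπ : ∀ r : ℕ, r.Prime → r ∣ Nat.card F → r ∣ Nat.card A := by
    intro r hr hrd
    rw [prime_dvd_pGroup hF hr hrd]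
    obtain ⟨n, hn⟩ := IsPGroup.iff_card.1 hAp
    exact hn ▸ dvd_pow_self p fun h0 => hAne (eq_bot_of_card_eq _ (by rw [hn, h0, pow_zero]))
  have hpart : F = fPart M p := le_antisymm (le_fPart_of_pGroup M hF le_rfl) (fPart_le_fittingOf M)
  have hsc : ∀ s : ℕ, s.Prime →
      fPart M s ⊓ centralizer ((fPart M s ⊓ A : Subgroup G) : Set G) ≤ fPart M s ⊓ A := by
    intro s hs
    haveI := Fact.mk hs
    refine le_inf inf_le_left ?_
    by_cases hsp : s = p
    · subst hsp
      rw [inf_eq_right.2 (hpart ▸ hAF : A ≤ fPart M s)]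
      exact (inf_le_inf_right _ (hpart ▸ hFP : fPart M s ≤ P)).trans hA.2.2.le
    · intro x hx
      have hx' : x = 1 := by
        obtain ⟨i, hi⟩ := IsPGroup.iff_orderOf.1 (isPGroup_fPart M s) ⟨x, hx.1⟩
        obtain ⟨j, hj⟩ := IsPGroup.iff_orderOf.1 hF ⟨x, fPart_le_fittingOf M hx.1⟩
        rw [Subgroup.orderOf_mk] at hi hj
        exact orderOf_eq_one_iff.1 (Nat.eq_one_of_dvd_coprimes
          (((Nat.coprime_primes hs hp.out).2 hsp).pow i j) hi.dvd hj.dvd)
      rw [hx']; exact one_mem A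
  have hpne : fPart M p ≠ ⊥ := hpart ▸ hne
  have hCA : centralizer (A : Set G) ≤ M := by
    refine centralizer_le_of_fPart_center hG hM hpne ?_
    intro x hx
    refine hA.2.2.le ⟨hFP (fPart_le_fittingOf M hx.1), ?_⟩
    exact centralizer_le (hpart ▸ hAF : A ≤ fPart M p) hx.2
  refine inUniqueMax_of_signalizers hG hM hAp hAne (hA.1.trans hP.1) fun Y hY hAY => ?_
  refine le_of_invariant_pGroups hAp hY hAY fun q hq hqp Q _ hQ hAQ => ?_
  haveI := Fact.mk hq
  have hqA : ¬ q ∣ Nat.card A := fun h => hqp (prime_dvd_pGroup hAp hq h)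
  rw [invariant_eq_bot_of_transitivity hG hM hAF hTH hZ hπ hsc hCA hqA hQ hAQ]
  exact bot_le

end CfsgLib.OddLocal
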