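import Cfsg.Agent.Lib.OddLocal.HallFrobeniusCenter
import Cfsg.Agent.Lib.OddLocal.TypeP
import Cfsg.Agent.S1443
import Mathlib.GroupTheory.SpecificGroups.ZGroup

/-!
The critical configuration for the `p`-length of `[H, R]`: an elementary abelian `M`, a `q`-group `Q`
and a `p`-group `S = [S, R]`, all invariant under `R`, is impossible.
-/

set_option autoImplicit false
set_option linter.style.haveILetI false

open Subgroup
open scoped commutatorElement

namespace CfsgLib.OddLocal

universe u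
variable {X : Type u} [Group X] [Finite X]

/-- Pieces of the configuration. -/
structure CritConfig (p q : ℕ) (H R M Q S : Subgroup X) : Prop where
  mPGroup : IsPGroup p M
  mExp : ∀ m ∈ M, m ^ p = 1
  mComm : IsMulCommutative M
  qGroup : IsPGroup q Q
  sGroup : IsPGroup p S
  mH : M ≤ H
  qH : Q ≤ H
  sH : S ≤ H
  hM : H ≤ normalizer (M : Set X)
  rM : R ≤ normalizer (M : Set X)
  rQ : R ≤ normalizer (Q : Set X)
  rS : R ≤ normalizer (S : Set X)
  sQ : S ≤ normalizer (Q : Set X)
  sR : ⁅S, R⁆ = S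
  disj : ∀ a ∈ Q ⊔ S, a ∈ M → a = 1
  faith : Q ⊓ centralizer (M : Set X) = ⊥
  fix : ∀ T : Subgroup X, T ≤ Q → T ≠ ⊥ → Q ≤ normalizer (T : Set X) → S ≤ normalizer (T : Set X) →
    R ≤ normalizer (T : Set X) → M ⊓ centralizer (T : Set X) = ⊥
  minimal : ∀ T : Subgroup X, T ≤ Q → T ≠ Q → S ≤ normalizer (T : Set X) → R ≤ normalizer (T : Set X) →
    S ≤ centralizer (T : Set X)
  moves : ¬ S ≤ centralizer (Q : Set X)

theorem normalizes_commutator {A : Subgroup X} {g : X} (hg : g ∈ normalizer (A : Set X)) :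
    g ∈ normalizer ((⁅A, A⁆ : Subgroup X) : Set X) := by
  rw [mem_normalizer_iff_map_conj_eq, Subgroup.map_commutator, mem_normalizer_iff_map_conj_eq.1 hg]

variable {p q : ℕ} [hp : Fact p.Prime] [hq : Fact q.Prime]

theorem false_of_critConfig (hodd : Odd (Nat.card X)) {H R R0 M Q S : Subgroup X}
    (c : CritConfig p q H R M Q S) (hqp : q ≠ p) (hcop : (Nat.card H).Coprime (Nat.card R))
    (hR0 : R0 ≤ R) (hr0 : (Nat.card R0).Prime) (hZ : IsZGroup ↥(H ⊓ centralizer (R0 : Set X))) :
    False := by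
  classical
  haveI hr := Fact.mk hr0
  set r := Nat.card R0 with hrdef
  obtain ⟨⟨x, hxR0⟩, hxgen⟩ := (isCyclic_of_prime_card (α := R0) rfl).exists_generator
  have hR0x : zpowers x = R0 := le_antisymm (zpowers_le.2 hxR0) fun y hy => by
    obtain ⟨i, hi⟩ := hxgen ⟨y, hy⟩
    exact ⟨i, congrArg Subtype.val hi⟩
  have hxo : orderOf x = r := by rw [← Nat.card_zpowers, hR0x]
  have hxR : x ∈ R := hR0 hxR0
  have hSne : S ≠ ⊥ := fun h => c.moves (h ▸ bot_le)
  have hQne : Q ≠ ⊥ := fun h => c.moves (fun s _ => by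
    rw [h, mem_centralizer_iff]; intro a ha; rw [mem_bot.1 ha, one_mul, mul_one])
  have hpH : p ∣ Nat.card H := (dvd_card_of_pGroup_ne_bot (G := H) (B := S.subgroupOf H)
    (c.sGroup.comap_subtype (K := H)) (fun h => hSne (by
      rw [← map_subgroupOf_eq_of_le c.sH, h, Subgroup.map_bot])))
  have hqH : q ∣ Nat.card H := (dvd_card_of_pGroup_ne_bot (G := H) (B := Q.subgroupOf H)
    (c.qGroup.comap_subtype (K := H)) (fun h => hQne (by
      rw [← map_subgroupOf_eq_of_le c.qH, h, Subgroup.map_bot])))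
  have hrR : r ∣ Nat.card R := card_dvd_of_le hR0
  have hpr : p ≠ r := fun h => hp.out.ne_one (Nat.eq_one_of_dvd_coprimes hcop hpH (h ▸ hrR))
  have hqr : q ≠ r := fun h => hq.out.ne_one (Nat.eq_one_of_dvd_coprimes hcop hqH (h ▸ hrR))
  have hodd' : ∀ {s : ℕ}, s.Prime → s ∣ Nat.card X → s ≠ 2 := fun hs hd h2 => by
    subst h2
    exact (Nat.not_even_iff_odd.2 hodd) (even_iff_two_dvd.2 hd)
  have hp2 := hodd' hp.out (hpH.trans (card_subgroup_dvd_card H))
  have hq2 := hodd' hq.out (hqH.trans (card_subgroup_dvd_card H))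
  have hr2 := hodd' hr0 (hrR.trans (card_subgroup_dvd_card R))
  have hxM : x ∈ normalizer (M : Set X) := c.rM hxR
  have hxQ : x ∈ normalizer (Q : Set X) := c.rQ hxR
  have hxS : x ∈ normalizer (S : Set X) := c.rS hxR
  have hcopx : ∀ {T : Subgroup X}, T ≤ H → (Nat.card (zpowers x)).Coprime (Nat.card T) := fun hT => by
    rw [Nat.card_zpowers, hxo]
    exact (hcop.symm.coprime_dvd_left hrR).coprime_dvd_right (card_dvd_of_le hT)
  set C := H ⊓ centralizer (zpowers x : Set X) with hC
  haveI hCz : IsZGroup C := by rw [hC, hR0x]; exact hZ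
  have hcyc : ∀ {l : ℕ} [Fact l.Prime] {T : Subgroup X}, T ≤ C → IsPGroup l T → IsCyclic T := by
    intro l _ T hT hTl
    haveI : IsCyclic (T.subgroupOf C) := (hTl.comap_subtype (K := C)).isCyclic_of_isZGroup
    exact isCyclic_of_surjective (subgroupOfEquivOfLe hT).toMonoidHom (subgroupOfEquivOfLe hT).surjective
  set MC := M ⊓ centralizer (zpowers x : Set X) with hMC
  -- fixed points on `M`
  have hMC1 : MC ≠ ⊥ := by
    intro hfree
    have hle := commutator_le_centralizer_of_fixedPointFree (p := q) (q := p) hr0 hq2 hp2 hr2 hqr hqp.symm hpr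
      hxo c.qGroup c.mPGroup hxQ hxM (c.qH.trans c.hM) hfree
    have hbot : ⁅Q, zpowers x⁆ = ⊥ := le_bot_iff.1 (c.faith ▸ le_inf
      (le_normalizer_iff_commutator_le_left.mp (zpowers_le.2 hxQ)) hle)
    haveI : IsCyclic Q := hcyc (le_inf c.qH (commutator_eq_bot_iff_le_centralizer.1 hbot)) c.qGroup
    have := commutator_le_centralizer_of_isCyclic (X := Q) c.sQ c.rQ
    rw [c.sR] at this
    exact c.moves this
  have hMCp : IsPGroup p MC := c.mPGroup.to_le inf_le_left
  haveI hMCc : IsCyclic MC := hcyc (inf_le_inf_right _ c.mH) hMCp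
  have hMCcard : Nat.card MC = p := by
    obtain ⟨g, hg⟩ := hMCc.exists_ofOrder_eq_natCard
    have h1 : orderOf g ∣ p := orderOf_dvd_of_pow_eq_one (Subtype.ext (by simpa using c.mExp g g.2.1))
    rcases (Nat.dvd_prime hp.out).1 h1 with h | h
    · exact absurd (eq_bot_of_card_eq _ (hg ▸ h)) hMC1
    · rw [← hg, h]
  -- no fixed points on `S`
  have hSx : S ⊓ centralizer (zpowers x : Set X) = ⊥ := by
    by_contra hne
    set SC := S ⊓ centralizer (zpowers x : Set X) with hSC
    have hSCp : IsPGroup p SC := c.sGroup.to_le inf_le_left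
    have hSM : SC ≤ normalizer (MC : Set X) :=
      (le_inf (inf_le_left.trans (c.sH.trans c.hM)) (inf_le_right.trans le_normalizer)).trans
        inf_normalizer_le_normalizer_inf
    have hTp : IsPGroup p ↥(MC ⊔ SC) := IsPGroup.to_sup_of_normal_left' hMCp hSCp hSM
    haveI : IsCyclic ↥(MC ⊔ SC) := hcyc (sup_le (inf_le_inf_right _ c.mH) (inf_le_inf_right _ c.sH)) hTp
    obtain ⟨m, hm⟩ := IsPGroup.iff_card.1 hSCp
    obtain ⟨g, hg⟩ := exists_prime_orderOf_dvd_card' (G := SC) p
      (hm ▸ dvd_pow_self p fun h0 => hne (eq_bot_of_card_eq _ (by rw [hm, h0, pow_zero])))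
    rw [← Subgroup.orderOf_coe] at hg
    have heq := eq_of_card_eq_of_isCyclic (A := MC.subgroupOf (MC ⊔ SC))
      (B := (zpowers (g : X)).subgroupOf (MC ⊔ SC)) (by
        rw [CfsgLib.Coprime.card_subgroupOf le_sup_left,
          CfsgLib.Coprime.card_subgroupOf ((zpowers_le.2 g.2).trans le_sup_right), hMCcard, Nat.card_zpowers, hg])
    have hgM : (g : X) ∈ M :=
      (show (⟨(g : X), mem_sup_right g.2⟩ : ↥(MC ⊔ SC)) ∈ MC.subgroupOf (MC ⊔ SC) from
        heq.ge (mem_zpowers _)).1
    have h1 := c.disj g (mem_sup_right g.2.1) hgM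
    rw [h1, orderOf_one] at hg
    exact hp.out.ne_one hg.symm
  have hSe : ⁅S, zpowers x⁆ = S := by
    have := CfsgLib.Coprime.commutator_sup_centralizer (zpowers_le.2 hxS) (hcopx c.sH) (Or.inl inferInstance)
    rwa [hSx, sup_bot_eq] at this
  obtain ⟨n, hn⟩ := IsPGroup.iff_card.1 c.qGroup
  have hScop : (Nat.card S).Coprime q := by
    obtain ⟨m, hm⟩ := IsPGroup.iff_card.1 c.sGroup
    rw [hm]
    exact ((Nat.coprime_primes hp.out hq.out).2 hqp.symm).pow_left m
  have hSQcop : (Nat.card S).Coprime (Nat.card Q) := hn ▸ hScop.pow_right n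
  -- exponent `q`
  set D : Subgroup X := closure {a : X | a ∈ Q ∧ a ^ q = 1} with hDdef
  have hDQ : D ≤ Q := (closure_le _).2 fun a ha => ha.1
  have hDn : ∀ g : X, g ∈ normalizer (Q : Set X) → g ∈ normalizer (D : Set X) := by
    have key : ∀ g : X, g ∈ normalizer (Q : Set X) → ∀ a ∈ D, g * a * g⁻¹ ∈ D := by
      intro g hg a ha
      have hmap : D.map (MulAut.conj g).toMonoidHom ≤ D := by
        rw [hDdef, MonoidHom.map_closure, closure_le]
        rintro _ ⟨b, ⟨hb, hbq⟩, rfl⟩
        exact subset_closure ⟨(mem_normalizer_iff.1 hg b).1 hb, by rw [← map_pow, hbq, map_one]⟩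
      exact hmap ⟨a, ha, rfl⟩
    intro g hg
    rw [mem_normalizer_iff]
    refine fun a => ⟨key g hg a, fun ha => ?_⟩
    simpa [mul_assoc] using key g⁻¹ (inv_mem hg) _ ha
  have hD : D = Q := by
    by_contra hne
    have hcD := c.minimal D hDQ hne (fun s hs => hDn s (c.sQ hs)) (fun t ht => hDn t (c.rQ ht))
    refine c.moves (Cfsg.Agent.S1443.result q hq2 Q ⊥ S c.qGroup bot_le
      ⟨inferInstance, fun a ha => by rw [mem_bot.1 ha, one_pow]⟩ c.sQ hScop fun a ha hao => ?_)
    refine hcD.trans (centralizer_le (Set.singleton_subset_iff.2 ?_))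
    exact subset_closure ⟨ha.1, hao ▸ pow_orderOf_eq_one a⟩
  have hfixQ := c.fix Q le_rfl hQne le_normalizer c.sQ c.rQ
  by_cases hab : IsMulCommutative Q
  · -- abelian case
    have hQe : Cfsg.IsElementaryAbelian q Q := by
      refine ⟨hab, fun a ha => ?_⟩
      rw [← hD] at ha
      have hcl : ∀ b, b ∈ D → b ∈ Q := fun b hb => hDQ hb
      induction ha using closure_induction with
      | mem b hb => exact hb.2
      | one => exact one_pow q
      | mul a b ha hb iha ihb =>
        rw [(show Commute a b from congrArg Subtype.val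
          (hab.is_comm.comm (⟨a, hcl a ha⟩ : Q) ⟨b, hcl b hb⟩)).mul_pow, iha, ihb, one_mul]
      | inv b _ ih => rw [inv_pow, ih, inv_one]
    have hset : HypSetup p q r Q M x :=
      { elem := hQe, comm := c.mComm, pgroup := c.mPGroup, norm := c.qH.trans c.hM, fixA := hfixQ,
        ord := hxo, normA := hxQ, normV := hxM, small := hMCcard.le, hpq := hqp.symm, hpr := hpr,
        hqr := hqr, p2 := hp2, q2 := hq2, r2 := hr2 }
    exact c.moves (le_centralizer_of_hypSetup hset c.sGroup c.sQ (c.sH.trans c.hM) hxS hSx c.faith)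
  -- nonabelian case
  set Z := ⁅Q, Q⁆ with hZdef
  have hZQ : Z ≤ Q := commutator_le_self Q
  have hZne : Z ≠ ⊥ := fun h => hab (le_centralizer_iff_isMulCommutative.1
    (commutator_eq_bot_iff_le_centralizer.1 h))
  have hZlt : Z ≠ Q := fun h => commutator_ne_self c.qGroup.isNilpotent le_rfl hQne h
  have hZn : ∀ g : X, g ∈ normalizer (Q : Set X) → g ∈ normalizer (Z : Set X) := fun g => normalizes_commutator
  have hSZ := c.minimal Z hZQ hZlt (fun s hs => hZn s (c.sQ hs)) (fun t ht => hZn t (c.rQ ht))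
  -- `[Q, S] = Q`
  have hQS : ⁅Q, S⁆ = Q := by
    by_contra hne
    have h1 := c.minimal ⁅Q, S⁆ (le_normalizer_iff_commutator_le_left.mp c.sQ) hne
      (normalizer_commutator_ge_right Q S) (le_normalizer_commutator c.rQ c.rS)
    exact c.moves (le_centralizer_iff.1 (commutator_eq_bot_iff_le_centralizer.1
      (CfsgLib.Coprime.commutator_eq_bot_of_commutator_commutator c.sQ hSQcop
        (Or.inl (haveI := c.sGroup.isNilpotent; inferInstance))
        (commutator_eq_bot_iff_le_centralizer.2 (le_centralizer_iff.1 h1)))))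
  have hZc : Q ≤ centralizer (Z : Set X) := by
    refine commutator_eq_bot_iff_le_centralizer.1 ?_
    conv_lhs => arg 1; rw [← hQS]
    refine commutator_commutator_eq_bot_of_rotate ?_ ?_
    · rw [commutator_eq_bot_iff_le_centralizer.2 hSZ]; exact commutator_bot_left Q
    · refine le_bot_iff.1 ((commutator_mono (?_ : ⁅Z, Q⁆ ≤ Z) le_rfl).trans ?_)
      · exact le_normalizer_iff_commutator_le_left.mp fun a ha => hZn a (le_normalizer ha)
      · rw [commutator_comm, commutator_eq_bot_iff_le_centralizer.2 hSZ]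
  have hc2 : ∀ a b : Q, ⁅a, b⁆ ∈ center Q := fun a b => mem_center_iff.2 fun e => Subtype.ext
    (mem_centralizer_iff.1 (hZc e.2) _ (commutator_mem_commutator a.2 b.2)).symm
  have hexp : ∀ a ∈ Q, a ^ q = 1 := by
    intro a ha
    have hmem : (⟨a, ha⟩ : Q) ∈ closure {b : Q | b ^ q = 1} := by
      have hle : D ≤ (closure {b : Q | b ^ q = 1}).map Q.subtype := (closure_le _).2 fun b hb =>
        ⟨⟨b, hb.1⟩, subset_closure (Subtype.ext hb.2), rfl⟩
      obtain ⟨b, hb, hba⟩ := hle (hD.ge ha)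
      exact (Subtype.ext hba : b = ⟨a, ha⟩) ▸ hb
    exact congrArg Subtype.val (CfsgLib.Transfer.pow_eq_one_of_mem_closure_class_two hq.out hq2 hc2 hmem)
  have hZe : Cfsg.IsElementaryAbelian q Z := by
    refine ⟨⟨⟨fun a b => Subtype.ext ?_⟩⟩, fun a ha => hexp a (hZQ ha)⟩
    exact (mem_centralizer_iff.1 (hZc (hZQ b.2)) a a.2)
  have hZx : Z ⊓ centralizer (zpowers x : Set X) = ⊥ := by
    by_contra hne
    set QC := Q ⊓ centralizer (zpowers x : Set X) with hQC
    haveI : IsCyclic QC := hcyc (inf_le_inf_right _ c.qH) (c.qGroup.to_le inf_le_left)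
    obtain ⟨g, hg⟩ := (inferInstance : IsCyclic QC).exists_ofOrder_eq_natCard
    have hle : Z ⊓ centralizer (zpowers x : Set X) ≤ QC := inf_le_inf_right _ hZQ
    have hQq : Nat.card QC ≤ q := hg ▸ Nat.le_of_dvd hq.out.pos
      (orderOf_dvd_of_pow_eq_one (Subtype.ext (by simpa using hexp g g.2.1)))
    have heq : Z ⊓ centralizer (zpowers x : Set X) = QC := by
      refine eq_of_le_of_card_ge hle (hQq.trans ?_)
      obtain ⟨m, hm⟩ := IsPGroup.iff_card.1 (c.qGroup.to_le (inf_le_left.trans hZQ) :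
        IsPGroup q ↥(Z ⊓ centralizer (zpowers x : Set X)))
      rw [hm]
      exact Nat.le_self_pow (fun h0 => hne (eq_bot_of_card_eq _ (by rw [hm, h0, pow_zero]))) q
    refine c.moves (le_centralizer_of_fixed (p := r) (q := p) (r := q) hr2 hp2 hq2 hpr hqp hqr hxo
      c.sGroup c.qGroup hxS hxQ c.sQ hSe (heq.ge.trans (inf_le_left.trans (le_centralizer_iff.1 hSZ))))
  have hset : HypSetup p q r Z M x :=
    { elem := hZe, comm := c.mComm, pgroup := c.mPGroup, norm := hZQ.trans (c.qH.trans c.hM),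
      fixA := c.fix Z hZQ hZne (fun a ha => hZn a (le_normalizer ha))
        (fun s hs => hZn s (c.sQ hs)) (fun t ht => hZn t (c.rQ ht)),
      ord := hxo, normA := hZn x hxQ, normV := hxM, small := hMCcard.le, hpq := hqp.symm, hpr := hpr,
      hqr := hqr, p2 := hp2, q2 := hq2, r2 := hr2 }
  exact false_of_hypSetup_center hset hexp hZdef.symm hZc (c.qH.trans c.hM) c.faith hZx hZne

end CfsgLib.OddLocal
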