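import Cfsg.Agent.Lib.OddLocal.HallFrobeniusModule

/-!
A `q`-group of exponent `q` and class two, on whose derived group `x` acts without fixed points, cannot
act faithfully on an abelian `p`-group on which `x` has only `p` fixed points.
-/

set_option autoImplicit false
set_option linter.style.haveILetI false

open Subgroup
open scoped commutatorElement

namespace CfsgLib.OddLocal

universe u
variable {X : Type u} [Group X] [Finite X]
variable {p q r : ℕ} [hp : Fact p.Prime] [hq : Fact q.Prime] [hr : Fact r.Prime]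

theorem inf_centralizer_singleton_eq_bot {U : Subgroup X} {x : X} (hx : orderOf x = r)
    (h : U ⊓ centralizer (zpowers x : Set X) = ⊥) {e : X} (he : e ∈ zpowers x) (he1 : e ≠ 1) :
    U ⊓ centralizer ({e} : Set X) = ⊥ := by
  obtain ⟨i, rfl⟩ := mem_zpowers_iff.1 he
  have hxr : (x ^ i) ^ r = 1 := by
    rw [← zpow_natCast, ← zpow_mul, mul_comm, zpow_mul, zpow_natCast, ← hx, pow_orderOf_eq_one, one_zpow]
  have hgen : zpowers (x ^ i) = zpowers x := eq_of_le_of_card_ge (zpowers_le.2 he) (by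
    rw [Nat.card_zpowers, Nat.card_zpowers, hx, orderOf_eq_prime hxr he1])
  rw [← h, ← hgen, CfsgLib.Comp.centralizer_zpowers]

theorem false_of_hypSetup_center {Q Z V : Subgroup X} {x : X} (h : HypSetup p q r Z V x)
    (hexp : ∀ a ∈ Q, a ^ q = 1) (hQZ : ⁅Q, Q⁆ = Z) (hZc : Q ≤ centralizer (Z : Set X))
    (hQV : Q ≤ normalizer (V : Set X)) (hfaith : Q ⊓ centralizer (V : Set X) = ⊥)
    (hZx : Z ⊓ centralizer (zpowers x : Set X) = ⊥) (hZ : Z ≠ ⊥) : False := by
  have hZQ : Z ≤ Q := hQZ ▸ commutator_le_self Q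
  have hcardx : Nat.card (zpowers x) = r := by rw [Nat.card_zpowers, h.ord]
  have hxZ : zpowers x ≤ normalizer (Z : Set X) := zpowers_le.2 h.normA
  obtain ⟨n, hn⟩ := IsPGroup.iff_card.1 (CfsgLib.Comp.isPGroup_of_elemAb h.elem)
  have hcopxZ : (Nat.card (zpowers x)).Coprime (Nat.card Z) := by
    rw [hcardx, hn]
    exact ((Nat.coprime_primes hr.out hq.out).2 h.hqr.symm).pow_right n
  have hU : ⁅Z, zpowers x⁆ = Z := by
    have := CfsgLib.Coprime.commutator_sup_centralizer hxZ hcopxZ (Or.inl inferInstance)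
    rwa [hZx, sup_bot_eq] at this
  have hact : ∀ B, IsHyp q Z B → V ⊓ centralizer (B : Set X) ≠ ⊥ → IsActive q Z V x B :=
    fun B hB hne => ⟨hB, hne, fun hle => hq.out.ne_one (by rw [← hB.2, relIndex_eq_one.2 (hU.ge.trans hle)])⟩
  have hfixZ : ∀ v ∈ V, v ∈ centralizer (Z : Set X) → v = 1 := fun v hv hvZ =>
    mem_bot.1 (h.fixA ▸ Subgroup.mem_inf.2 ⟨hv, hvZ⟩)
  have hV : V ≠ ⊥ := by
    rintro rfl
    refine hZ (eq_bot_iff.2 (le_trans (le_inf hZQ fun a _ => ?_) hfaith.le))
    exact mem_centralizer_iff.2 fun v hv => by rw [mem_bot.1 hv, one_mul, mul_one]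
  obtain ⟨B, hB, hne⟩ : ∃ B, IsHyp q Z B ∧ V ⊓ centralizer (B : Set X) ≠ ⊥ := by
    by_contra hall
    push Not at hall
    refine hV (eq_bot_iff.2 ?_)
    rw [h.toHypBase.iSup_eq hZ]
    exact iSup_le fun B => (hall B.1 B.2).le
  have hBa := hact B hB hne
  have hxB : x ∈ normalizer (B : Set X) := by
    by_contra hx
    set C := V ⊓ centralizer (B : Set X) with hC
    have hle := h.card_comp_le hBa hx
    obtain ⟨m, hm⟩ := IsPGroup.iff_card.1 (h.pgroup.to_le (inf_le_left : C ≤ V))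
    have hm1 : m = 1 := by
      have h1 : m ≠ 0 := fun h0 => hne (eq_bot_of_card_eq _ (by rw [hm, h0, pow_zero]))
      have h2 : p ^ m ≤ p ^ 1 := by rw [pow_one, ← hm]; exact hle
      rw [Nat.pow_le_pow_iff_right hp.out.one_lt] at h2
      omega
    haveI : IsCyclic C := isCyclic_of_prime_card (p := p) (by rw [hm, hm1, pow_one])
    have hQC : Q ≤ normalizer (C : Set X) :=
      (le_inf hQV ((hZc.trans (centralizer_le hB.1)).trans le_normalizer)).trans
        inf_normalizer_le_normalizer_inf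
    have hcent := commutator_le_centralizer_of_isCyclic (X := C) hQC hQC
    rw [hQZ] at hcent
    exact hne (eq_bot_iff.2 fun v hv => mem_bot.2 (hfixZ v hv.1 (le_centralizer_iff.1 hcent hv)))
  have honly : ∀ B', IsHyp q Z B' → V ⊓ centralizer (B' : Set X) ≠ ⊥ → B' = B := fun B' hB' hne' => by
    obtain ⟨i, rfl⟩ := h.active_orbit hBa (hact B' hB' hne')
    exact cj_eq_self (pow_mem hxB i)
  have hBbot : B = ⊥ := by
    refine eq_bot_iff.2 (le_trans (le_inf (hB.1.trans hZQ) (le_centralizer_iff.1 ?_)) hfaith.le)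
    rw [h.toHypBase.iSup_eq hZ]
    refine iSup_le fun B' => ?_
    by_cases hne' : V ⊓ centralizer ((B' : Subgroup X) : Set X) = ⊥
    · exact hne'.le.trans bot_le
    · rw [honly B'.1 B'.2 hne']; exact inf_le_right
  have hZq : Nat.card Z = q := by
    have h1 := hB.2
    rwa [hBbot, relIndex_bot_left] at h1
  -- the order of `V`
  have hVr : Nat.card V = p ^ r := by
    have hform := formula (U := Z) (E := zpowers x) (H := V) hZ
      (fun hb => hr.out.ne_one (by rw [← hcardx, hb, card_bot]))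
      (eq_bot_iff.2 fun y hy => hZx ▸ Subgroup.mem_inf.2 ⟨hy.1, mem_centralizer_iff.2 fun z hz => by
        obtain ⟨i, rfl⟩ := hz
        obtain ⟨j, rfl⟩ := hy.2
        exact ((Commute.refl x).zpow_zpow i j).eq⟩)
      hxZ (fun e he he1 => inf_centralizer_singleton_eq_bot h.ord hZx he he1)
      (sup_le h.norm (zpowers_le.2 h.normV)) (isSolvable_of_isMulCommutative h.comm)
      (by
        obtain ⟨m, hm⟩ := IsPGroup.iff_card.1 h.pgroup
        rw [hm]
        refine Nat.Coprime.pow_right m (CfsgLib.Comp.coprime_card_sup hxZ ?_ ?_)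
        · rw [hZq]; exact (Nat.coprime_primes hq.out hp.out).2 h.hpq.symm
        · rw [hcardx]; exact (Nat.coprime_primes hr.out hp.out).2 h.hpr.symm)
      h.fixA
    rw [hcardx] at hform
    obtain ⟨m, hm⟩ := IsPGroup.iff_card.1
      (h.pgroup.to_le (inf_le_left : V ⊓ centralizer (zpowers x : Set X) ≤ V))
    have h1 := h.small
    rw [hm] at h1 hform
    have h2 : m ≤ 1 := (Nat.pow_le_pow_iff_right hp.out.one_lt).1 (by rwa [pow_one])
    rcases Nat.le_one_iff_eq_zero_or_eq_one.1 h2 with rfl | rfl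
    · exact absurd (eq_bot_of_card_eq V (by rw [hform, pow_zero, one_pow])) hV
    · rwa [pow_one] at hform
  -- a noncommuting pair
  obtain ⟨z, hz, y, hy, hzy⟩ : ∃ z ∈ Q, ∃ y ∈ Q, ⁅z, y⁆ ≠ 1 := by
    by_contra hall
    push Not at hall
    refine hZ (eq_bot_iff.2 ?_)
    rw [← hQZ, commutator_le]
    exact fun a ha b hb => mem_bot.2 (hall a ha b hb)
  set w := ⁅z, y⁆ with hw
  have hwZ : w ∈ Z := hQZ ▸ commutator_mem_commutator hz hy
  have hZw : zpowers w = Z := eq_of_le_of_card_ge (zpowers_le.2 hwZ) (by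
    rw [hZq, Nat.card_zpowers, orderOf_eq_prime (h.elem.2 w hwZ) hzy])
  have hyZc : Commute y w := (mem_centralizer_iff.1 (hZc hy) w hwZ).symm
  have hzZc : Commute z w := (mem_centralizer_iff.1 (hZc hz) w hwZ).symm
  have hy1 : y ≠ 1 := fun h1 => hzy (by rw [hw, h1, commutatorElement_one_right])
  have hyZ : zpowers y ⊓ Z = ⊥ := by
    rw [eq_bot_iff]
    intro a ha
    by_contra ha1
    have hgen : zpowers a = zpowers y := eq_of_le_of_card_ge (zpowers_le.2 ha.1) (by
      rw [Nat.card_zpowers, Nat.card_zpowers, orderOf_eq_prime (h.elem.2 a ha.2) (by simpa using ha1),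
        orderOf_eq_prime (hexp y hy) hy1])
    have hyZ : y ∈ Z := zpowers_le.2 ha.2 (hgen.ge (mem_zpowers y))
    exact hzy (commutatorElement_eq_one_iff_mul_comm.2 (mem_centralizer_iff.1 (hZc hz) y hyZ).symm)
  set A := zpowers y ⊔ Z with hA
  have hAe : Cfsg.IsElementaryAbelian q A := CfsgLib.PLocal.elemAb_sup
    ⟨inferInstance, fun a ha => hexp a (zpowers_le.2 hy ha)⟩ h.elem
    ((zpowers_le.2 (hZc hy)))
  have hbase : HypBase p q A V := ⟨hAe, h.comm, h.pgroup, sup_le (zpowers_le.2 (hQV hy)) h.norm,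
    eq_bot_iff.2 fun v hv => mem_bot.2 (hfixZ v hv.1 (centralizer_le (le_sup_right : Z ≤ A) hv.2)), h.hpq⟩
  have hAcard : Nat.card A = q * q := by
    rw [hA, sup_comm, CfsgLib.Coprime.card_sup_of_inf_eq_bot
      ((zpowers_le.2 (hZc hy)).trans (centralizer_le_normalizer _)) hyZ, hZq, Nat.card_zpowers,
      orderOf_eq_prime (hexp y hy) hy1]
  let g : Fin q → X := fun i => w ^ (i : ℕ) * y
  let f : Fin q → Subgroup X := fun i => zpowers (g i)
  have hconj : ∀ i : ℕ, z ^ i * y * (z ^ i)⁻¹ = w ^ i * y := by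
    intro i
    induction i with
    | zero => simp
    | succ i ih =>
      calc z ^ (i + 1) * y * (z ^ (i + 1))⁻¹ = z * (z ^ i * y * (z ^ i)⁻¹) * z⁻¹ := by
            rw [pow_succ']; group
        _ = (z * w ^ i * z⁻¹) * (z * y * z⁻¹) := by rw [ih]; group
        _ = w ^ i * (w * y) := by
            rw [(hzZc.pow_right i).eq, mul_inv_cancel_right,
              show z * y * z⁻¹ = w * y by rw [hw, commutatorElement_def]; group]
        _ = w ^ (i + 1) * y := by rw [pow_succ, mul_assoc]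
  have hf : ∀ i : Fin q, f i = cj (z ^ (i : ℕ)) (zpowers y) := fun i => by
    rw [cj, MonoidHom.map_zpowers]
    show zpowers (w ^ (i : ℕ) * y) = zpowers (z ^ (i : ℕ) * y * (z ^ (i : ℕ))⁻¹)
    rw [hconj]
  have hfhyp : ∀ i, IsHyp q A (f i) := by
    intro i
    have hle : f i ≤ A := zpowers_le.2 (mul_mem (mem_sup_right (pow_mem hwZ _)) (mem_sup_left (mem_zpowers y)))
    refine ⟨hle, ?_⟩
    have hci : Nat.card (f i) = q := by
      rw [hf, cj, card_map_of_injective (MulAut.conj _).injective, Nat.card_zpowers,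
        orderOf_eq_prime (hexp y hy) hy1]
    have h1 := relIndex_mul_relIndex ⊥ (f i) A bot_le hle
    rw [relIndex_bot_left, relIndex_bot_left, hci, hAcard] at h1
    exact Nat.eq_of_mul_eq_mul_left hq.out.pos h1
  have hinj : Function.Injective f := by
    intro i j hij
    by_contra hne
    have hgi : g i ∈ f j := hij.le (mem_zpowers _)
    have hmem : g i * (g j)⁻¹ ∈ f j ⊓ Z := by
      refine Subgroup.mem_inf.2 ⟨mul_mem hgi (inv_mem (mem_zpowers _)), ?_⟩
      show w ^ (i : ℕ) * y * (w ^ (j : ℕ) * y)⁻¹ ∈ Z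
      rw [mul_inv_rev, ← mul_assoc, mul_inv_cancel_right]
      exact mul_mem (pow_mem hwZ _) (inv_mem (pow_mem hwZ _))
    have hbot : f j ⊓ Z = ⊥ := by
      rw [hf, ← cj_eq_self (g := z ^ (j : ℕ)) (B := Z)
        ((centralizer_le_normalizer _) (pow_mem (hZc hz) _)), cj, cj,
        ← Subgroup.map_inf _ _ _ (MulAut.conj _).injective, hyZ, Subgroup.map_bot]
    rw [hbot, mem_bot] at hmem
    have h2 : w ^ (i : ℕ) = w ^ (j : ℕ) := mul_right_cancel (mul_inv_eq_one.1 hmem)
    have h3 : (i : ℕ) = j :=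
      pow_injOn_Iio_orderOf (by rw [orderOf_eq_prime (h.elem.2 w hwZ) hzy]; exact i.2)
        (by rw [orderOf_eq_prime (h.elem.2 w hwZ) hzy]; exact j.2) h2
    exact hne (Fin.ext h3)
  have hAne : A ≠ ⊥ := fun hb => hZ (le_bot_iff.1 (hb ▸ le_sup_right))
  have hsup : V = ⨆ i, V ⊓ centralizer (f i : Set X) := by
    refine le_antisymm ?_ (iSup_le fun _ => inf_le_left)
    conv_lhs => rw [hbase.iSup_eq hAne]
    refine iSup_le fun B' => ?_
    by_cases hne' : V ⊓ centralizer ((B' : Subgroup X) : Set X) = ⊥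
    · exact hne'.le.trans bot_le
    have hwB : w ∉ (B' : Subgroup X) := fun hwB => hne' (eq_bot_iff.2 fun v hv =>
      mem_bot.2 (hfixZ v hv.1 (centralizer_le (hZw.ge.trans (zpowers_le.2 hwB)) hv.2)))
    have hBn : zpowers w ≤ normalizer ((B' : Subgroup X) : Set X) := zpowers_le.2
      (centralizer_le_normalizer _ (mem_centralizer_iff.2 fun b hb =>
        congrArg (fun t : A => (t : X)) (hAe.1.is_comm.comm ⟨b, B'.2.1 hb⟩ ⟨w, mem_sup_right hwZ⟩)))
    obtain ⟨b, hb, _, ⟨j, rfl⟩, hbj⟩ := (CfsgLib.Coprime.mem_sup_of_le_normalizer hBn).1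
      ((hyp_sup_zpowers B'.2 (mem_sup_right hwZ) hwB).ge (mem_sup_left (mem_zpowers y) : y ∈ A))
    have hwo : orderOf w = q := orderOf_eq_prime (h.elem.2 w hwZ) hzy
    obtain ⟨k, hk⟩ : ∃ k : ℕ, w ^ k = w ^ (-j) :=
      Submonoid.mem_powers_iff _ _ |>.1 (mem_powers_iff_mem_zpowers.2 ⟨-j, rfl⟩)
    have hbmem : g ⟨k % q, Nat.mod_lt _ hq.out.pos⟩ ∈ (B' : Subgroup X) := by
      show w ^ (k % q) * y ∈ _
      rw [show w ^ (k % q) = w ^ k by rw [← pow_mod_orderOf w k, hwo], hk, ← hbj]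
      have hc : Commute b (w ^ j) := congrArg (fun t : A => (t : X))
        (hAe.1.is_comm.comm ⟨b, B'.2.1 hb⟩ ⟨w ^ j, zpow_mem (mem_sup_right hwZ) j⟩)
      rw [hc.eq, ← mul_assoc, ← zpow_add, neg_add_cancel, zpow_zero, one_mul]
      exact hb
    exact le_iSup_of_le ⟨k % q, Nat.mod_lt _ hq.out.pos⟩
      (inf_le_inf_left _ (centralizer_le (zpowers_le.2 hbmem)))
  set c := Nat.card ↥(V ⊓ centralizer (zpowers y : Set X)) with hc
  have hcard := hbase.card_iSup hfhyp hinj (c := c) fun i => by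
    rw [hf, ← inf_centralizer_cj (pow_mem (hQV hz) _), cj, card_map_of_injective (MulAut.conj _).injective]
  rw [← hsup, hVr, Fintype.card_fin] at hcard
  obtain ⟨a, ha⟩ := IsPGroup.iff_card.1
    (h.pgroup.to_le (inf_le_left : V ⊓ centralizer (zpowers y : Set X) ≤ V))
  rw [hc, ha, ← pow_mul] at hcard
  have hd : q ∣ r := ⟨a, by rw [Nat.pow_right_injective hp.out.two_le hcard, mul_comm]⟩
  exact h.hqr ((Nat.prime_dvd_prime_iff_eq hq.out hr.out).1 hd)

end CfsgLib.OddLocal
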