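import Cfsg.Agent.Lib.OddLocal.HyperplaneDecomp
import Cfsg.Agent.Lib.OddLocal.SCNUniqueTools

/-!
An element `x` of prime order normalizing a `q`-group `Q` and a `p`-group `S = [S, x]` with no fixed
points of `x` on `S`, all acting on an abelian `p`-group on which `x` has few fixed points.
-/

set_option autoImplicit false
set_option linter.style.haveILetI false

open Subgroup
open scoped commutatorElement

namespace CfsgLib.OddLocal

universe u
variable {X : Type u} [Group X] [Finite X]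

/-- `g` normalizes `A` and `B` and acts trivially on `A` modulo `B`. -/
def TrivMod (A B : Subgroup X) (g : X) : Prop :=
  g ∈ normalizer (A : Set X) ∧ g ∈ normalizer (B : Set X) ∧ ∀ a ∈ A, g * a * g⁻¹ * a⁻¹ ∈ B

theorem TrivMod.mul {A B : Subgroup X} {g h : X} (hg : TrivMod A B g) (hh : TrivMod A B h) :
    TrivMod A B (g * h) := by
  refine ⟨mul_mem hg.1 hh.1, mul_mem hg.2.1 hh.2.1, fun a ha => ?_⟩
  have h1 := hh.2.2 a ha
  have h2 := hg.2.2 (h * a * h⁻¹) ((mem_normalizer_iff.1 hh.1 a).1 ha)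
  have := mul_mem h2 h1
  convert this using 1
  group

theorem TrivMod.inv {A B : Subgroup X} {g : X} (hg : TrivMod A B g) : TrivMod A B g⁻¹ := by
  refine ⟨inv_mem hg.1, inv_mem hg.2.1, fun a ha => ?_⟩
  have ha' : g⁻¹ * a * g ∈ A := (mem_normalizer_iff''.1 hg.1 a).1 ha
  have h2 := inv_mem (hg.2.2 _ ha')
  convert h2 using 1
  group

theorem TrivMod.one (A B : Subgroup X) : TrivMod A B 1 :=
  ⟨one_mem _, one_mem _, fun a _ => by simp⟩

theorem TrivMod.conj {A B : Subgroup X} {g n : X} (hg : TrivMod A B g)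
    (hA : n ∈ normalizer (A : Set X)) (hB : n ∈ normalizer (B : Set X)) : TrivMod A B (n * g * n⁻¹) := by
  refine ⟨mul_mem (mul_mem hA hg.1) (inv_mem hA), mul_mem (mul_mem hB hg.2.1) (inv_mem hB), fun a ha => ?_⟩
  have h1 := (mem_normalizer_iff.1 hB _).1 (hg.2.2 (n⁻¹ * a * n) ((mem_normalizer_iff''.1 hA a).1 ha))
  convert h1 using 1
  group

/-- If `S = [S, T]`, `S` and `T` normalize `A ≥ B`, and `T` is trivial on `A` modulo `B`, so is `S`. -/
theorem trivMod_of_commutator {A B S T : Subgroup X} (hST : S ≤ ⁅S, T⁆)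
    (hSA : S ≤ normalizer (A : Set X)) (hSB : S ≤ normalizer (B : Set X))
    (hT : ∀ t ∈ T, TrivMod A B t) : ∀ s ∈ S, TrivMod A B s := by
  intro s hs
  have hcl : ⁅S, T⁆ ≤
      ({ carrier := {g | TrivMod A B g}
         mul_mem' := fun {a b} => TrivMod.mul
         one_mem' := TrivMod.one A B
         inv_mem' := fun {a} => TrivMod.inv } : Subgroup X) := by
    rw [commutator_le]
    intro u hu t ht
    show TrivMod A B ⁅u, t⁆
    rw [commutatorElement_def]
    exact ((hT t ht).conj (hSA hu) (hSB hu)).mul (hT t ht).inv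
  exact hcl (hST hs)

variable {p q r : ℕ} [hp : Fact p.Prime] [hq : Fact q.Prime] [hr : Fact r.Prime]

theorem trivMod_cyclic {A B : Subgroup X} (hB : IsHyp q A B) (hA : IsMulCommutative A)
    {g h : X} (hgA : g ∈ normalizer (A : Set X)) (hgB : g ∈ normalizer (B : Set X))
    (hhA : h ∈ normalizer (A : Set X)) (hhB : h ∈ normalizer (B : Set X)) : TrivMod A B ⁅g, h⁆ := by
  obtain ⟨u, hu, huB⟩ : ∃ u ∈ A, u ∉ B := by
    by_contra hall
    push Not at hall
    have h1 := hB.2
    rw [relIndex_eq_one.2 hall] at h1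
    exact hq.out.ne_one h1.symm
  have hAn : A ≤ normalizer (B : Set X) := fun a ha => centralizer_le_normalizer _
    (mem_centralizer_iff.2 fun b hb => congrArg (fun z : A => (z : X))
      (hA.is_comm.comm ⟨b, hB.1 hb⟩ ⟨a, ha⟩))
  have hun : zpowers u ≤ normalizer (B : Set X) := zpowers_le.2 (hAn hu)
  have hdec : ∀ a ∈ A, ∃ b ∈ B, ∃ j : ℤ, a = b * u ^ j := by
    intro a ha
    rw [← hyp_sup_zpowers hB hu huB] at ha
    obtain ⟨b, hb, _, ⟨j, rfl⟩, rfl⟩ := (CfsgLib.Coprime.mem_sup_of_le_normalizer hun).1 ha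
    exact ⟨b, hb, j, rfl⟩
  -- the exponent of `g` on `A` modulo `B`
  have hexp : ∀ n : X, n ∈ normalizer (A : Set X) → n ∈ normalizer (B : Set X) →
      ∃ i : ℤ, ∀ a ∈ A, ∃ b ∈ B, n * a * n⁻¹ = b * a ^ i := by
    intro n hnA hnB
    obtain ⟨b₀, hb₀, i, hi⟩ := hdec _ ((mem_normalizer_iff.1 hnA u).1 hu)
    refine ⟨i, fun a ha => ?_⟩
    obtain ⟨b, hb, j, rfl⟩ := hdec a ha
    refine ⟨n * b * n⁻¹ * b₀ ^ j * (b ^ i)⁻¹, mul_mem (mul_mem ((mem_normalizer_iff.1 hnB b).1 hb)
      (zpow_mem hb₀ j)) (inv_mem (zpow_mem hb i)), ?_⟩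
    have hc : ∀ {v w : X}, v ∈ A → w ∈ A → Commute v w := fun hv hw =>
      congrArg (fun z : A => (z : X)) (hA.is_comm.comm ⟨_, hv⟩ ⟨_, hw⟩)
    calc n * (b * u ^ j) * n⁻¹ = n * b * n⁻¹ * (n * u * n⁻¹) ^ j := by rw [conj_zpow]; group
      _ = n * b * n⁻¹ * (b₀ ^ j * (u ^ i) ^ j) := by rw [hi, (hc (hB.1 hb₀) (zpow_mem hu i)).mul_zpow]
      _ = _ := by rw [(hc (hB.1 hb) (zpow_mem hu j)).mul_zpow, ← zpow_mul, ← zpow_mul, mul_comm i j]; group
  obtain ⟨i, hi⟩ := hexp g hgA hgB
  obtain ⟨k, hk⟩ := hexp h hhA hhB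
  refine ⟨?_, ?_, fun a ha => ?_⟩
  · rw [commutatorElement_def]; exact mul_mem (mul_mem (mul_mem hgA hhA) (inv_mem hgA)) (inv_mem hhA)
  · rw [commutatorElement_def]; exact mul_mem (mul_mem (mul_mem hgB hhB) (inv_mem hgB)) (inv_mem hhB)
  -- apply to a preimage
  have hmem : (h * g)⁻¹ * a * (h * g) ∈ A := (mem_normalizer_iff''.1 (mul_mem hhA hgA) a).1 ha
  set w := (h * g)⁻¹ * a * (h * g) with hw
  obtain ⟨b₁, hb₁, e₁⟩ := hk w hmem
  obtain ⟨b₂, hb₂, e₂⟩ := hi (w ^ k) (zpow_mem hmem k)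
  obtain ⟨b₃, hb₃, e₃⟩ := hi w hmem
  obtain ⟨b₄, hb₄, e₄⟩ := hk (w ^ i) (zpow_mem hmem i)
  have hgh : ⁅g, h⁆ * a * ⁅g, h⁆⁻¹ = g * (h * w * h⁻¹) * g⁻¹ := by
    rw [hw, commutatorElement_def]; group
  have hhg : a = h * (g * w * g⁻¹) * h⁻¹ := by rw [hw]; group
  have h1 : ⁅g, h⁆ * a * ⁅g, h⁆⁻¹ = (g * b₁ * g⁻¹) * b₂ * w ^ (k * i) := by
    rw [hgh, e₁, zpow_mul]
    calc g * (b₁ * w ^ k) * g⁻¹ = (g * b₁ * g⁻¹) * (g * w ^ k * g⁻¹) := by group
      _ = _ := by rw [e₂]; simp only [mul_assoc]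
  have h2 : a = (h * b₃ * h⁻¹) * b₄ * w ^ (k * i) := by
    conv_lhs => rw [hhg, e₃]
    rw [mul_comm k i, zpow_mul]
    calc h * (b₃ * w ^ i) * h⁻¹ = (h * b₃ * h⁻¹) * (h * w ^ i * h⁻¹) := by group
      _ = _ := by rw [e₄]; simp only [mul_assoc]
  rw [h1]
  conv => arg 2; rw [h2]
  rw [mul_inv_rev, mul_assoc, mul_inv_cancel_left]
  exact mul_mem (mul_mem ((mem_normalizer_iff.1 hgB b₁).1 hb₁) hb₂)
    (inv_mem (mul_mem ((mem_normalizer_iff.1 hhB b₃).1 hb₃) hb₄))

/-- In the abelian case `S` centralizes `Q`. -/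
theorem le_centralizer_of_hypSetup {Q V S : Subgroup X} {x : X} (h : HypSetup p q r Q V x)
    (hSp : IsPGroup p S) (hSQ : S ≤ normalizer (Q : Set X)) (hSV : S ≤ normalizer (V : Set X))
    (hxS : x ∈ normalizer (S : Set X)) (hSx : S ⊓ centralizer (zpowers x : Set X) = ⊥)
    (hfaith : Q ⊓ centralizer (V : Set X) = ⊥) : S ≤ centralizer (Q : Set X) := by
  by_cases hQ : Q = ⊥
  · rw [hQ]; intro s _; rw [mem_centralizer_iff]; intro a ha; rw [mem_bot.1 ha, one_mul, mul_one]
  have hxS' : zpowers x ≤ normalizer (S : Set X) := zpowers_le.2 hxS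
  have hcardx : Nat.card (zpowers x) = r := by rw [Nat.card_zpowers, h.ord]
  have hcop : (Nat.card (zpowers x)).Coprime (Nat.card S) := by
    obtain ⟨n, hn⟩ := IsPGroup.iff_card.1 hSp
    rw [hcardx, hn]
    exact ((Nat.coprime_primes hr.out hp.out).2 h.hpr.symm).pow_right n
  have hSe : ⁅S, zpowers x⁆ = S := by
    have := CfsgLib.Coprime.commutator_sup_centralizer hxS' hcop (Or.inl inferInstance)
    rwa [hSx, sup_bot_eq] at this
  -- only `B` itself is fixed by `x` in its `S`-orbit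
  have hfix : ∀ B : Subgroup X, x ∈ normalizer (B : Set X) → ∀ s ∈ S,
      x ∈ normalizer (cj s B : Set X) → cj s B = B := by
    intro B hxB s hs hxB'
    set N := S ⊓ normalizer (B : Set X)
    have hxN : zpowers x ≤ normalizer (N : Set X) :=
      (le_inf hxS' ((zpowers_le.2 hxB).trans le_normalizer)).trans inf_normalizer_le_normalizer_inf
    obtain ⟨n, hn, hc⟩ := CfsgLib.Coprime.exists_mem_centralizer_of_coset hxS' hxN inf_le_left hcop
      (Or.inl inferInstance) hs (fun a ha => by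
        refine Subgroup.mem_inf.2 ⟨?_, ?_⟩
        · rw [show s⁻¹ * a * s * a⁻¹ = s⁻¹ * (a * s * a⁻¹) by group]
          exact mul_mem (inv_mem hs) ((mem_normalizer_iff.1 (hxS' ha) s).1 hs)
        · refine mul_mem ?_ (inv_mem ((zpowers_le.2 hxB) ha))
          rw [mem_normalizer_iff_map_conj_eq]
          show cj (s⁻¹ * a * s) B = B
          rw [cj_mul, cj_mul, cj_eq_self ((zpowers_le.2 hxB') ha), ← cj_mul, inv_mul_cancel, cj_one])
    have h1 : s * n ∈ S ⊓ centralizer (zpowers x : Set X) :=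
      Subgroup.mem_inf.2 ⟨mul_mem hs hn.1, hc⟩
    rw [hSx, mem_bot] at h1
    have hs' : s ∈ normalizer (B : Set X) := by
      rw [eq_inv_of_mul_eq_one_left h1]; exact inv_mem hn.2
    exact cj_eq_self hs'
  have hinact : ∀ B : Subgroup X, ⁅Q, zpowers x⁆ ≤ B → IsHyp q Q B → x ∈ normalizer (B : Set X) := by
    intro B hle hB
    rw [mem_normalizer_iff]
    have key : ∀ g ∈ zpowers x, ∀ b ∈ B, g * b * g⁻¹ ∈ B := by
      intro g hg b hb
      have h1 : ⁅g, b⁆ ∈ B := hle (by rw [commutator_comm]; exact commutator_mem_commutator hg (hB.1 hb))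
      rw [show g * b * g⁻¹ = ⁅g, b⁆ * b by rw [commutatorElement_def]; group]
      exact mul_mem h1 hb
    intro b
    refine ⟨key x (mem_zpowers x) b, fun hb => ?_⟩
    have := key x⁻¹ (inv_mem (mem_zpowers x)) _ hb
    simpa [mul_assoc] using this
  have hcomp : ∀ B : Subgroup X, ∀ s ∈ S, V ⊓ centralizer (B : Set X) ≠ ⊥ →
      V ⊓ centralizer (cj s B : Set X) ≠ ⊥ := by
    intro B s hs hne
    rwa [← inf_centralizer_cj (hSV hs), Ne, cj,
      Subgroup.map_eq_bot_iff_of_injective _ (MulAut.conj _).injective]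
  letI : MulAction S (Subgroup X) :=
    { smul := fun s B => cj (s : X) B
      one_smul := fun B => cj_one B
      mul_smul := fun s t B => cj_mul (s : X) t B }
  have hsmul : ∀ (s : S) (B : Subgroup X), s • B = cj (s : X) B := fun _ _ => rfl
  -- inactive components are normalized by `S`
  have hnorm₀ : ∀ B : Subgroup X, IsHyp q Q B → V ⊓ centralizer (B : Set X) ≠ ⊥ → ⁅Q, zpowers x⁆ ≤ B →
      ∀ s ∈ S, cj s B = B := by
    intro B hB hne hact s hs
    by_contra hmove
    obtain ⟨k, hk⟩ := hSp.card_orbit B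
    have hxB := hinact B hact hB
    -- the other members of the orbit form one active orbit
    have hother : ∀ t ∈ S, cj t B ≠ B → IsActive q Q V x (cj t B) ∧ x ∉ normalizer (cj t B : Set X) :=
      fun t ht htne => ⟨⟨isHyp_cj hB (hSQ ht), hcomp B t ht hne, fun hle =>
        htne (hfix B hxB t ht (hinact _ hle (isHyp_cj hB (hSQ ht))))⟩, fun hx => htne (hfix B hxB t ht hx)⟩
    obtain ⟨hB₁, hxB₁⟩ := hother s hs hmove
    set B₁ := cj s B
    have hinj : Function.Injective fun i : Fin r => cj (x ^ (i : ℕ)) B₁ :=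
      orbit_injective h.ord hxB₁
    have horb : MulAction.orbit S B = insert B (Set.range fun i : Fin r => cj (x ^ (i : ℕ)) B₁) := by
      ext C
      constructor
      · rintro ⟨t, rfl⟩
        by_cases ht : cj (t : X) B = B
        · exact Set.mem_insert_iff.2 (Or.inl ht)
        obtain ⟨i, hi⟩ := h.active_orbit hB₁ (hother t t.2 ht).1
        refine Set.mem_insert_iff.2 (Or.inr ⟨⟨i % r, Nat.mod_lt _ hr.out.pos⟩, ?_⟩)
        show cj (x ^ (i % r)) B₁ = cj (t : X) B
        rw [← h.ord, pow_mod_orderOf, hi]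
      · rintro (rfl | ⟨i, rfl⟩)
        · exact MulAction.mem_orbit_self _
        · refine ⟨⟨x ^ (i : ℕ) * s * (x ^ (i : ℕ))⁻¹, (mem_normalizer_iff.1 (pow_mem hxS _) s).1 hs⟩, ?_⟩
          show cj (x ^ (i : ℕ) * s * (x ^ (i : ℕ))⁻¹) B = _
          rw [cj_mul, cj_mul, cj_eq_self (inv_mem (pow_mem hxB _))]
    have hcard : Nat.card (MulAction.orbit S B) = r + 1 := by
      rw [Nat.card_coe_set_eq, horb, Set.ncard_insert_of_notMem ?_ (Set.toFinite _),
        Set.ncard_range_of_injective hinj, Nat.card_fin]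
      rintro ⟨i, hi⟩
      exact (h.active_cj hB₁ i).2.2 (by simp only at hi; rw [hi]; exact hact)
    rw [hk] at hcard
    have hodd : Odd (p ^ k) := (hp.out.odd_of_ne_two h.p2).pow
    rw [hcard, Nat.odd_add_one] at hodd
    exact hodd (hr.out.odd_of_ne_two h.r2)
  -- every component is normalized by `S`
  have hnorm : ∀ B : Subgroup X, IsHyp q Q B → V ⊓ centralizer (B : Set X) ≠ ⊥ →
      S ≤ normalizer (B : Set X) := by
    intro B hB hne s hs
    rw [mem_normalizer_iff_map_conj_eq]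
    show cj s B = B
    by_cases hact : ⁅Q, zpowers x⁆ ≤ B
    · exact hnorm₀ B hB hne hact s hs
    by_contra hmove
    obtain ⟨k, hk⟩ := hSp.card_orbit B
    have hBa : IsActive q Q V x B := ⟨hB, hne, hact⟩
    have hactive : ∀ t ∈ S, IsActive q Q V x (cj t B) := by
      refine fun t ht => ⟨isHyp_cj hB (hSQ ht), hcomp B t ht hne, fun hle => hact ?_⟩
      have e := hnorm₀ _ (isHyp_cj hB (hSQ ht)) (hcomp B t ht hne) hle t⁻¹ (inv_mem ht)
      rw [← cj_mul, inv_mul_cancel, cj_one] at e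
      exact e ▸ hle
    by_cases hxB : x ∈ normalizer (B : Set X)
    · obtain ⟨i, hi⟩ := h.active_orbit hBa (hactive s hs)
      exact hmove (hi.trans (cj_eq_self (pow_mem hxB i)))
    -- the orbit would be the whole active orbit
    obtain ⟨i, hi⟩ := h.active_orbit hBa (hactive s hs)
    have hir : ¬ r ∣ i := fun hd => hmove (by
      obtain ⟨j, rfl⟩ := hd
      rw [hi, pow_mul, ← h.ord, pow_orderOf_eq_one, one_pow, cj_one])
    have hall : ∀ m : ℕ, ∃ t ∈ S, cj t B = cj ((x ^ i) ^ m) B := by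
      intro m
      induction m with
      | zero => exact ⟨1, one_mem _, by rw [pow_zero]⟩
      | succ m ih =>
        obtain ⟨t, ht, hte⟩ := ih
        refine ⟨(x ^ i) ^ m * s * ((x ^ i) ^ m)⁻¹ * t, mul_mem ((mem_normalizer_iff.1
          (pow_mem (pow_mem hxS i) m) s).1 hs) ht, ?_⟩
        rw [cj_mul, hte, ← cj_mul, inv_mul_cancel_right, cj_mul, hi, ← cj_mul, ← pow_succ]
    have hcop' : i.Coprime (orderOf x) := by rw [h.ord]; exact (hr.out.coprime_iff_not_dvd.2 hir).symm
    obtain ⟨m₀, hm₀⟩ := exists_pow_eq_self_of_coprime hcop'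
    have horb : MulAction.orbit S B = Set.range fun j : Fin r => cj (x ^ (j : ℕ)) B := by
      ext C
      constructor
      · rintro ⟨t, rfl⟩
        obtain ⟨j, hj⟩ := h.active_orbit hBa (hactive t t.2)
        refine ⟨⟨j % r, Nat.mod_lt _ hr.out.pos⟩, ?_⟩
        show cj (x ^ (j % r)) B = cj (t : X) B
        rw [← h.ord, pow_mod_orderOf, hj]
      · rintro ⟨j, rfl⟩
        obtain ⟨t, ht, hte⟩ := hall (m₀ * j)
        exact ⟨⟨t, ht⟩, by show cj t B = _; rw [hte, pow_mul, hm₀]⟩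
    have hcard : Nat.card (MulAction.orbit S B) = r := by
      rw [Nat.card_coe_set_eq, horb, Set.ncard_range_of_injective (orbit_injective h.ord hxB), Nat.card_fin]
    rw [hk] at hcard
    rcases k with _ | k
    · exact hr.out.ne_one (by rw [← hcard, pow_zero])
    · exact h.hpr ((Nat.prime_dvd_prime_iff_eq hp.out hr.out).1 (hcard ▸ dvd_pow_self p k.succ_ne_zero))
  -- `S` is trivial on `Q` modulo each such hyperplane
  have htriv : ∀ B : Subgroup X, IsHyp q Q B → V ⊓ centralizer (B : Set X) ≠ ⊥ →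
      ∀ s ∈ S, TrivMod Q B s := by
    intro B hB hne
    have hSB := hnorm B hB hne
    by_cases hact : ⁅Q, zpowers x⁆ ≤ B
    · refine trivMod_of_commutator hSe.ge hSQ hSB fun t ht => ⟨zpowers_le.2 h.normA ht,
        zpowers_le.2 (hinact B hact hB) ht, fun a ha => hact ?_⟩
      rw [← commutatorElement_def, commutator_comm]
      exact commutator_mem_commutator ht ha
    by_cases hxB : x ∈ normalizer (B : Set X)
    · intro s hs
      have hcl : ⁅S, zpowers x⁆ ≤
          ({ carrier := {g | TrivMod Q B g}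
             mul_mem' := fun {a b} => TrivMod.mul
             one_mem' := TrivMod.one Q B
             inv_mem' := fun {a} => TrivMod.inv } : Subgroup X) := by
        rw [commutator_le]
        intro u hu t ht
        exact trivMod_cyclic hB h.elem.1 (hSQ hu) (hSB hu) (zpowers_le.2 h.normA ht) (zpowers_le.2 hxB ht)
      exact hcl (hSe.ge hs)
    -- a component of order `p`
    intro s hs
    refine ⟨hSQ hs, hSB hs, fun a ha => ?_⟩
    set C := V ⊓ centralizer (B : Set X)
    have hCp : Nat.card C = p := by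
      refine le_antisymm (h.card_comp_le ⟨hB, hne, hact⟩ hxB) ?_
      obtain ⟨n, hn⟩ := IsPGroup.iff_card.1 (h.pgroup.to_le (inf_le_left : C ≤ V))
      rw [hn]
      exact Nat.le_self_pow (fun h0 => hne (eq_bot_of_card_eq _ (by rw [hn, h0, pow_zero]))) p
    haveI : IsCyclic C := isCyclic_of_prime_card hCp
    have hSC : S ≤ normalizer (C : Set X) :=
      (le_inf hSV (hSB.trans (normalizer_le_normalizer_centralizer_of_set _))).trans
        inf_normalizer_le_normalizer_inf
    have hcent := commutator_le_centralizer_of_isCyclic (X := C) hSC (h.toHypBase.norm_comp hB.1)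
    have hmem : s * a * s⁻¹ * a⁻¹ ∈ centralizer (C : Set X) := hcent (commutator_mem_commutator hs ha)
    have hmemQ : s * a * s⁻¹ * a⁻¹ ∈ Q := mul_mem ((mem_normalizer_iff.1 (hSQ hs) a).1 ha) (inv_mem ha)
    by_contra hnB
    refine hne (eq_bot_iff.2 fun v hv => ?_)
    rw [← h.fixA]
    refine Subgroup.mem_inf.2 ⟨hv.1, mem_centralizer_iff.2 fun w hw => mem_centralizer_singleton_iff.1 ?_⟩
    have hsup : B ⊔ zpowers (s * a * s⁻¹ * a⁻¹) ≤ centralizer ({v} : Set X) :=
      sup_le (fun b hb => mem_centralizer_singleton_iff.2 (mem_centralizer_iff.1 hv.2 b hb))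
        (zpowers_le.2 (mem_centralizer_singleton_iff.2 (mem_centralizer_iff.1 hmem v hv).symm))
    exact hsup ((hyp_sup_zpowers hB hmemQ hnB).ge hw)
  -- conclusion
  intro s hs
  rw [mem_centralizer_iff]
  intro a ha
  have hmem : s * a * s⁻¹ * a⁻¹ ∈ Q ⊓ centralizer (V : Set X) := by
    refine Subgroup.mem_inf.2 ⟨mul_mem ((mem_normalizer_iff.1 (hSQ hs) a).1 ha) (inv_mem ha), ?_⟩
    rw [h.toHypBase.iSup_eq hQ]
    refine mem_centralizer_iff.2 fun v hv => ?_
    have hle : (⨆ B : {B : Subgroup X // B ≤ Q ∧ B.relIndex Q = q},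
        V ⊓ centralizer ((B : Subgroup X) : Set X)) ≤ centralizer ({s * a * s⁻¹ * a⁻¹} : Set X) := by
      refine iSup_le fun B w hw => mem_centralizer_singleton_iff.2 ?_
      by_cases hne : V ⊓ centralizer ((B : Subgroup X) : Set X) = ⊥
      · rw [hne, mem_bot] at hw; rw [hw, one_mul, mul_one]
      exact (mem_centralizer_iff.1 hw.2 _ ((htriv B B.2 hne s hs).2.2 a ha)).symm
    exact mem_centralizer_singleton_iff.1 (hle hv)
  rw [hfaith, mem_bot] at hmem
  exact (mul_inv_eq_iff_eq_mul.1 (mul_inv_eq_one.1 hmem)).symm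
where
  orbit_injective {x : X} {r : ℕ} [Fact r.Prime] {B : Subgroup X} (hxo : orderOf x = r)
      (hx : x ∉ normalizer (B : Set X)) : Function.Injective fun i : Fin r => cj (x ^ (i : ℕ)) B := by
    intro i j hij
    by_contra hne
    have hd : ∀ {a b : ℕ}, a < b → b < r → cj (x ^ a) B = cj (x ^ b) B → False := by
      intro a b hab hb he
      have hdn : x ^ (b - a) ∈ normalizer (B : Set X) := by
        rw [mem_normalizer_iff_map_conj_eq]
        show cj (x ^ (b - a)) B = B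
        have h2 := congrArg (cj (x ^ a)⁻¹) he
        rw [← cj_mul, ← cj_mul, inv_mul_cancel, cj_one, ← Nat.add_sub_cancel' hab.le, pow_add,
          inv_mul_cancel_left] at h2
        rw [← h2]
      refine hx ?_
      have hcop : (b - a).Coprime (orderOf x) := by
        rw [hxo]
        exact ((Fact.out : r.Prime).coprime_iff_not_dvd.2 (Nat.not_dvd_of_pos_of_lt (by omega) (by omega))).symm
      obtain ⟨m, hm⟩ := exists_pow_eq_self_of_coprime hcop
      exact hm ▸ pow_mem hdn m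
    rcases lt_or_gt_of_ne (fun e => hne (Fin.ext e) : (i : ℕ) ≠ j) with hlt | hgt
    · exact hd hlt j.2 hij
    · exact hd hgt i.2 hij.symm

end CfsgLib.OddLocal
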