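import Mathlib
import Cfsg.Agent.Lib.Coprime.Action
import Cfsg.Agent.Lib.Coprime.Generation

/-!
# Fixed points of an element of prime order on a module for `[P, x] = P`

If `P` is a `p`-group, `x` has prime order `r ≠ p` and normalizes `P`, and `P⟨x⟩` acts on
a coprime module with `x` fixed-point-free, then `[P, x]` acts trivially (Hall–Higman; the only
exception is `p = 2`, `r = 2 ^ n + 1`).
-/

set_option autoImplicit false
set_option linter.style.haveILetI false
set_option linter.unusedSectionVars false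

namespace CfsgLib.OddLocal

open Subgroup
open scoped commutatorElement

universe u v w
variable {k : Type v} [Field k] {Γ : Type u} [Group Γ] {V : Type w} [AddCommGroup V] [Module k V]

theorem sum_translate_eq_zero {P : Type*} [Group P] [Fintype P] (f : P → k)
    (hmul : ∀ a b, f (a * b) = f a * f b) {a : P} (ha : f a ≠ 1) : ∑ y : P, f y = 0 := by
  have h : ∑ y : P, f (a * y) = ∑ y : P, f y := Equiv.sum_comp (Equiv.mulLeft a) f
  simp only [hmul, ← Finset.mul_sum] at h
  by_contra hs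
  exact ha (mul_right_cancel₀ hs (h.trans (one_mul _).symm))

variable [IsAlgClosed k] [FiniteDimensional k V]

/-- Schur's lemma for a faithful irreducible action. -/
theorem scalar_of_commute (ρ : Γ →* Module.End k V) [Nontrivial V]
    (hirr : ∀ W : Submodule k V, (∀ g, ∀ w ∈ W, ρ g w ∈ W) → W = ⊥ ∨ W = ⊤)
    (M : Module.End k V) (hM : ∀ g, ρ g * M = M * ρ g) : ∃ c : k, M = c • 1 := by
  obtain ⟨c, hc⟩ := Module.End.exists_eigenvalue M
  refine ⟨c, ?_⟩
  rcases hirr (M.eigenspace c) (fun g w hw => by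
    rw [Module.End.mem_eigenspace_iff] at hw ⊢
    rw [← Module.End.mul_apply, ← hM g, Module.End.mul_apply, hw, map_smul]) with h | h
  · exact absurd h hc
  · refine LinearMap.ext fun v => ?_
    have hv : v ∈ M.eigenspace c := h ▸ Submodule.mem_top
    rw [Module.End.mem_eigenspace_iff] at hv
    simpa using hv

/-- The centralizer of a fixed-point-free operator of order `r` has dimension at least
`d ^ 2 / (r - 1)`. -/
theorem finrank_commutant_ge {r : ℕ} (hr : r.Prime) (hrk : (r : k) ≠ 0) (X : Module.End k V)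
    (hX : X ^ r = 1) (hfree : ∀ v, X v = v → v = 0)
    (K : Submodule k (Module.End k V)) (hK : ∀ M, X * M = M * X → M ∈ K) :
    Module.finrank k V * Module.finrank k V ≤ (r - 1) * Module.finrank k K := by
  classical
  haveI : NeZero (r : k) := ⟨hrk⟩
  obtain ⟨ζ, hζ'⟩ := IsAlgClosed.exists_root (Polynomial.cyclotomic r k)
    (by
      rw [Polynomial.degree_cyclotomic]
      exact_mod_cast (Nat.totient_pos.2 hr.pos).ne')
  have hζ : IsPrimitiveRoot ζ r := Polynomial.isRoot_cyclotomic_iff.1 hζ'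
  let η : Finset k := ((Finset.range r).erase 0).image fun j => ζ ^ j
  have hηcard : η.card ≤ r - 1 := by
    refine Finset.card_image_le.trans ?_
    rw [Finset.card_erase_of_mem (Finset.mem_range.2 hr.pos), Finset.card_range]
  let S : Set V := {v | ∃ c ∈ η, X v = c • v}
  have hspan : Submodule.span k S = ⊤ := by
    rw [eq_top_iff]
    rintro v -
    let e : ℕ → V := fun j => ∑ i ∈ Finset.range r, (ζ ^ j) ^ i • (X ^ i) v
    have he : ∀ j, X (e j) = (ζ ^ j)⁻¹ • e j := by
      intro j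
      have hj0 : ζ ^ j ≠ 0 := pow_ne_zero _ (hζ.ne_zero hr.ne_zero)
      let g : ℕ → V := fun i => (ζ ^ j) ^ i • (X ^ i) v
      have hshift : ∑ i ∈ Finset.range r, g (i + 1) = ∑ i ∈ Finset.range r, g i := by
        have h1 := Finset.sum_range_succ' g r
        have h2 := Finset.sum_range_succ g r
        have h0 : g r = g 0 := by
          show (ζ ^ j) ^ r • (X ^ r) v = (ζ ^ j) ^ 0 • (X ^ 0) v
          rw [hX, pow_zero, pow_zero, ← pow_mul, mul_comm, pow_mul, hζ.pow_eq_one, one_pow]
        rw [h2, h0] at h1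
        exact (add_right_cancel h1).symm
      apply smul_right_injective V hj0
      show ζ ^ j • X (e j) = ζ ^ j • ((ζ ^ j)⁻¹ • e j)
      rw [smul_inv_smul₀ hj0]
      conv_rhs => rw [show e j = ∑ i ∈ Finset.range r, g (i + 1) from hshift.symm]
      show ζ ^ j • X (∑ i ∈ Finset.range r, g i) = _
      rw [map_sum, Finset.smul_sum]
      refine Finset.sum_congr rfl fun i _ => ?_
      show ζ ^ j • X ((ζ ^ j) ^ i • (X ^ i) v) = (ζ ^ j) ^ (i + 1) • (X ^ (i + 1)) v
      rw [map_smul, smul_smul, ← pow_succ', pow_succ' X, Module.End.mul_apply]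
    have hsum : ∑ j ∈ Finset.range r, e j = (r : k) • v := by
      simp only [e]
      rw [Finset.sum_comm, Finset.sum_eq_single 0]
      · simp [Nat.cast_smul_eq_nsmul]
      · intro i hi hi0
        rw [← Finset.sum_smul]
        have hne : ζ ^ i ≠ 1 := hζ.pow_ne_one_of_pos_of_lt hi0 (Finset.mem_range.1 hi)
        have : ∑ j ∈ Finset.range r, (ζ ^ j) ^ i = 0 := by
          simp only [← pow_mul, mul_comm _ i]
          simp only [pow_mul]
          rw [geom_sum_eq hne, ← pow_mul, mul_comm, pow_mul, hζ.pow_eq_one, one_pow, sub_self, zero_div]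
        rw [this, zero_smul]
      · intro h; exact absurd (Finset.mem_range.2 hr.pos) h
    have hv : v = (r : k)⁻¹ • ∑ j ∈ Finset.range r, e j := by
      rw [hsum, inv_smul_smul₀ hrk]
    rw [hv]
    refine Submodule.smul_mem _ _ (Submodule.sum_mem _ fun j hj => ?_)
    rcases Nat.eq_zero_or_pos j with rfl | hj0
    · rw [hfree (e 0) (by rw [he, pow_zero, inv_one, one_smul])]
      exact Submodule.zero_mem _
    refine Submodule.subset_span ⟨(ζ ^ j)⁻¹, ?_, he j⟩
    have hjr := Finset.mem_range.1 hj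
    refine Finset.mem_image.2 ⟨r - j, Finset.mem_erase.2 ⟨?_, Finset.mem_range.2 (by omega)⟩, ?_⟩
    · omega
    · refine eq_inv_of_mul_eq_one_left ?_
      rw [← pow_add, Nat.sub_add_cancel (Finset.mem_range.1 hj).le, hζ.pow_eq_one]
  obtain ⟨B, hBS, hBspan, hBli⟩ := exists_linearIndependent k S
  let b : Module.Basis B k V :=
    Module.Basis.mk hBli (by rw [Subtype.range_coe, hBspan, hspan])
  haveI : Fintype B := hBli.setFinite.fintype
  have hbv : ∀ i : B, b i = (i : V) := fun i => by simp [b]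
  choose ev hev hev' using fun i : B => hBS i.2
  let T := {ij : B × B // ev ij.1 = ev ij.2}
  let F : T → Module.End k V := fun ij => b.constr k (Pi.single ij.1.2 (b ij.1.1))
  have hFmem : ∀ ij, F ij ∈ K := fun ij => by
    refine hK _ (b.ext fun l => ?_)
    simp only [F, Module.End.mul_apply, Module.Basis.constr_basis]
    by_cases hl : l = ij.1.2
    · subst hl
      rw [Pi.single_eq_same, hbv ij.1.2, hev', map_smul, ← hbv ij.1.2, Module.Basis.constr_basis,
        Pi.single_eq_same, hbv ij.1.1, hev', ij.2]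
    · rw [Pi.single_eq_of_ne hl, map_zero, hbv l, hev', map_smul, ← hbv l, Module.Basis.constr_basis,
        Pi.single_eq_of_ne hl, smul_zero]
  have hFli : LinearIndependent k (fun ij => (⟨F ij, hFmem ij⟩ : K)) := by
    rw [Fintype.linearIndependent_iff]
    intro c hc ij
    have h := congrArg (fun M : K => b.repr ((M : Module.End k V) (b ij.1.2)) ij.1.1) hc
    simp only [Submodule.coe_sum, Submodule.coe_smul, LinearMap.sum_apply, LinearMap.smul_apply,
      map_sum, map_smul, Finsupp.coe_finsetSum, Finset.sum_apply, Finsupp.coe_smul, Pi.smul_apply,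
      Submodule.coe_zero, LinearMap.zero_apply, map_zero, Finsupp.coe_zero, Pi.zero_apply,
      smul_eq_mul] at h
    rw [Finset.sum_eq_single ij] at h
    · simpa [F] using h
    · intro kl _ hne
      by_cases hl : ij.1.2 = kl.1.2
      · have hne' : kl.1.1 ≠ ij.1.1 := fun h' => hne (Subtype.ext (Prod.ext h' hl.symm))
        simp [F, hl, Finsupp.single_eq_of_ne hne'.symm]
      · simp [F, Pi.single_eq_of_ne hl]
    · intro h'; exact absurd (Finset.mem_univ _) h'
  have hT := hFli.fintype_card_le_finrank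
  have hd : Module.finrank k V = ∑ c ∈ η, (Finset.univ.filter fun i => ev i = c).card := by
    rw [Module.finrank_eq_card_basis b, ← Finset.card_univ,
      Finset.card_eq_sum_card_fiberwise (f := ev) (t := η) fun i _ => hev i]
  have hTc : Fintype.card T = ∑ c ∈ η, (Finset.univ.filter fun i => ev i = c).card ^ 2 := by
    rw [Fintype.card_subtype, Finset.card_eq_sum_card_fiberwise (f := fun ij : B × B => ev ij.1) (t := η)
      fun ij _ => hev ij.1]
    refine Finset.sum_congr rfl fun c _ => ?_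
    rw [pow_two, ← Finset.card_product]
    congr 1
    ext ⟨i, j⟩
    simp only [Finset.mem_filter, Finset.mem_univ, true_and, Finset.mem_product]
    constructor
    · rintro ⟨h1, h2⟩; exact ⟨h2, h1 ▸ h2⟩
    · rintro ⟨h1, h2⟩; exact ⟨h1.trans h2.symm, h1⟩
  calc Module.finrank k V * Module.finrank k V
      = (∑ c ∈ η, (Finset.univ.filter fun i => ev i = c).card) ^ 2 := by rw [hd, pow_two]
    _ ≤ η.card * ∑ c ∈ η, (Finset.univ.filter fun i => ev i = c).card ^ 2 := sq_sum_le_card_mul_sum_sq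
    _ ≤ (r - 1) * Module.finrank k K := Nat.mul_le_mul hηcard (hTc ▸ hT)

theorem arith_exceptional {d D r p m : ℕ} (hp : p.Prime) (hr : r.Prime) (hdm : d = p ^ m)
    (hd1 : 1 < d) (h1 : D * r = d * d + (r - 1)) (h2 : d * d ≤ (r - 1) * D) : p = 2 ∧ r = 2 ^ m + 1 := by
  obtain ⟨s, rfl⟩ : ∃ s, r = s + 1 := ⟨r - 1, by have := hr.pos; omega⟩
  rw [Nat.add_sub_cancel] at h1 h2
  have hds : d ≤ s := by
    by_contra h
    have h3 : (s + 1) * (d * d) ≤ s * (d * d + s) := by
      calc (s + 1) * (d * d) ≤ (s + 1) * (s * D) := Nat.mul_le_mul_left _ h2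
        _ = s * (D * (s + 1)) := by ring
        _ = _ := by rw [h1]
    nlinarith
  obtain ⟨e, rfl⟩ : ∃ e, d = e + 1 := ⟨d - 1, by omega⟩
  have hdvd : s + 1 ∣ e * (e + 2) := by
    refine (Nat.dvd_add_left (dvd_refl (s + 1))).1 ⟨D, ?_⟩
    rw [mul_comm (s + 1) D, h1]; ring
  have hse : s = e + 1 := by
    rcases hr.dvd_mul.1 hdvd with h | h
    · have := Nat.le_of_dvd (by omega) h
      omega
    · have := Nat.le_of_dvd (by omega) h
      omega
  have hp2 : p = 2 := by
    by_contra hp2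
    obtain ⟨t, ht⟩ := (hp.odd_of_ne_two hp2).pow (n := m)
    obtain ⟨t', ht'⟩ := hr.odd_of_ne_two (by omega)
    omega
  subst hp2
  exact ⟨rfl, by omega⟩

variable [Finite Γ]

/-- The irreducible case, with the exceptional possibility. -/
theorem irreducible_fixed_point' (ρ : Γ →* Module.End k V) (hρ : Function.Injective ρ) [Nontrivial V]
    (hirr : ∀ W : Submodule k V, (∀ g, ∀ w ∈ W, ρ g w ∈ W) → W = ⊥ ∨ W = ⊤)
    {p r : ℕ} [hp : Fact p.Prime] (hr : r.Prime) (hpr : p ≠ r)
    (hpk : (p : k) ≠ 0) (hrk : (r : k) ≠ 0)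
    (P : Subgroup Γ) [hPn : P.Normal] (hP : IsPGroup p P) (x : Γ) (hx : orderOf x = r)
    (hgen : P ⊔ Subgroup.zpowers x = ⊤) (hPx : ⁅P, Subgroup.zpowers x⁆ = P)
    (hcenD : ¬ IsMulCommutative P → (∀ z ∈ P ⊓ Subgroup.centralizer (P : Set Γ), x * z = z * x) ∧
      ∀ u ∈ ⁅P, P⁆, x * u = u * x)
    (hfree : ∀ v, ρ x v = v → v = 0) : P = ⊥ ∨ (p = 2 ∧ ¬ IsMulCommutative P ∧ ∃ m : ℕ,
      r = 2 ^ m + 1 ∧ (P ⊓ Subgroup.centralizer (P : Set Γ)).relIndex P = 2 ^ (2 * m)) := by
  classical
  haveI : Fintype P := Fintype.ofFinite P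
  haveI hrF : Fact r.Prime := ⟨hr⟩
  have hR : x ∈ Subgroup.normalizer (P : Set Γ) := by rw [Subgroup.normalizer_eq_top]; trivial
  have hxP : ∀ u ∈ P, x * u * x⁻¹ ∈ P := fun u hu => hPn.conj_mem u hu x
  obtain ⟨n, hn⟩ := IsPGroup.iff_card.1 hP
  have hcop : (Nat.card (Subgroup.zpowers x)).Coprime (Nat.card P) := by
    rw [Nat.card_zpowers, hx, hn]
    exact Nat.Coprime.pow_right n ((Nat.coprime_primes hr hp.out).2 hpr.symm)
  have hcardP : (Nat.card P : k) ≠ 0 := by rw [hn, Nat.cast_pow]; exact pow_ne_zero _ hpk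
  have comm_all : ∀ M : Module.End k V, (∀ u ∈ P, ρ u * M = M * ρ u) → ρ x * M = M * ρ x →
      ∀ g, ρ g * M = M * ρ g := by
    intro M h1 h2
    let C : Subgroup Γ :=
      { carrier := {g | ρ g * M = M * ρ g}
        one_mem' := by simp
        mul_mem' := fun {a b} ha hb => by
          show ρ (a * b) * M = M * ρ (a * b)
          rw [map_mul, mul_assoc, show ρ b * M = M * ρ b from hb, ← mul_assoc,
            show ρ a * M = M * ρ a from ha, mul_assoc]
        inv_mem' := fun {a} ha => by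
          show ρ a⁻¹ * M = M * ρ a⁻¹
          calc ρ a⁻¹ * M = ρ a⁻¹ * M * (ρ a * ρ a⁻¹) := by rw [← map_mul, mul_inv_cancel, map_one, mul_one]
            _ = ρ a⁻¹ * (M * ρ a) * ρ a⁻¹ := by simp only [mul_assoc]
            _ = ρ a⁻¹ * (ρ a * M) * ρ a⁻¹ := by rw [show ρ a * M = M * ρ a from ha]
            _ = _ := by rw [← mul_assoc (ρ a⁻¹), ← map_mul, inv_mul_cancel, map_one, one_mul] }
    intro g
    have : (⊤ : Subgroup Γ) ≤ C := hgen ▸ sup_le h1 (Subgroup.zpowers_le.2 h2)
    exact this (Subgroup.mem_top g)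
  by_cases hab : IsMulCommutative P
  · -- abelian case
    refine Or.inl ?_
    by_contra hPne
    have hC1 : ∀ u ∈ P, x * u = u * x → u = 1 := by
      intro u hu hux
      have h := CfsgLib.Coprime.commutator_inf_centralizer_eq_bot hab
        (Subgroup.zpowers_le.2 hR) hcop
      rw [hPx] at h
      rw [← Subgroup.mem_bot, ← h]
      refine Subgroup.mem_inf.2 ⟨hu, ?_⟩
      rw [Subgroup.mem_centralizer_iff]
      rintro _ ⟨i, rfl⟩
      exact ((show Commute x u from hux).zpow_left i).eq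
    set N : Module.End k V := ∑ w : P, ρ w with hN
    have hNu : ∀ u : P, ρ u * N = N := by
      intro u
      rw [hN, Finset.mul_sum]
      simp only [← map_mul, ← Subgroup.coe_mul]
      exact Equiv.sum_comp (Equiv.mulLeft u) (fun w : P => ρ (w : Γ))
    have hNu' : ∀ u : P, N * ρ u = N := by
      intro u
      rw [hN, Finset.sum_mul]
      simp only [← map_mul, ← Subgroup.coe_mul]
      exact Equiv.sum_comp (Equiv.mulRight u) (fun w : P => ρ (w : Γ))
    have hNx : ρ x * N = N * ρ x := by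
      rw [hN, Finset.mul_sum, Finset.sum_mul]
      let σ : P ≃ P :=
        { toFun := fun w => ⟨x * w * x⁻¹, hxP w w.2⟩
          invFun := fun w => ⟨x⁻¹ * w * x, hPn.conj_mem' w w.2 x⟩
          left_inv := fun w => Subtype.ext (by simp [mul_assoc])
          right_inv := fun w => Subtype.ext (by simp [mul_assoc]) }
      refine Fintype.sum_equiv σ _ _ fun w => ?_
      rw [← map_mul, ← map_mul]
      show ρ (x * w) = ρ (x * w * x⁻¹ * x)
      rw [inv_mul_cancel_right]
    obtain ⟨c, hc⟩ := scalar_of_commute ρ hirr N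
      (comm_all N (fun u hu => (hNu ⟨u, hu⟩).trans (hNu' ⟨u, hu⟩).symm) hNx)
    by_cases hc0 : c = 0
    · rw [hc0, zero_smul] at hc
      have hfix0 : ∀ v, ∑ i ∈ Finset.range r, (ρ x ^ i) v = 0 := by
        intro v
        apply hfree
        rw [map_sum]
        have h1 := Finset.sum_range_succ' (fun i => (ρ x ^ i) v) r
        have h2 := Finset.sum_range_succ (fun i => (ρ x ^ i) v) r
        rw [h2, show ρ x ^ r = ρ x ^ 0 by rw [← map_pow, ← hx, pow_orderOf_eq_one, map_one, pow_zero]] at h1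
        refine Eq.trans ?_ (add_right_cancel h1).symm
        exact Finset.sum_congr rfl fun i _ => by rw [pow_succ', Module.End.mul_apply]
      have hS : ∀ i ∈ Finset.range r, i ≠ 0 → ∑ y : P, ρ ((y : Γ) * x ^ i * (y : Γ)⁻¹) = 0 := by
        intro i hi hi0
        have hxy : ∀ u ∈ P, x ^ i * u = u * x ^ i → u = 1 := by
          intro u hu hc'
          obtain ⟨m, hm⟩ := exists_pow_eq_self_of_coprime (x := x) (n := i) (by
            rw [hx]
            exact ((Nat.Prime.coprime_iff_not_dvd hr).2 fun h =>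
              (Finset.mem_range.1 hi).not_ge (Nat.le_of_dvd (by omega) h)).symm)
          exact hC1 u hu (by
            have := (show Commute (x ^ i) u from hc').pow_left m
            rw [hm] at this
            exact this.eq)
        let t : P → P := fun y => ⟨(y : Γ) * (x ^ i * (y : Γ)⁻¹ * (x ^ i)⁻¹),
          P.mul_mem y.2 (hPn.conj_mem _ (P.inv_mem y.2) _)⟩
        have ht : Function.Bijective t := by
          refine Finite.injective_iff_bijective.1 fun a b h => ?_
          have h' := congrArg Subtype.val h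
          simp only [t] at h'
          have : (b : Γ)⁻¹ * a = 1 := by
            refine hxy _ (P.mul_mem (P.inv_mem b.2) a.2) ?_
            have h'' : (a : Γ) * x ^ i * (a : Γ)⁻¹ = (b : Γ) * x ^ i * (b : Γ)⁻¹ := by
              have := congrArg (fun g => g * x ^ i) h'
              simpa [mul_assoc] using this
            calc x ^ i * ((b : Γ)⁻¹ * a) = (b : Γ)⁻¹ * ((b : Γ) * x ^ i * (b : Γ)⁻¹) * a := by group
              _ = (b : Γ)⁻¹ * ((a : Γ) * x ^ i * (a : Γ)⁻¹) * a := by rw [h'']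
              _ = _ := by group
          exact Subtype.ext (inv_mul_eq_one.1 this).symm
        calc ∑ y : P, ρ ((y : Γ) * x ^ i * (y : Γ)⁻¹) = ∑ y : P, ρ (t y : Γ) * ρ (x ^ i) := by
              refine Finset.sum_congr rfl fun y _ => ?_
              rw [← map_mul]
              congr 1
              simp only [t]
              group
          _ = (∑ y : P, ρ (t y : Γ)) * ρ (x ^ i) := (Finset.sum_mul ..).symm
          _ = N * ρ (x ^ i) := by rw [hN, ht.sum_comp (fun w : P => ρ (w : Γ))]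
          _ = 0 := by rw [hc, zero_mul]
      have htot : ∑ i ∈ Finset.range r, ∑ y : P, ρ ((y : Γ) * x ^ i * (y : Γ)⁻¹) = 0 := by
        rw [Finset.sum_comm]
        refine Finset.sum_eq_zero fun y _ => ?_
        have : ∑ i ∈ Finset.range r, ρ x ^ i = 0 := LinearMap.ext fun v => by
          rw [LinearMap.sum_apply]; exact hfix0 v
        simp only [map_mul, map_pow]
        rw [← Finset.sum_mul, ← Finset.mul_sum, this, mul_zero, zero_mul]
      rw [Finset.sum_eq_single 0 hS (fun h => absurd (Finset.mem_range.2 hr.pos) h)] at htot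
      simp only [pow_zero, mul_one, mul_inv_cancel, map_one, Finset.sum_const, Finset.card_univ] at htot
      rw [← Nat.cast_smul_eq_nsmul k, smul_eq_zero, ← Nat.card_eq_fintype_card] at htot
      exact htot.elim hcardP one_ne_zero
    · apply hPne
      rw [eq_bot_iff]
      intro u hu
      have h := hNu ⟨u, hu⟩
      rw [hc, mul_smul_comm, mul_one] at h
      rw [Subgroup.mem_bot]
      apply hρ
      rw [map_one]
      exact smul_right_injective _ hc0 h
  -- nonabelian case
  refine Or.inr ?_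
  set Z := P ⊓ Subgroup.centralizer (P : Set Γ) with hZ
  have hxZn : x ∈ Subgroup.normalizer (Z : Set Γ) := by
    have hn : (Subgroup.centralizer (P : Set Γ)).Normal := Subgroup.normal_centralizer
    have : Z.Normal := Subgroup.normal_inf_normal _ _
    rw [Subgroup.normalizer_eq_top]; trivial
  have hZne : Z ≠ P := fun h => hab (IsMulCommutative.mk ⟨fun a b => Subtype.ext
    (Subgroup.mem_centralizer_iff.1 ((h.ge b.2).2) a a.2)⟩)
  have hxZ : ∀ z ∈ Z, x * z = z * x := (hcenD hab).1
  have hP1 : P ≠ ⊥ := fun h => hZne (le_antisymm inf_le_left (h ▸ bot_le))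
  haveI := hP.isNilpotent
  have hD : ⁅P, P⁆ ≤ P := Subgroup.commutator_le_right P P
  have hDx : ∀ u ∈ ⁅P, P⁆, x * u = u * x := (hcenD hab).2
  have central : ∀ C : Subgroup Γ, C ≤ P → (∀ u ∈ C, x * u = u * x) →
      ⁅P, C⁆ ≤ Subgroup.centralizer (Subgroup.zpowers x : Set Γ) → C ≤ Z := by
    intro C hCP hCx hPC
    refine le_inf hCP ?_
    have h1 : ⁅⁅Subgroup.zpowers x, C⁆, P⁆ = ⊥ := by
      have : ⁅Subgroup.zpowers x, C⁆ = ⊥ := by
        rw [Subgroup.commutator_eq_bot_iff_le_centralizer, Subgroup.zpowers_le, Subgroup.mem_centralizer_iff]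
        exact fun u hu => (hCx u hu).symm
      rw [this, Subgroup.commutator_bot_left]
    have h2 : ⁅⁅C, P⁆, Subgroup.zpowers x⁆ = ⊥ := by
      rw [Subgroup.commutator_eq_bot_iff_le_centralizer, Subgroup.commutator_comm]
      exact hPC
    have h3 := Subgroup.commutator_commutator_eq_bot_of_rotate h1 h2
    rw [hPx, Subgroup.commutator_eq_bot_iff_le_centralizer] at h3
    exact Subgroup.le_centralizer_iff.1 h3
  have toC : ∀ {u : Γ}, x * u = u * x → u ∈ Subgroup.centralizer (Subgroup.zpowers x : Set Γ) := by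
    intro u hu
    rw [Subgroup.mem_centralizer_iff]
    rintro _ ⟨i, rfl⟩
    exact ((show Commute x u from hu).zpow_left i).eq
  have hDZ : ⁅P, P⁆ ≤ Z := central _ hD hDx fun u hu =>
    toC (hDx u (Subgroup.commutator_mono le_rfl hD hu))
  have hclass : ∀ a ∈ P, ∀ b ∈ P, ∀ c ∈ P, Commute ⁅a, b⁆ c := fun a ha b hb c hc =>
    (Subgroup.mem_centralizer_iff.1 (hDZ (commutator_mem_commutator ha hb)).2 c hc).symm
  have hCZ : ∀ u ∈ P, x * u = u * x → u ∈ Z := by
    intro u hu hux
    let C : Subgroup Γ := P ⊓ Subgroup.centralizer (Subgroup.zpowers x : Set Γ)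
    exact central C inf_le_left (fun w hw =>
      Subgroup.mem_centralizer_iff.1 hw.2 x (Subgroup.mem_zpowers x))
      (fun w hw => toC (hDx w (Subgroup.commutator_mono le_rfl (inf_le_left : C ≤ P) hw))) ⟨hu, toC hux⟩
  have hfixZ : ∀ u ∈ P, x * u * x⁻¹ * u⁻¹ ∈ Z → u ∈ Z := by
    intro u hu hw
    set w := x * u * x⁻¹ * u⁻¹ with hwdef
    have hwx : Commute x w := hxZ w hw
    have hwu : x * u * x⁻¹ = w * u := by rw [hwdef, inv_mul_cancel_right]
    have hi : ∀ i : ℕ, x ^ i * u * (x ^ i)⁻¹ = w ^ i * u := by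
      intro i
      induction i with
      | zero => simp
      | succ i ih =>
        calc x ^ (i + 1) * u * (x ^ (i + 1))⁻¹ = x * (x ^ i * u * (x ^ i)⁻¹) * x⁻¹ := by
              rw [pow_succ']; group
          _ = (x * w ^ i) * u * x⁻¹ := by rw [ih]; group
          _ = w ^ i * (x * u * x⁻¹) := by rw [(hwx.pow_right i).eq]; group
          _ = w ^ i * (w * u) := by rw [hwu]
          _ = w ^ (i + 1) * u := by rw [pow_succ]; exact (mul_assoc (w ^ i) w u).symm
    have h := hi r
    rw [← hx, pow_orderOf_eq_one, one_mul, inv_one, mul_one, hx] at h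
    have hwr : w ^ r = 1 := mul_eq_right.1 h.symm
    have hw1 : w = 1 := by
      obtain ⟨a, ha⟩ := IsPGroup.iff_orderOf.1 hP ⟨w, hw.1⟩
      rw [Subgroup.orderOf_mk] at ha
      rw [← orderOf_eq_one_iff]
      exact Nat.eq_one_of_dvd_coprimes (Nat.Coprime.pow_right a ((Nat.coprime_primes hr hp.out).2 hpr.symm))
        (orderOf_dvd_of_pow_eq_one hwr) (ha ▸ dvd_rfl)
    rw [hwdef, mul_inv_eq_one, mul_inv_eq_iff_eq_mul] at hw1
    exact hCZ u hu hw1
  -- central elements act as scalars
  have hχ : ∀ z : Z, ∃ c : k, ρ (z : Γ) = c • 1 := fun z => scalar_of_commute ρ hirr _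
    (comm_all _ (fun u hu => by
      rw [← map_mul, ← map_mul, (Subgroup.mem_centralizer_iff.1 z.2.2 u hu)])
      (by rw [← map_mul, ← map_mul, hxZ z z.2]))
  choose χ hχ' using hχ
  have h1ne : (1 : Module.End k V) ≠ 0 := one_ne_zero
  have hχinj : ∀ a b : k, a • (1 : Module.End k V) = b • 1 → a = b := fun a b h =>
    smul_left_injective k h1ne h
  have hcz : ∀ y u : P, ⁅(y : Γ), (u : Γ)⁆ ∈ Z := fun y u => hDZ (commutator_mem_commutator y.2 u.2)
  let c : P → P → k := fun y u => χ ⟨_, hcz y u⟩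
  have hc : ∀ y u : P, ρ ((y : Γ) * u * (y : Γ)⁻¹) = c y u • ρ (u : Γ) := by
    intro y u
    rw [show (y : Γ) * u * (y : Γ)⁻¹ = ⁅(y : Γ), (u : Γ)⁆ * u by rw [commutatorElement_def]; group,
      map_mul, show ρ ⁅(y : Γ), (u : Γ)⁆ = c y u • 1 from hχ' ⟨_, hcz y u⟩, smul_mul_assoc, one_mul]
  have hcl : ∀ y y' u : P, c (y * y') u = c y u * c y' u := by
    intro y y' u
    apply hχinj
    rw [← hχ', show ((⟨_, hcz (y * y') u⟩ : Z) : Γ) = ⁅(y : Γ) * (y' : Γ), (u : Γ)⁆ from rfl]
    have e : ⁅(y : Γ) * (y' : Γ), (u : Γ)⁆ = ⁅(y : Γ), (u : Γ)⁆ * ⁅(y' : Γ), (u : Γ)⁆ := by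
      calc ⁅(y : Γ) * (y' : Γ), (u : Γ)⁆ = (y : Γ) * ⁅(y' : Γ), (u : Γ)⁆ * (y : Γ)⁻¹ * ⁅(y : Γ), (u : Γ)⁆ := by
            simp only [commutatorElement_def]; group
        _ = ⁅(y' : Γ), (u : Γ)⁆ * ⁅(y : Γ), (u : Γ)⁆ := by
            rw [← (hclass _ y'.2 _ u.2 _ y.2).eq, mul_inv_cancel_right]
        _ = _ := (hclass _ y'.2 _ u.2 _ (hD (commutator_mem_commutator y.2 u.2))).eq
    rw [e, map_mul, show ρ ⁅(y : Γ), (u : Γ)⁆ = c y u • 1 from hχ' ⟨_, hcz y u⟩,
      show ρ ⁅(y' : Γ), (u : Γ)⁆ = c y' u • 1 from hχ' ⟨_, hcz y' u⟩, smul_mul_smul_comm, one_mul]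
  have hc_one : ∀ y u : P, c y u = 1 → ⁅(y : Γ), (u : Γ)⁆ = 1 := by
    intro y u h
    apply hρ
    rw [map_one, show ρ ⁅(y : Γ), (u : Γ)⁆ = c y u • 1 from hχ' ⟨_, hcz y u⟩, h, one_smul]
  have avg : ∀ t : P, ∑ y : P, ρ ((y : Γ) * t * (y : Γ)⁻¹) =
      if (t : Γ) ∈ Z then (Nat.card P : k) • ρ (t : Γ) else 0 := by
    intro t
    simp only [hc, ← Finset.sum_smul]
    split_ifs with ht
    · have : ∀ y : P, c y t = 1 := fun y => hχinj _ _ (by
        rw [← show ρ ⁅(y : Γ), (t : Γ)⁆ = c y t • 1 from hχ' ⟨_, hcz y t⟩,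
          commutatorElement_eq_one_iff_mul_comm.2 (Subgroup.mem_centralizer_iff.1 ht.2 y y.2), map_one, one_smul])
      simp [this, Nat.card_eq_fintype_card]
    · obtain ⟨a, ha⟩ : ∃ a : P, c a t ≠ 1 := by
        by_contra h
        push Not at h
        refine ht ⟨t.2, Subgroup.mem_centralizer_iff.2 fun y hy => ?_⟩
        exact commutatorElement_eq_one_iff_mul_comm.1 (hc_one ⟨y, hy⟩ t (h _))
      rw [sum_translate_eq_zero (fun y => c y t) (fun a b => hcl a b t) ha, zero_smul]
  have hcardZ : (Finset.univ.filter fun a : P => (a : Γ) ∈ Z).card = Nat.card Z := by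
    rw [← CfsgLib.Coprime.card_subgroupOf (inf_le_left : Z ≤ P), Nat.card_eq_fintype_card,
      Fintype.card_of_subtype]
    intro a; simpa [Subgroup.mem_subgroupOf] using (⟨fun h => h.2, fun h => ⟨a.2, h⟩⟩ : (a : Γ) ∈ Z ↔ (a : Γ) ∈ Subgroup.centralizer (P : Set Γ))
  -- the twisted sum
  set T : Module.End k V := ∑ y : P, ρ ((y : Γ) * x * (y : Γ)⁻¹) with hT
  set T' : Module.End k V := ∑ y : P, ρ ((y : Γ) * x⁻¹ * (y : Γ)⁻¹) with hT'
  let tw : P → P := fun w => ⟨(w : Γ) * (x * (w : Γ)⁻¹ * x⁻¹), P.mul_mem w.2 (hxP _ (P.inv_mem w.2))⟩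
  set M : Module.End k V := ∑ w : P, ρ (tw w : Γ) with hM
  have hTM : T = M * ρ x := by
    rw [hT, hM, Finset.sum_mul]
    refine Finset.sum_congr rfl fun y _ => ?_
    rw [← map_mul]; congr 1; simp only [tw]; group
  have hTu : ∀ u ∈ P, ρ u * T = T * ρ u := by
    intro u hu
    rw [hT, Finset.mul_sum, Finset.sum_mul]
    refine Fintype.sum_equiv (Equiv.mulLeft (⟨u, hu⟩ : P)) _ _ fun y => ?_
    rw [← map_mul, ← map_mul]; congr 1
    simp [mul_assoc]
  let σ : P ≃ P :=
    { toFun := fun w => ⟨x * w * x⁻¹, hxP w w.2⟩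
      invFun := fun w => ⟨x⁻¹ * w * x, hPn.conj_mem' w w.2 x⟩
      left_inv := fun w => Subtype.ext (by simp [mul_assoc])
      right_inv := fun w => Subtype.ext (by simp [mul_assoc]) }
  have hTx : ρ x * T = T * ρ x := by
    rw [hT, Finset.mul_sum, Finset.sum_mul]
    refine Fintype.sum_equiv σ _ _ fun y => ?_
    rw [← map_mul, ← map_mul]; congr 1
    simp [σ, mul_assoc]
  obtain ⟨lam, hlam⟩ := scalar_of_commute ρ hirr T (comm_all T hTu hTx)
  have hTT : T * T' = ((Nat.card P : k) * (Nat.card Z : k)) • (1 : Module.End k V) := by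
    calc T * T' = ∑ y : P, ρ (y : Γ) * M * ρ ((y : Γ)⁻¹) := by
          rw [hT', Finset.mul_sum]
          refine Finset.sum_congr rfl fun y _ => ?_
          calc T * ρ ((y : Γ) * x⁻¹ * (y : Γ)⁻¹) = (T * ρ (y : Γ)) * (ρ x⁻¹ * ρ ((y : Γ)⁻¹)) := by
                simp only [map_mul, mul_assoc]
            _ = ρ (y : Γ) * T * (ρ x⁻¹ * ρ ((y : Γ)⁻¹)) := by rw [hTu _ y.2]
            _ = ρ (y : Γ) * M * (ρ x * ρ x⁻¹) * ρ ((y : Γ)⁻¹) := by rw [hTM]; simp only [mul_assoc]
            _ = _ := by rw [← map_mul, mul_inv_cancel, map_one, mul_one]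
      _ = ∑ w : P, ∑ y : P, ρ ((y : Γ) * (tw w : P) * (y : Γ)⁻¹) := by
          rw [Finset.sum_comm]
          refine Finset.sum_congr rfl fun y _ => ?_
          rw [hM, Finset.mul_sum, Finset.sum_mul]
          simp only [map_mul]
      _ = ∑ w : P, if (w : Γ) ∈ Z then (Nat.card P : k) • (1 : Module.End k V) else 0 := by
          refine Finset.sum_congr rfl fun w _ => ?_
          rw [avg]
          by_cases hw : (w : Γ) ∈ Z
          · have : (tw w : Γ) = 1 := by
              show (w : Γ) * (x * (w : Γ)⁻¹ * x⁻¹) = 1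
              have hc' : Commute x ((w : Γ)⁻¹) := (show Commute x (w : Γ) from hxZ w hw).inv_right
              rw [hc'.eq]
              group
            rw [if_pos hw, this, if_pos Z.one_mem, map_one]
          · rw [if_neg hw, if_neg]
            intro h
            apply hw
            refine hfixZ _ w.2 ?_
            have e : x * w * x⁻¹ * (w : Γ)⁻¹ = (tw w : Γ)⁻¹ := by
              simp only [tw]; group
            -- `w x w⁻¹ x⁻¹` and `x w x⁻¹ w⁻¹` are inverse
            rw [e]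
            exact Z.inv_mem h
      _ = _ := by
          rw [← Finset.sum_filter, Finset.sum_const, ← Nat.cast_smul_eq_nsmul k, smul_smul, mul_comm]
          rw [hcardZ]
  have hZcard : (Nat.card Z : k) ≠ 0 := by
    obtain ⟨m, hm⟩ := IsPGroup.iff_card.1 (hP.to_le (inf_le_left : Z ≤ P))
    rw [hm, Nat.cast_pow]; exact pow_ne_zero _ hpk
  have hlam0 : lam ≠ 0 := by
    rintro rfl
    rw [hlam, zero_smul, zero_mul] at hTT
    exact (smul_eq_zero.1 hTT.symm).elim (mul_ne_zero hcardP hZcard) h1ne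
  have hxinv : ρ x⁻¹ = lam⁻¹ • M := by
    have : M = lam • ρ x⁻¹ := by
      calc M = M * (ρ x * ρ x⁻¹) := by rw [← map_mul, mul_inv_cancel, map_one, mul_one]
        _ = T * ρ x⁻¹ := by rw [hTM, mul_assoc]
        _ = _ := by rw [hlam, smul_mul_assoc, one_mul]
    rw [this, inv_smul_smul₀ hlam0]
  -- the commutant of `P` is scalar
  have hsc : ∀ A : Module.End k V, (∀ u ∈ P, ρ u * A = A * ρ u) → ∃ a : k, A = a • 1 := by
    intro A hA
    refine scalar_of_commute ρ hirr A (comm_all A hA ?_)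
    have h1 : ρ x⁻¹ * A = A * ρ x⁻¹ := by
      rw [hxinv, smul_mul_assoc, mul_smul_comm, hM, Finset.sum_mul, Finset.mul_sum]
      congr 1
      exact Finset.sum_congr rfl fun w _ => hA _ (tw w).2
    calc ρ x * A = ρ x * A * (ρ x⁻¹ * ρ x) := by rw [← map_mul ρ x⁻¹, inv_mul_cancel, map_one, mul_one]
      _ = ρ x * (A * ρ x⁻¹) * ρ x := by simp only [mul_assoc]
      _ = ρ x * (ρ x⁻¹ * A) * ρ x := by rw [h1]
      _ = _ := by rw [← mul_assoc (ρ x), ← map_mul, mul_inv_cancel, map_one, one_mul]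
  -- `ρ(P)` spans
  have hspan : ∀ A : Module.End k V, A ∈ Submodule.span k (Set.range fun u : P => ρ (u : Γ)) := by
    intro A
    set S := Submodule.span k (Set.range fun u : P => ρ (u : Γ))
    let Proj : P → Module.End k V := fun u => ∑ y : P, (c y u)⁻¹ • (ρ (y : Γ) * A * ρ ((y : Γ)⁻¹))
    have hProj : ∀ u : P, Proj u ∈ S := by
      intro u
      have key : ∀ y0 : P, ρ (y0 : Γ) * Proj u * ρ ((y0 : Γ)⁻¹) = c y0 u • Proj u := by
        intro y0
        simp only [Proj, Finset.mul_sum, Finset.sum_mul, Finset.smul_sum]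
        refine Fintype.sum_equiv (Equiv.mulLeft y0) _ _ fun y => ?_
        simp only [Equiv.coe_mulLeft, mul_smul_comm, smul_mul_assoc, smul_smul, hcl, mul_inv_rev]
        have h0 : c y0 u ≠ 0 := fun h => by
          have := hc y0 u
          rw [h, zero_smul] at this
          have h' := congrArg (fun B => B * ρ ((y0 : Γ) * u * (y0 : Γ)⁻¹)⁻¹) this
          simp only [zero_mul, ← map_mul, mul_inv_cancel, map_one] at h'
          exact h1ne h'
        congr 1
        · field_simp
        · simp only [Subgroup.coe_mul, mul_inv_rev, map_mul, mul_assoc]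
      obtain ⟨a, ha⟩ := hsc (Proj u * ρ ((u : Γ)⁻¹)) (fun y0 hy0 => by
        have h := key ⟨y0, hy0⟩
        have h2 := hc ⟨y0, hy0⟩ u⁻¹
        have hcinv : c ⟨y0, hy0⟩ u * c ⟨y0, hy0⟩ u⁻¹ = 1 := by
          apply hχinj
          have h3 := congrArg₂ (· * ·) (hc ⟨y0, hy0⟩ u) h2
          simp only [smul_mul_smul_comm, ← map_mul, InvMemClass.coe_inv, mul_inv_cancel, map_one] at h3
          rw [← h3, one_smul, ← map_one ρ]
          congr 1
          group
        calc ρ y0 * (Proj u * ρ ((u : Γ)⁻¹))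
            = (ρ y0 * Proj u * ρ (y0⁻¹)) * (ρ (y0 * (u : Γ)⁻¹ * y0⁻¹)) * ρ y0 := by
              simp only [mul_assoc, ← map_mul]
              congr 3
              group
          _ = (c ⟨y0, hy0⟩ u • Proj u) * (c ⟨y0, hy0⟩ u⁻¹ • ρ ((u : Γ)⁻¹)) * ρ y0 := by rw [h]; rw [show ρ (y0 * (u : Γ)⁻¹ * y0⁻¹) = _ from h2]; rfl
          _ = _ := by rw [smul_mul_smul_comm, hcinv, one_smul])
      have : Proj u = a • ρ (u : Γ) := by
        calc Proj u = Proj u * ρ ((u : Γ)⁻¹) * ρ (u : Γ) := by
              rw [mul_assoc, ← map_mul, inv_mul_cancel, map_one, mul_one]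
          _ = _ := by rw [ha, smul_mul_assoc, one_mul]
      rw [this]
      exact S.smul_mem _ (Submodule.subset_span ⟨u, rfl⟩)
    have hsum : ∑ u : P, Proj u = ((Nat.card P : k) * (Nat.card Z : k)) • A := by
      simp only [Proj]
      rw [Finset.sum_comm]
      simp only [← Finset.sum_smul]
      have hy : ∀ y : P, ∑ u : P, (c y u)⁻¹ = if (y : Γ) ∈ Z then (Nat.card P : k) else 0 := by
        intro y
        split_ifs with hy
        · have : ∀ u : P, c y u = 1 := fun u => hχinj _ _ (by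
            rw [← show ρ ⁅(y : Γ), (u : Γ)⁆ = c y u • 1 from hχ' ⟨_, hcz y u⟩,
              commutatorElement_eq_one_iff_mul_comm.2 (Subgroup.mem_centralizer_iff.1 hy.2 u u.2).symm, map_one, one_smul])
          simp [this, Nat.card_eq_fintype_card]
        · obtain ⟨a, ha⟩ : ∃ a : P, c y a ≠ 1 := by
            by_contra h
            push Not at h
            refine hy ⟨y.2, Subgroup.mem_centralizer_iff.2 fun u hu => ?_⟩
            exact (commutatorElement_eq_one_iff_mul_comm.1 (hc_one y ⟨u, hu⟩ (h _))).symm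
          refine sum_translate_eq_zero (fun u => (c y u)⁻¹) (fun a b => ?_) (a := a) (by simpa using ha)
          rw [← mul_inv]
          congr 1
          apply hχinj
          rw [← hχ', show ((⟨_, hcz y (a * b)⟩ : Z) : Γ) = ⁅(y : Γ), (a : Γ) * b⁆ from rfl]
          have e : ⁅(y : Γ), (a : Γ) * b⁆ = ⁅(y : Γ), (a : Γ)⁆ * ⁅(y : Γ), (b : Γ)⁆ := by
            calc ⁅(y : Γ), (a : Γ) * b⁆ = ⁅(y : Γ), (a : Γ)⁆ * ((a : Γ) * ⁅(y : Γ), (b : Γ)⁆ * (a : Γ)⁻¹) := by
                  simp only [commutatorElement_def]; group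
              _ = _ := by rw [← (hclass _ y.2 _ b.2 _ a.2).eq, mul_inv_cancel_right]
          rw [e, map_mul, show ρ ⁅(y : Γ), (a : Γ)⁆ = c y a • 1 from hχ' ⟨_, hcz y a⟩,
            show ρ ⁅(y : Γ), (b : Γ)⁆ = c y b • 1 from hχ' ⟨_, hcz y b⟩, smul_mul_smul_comm, one_mul]
      simp only [hy, ite_smul, zero_smul]
      rw [← Finset.sum_filter]
      calc ∑ y ∈ Finset.univ.filter (fun y : P => (y : Γ) ∈ Z),
            (Nat.card P : k) • (ρ (y : Γ) * A * ρ ((y : Γ)⁻¹))
          = ∑ y ∈ Finset.univ.filter (fun y : P => (y : Γ) ∈ Z), (Nat.card P : k) • A := by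
            refine Finset.sum_congr rfl fun y hy' => ?_
            have hyZ : (y : Γ) ∈ Z := (Finset.mem_filter.1 hy').2
            congr 1
            rw [show ρ (y : Γ) = χ ⟨_, hyZ⟩ • 1 from hχ' ⟨_, hyZ⟩, smul_mul_assoc, one_mul,
              smul_mul_assoc, ← mul_smul_comm]
            have : χ ⟨_, hyZ⟩ • ρ ((y : Γ)⁻¹) = 1 := by
              calc χ ⟨_, hyZ⟩ • ρ ((y : Γ)⁻¹) = (χ ⟨_, hyZ⟩ • (1 : Module.End k V)) * ρ ((y : Γ)⁻¹) := by
                    rw [smul_mul_assoc, one_mul]
                _ = _ := by rw [← hχ' ⟨_, hyZ⟩, ← map_mul, mul_inv_cancel, map_one]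
            rw [this, mul_one]
        _ = _ := by
            rw [Finset.sum_const, ← Nat.cast_smul_eq_nsmul k, smul_smul, mul_comm]
            rw [hcardZ]
    have hA' : A = ((Nat.card P : k) * (Nat.card Z : k))⁻¹ • ∑ u : P, Proj u := by
      rw [hsum, inv_smul_smul₀ (mul_ne_zero hcardP hZcard)]
    rw [hA']
    exact S.smul_mem _ (S.sum_mem fun u _ => hProj u)
  -- coset representatives form a basis
  let Z' := Z.subgroupOf P
  let ι := P ⧸ Z'
  haveI : Fintype ι := Fintype.ofFinite ι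
  let s : ι → P := Quotient.out
  have hs : ∀ q : ι, (QuotientGroup.mk (s q) : ι) = q := fun q => Quotient.out_eq q
  have hZmod : ∀ u w : P, (QuotientGroup.mk u : ι) = QuotientGroup.mk w →
      ∃ a : k, ρ (w : Γ) = a • ρ (u : Γ) := by
    intro u w h
    have hz : ((u : Γ))⁻¹ * w ∈ Z := by
      have := (QuotientGroup.eq).1 h
      exact this
    refine ⟨χ ⟨_, hz⟩, ?_⟩
    calc ρ (w : Γ) = ρ (u : Γ) * ρ ((u : Γ)⁻¹ * w) := by rw [← map_mul, mul_inv_cancel_left]
      _ = _ := by rw [hχ' ⟨_, hz⟩, mul_smul_comm, mul_one]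
  have hspan' : ⊤ ≤ Submodule.span k (Set.range fun q : ι => ρ (s q : Γ)) := by
    rintro A -
    refine Submodule.span_le.2 ?_ (hspan A)
    rintro _ ⟨u, rfl⟩
    obtain ⟨a, ha⟩ := hZmod (s (QuotientGroup.mk u)) u (hs _)
    show ρ (u : Γ) ∈ Submodule.span k _
    rw [ha]
    exact Submodule.smul_mem _ _ (Submodule.subset_span ⟨_, rfl⟩)
  have hli : LinearIndependent k fun q : ι => ρ (s q : Γ) := by
    rw [Fintype.linearIndependent_iff]
    intro a ha q0
    have h1 : ∑ q, a q • ∑ y : P, ρ ((y : Γ) * ((s q : Γ) * (s q0 : Γ)⁻¹) * (y : Γ)⁻¹) = 0 := by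
      simp only [Finset.smul_sum]
      rw [Finset.sum_comm]
      refine Finset.sum_eq_zero fun y _ => ?_
      calc ∑ q, a q • ρ ((y : Γ) * ((s q : Γ) * (s q0 : Γ)⁻¹) * (y : Γ)⁻¹)
          = ρ (y : Γ) * (∑ q, a q • ρ (s q : Γ)) * (ρ ((s q0 : Γ)⁻¹) * ρ ((y : Γ)⁻¹)) := by
            rw [Finset.mul_sum, Finset.sum_mul]
            refine Finset.sum_congr rfl fun q _ => ?_
            rw [mul_smul_comm, smul_mul_assoc]
            congr 1
            simp only [map_mul, mul_assoc]
        _ = 0 := by rw [ha, mul_zero, zero_mul]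
    rw [Finset.sum_eq_single q0] at h1
    · simp only [mul_inv_cancel, mul_one, map_one, Finset.sum_const, Finset.card_univ] at h1
      rw [← Nat.cast_smul_eq_nsmul k, smul_smul, smul_eq_zero, ← Nat.card_eq_fintype_card] at h1
      exact (mul_eq_zero.1 (h1.resolve_right h1ne)).resolve_right hcardP
    · intro q _ hne
      rw [avg ⟨(s q : Γ) * (s q0 : Γ)⁻¹, P.mul_mem (s q).2 (P.inv_mem (s q0).2)⟩, if_neg, smul_zero]
      intro hz
      apply hne
      rw [← hs q, ← hs q0, QuotientGroup.eq]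
      show ((s q : Γ))⁻¹ * (s q0 : Γ) ∈ Z
      have h' := Z.inv_mem hz
      rw [mul_inv_rev, inv_inv] at h'
      rwa [← Subgroup.mem_centralizer_iff.1 h'.2 (s q : Γ) (s q).2 |> (fun e => show
        (s q : Γ)⁻¹ * (((s q0 : Γ) * (s q : Γ)⁻¹) * (s q : Γ)) = (s q0 : Γ) * (s q : Γ)⁻¹ by
          rw [← e]; group), inv_mul_cancel_right] at h'
    · intro h; exact absurd (Finset.mem_univ _) h
  have hfr : Module.finrank k V * Module.finrank k V = Fintype.card ι := by
    rw [← Module.finrank_linearMap]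
    exact (Module.finrank_eq_card_basis (Module.Basis.mk hli hspan'))
  -- orbits of `x`
  let R := Subgroup.zpowers x
  haveI : Fintype R := Fintype.ofFinite R
  have hZ'conj : ∀ g : R, ∀ u : P, (u : Γ) ∈ Z → (g : Γ) * u * (g : Γ)⁻¹ ∈ Z := by
    intro g u hu
    exact (Subgroup.mem_normalizer_iff.1 ((Subgroup.zpowers_le.2 hxZn) g.2) _).1 hu
  let act : R → ι → ι := fun g => Quotient.map'
    (fun u : P => (⟨(g : Γ) * u * (g : Γ)⁻¹, hPn.conj_mem u u.2 g⟩ : P)) (by
      intro u w h
      rw [QuotientGroup.leftRel_apply] at h ⊢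
      show ((g : Γ) * u * (g : Γ)⁻¹)⁻¹ * ((g : Γ) * w * (g : Γ)⁻¹) ∈ Z
      have := hZ'conj g (u⁻¹ * w) h
      simpa [mul_assoc] using this)
  letI : MulAction R ι :=
    { smul := act
      one_smul := fun q => QuotientGroup.induction_on q fun u => by
        show act 1 _ = _
        simp [act]
      mul_smul := fun g h q => QuotientGroup.induction_on q fun u => by
        show act (g * h) _ = act g (act h _)
        simp [act, mul_assoc] }
  haveI : Fintype (MulAction.orbitRel.Quotient R ι) := Fintype.ofFinite _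
  haveI : ∀ g : R, Fintype (MulAction.fixedBy ι g) := fun g => Fintype.ofFinite _
  have hburn := MulAction.sum_card_fixedBy_eq_card_orbits_mul_card_group R ι
  have hRc : Fintype.card R = r := by rw [← Nat.card_eq_fintype_card, Nat.card_zpowers, hx]
  rw [hRc, ← Finset.add_sum_erase _ _ (Finset.mem_univ (1 : R))] at hburn
  have hone : Fintype.card (MulAction.fixedBy ι (1 : R)) = Fintype.card ι :=
    Fintype.card_of_subtype Finset.univ (fun q => by simp)
  have hfixed : ∀ g ∈ Finset.univ.erase (1 : R), Fintype.card (MulAction.fixedBy ι g) = 1 := by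
    intro g hg
    have hg1 : g ≠ 1 := Finset.ne_of_mem_erase hg
    obtain ⟨m, hm⟩ : ∃ m : ℕ, (g : Γ) ^ m = x := by
      have hgen : Subgroup.zpowers g = ⊤ := zpowers_eq_top_of_prime_card (p := r)
        (by rw [Nat.card_eq_fintype_card, hRc]) hg1
      obtain ⟨i, hi⟩ := (mem_powers_iff_mem_zpowers (x := g) (y := (⟨x, Subgroup.mem_zpowers x⟩ : R))).2
        (hgen ▸ Subgroup.mem_top _)
      exact ⟨i, congrArg Subtype.val hi⟩
    rw [Fintype.card_eq_one_iff]
    refine ⟨⟨QuotientGroup.mk 1, ?_⟩, ?_⟩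
    · show Quotient.map' _ _ (Quotient.mk'' (1 : P)) = _
      rw [Quotient.map'_mk'']
      exact congrArg Quotient.mk'' (Subtype.ext (by simp))
    rintro ⟨q, hq⟩
    apply Subtype.ext
    show q = QuotientGroup.mk 1
    induction q using QuotientGroup.induction_on with
    | _ u =>
      have hxq : (⟨x, Subgroup.mem_zpowers x⟩ : R) • (QuotientGroup.mk u : ι) = QuotientGroup.mk u := by
        rw [show (⟨x, Subgroup.mem_zpowers x⟩ : R) = g ^ m from Subtype.ext hm.symm]
        clear hm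
        induction m with
        | zero => rw [pow_zero, one_smul]
        | succ m ih => rw [pow_succ, mul_smul, show g • (QuotientGroup.mk u : ι) = _ from hq, ih]
      have h1 := (QuotientGroup.eq (s := Z')).1 hxq
      have h2 : (x * (u : Γ) * x⁻¹)⁻¹ * u ∈ Z := h1
      apply (QuotientGroup.eq (s := Z')).2
      show (u : Γ)⁻¹ * 1 ∈ Z
      rw [mul_one]
      refine Z.inv_mem (hfixZ _ u.2 ?_)
      have h3 := Z.inv_mem h2
      rw [mul_inv_rev, inv_inv] at h3
      have h4 := Subgroup.mem_centralizer_iff.1 h3.2 (u : Γ) u.2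
      have e : x * u * x⁻¹ * (u : Γ)⁻¹ = (u : Γ)⁻¹ * (x * u * x⁻¹) := by
        rw [mul_inv_eq_iff_eq_mul]
        calc x * (u : Γ) * x⁻¹ = (u : Γ) * ((u : Γ)⁻¹ * (x * u * x⁻¹)) := by group
          _ = _ := h4.trans rfl
      rwa [e]
  rw [hone, Finset.sum_congr rfl hfixed, Finset.sum_const, Finset.card_erase_of_mem (Finset.mem_univ _),
    Finset.card_univ, hRc, smul_eq_mul, mul_one, ← hfr] at hburn
  -- the commutant of `x`
  let K : Submodule k (Module.End k V) :=
    { carrier := {A | ρ x * A = A * ρ x}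
      zero_mem' := by simp
      add_mem' := fun {a b} ha hb => by
        show ρ x * (a + b) = (a + b) * ρ x
        rw [mul_add, add_mul, show ρ x * a = a * ρ x from ha, show ρ x * b = b * ρ x from hb]
      smul_mem' := fun c a ha => by
        show ρ x * (c • a) = (c • a) * ρ x
        rw [mul_smul_comm, smul_mul_assoc, show ρ x * a = a * ρ x from ha] }
  have hge := finrank_commutant_ge hr hrk (ρ x)
    (by rw [← map_pow, ← hx, pow_orderOf_eq_one, map_one]) hfree K (fun A hA => hA)
  let av : Module.End k V →ₗ[k] Module.End k V :=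
    ∑ g : R, (LinearMap.mulLeft k (ρ (g : Γ))).comp (LinearMap.mulRight k (ρ ((g : Γ)⁻¹)))
  have hav : ∀ A, av A = ∑ g : R, ρ (g : Γ) * (A * ρ ((g : Γ)⁻¹)) := fun A => by
    simp [av, LinearMap.sum_apply]
  let reps : MulAction.orbitRel.Quotient R ι → Module.End k V := fun o => av (ρ (s o.out : Γ))
  have hKle : K ≤ Submodule.span k (Set.range reps) := by
    intro A hA
    have hAR : ∀ g : R, ρ (g : Γ) * A * ρ ((g : Γ)⁻¹) = A := by
      rintro ⟨g, hg⟩
      obtain ⟨i, rfl⟩ := (mem_powers_iff_mem_zpowers (x := x)).2 hg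
      have hc' : Commute (ρ x) A := hA
      show ρ (x ^ i) * A * ρ ((x ^ i)⁻¹) = A
      rw [map_pow, (hc'.pow_left i).eq, mul_assoc, ← map_pow, ← map_mul, mul_inv_cancel, map_one, mul_one]
    have hrA : av A = (r : k) • A := by
      simp only [hav, ← mul_assoc, hAR, Finset.sum_const, Finset.card_univ, hRc,
        Nat.cast_smul_eq_nsmul]
    have : A = (r : k)⁻¹ • av A := by rw [hrA, inv_smul_smul₀ hrk]
    rw [this]
    refine Submodule.smul_mem _ _ ?_
    have hA' := hspan A
    clear this hrA hAR hA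
    induction hA' using Submodule.span_induction with
    | mem B hB =>
      obtain ⟨u, rfl⟩ := hB
      set o : MulAction.orbitRel.Quotient R ι := Quotient.mk'' (QuotientGroup.mk u)
      obtain ⟨g, hg⟩ : ∃ g : R, g • (QuotientGroup.mk u : ι) = o.out :=
        Quotient.eq''.1 (Quotient.out_eq' o)
      obtain ⟨a, ha⟩ := hZmod (s o.out) ⟨(g : Γ) * u * (g : Γ)⁻¹, hPn.conj_mem u u.2 g⟩
        ((hs _).trans hg.symm)
      have : av (ρ (u : Γ)) = a • reps o := by
        show _ = a • av (ρ (s o.out : Γ))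
        rw [← map_smul, ← ha, hav, hav]
        refine Fintype.sum_equiv (Equiv.mulRight g⁻¹) _ _ fun h => ?_
        rw [← map_mul, ← map_mul, ← map_mul, ← map_mul]
        congr 1
        simp [mul_assoc]
      rw [this]
      exact Submodule.smul_mem _ _ (Submodule.subset_span ⟨o, rfl⟩)
    | zero => rw [map_zero]; exact Submodule.zero_mem _
    | add a b _ _ ha hb => rw [map_add]; exact Submodule.add_mem _ ha hb
    | smul c a _ ha => rw [map_smul]; exact Submodule.smul_mem _ _ ha
  have hKcard : Module.finrank k K ≤ Fintype.card (MulAction.orbitRel.Quotient R ι) :=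
    (Submodule.finrank_mono hKle).trans (finrank_range_le_card reps)
  -- size of `d`
  have hcardι : Nat.card ι ∣ Nat.card P := Subgroup.card_quotient_dvd_card _
  obtain ⟨m, -, hm⟩ := (Nat.dvd_prime_pow hp.out).1
    (dvd_trans (Dvd.intro _ (hfr.trans Nat.card_eq_fintype_card.symm)) (hn ▸ hcardι))
  have hd1 : 1 < Module.finrank k V := by
    rcases Nat.lt_or_ge 1 (Module.finrank k V) with h | h
    · exact h
    exfalso
    have hpos : 0 < Module.finrank k V := Module.finrank_pos
    have hd : Module.finrank k V = 1 := by omega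
    rw [hd, mul_one] at hfr
    apply hZne
    refine le_antisymm inf_le_left fun u hu => ?_
    have hq : (QuotientGroup.mk (⟨u, hu⟩ : P) : ι) = QuotientGroup.mk 1 :=
      Fintype.card_le_one_iff.1 hfr.symm.le _ _
    have := (QuotientGroup.eq (s := Z')).1 hq.symm
    simpa [Z', Subgroup.mem_subgroupOf] using this
  obtain ⟨hp2, hr'⟩ := arith_exceptional hp.out hr hm hd1 hburn.symm
    (hge.trans (Nat.mul_le_mul_left _ hKcard))
  refine ⟨hp2, hab, m, hr', ?_⟩
  show Z'.index = _
  rw [Subgroup.index_eq_card, Nat.card_eq_fintype_card, ← hfr, hm, hp2, two_mul, pow_add]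

/-- The irreducible case. -/
theorem irreducible_fixed_point (ρ : Γ →* Module.End k V) (hρ : Function.Injective ρ) [Nontrivial V]
    (hirr : ∀ W : Submodule k V, (∀ g, ∀ w ∈ W, ρ g w ∈ W) → W = ⊥ ∨ W = ⊤)
    {p r : ℕ} [hp : Fact p.Prime] (hr : r.Prime)
    (hpr : p ≠ r) (hpk : (p : k) ≠ 0) (hrk : (r : k) ≠ 0)
    (P : Subgroup Γ) [hPn : P.Normal] (hP : IsPGroup p P) (x : Γ) (hx : orderOf x = r)
    (hgen : P ⊔ Subgroup.zpowers x = ⊤) (hPx : ⁅P, Subgroup.zpowers x⁆ = P)
    (hexc : p = 2 → (∃ m : ℕ, r = 2 ^ m + 1) → IsMulCommutative P)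
    (hmin : ∀ Q : Subgroup Γ, Q ≤ P → x ∈ Subgroup.normalizer (Q : Set Γ) → Q ≠ P → ∀ u ∈ Q, x * u = u * x)
    (hfree : ∀ v, ρ x v = v → v = 0) : P = ⊥ := by
  refine (irreducible_fixed_point' ρ hρ hirr hr hpr hpk hrk P hP x hx hgen hPx ?_ hfree).resolve_right
    fun ⟨h2, hab, m, hm, _⟩ => hab (hexc h2 ⟨m, hm⟩)
  intro hab
  refine ⟨hmin _ inf_le_left ?_ ?_, hmin _ (Subgroup.commutator_le_right P P) ?_ ?_⟩
  · have hn : (Subgroup.centralizer (P : Set Γ)).Normal := Subgroup.normal_centralizer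
    have : (P ⊓ Subgroup.centralizer (P : Set Γ)).Normal := Subgroup.normal_inf_normal _ _
    rw [Subgroup.normalizer_eq_top]; trivial
  · exact fun h => hab (IsMulCommutative.mk ⟨fun a b => Subtype.ext
      (Subgroup.mem_centralizer_iff.1 ((h.ge b.2).2) a a.2)⟩)
  · rw [Subgroup.normalizer_eq_top]; trivial
  · intro h
    haveI := hP.isNilpotent
    haveI : Nontrivial P := (Subgroup.nontrivial_iff_ne_bot P).2 fun h1 => hab (by
      subst h1; exact IsMulCommutative.mk ⟨fun a b => Subsingleton.elim _ _⟩)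
    have hlt := Group.IsSolvable.commutator_lt_top_of_nontrivial P
    apply hlt.ne
    apply Subgroup.map_injective P.subtype_injective
    rw [commutator_def, Subgroup.map_commutator, ← MonoidHom.range_eq_map, Subgroup.range_subtype]
    exact h

end CfsgLib.OddLocal
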