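import Cfsg.Agent.Lib.OddLocal.HallHigmanFix
import Cfsg.Agent.Lib.OddLocal.FrobeniusModule
import Cfsg.Agent.Lib.Comp.Signalizer
import Cfsg.Agent.Lib.Coprime.Generation

/-!
An elementary abelian `q`-group `A` and an element `x` of prime order acting on an abelian `p`-group
`V` with few fixed points: the components `C_V(B)`, `B` a hyperplane of `A`.
-/

set_option autoImplicit false
set_option linter.style.haveILetI false

open Subgroup
open scoped commutatorElement

namespace CfsgLib.OddLocal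

universe u
variable {X : Type u} [Group X] [Finite X]

/-- `B` is a hyperplane of the elementary abelian `q`-group `A`. -/
def IsHyp (q : ℕ) (A B : Subgroup X) : Prop := B ≤ A ∧ B.relIndex A = q

/-- The conjugate `g B g⁻¹`. -/
abbrev cj (g : X) (B : Subgroup X) : Subgroup X := B.map (MulAut.conj g).toMonoidHom

theorem cj_mul (g h : X) (B : Subgroup X) : cj (g * h) B = cj g (cj h B) := by
  rw [cj, cj, cj, map_map]
  congr 1
  ext y
  simp [mul_assoc]

theorem cj_one (B : Subgroup X) : cj 1 B = B := by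
  rw [cj, show ((MulAut.conj (1 : X)).toMonoidHom) = MonoidHom.id X by ext y; simp, map_id]

theorem cj_eq_self {g : X} {B : Subgroup X} (h : g ∈ normalizer (B : Set X)) : cj g B = B :=
  mem_normalizer_iff_map_conj_eq.1 h

theorem isHyp_cj {q : ℕ} {A B : Subgroup X} (h : IsHyp q A B) {g : X} (hg : g ∈ normalizer (A : Set X)) :
    IsHyp q A (cj g B) := by
  refine ⟨(map_mono h.1).trans (cj_eq_self hg).le, ?_⟩
  conv_lhs => rw [← cj_eq_self hg]
  rw [cj, cj, relIndex_map_map_of_injective _ _ (MulAut.conj g).injective]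
  exact h.2

theorem inf_centralizer_cj {V B : Subgroup X} {g : X} (hg : g ∈ normalizer (V : Set X)) :
    cj g (V ⊓ centralizer (B : Set X)) = V ⊓ centralizer (cj g B : Set X) := by
  rw [cj, Subgroup.map_inf _ _ _ (MulAut.conj g).injective]
  congr 1
  · exact cj_eq_self hg
  ext y
  constructor
  · rintro ⟨a, ha, rfl⟩
    rw [mem_centralizer_iff]
    rintro _ ⟨b, hb, rfl⟩
    rw [← map_mul, ← map_mul, mem_centralizer_iff.1 ha b hb]
  · intro hy
    refine ⟨g⁻¹ * y * g, mem_centralizer_iff.2 fun b hb => ?_, by simp [mul_assoc]⟩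
    have h := mem_centralizer_iff.1 hy (g * b * g⁻¹) ⟨b, hb, rfl⟩
    calc b * (g⁻¹ * y * g) = g⁻¹ * ((g * b * g⁻¹) * y) * g := by group
      _ = g⁻¹ * (y * (g * b * g⁻¹)) * g := by rw [h]
      _ = g⁻¹ * y * g * b := by group

variable {q : ℕ} [hq : Fact q.Prime]

theorem hyp_sup_zpowers {A B : Subgroup X} (h : IsHyp q A B) {a : X} (ha : a ∈ A) (haB : a ∉ B) :
    B ⊔ zpowers a = A := by
  have hle : B ⊔ zpowers a ≤ A := sup_le h.1 (zpowers_le.2 ha)
  refine le_antisymm hle (relIndex_eq_one.1 ?_)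
  have h1 := relIndex_mul_relIndex B (B ⊔ zpowers a) A le_sup_left hle
  rw [h.2] at h1
  refine ((Nat.dvd_prime hq.out).1 (Dvd.intro_left _ h1)).resolve_right fun hh => ?_
  rw [hh] at h1
  have h2 : B.relIndex (B ⊔ zpowers a) = 1 := by
    have := hq.out.pos
    exact Nat.eq_of_mul_eq_mul_right this (h1.trans (one_mul q).symm)
  exact haB (relIndex_eq_one.1 h2 (mem_sup_right (mem_zpowers a)))

theorem hyp_sup {A B B' : Subgroup X} (h : IsHyp q A B) (h' : IsHyp q A B') (hne : B' ≠ B) :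
    B ⊔ B' = A := by
  obtain ⟨b, hb, hbB⟩ : ∃ b ∈ B', b ∉ B := by
    by_contra hall
    push Not at hall
    have hle : B' ≤ B := hall
    have h1 := relIndex_mul_relIndex B' B A hle h.1
    rw [h.2, h'.2] at h1
    exact hne (le_antisymm hle (relIndex_eq_one.1 (Nat.eq_of_mul_eq_mul_right hq.out.pos
      (h1.trans (one_mul q).symm))))
  refine le_antisymm (sup_le h.1 h'.1) ?_
  rw [← hyp_sup_zpowers h (h'.1 hb) hbB]
  exact sup_le_sup_left (zpowers_le.2 hb) B

/-- An elementary abelian `q`-group acting fixed-point-freely on an abelian `p`-group. -/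
structure HypBase (p q : ℕ) (A V : Subgroup X) : Prop where
  elem : Cfsg.IsElementaryAbelian q A
  comm : IsMulCommutative V
  pgroup : IsPGroup p V
  norm : A ≤ normalizer (V : Set X)
  fixA : V ⊓ centralizer (A : Set X) = ⊥
  hpq : p ≠ q

/-- The same, with an element of prime order having few fixed points. -/
structure HypSetup (p q r : ℕ) (A V : Subgroup X) (x : X) : Prop extends HypBase p q A V where
  ord : orderOf x = r
  normA : x ∈ normalizer (A : Set X)
  normV : x ∈ normalizer (V : Set X)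
  small : Nat.card ↥(V ⊓ centralizer (zpowers x : Set X)) ≤ p
  hpr : p ≠ r
  hqr : q ≠ r
  p2 : p ≠ 2
  q2 : q ≠ 2
  r2 : r ≠ 2

variable {p r : ℕ} [hp : Fact p.Prime] [hr : Fact r.Prime] {A V : Subgroup X} {x : X}

theorem HypBase.coprime (h : HypBase p q A V) : (Nat.card A).Coprime (Nat.card V) := by
  obtain ⟨n, hn⟩ := IsPGroup.iff_card.1 (CfsgLib.Comp.isPGroup_of_elemAb h.elem)
  obtain ⟨m, hm⟩ := IsPGroup.iff_card.1 h.pgroup
  rw [hn, hm]
  exact ((Nat.coprime_primes hq.out hp.out).2 h.hpq.symm).pow n m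

theorem HypBase.le_centralizer (h : HypBase p q A V) : A ≤ centralizer (A : Set X) :=
  fun a ha => mem_centralizer_iff.2 fun b hb =>
    congrArg (fun z : A => (z : X)) (h.elem.1.is_comm.comm ⟨b, hb⟩ ⟨a, ha⟩)

theorem HypBase.norm_comp (h : HypBase p q A V) {B : Subgroup X} (hB : B ≤ A) :
    A ≤ normalizer ((V ⊓ centralizer (B : Set X) : Subgroup X) : Set X) :=
  (le_inf h.norm ((h.le_centralizer.trans (centralizer_le hB)).trans le_normalizer)).trans
    inf_normalizer_le_normalizer_inf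

/-- A component is `[C_V(B), U]` whenever `B ⊔ U = A`. -/
theorem HypBase.comp_eq_commutator (h : HypBase p q A V) {B U : Subgroup X} (hB : B ≤ A)
    (hU : U ≤ A) (hBU : A ≤ B ⊔ U) :
    ⁅V ⊓ centralizer (B : Set X), U⁆ = V ⊓ centralizer (B : Set X) := by
  have hUn := hU.trans (h.norm_comp hB)
  have hdec := CfsgLib.Coprime.commutator_sup_centralizer hUn
    ((h.coprime.coprime_dvd_left (card_dvd_of_le hU)).coprime_dvd_right (card_dvd_of_le inf_le_left))
    (Or.inl (haveI := ((CfsgLib.Comp.isPGroup_of_elemAb h.elem).to_le hU).isNilpotent; inferInstance))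
  have hbot : V ⊓ centralizer (B : Set X) ⊓ centralizer (U : Set X) = ⊥ := by
    rw [eq_bot_iff, ← h.fixA]
    rintro v ⟨⟨hv, hvB⟩, hvU⟩
    refine ⟨hv, ?_⟩
    have hle : A ≤ centralizer ({v} : Set X) := hBU.trans (sup_le
      (fun b hb => mem_centralizer_singleton_iff.2 (mem_centralizer_iff.1 hvB b hb))
      (fun b hb => mem_centralizer_singleton_iff.2 (mem_centralizer_iff.1 hvU b hb)))
    exact mem_centralizer_iff.2 fun a ha => mem_centralizer_singleton_iff.1 (hle ha)
  rwa [hbot, sup_bot_eq] at hdec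

theorem HypBase.indep (h : HypBase p q A V) :
    iSupIndep fun B : {B : Subgroup X // IsHyp q A B} => V ⊓ centralizer ((B : Subgroup X) : Set X) := by
  intro B
  rw [disjoint_iff, eq_bot_iff, ← CfsgLib.Coprime.commutator_inf_centralizer_eq_bot h.comm
    (B.2.1.trans h.norm) (h.coprime.coprime_dvd_left (card_dvd_of_le B.2.1))]
  refine le_inf ?_ (inf_le_left.trans inf_le_right)
  refine inf_le_right.trans (iSup₂_le fun B' hne => ?_)
  simp only
  rw [← h.comp_eq_commutator B'.2.1 B.2.1 (by rw [sup_comm, hyp_sup B.2 B'.2 fun e => hne (Subtype.ext e)])]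
  exact commutator_mono inf_le_left le_rfl

theorem HypBase.card_iSup (h : HypBase p q A V) {ι : Type*} [Fintype ι] {f : ι → Subgroup X}
    (hf : ∀ i, IsHyp q A (f i)) (hinj : Function.Injective f) {c : ℕ}
    (hc : ∀ i, Nat.card ↥(V ⊓ centralizer (f i : Set X)) = c) :
    Nat.card ↥(⨆ i, V ⊓ centralizer (f i : Set X)) = c ^ Fintype.card ι := by
  classical
  let H : ι → Subgroup X := fun i => V ⊓ centralizer (f i : Set X)
  have hcomm : Pairwise fun i j : ι => ∀ a b : X, a ∈ H i → b ∈ H j → Commute a b :=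
    fun i j _ a b ha hb => congrArg (fun z : V => (z : X)) (h.comm.is_comm.comm ⟨a, ha.1⟩ ⟨b, hb.1⟩)
  have hind : iSupIndep H :=
    h.indep.comp (f := fun i => (⟨f i, hf i⟩ : {B : Subgroup X // IsHyp q A B}))
      fun i j hij => hinj (congrArg Subtype.val hij)
  have hr' := Subgroup.noncommPiCoprod_range (H := H) (hcomm := hcomm)
  rw [← hr', ← Nat.card_congr (MonoidHom.ofInjective
    (Subgroup.injective_noncommPiCoprod_of_iSupIndep (hcomm := hcomm) hind)).toEquiv, Nat.card_pi,
    Finset.prod_congr rfl (fun i _ => hc i), Finset.prod_const, Finset.card_univ]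

theorem HypBase.iSup_eq (h : HypBase p q A V) (hA : A ≠ ⊥) :
    V = ⨆ B : {B : Subgroup X // B ≤ A ∧ B.relIndex A = q}, V ⊓ centralizer ((B : Subgroup X) : Set X) := by
  refine CfsgLib.Comp.eq_iSup_centralizer_hyperplane h.elem hA (fun hd => ?_) h.norm
  obtain ⟨m, hm⟩ := IsPGroup.iff_card.1 h.pgroup
  exact h.hpq.symm ((Nat.prime_dvd_prime_iff_eq hq.out hp.out).1 (hq.out.dvd_of_dvd_pow (hm ▸ hd)))

/-- Sums over disjoint sets of components meet trivially. -/
theorem HypBase.biSup_inf_eq_bot (h : HypBase p q A V) {S T : Set {B : Subgroup X // IsHyp q A B}}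
    (hST : Disjoint S T) {z : X}
    (hz : z ∈ (⨆ C ∈ S, V ⊓ centralizer ((C : Subgroup X) : Set X)) ⊓
      ⨆ C ∈ T, V ⊓ centralizer ((C : Subgroup X) : Set X)) : z ∈ (⊥ : Subgroup X) := by
  classical
  haveI := Fintype.ofFinite {B : Subgroup X // IsHyp q A B}
  set H : {B : Subgroup X // IsHyp q A B} → Subgroup X := fun C => V ⊓ centralizer ((C : Subgroup X) : Set X)
  have hcomm : Pairwise fun i j => ∀ a b : X, a ∈ H i → b ∈ H j → Commute a b :=
    fun i j _ a b ha hb => congrArg (fun w : V => (w : X)) (h.comm.is_comm.comm ⟨a, ha.1⟩ ⟨b, hb.1⟩)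
  have hinj := Subgroup.injective_noncommPiCoprod_of_iSupIndep (hcomm := hcomm) h.indep
  set π := Subgroup.noncommPiCoprod (H := H) hcomm
  have hle : ∀ S : Set {B : Subgroup X // IsHyp q A B}, (⨆ C ∈ S, H C) ≤
      (Subgroup.pi Sᶜ fun C => (⊥ : Subgroup (H C))).map π := by
    refine fun S => iSup₂_le fun C hC y hy => ⟨Pi.mulSingle C ⟨y, hy⟩, ?_, ?_⟩
    · intro D hD
      refine mem_bot.2 ?_
      rw [Pi.mulSingle_eq_of_ne]
      exact fun e => hD (e ▸ hC)
    · exact Subgroup.noncommPiCoprod_mulSingle C ⟨y, hy⟩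
  obtain ⟨hzS, hzT⟩ := Subgroup.mem_inf.1 hz
  obtain ⟨f, hf, rfl⟩ := hle S hzS
  obtain ⟨g, hg, hgf⟩ := hle T hzT
  obtain rfl := hinj hgf
  have h1 : g = 1 := by
    funext C
    by_cases hC : C ∈ S
    · exact mem_bot.1 (hg C fun hT => Set.disjoint_left.1 hST hC hT)
    · exact mem_bot.1 (hf C hC)
  rw [h1, map_one]
  exact one_mem _

/-- `x` centralizes neither `A ⧸ B` nor is `C_V(B)` trivial. -/
def IsActive (q : ℕ) (A V : Subgroup X) (x : X) (B : Subgroup X) : Prop :=
  IsHyp q A B ∧ V ⊓ centralizer (B : Set X) ≠ ⊥ ∧ ¬ ⁅A, zpowers x⁆ ≤ B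

theorem HypSetup.pow_normA (h : HypSetup p q r A V x) (i : ℕ) : x ^ i ∈ normalizer (A : Set X) :=
  pow_mem h.normA i

theorem HypSetup.pow_normV (h : HypSetup p q r A V x) (i : ℕ) : x ^ i ∈ normalizer (V : Set X) :=
  pow_mem h.normV i

theorem HypSetup.active_cj (h : HypSetup p q r A V x) {B : Subgroup X} (hB : IsActive q A V x B) (i : ℕ) :
    IsActive q A V x (cj (x ^ i) B) := by
  refine ⟨isHyp_cj hB.1 (h.pow_normA i), ?_, fun hle => hB.2.2 ?_⟩
  · rw [← inf_centralizer_cj (h.pow_normV i), Ne, cj,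
      Subgroup.map_eq_bot_iff_of_injective _ (MulAut.conj _).injective]
    exact hB.2.1
  · have hU : cj (x ^ i) ⁅A, zpowers x⁆ = ⁅A, zpowers x⁆ := by
      rw [cj, Subgroup.map_commutator]
      congr 1
      · exact cj_eq_self (h.pow_normA i)
      · exact cj_eq_self (le_normalizer (pow_mem (mem_zpowers x) i))
    rw [← hU] at hle
    exact (map_le_map_iff_of_injective (MulAut.conj _).injective).1 hle

/-- The sum of the components along the orbit of `x`. -/
abbrev orbitSum (r : ℕ) (V : Subgroup X) (x : X) (B : Subgroup X) : Subgroup X :=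
  ⨆ i : Fin r, V ⊓ centralizer (cj (x ^ (i : ℕ)) B : Set X)

theorem HypSetup.norm_orbitSum (h : HypSetup p q r A V x) {B : Subgroup X} (hB : IsHyp q A B) :
    A ⊔ zpowers x ≤ normalizer (orbitSum r V x B : Set X) := by
  refine sup_le (fun a ha => mem_normalizer_iff_map_conj_eq.2 ?_)
    (zpowers_le.2 (mem_normalizer_iff_map_conj_eq.2 ?_))
  · rw [orbitSum, Subgroup.map_iSup]
    exact iSup_congr fun i => mem_normalizer_iff_map_conj_eq.1
      (h.norm_comp (isHyp_cj hB (h.pow_normA i)).1 ha)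
  · refine le_antisymm ?_ ?_
    · rw [orbitSum, Subgroup.map_iSup]
      refine iSup_le fun i => ?_
      show cj x (V ⊓ centralizer (cj (x ^ (i : ℕ)) B : Set X)) ≤ _
      rw [inf_centralizer_cj h.normV, ← cj_mul, ← pow_succ', ← pow_mod_orderOf, h.ord]
      exact le_iSup (fun j : Fin r => V ⊓ centralizer (cj (x ^ (j : ℕ)) B : Set X))
        ⟨((i : ℕ) + 1) % r, Nat.mod_lt _ hr.out.pos⟩
    · rw [orbitSum, Subgroup.map_iSup]
      refine iSup_le fun i => ?_
      refine le_iSup_of_le ⟨((i : ℕ) + (r - 1)) % r, Nat.mod_lt _ hr.out.pos⟩ (le_of_eq ?_)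
      show _ = cj x (V ⊓ centralizer (cj (x ^ (((i : ℕ) + (r - 1)) % r)) B : Set X))
      have key : x ^ (((i : ℕ) + (r - 1)) % r + 1) = x ^ (i : ℕ) := by
        conv_lhs => rw [← pow_mod_orderOf, h.ord, Nat.mod_add_mod,
          show (i : ℕ) + (r - 1) + 1 = i + r by have := hr.out.pos; omega, Nat.add_mod_right,
          Nat.mod_eq_of_lt i.2]
      rw [inf_centralizer_cj h.normV, ← cj_mul, ← pow_succ', key]

theorem HypSetup.orbitSum_le (h : HypSetup p q r A V x) (B : Subgroup X) : orbitSum r V x B ≤ V :=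
  iSup_le fun _ => inf_le_left

/-- An active orbit contains a nontrivial fixed point of `x`. -/
theorem HypSetup.orbitSum_inf_ne_bot (h : HypSetup p q r A V x) {B : Subgroup X} (hB : IsActive q A V x B) :
    orbitSum r V x B ⊓ centralizer (zpowers x : Set X) ≠ ⊥ := by
  intro hfree
  have hn := h.norm_orbitSum hB.1
  have hle := commutator_le_centralizer_of_fixedPointFree (p := q) (q := p) hr.out h.q2 h.p2 h.r2
    h.hqr h.hpq h.hpr h.ord (CfsgLib.Comp.isPGroup_of_elemAb h.elem) (h.pgroup.to_le (h.orbitSum_le B))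
    h.normA (hn (mem_sup_right (mem_zpowers x))) (le_sup_left.trans hn) hfree
  obtain ⟨u, hu, huB⟩ := SetLike.not_le_iff_exists.1 hB.2.2
  have huA : u ∈ A := le_normalizer_iff_commutator_le_left.mp (zpowers_le.2 h.normA) hu
  refine hB.2.1 (eq_bot_iff.2 fun v hv => ?_)
  rw [← h.fixA]
  refine Subgroup.mem_inf.2 ⟨hv.1, mem_centralizer_iff.2 fun a ha => mem_centralizer_singleton_iff.1 ?_⟩
  have hsup : B ⊔ zpowers u ≤ centralizer ({v} : Set X) := by
    refine sup_le (fun b hb => mem_centralizer_singleton_iff.2 (mem_centralizer_iff.1 hv.2 b hb))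
      (zpowers_le.2 (mem_centralizer_singleton_iff.2 ?_))
    refine (mem_centralizer_iff.1 (hle hu) v ?_).symm
    refine le_iSup (fun j : Fin r => V ⊓ centralizer (cj (x ^ (j : ℕ)) B : Set X)) ⟨0, hr.out.pos⟩ ?_
    simpa [cj_one] using hv
  exact hsup ((hyp_sup_zpowers hB.1 huA huB).ge ha)

theorem HypSetup.eq_fixed (h : HypSetup p q r A V x) {Y : Subgroup X}
    (hY : Y ≤ V ⊓ centralizer (zpowers x : Set X)) (hY1 : Y ≠ ⊥) :
    Y = V ⊓ centralizer (zpowers x : Set X) := by
  refine eq_of_le_of_card_ge hY (h.small.trans ?_)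
  obtain ⟨n, hn⟩ := IsPGroup.iff_card.1 (h.pgroup.to_le (hY.trans inf_le_left))
  rw [hn]
  exact Nat.le_self_pow (fun h0 => hY1 (eq_bot_of_card_eq _ (by rw [hn, h0, pow_zero]))) p

/-- There is only one active orbit. -/
theorem HypSetup.active_orbit (h : HypSetup p q r A V x) {B B' : Subgroup X} (hB : IsActive q A V x B)
    (hB' : IsActive q A V x B') : ∃ i : ℕ, B' = cj (x ^ i) B := by
  by_contra hall
  push Not at hall
  have e1 := h.eq_fixed (inf_le_inf_right _ (h.orbitSum_le B)) (h.orbitSum_inf_ne_bot hB)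
  have e2 := h.eq_fixed (inf_le_inf_right _ (h.orbitSum_le B')) (h.orbitSum_inf_ne_bot hB')
  refine h.orbitSum_inf_ne_bot hB (eq_bot_iff.2 fun z hz => ?_)
  have hz' : z ∈ orbitSum r V x B' := ((e1.trans e2.symm).le hz).1
  set T : Subgroup X → Set {B : Subgroup X // IsHyp q A B} := fun B =>
    {C | ∃ i : Fin r, (C : Subgroup X) = cj (x ^ (i : ℕ)) B} with hT
  have hsub : ∀ D : Subgroup X, IsHyp q A D → orbitSum r V x D ≤
      ⨆ C ∈ T D, V ⊓ centralizer (((C : {B : Subgroup X // IsHyp q A B}) : Subgroup X) : Set X) :=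
    fun D hD => iSup_le fun i => le_iSup₂_of_le ⟨_, isHyp_cj hD (h.pow_normA i)⟩ ⟨i, rfl⟩ le_rfl
  have hdisj : Disjoint (T B) (T B') := by
    rw [Set.disjoint_left]
    rintro C ⟨i, hi⟩ ⟨j, hj⟩
    refine hall ((r - (j : ℕ)) + i) ?_
    rw [pow_add, cj_mul, ← hi, hj, ← cj_mul, ← pow_add,
      show r - (j : ℕ) + j = orderOf x by rw [h.ord]; omega, pow_orderOf_eq_one, cj_one]
  exact h.toHypBase.biSup_inf_eq_bot hdisj ⟨hsub B hB.1 hz.1, hsub B' hB'.1 hz'⟩

/-- The components of a moving orbit have order at most `p`. -/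
theorem HypSetup.card_comp_le (h : HypSetup p q r A V x) {B : Subgroup X} (hB : IsActive q A V x B)
    (hx : x ∉ normalizer (B : Set X)) : Nat.card ↥(V ⊓ centralizer (B : Set X)) ≤ p := by
  have hinj : Function.Injective fun i : Fin r => cj (x ^ (i : ℕ)) B := by
    intro i j hij
    by_contra hne
    have hd : ∀ {a b : ℕ}, a < b → b < r → cj (x ^ a) B = cj (x ^ b) B → False := by
      intro a b hab hb he
      have hdn : x ^ (b - a) ∈ normalizer (B : Set X) := by
        rw [mem_normalizer_iff_map_conj_eq]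
        show cj (x ^ (b - a)) B = B
        have h2 := congrArg (cj (x ^ a)⁻¹) he
        rw [← cj_mul, ← cj_mul, inv_mul_cancel, cj_one, ← Nat.add_sub_cancel' hab.le, pow_add,
          inv_mul_cancel_left] at h2
        rw [← h2]
      refine hx ?_
      have hcop : (b - a).Coprime (orderOf x) := by
        rw [h.ord]
        exact (hr.out.coprime_iff_not_dvd.2 (Nat.not_dvd_of_pos_of_lt (by omega) (by omega))).symm
      obtain ⟨m, hm⟩ := exists_pow_eq_self_of_coprime hcop
      exact hm ▸ pow_mem hdn m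
    rcases lt_or_gt_of_ne (fun e => hne (Fin.ext e) : (i : ℕ) ≠ j) with hlt | hgt
    · exact hd hlt j.2 hij
    · exact hd hgt i.2 hij.symm
  set c := Nat.card ↥(V ⊓ centralizer (B : Set X))
  have hWc : Nat.card ↥(orbitSum r V x B) = c ^ r := by
    have hc : ∀ i : Fin r, Nat.card ↥(V ⊓ centralizer (cj (x ^ (i : ℕ)) B : Set X)) = c := fun i => by
      rw [← inf_centralizer_cj (h.pow_normV i), cj, card_map_of_injective (MulAut.conj _).injective]
    rw [orbitSum, h.card_iSup (f := fun i : Fin r => cj (x ^ (i : ℕ)) B) (fun i => isHyp_cj hB.1 (h.pow_normA i)) hinj hc, Fintype.card_fin]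
  set U := ⁅A, zpowers x⁆
  have hUA : U ≤ A := le_normalizer_iff_commutator_le_left.mp (zpowers_le.2 h.normA)
  set W := orbitSum r V x B
  have hWn := h.norm_orbitSum hB.1
  have hUfix : W ⊓ centralizer (U : Set X) = ⊥ := by
    rw [eq_bot_iff, ← CfsgLib.Coprime.commutator_inf_centralizer_eq_bot h.comm (hUA.trans h.norm)
      (h.coprime.coprime_dvd_left (card_dvd_of_le hUA))]
    refine le_inf (inf_le_left.trans ?_) inf_le_right
    refine iSup_le fun i => ?_
    obtain ⟨hhyp, -, hnot⟩ := h.active_cj hB i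
    obtain ⟨u, hu, huB⟩ := SetLike.not_le_iff_exists.1 hnot
    rw [← h.comp_eq_commutator hhyp.1 hUA ((hyp_sup_zpowers hhyp (hUA hu) huB).ge.trans
      (sup_le_sup_left (zpowers_le.2 hu) _))]
    exact commutator_mono inf_le_left le_rfl
  have hcardx : Nat.card (zpowers x) = r := by rw [Nat.card_zpowers, h.ord]
  obtain ⟨n, hn⟩ := IsPGroup.iff_card.1 (CfsgLib.Comp.isPGroup_of_elemAb h.elem)
  have hcopUx : (Nat.card (zpowers x)).Coprime (Nat.card A) := by
    rw [hcardx, hn]
    exact ((Nat.coprime_primes hr.out hq.out).2 h.hqr.symm).pow_right n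
  have hxU : zpowers x ≤ normalizer (U : Set X) := normalizer_commutator_ge_right A (zpowers x)
  have hUc : IsMulCommutative A := h.elem.1
  have hUfpf : U ⊓ centralizer (zpowers x : Set X) = ⊥ :=
    CfsgLib.Coprime.commutator_inf_centralizer_eq_bot hUc (zpowers_le.2 h.normA) hcopUx
  have hform := formula (U := U) (E := zpowers x) (H := W)
    (fun hb => hB.2.2 (hb.le.trans bot_le))
    (fun hb => hr.out.ne_one (by rw [← hcardx, hb, card_bot]))
    (eq_bot_iff.2 fun y hy => by
      rw [← hUfpf]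
      exact ⟨hy.1, mem_centralizer_iff.2 fun z hz => by
        obtain ⟨i, rfl⟩ := hz
        obtain ⟨j, rfl⟩ := hy.2
        exact ((Commute.refl x).zpow_zpow i j).eq⟩)
    hxU (fun e he he1 => by
      rw [eq_bot_iff, ← hUfpf]
      refine inf_le_inf_left U (fun y hy => mem_centralizer_iff.2 fun z hz => ?_)
      obtain ⟨i, rfl⟩ := mem_zpowers_iff.1 he
      have hgen : zpowers (x ^ i) = zpowers x := by
        refine eq_of_le_of_card_ge (zpowers_le.2 (zpow_mem (mem_zpowers x) i)) ?_
        have hxr : (x ^ i) ^ r = 1 := by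
          rw [← zpow_natCast, ← zpow_mul, mul_comm, zpow_mul, zpow_natCast, ← h.ord, pow_orderOf_eq_one,
            one_zpow]
        rw [hcardx, Nat.card_zpowers, orderOf_eq_prime hxr he1]
      rw [SetLike.mem_coe, ← hgen] at hz
      obtain ⟨k, rfl⟩ := hz
      exact ((show Commute y (x ^ i) from mem_centralizer_singleton_iff.1 hy).zpow_right k).eq.symm)
    ((sup_le_sup_right hUA _).trans hWn) (isSolvable_of_isMulCommutative
      ⟨⟨fun a b => Subtype.ext (congrArg (fun z : V => (z : X))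
        (h.comm.is_comm.comm ⟨a, h.orbitSum_le B a.2⟩ ⟨b, h.orbitSum_le B b.2⟩))⟩⟩)
    (by
      obtain ⟨m, hm⟩ := IsPGroup.iff_card.1 (h.pgroup.to_le (h.orbitSum_le B))
      rw [hm]
      refine Nat.Coprime.pow_right m (CfsgLib.Comp.coprime_card_sup hxU ?_ ?_)
      · refine Nat.Coprime.coprime_dvd_left (card_dvd_of_le hUA) ?_
        rw [hn]
        exact ((Nat.coprime_primes hq.out hp.out).2 h.hpq.symm).pow_left n
      · rw [hcardx]; exact (Nat.coprime_primes hr.out hp.out).2 h.hpr.symm)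
    hUfix
  rw [hWc, hcardx] at hform
  have hle : Nat.card ↥(W ⊓ centralizer (zpowers x : Set X)) ≤ p :=
    (card_le_of_le (inf_le_inf_right _ (h.orbitSum_le B))).trans h.small
  exact (Nat.pow_left_injective hr.out.ne_zero hform).le.trans hle

end CfsgLib.OddLocal
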