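import Cfsg.Agent.Lib.OddLocal.Metacyclic
import Cfsg.Agent.Lib.OddLocal.Replace
import Cfsg.Agent.Lib.Coprime.Action
import Cfsg.Agent.Lib.Coprime.Hall
import Cfsg.Agent.Lib.Transfer.UniqueOrderP

/-!
Coprime action on metacyclic `p`-subgroups, `p` odd.
-/

set_option autoImplicit false

open Subgroup
open scoped commutatorElement

namespace CfsgLib.OddLocal

variable {G : Type*} [Group G] [Finite G] {p : ℕ} [Fact p.Prime]

/-- `[R, A]` is abelian for a metacyclic `p`-group `R` under coprime action. -/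
theorem isMulCommutative_commutator_of_metacyclic (hp : p ≠ 2) {R A : Subgroup G} (hR : IsPGroup p R)
    (hm : Cfsg.IsMetacyclic R) (hA : A ≤ normalizer (R : Set G))
    (hcop : (Nat.card A).Coprime (Nat.card R)) : IsMulCommutative ↥⁅R, A⁆ := by
  have hle : ⁅R, A⁆ ≤ R := le_normalizer_iff_commutator_le_left.mp hA
  haveI : Group.IsNilpotent R := hR.isNilpotent
  set P := ⁅R, A⁆ with hP
  have hPA : A ≤ normalizer (P : Set G) := normalizer_commutator_ge_right R A
  have hm' : Cfsg.IsMetacyclic P :=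
    isMetacyclic_of_equiv (subgroupOfEquivOfLe hle) (isMetacyclic_subgroup hm (P.subgroupOf R))
  have hPP : ⁅P, A⁆ = P :=
    CfsgLib.Coprime.commutator_commutator_eq hA hcop (Or.inr inferInstance)
  have hgen : closure {x : P | ∃ a : A, ∃ z : P, CfsgLib.Coprime.conjHom hPA a z * z⁻¹ = x} = ⊤ := by
    set S := closure {x : P | ∃ a : A, ∃ z : P, CfsgLib.Coprime.conjHom hPA a z * z⁻¹ = x} with hS
    have h1 : ⁅P, A⁆ ≤ S.map P.subtype := by
      refine commutator_le.2 fun z hz a ha => ?_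
      refine ⟨(CfsgLib.Coprime.conjHom hPA ⟨a, ha⟩ ⟨z, hz⟩ * (⟨z, hz⟩ : P)⁻¹)⁻¹,
        S.inv_mem (subset_closure ⟨_, _, rfl⟩), ?_⟩
      simp [CfsgLib.Coprime.conjHom_apply, commutatorElement_def, mul_assoc]
    rw [hPP] at h1
    refine map_injective P.subtype_injective (le_antisymm ?_ ?_)
    · exact map_mono le_top
    · rw [← MonoidHom.range_eq_map, P.range_subtype]; exact h1
  exact ⟨⟨commute_of_coprime_action hp (hR.to_le hle) hm' (CfsgLib.Coprime.conjHom hPA)
    (hcop.coprime_dvd_right (card_dvd_of_le hle)) hgen⟩⟩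

/-- No element of order `p` outside normalizes an elementary abelian subgroup of order `≥ p²`
in a metacyclic `p`-group. -/
theorem false_of_metacyclic (hp : p ≠ 2) {R U : Subgroup G} (hR : IsPGroup p R)
    (hm : Cfsg.IsMetacyclic R) (hU : U ≤ R) (hUe : ∀ x ∈ U, x ^ p = 1)
    (hUc : ∀ x ∈ U, ∀ y ∈ U, x * y = y * x) (hU2 : p ^ 2 ≤ Nat.card U) {y : G} (hy : y ∈ R)
    (hyp : y ^ p = 1) (hyU : y ∉ U) (hyN : y ∈ normalizer (U : Set G)) : False := by
  have hpr := (Fact.out : p.Prime)
  have bound : ∀ E : Subgroup G, E ≤ R → (∀ x ∈ E, x ^ p = 1) → Nat.card E ≤ p ^ 2 := by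
    intro E hE hEp
    rw [← CfsgLib.Coprime.card_subgroupOf hE]
    exact card_le_sq_of_metacyclic hm hpr _ fun x hx => Subtype.ext (hEp _ hx)
  have hU2' : Nat.card U = p ^ 2 := le_antisymm (bound U hU hUe) hU2
  set Y := zpowers y with hY
  have hYN : Y ≤ normalizer (U : Set G) := zpowers_le.2 hyN
  have hy1 : y ≠ 1 := fun h => hyU (h ▸ U.one_mem)
  have hYc : Nat.card Y = p := by rw [hY, Nat.card_zpowers, orderOf_eq_prime hyp hy1]
  have hYU : Y ⊓ U = ⊥ := by
    by_contra h
    refine hyU ?_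
    have h1 : Nat.card (Y ⊓ U : Subgroup G) ∣ p := hYc ▸ card_dvd_of_le inf_le_left
    rcases (Nat.dvd_prime hpr).1 h1 with h2 | h2
    · exact absurd (eq_bot_of_card_eq _ h2) h
    · have h3 : Y ⊓ U = Y := eq_of_le_of_card_ge inf_le_left (by rw [h2, hYc])
      exact (h3.ge (mem_zpowers y)).2
  set H := U ⊔ Y with hH
  have hHR : H ≤ R := sup_le hU (zpowers_le.2 hy)
  have hHc : Nat.card H = p ^ 3 := by
    rw [hH, CfsgLib.Coprime.card_sup_of_inf_eq_bot hYN hYU, hYc, hU2']; ring
  have hHp : IsPGroup p H := hR.to_le hHR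
  haveI : Nontrivial H := Finite.one_lt_card_iff_nontrivial.1 (hHc ▸ Nat.one_lt_pow (by norm_num) hpr.one_lt)
  haveI := hHp.center_nontrivial
  have hcls : ∀ a b : H, ⁅a, b⁆ ∈ center H := by
    intro a b
    have hq : IsPGroup p (H ⧸ center H) := hHp.to_quotient _
    obtain ⟨k, hk⟩ := IsPGroup.iff_card.1 hq
    obtain ⟨l, hl⟩ := IsPGroup.iff_card.1 (hHp.to_subgroup (center H))
    have hl0 : l ≠ 0 := by
      rintro rfl
      exact (Finite.one_lt_card (α := center H)).ne' (by rw [hl, pow_zero])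
    have h1 := card_eq_card_quotient_mul_card_subgroup (center H)
    rw [hHc, hk, hl, ← pow_add] at h1
    have h2 := Nat.pow_right_injective hpr.two_le h1
    have h3 : ∀ u v : H ⧸ center H, u * v = v * u := by
      have : k = 0 ∨ k = 1 ∨ k = 2 := by omega
      rcases this with rfl | rfl | rfl
      · haveI : Subsingleton (H ⧸ center H) := (Nat.card_eq_one_iff_unique.1 (by simpa using hk)).1
        exact fun u v => Subsingleton.elim _ _
      · haveI : IsCyclic (H ⧸ center H) := isCyclic_of_prime_card (by simpa using hk)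
        exact (IsCyclic.commGroup).mul_comm
      · exact IsPGroup.commutative_of_card_eq_prime_sq hk
    rw [← QuotientGroup.eq_one_iff, ← QuotientGroup.mk'_apply, map_commutatorElement,
      commutatorElement_eq_one_iff_mul_comm]
    exact h3 _ _
  have hHe : ∀ x ∈ H, x ^ p = 1 := by
    intro x hx
    obtain ⟨u, hu, w, hw, rfl⟩ := (CfsgLib.Coprime.mem_sup_of_le_normalizer hYN).1 hx
    have hwp : w ^ p = 1 := by
      obtain ⟨i, rfl⟩ := hw
      show (y ^ i) ^ p = 1
      rw [← zpow_natCast, ← zpow_mul, mul_comm, zpow_mul, zpow_natCast, hyp, one_zpow]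
    have hwH : w ∈ H := mem_sup_right hw
    have huH : u ∈ H := mem_sup_left hu
    have hc := hcls ⟨w, hwH⟩ ⟨u, huH⟩
    rw [mem_center_iff] at hc
    have hcw := hc ⟨w, hwH⟩
    have hcu := hc ⟨u, huH⟩
    exact mul_pow_eq_one_of_class_two (hpr.odd_of_ne_two hp) (hUe u hu) hwp
      (congrArg Subtype.val hcu) (congrArg Subtype.val hcw)
  have := bound H hHR hHe
  rw [hHc] at this
  exact absurd this (not_le.2 (Nat.pow_lt_pow_right hpr.one_lt (by norm_num)))

end CfsgLib.OddLocal
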