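import Cfsg.Prelude.Def_OddOrderLocal
import Mathlib.GroupTheory.Subgroup.Centralizer
import Mathlib.Algebra.Group.Subgroup.Pointwise

set_option autoImplicit false

namespace CfsgLib.OddLocal

open Subgroup

universe u
variable {G : Type u} [Group G]

theorem minSimple_isSolvable (hG : Cfsg.IsMinSimpleOddOrder G) {H : Subgroup G} (hH : H ≠ ⊤) :
    Group.IsSolvable H := hG.2.2.2 H hH

theorem minSimple_not_commutative (hG : Cfsg.IsMinSimpleOddOrder G) : ¬ IsMulCommutative G := hG.2.2.1

theorem minSimple_eq_bot_or_top (hG : Cfsg.IsMinSimpleOddOrder G) (H : Subgroup G) [hH : H.Normal] :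
    H = ⊥ ∨ H = ⊤ :=
  have := hG.2.1
  IsSimpleGroup.eq_bot_or_eq_top_of_normal H hH

theorem minSimple_normalizer_ne_top (hG : Cfsg.IsMinSimpleOddOrder G) {H : Subgroup G}
    (h1 : H ≠ ⊥) (h2 : H ≠ ⊤) : Subgroup.normalizer (H : Set G) ≠ ⊤ := fun h => by
  have : H.Normal := Subgroup.normalizer_eq_top_iff.mp h
  exact (minSimple_eq_bot_or_top hG H).elim h1 h2

theorem minSimple_center_eq_bot (hG : Cfsg.IsMinSimpleOddOrder G) : Subgroup.center G = ⊥ :=
  (minSimple_eq_bot_or_top hG (Subgroup.center G)).resolve_right fun h =>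
    minSimple_not_commutative hG ⟨⟨fun a b =>
      (Subgroup.mem_center_iff.mp (h ▸ Subgroup.mem_top b : b ∈ Subgroup.center G) a)⟩⟩

theorem minSimple_centralizer_singleton_ne_top (hG : Cfsg.IsMinSimpleOddOrder G) {x : G} (hx : x ≠ 1) :
    Subgroup.centralizer ({x} : Set G) ≠ ⊤ := fun h => hx (by
  rw [← Subgroup.mem_bot, ← minSimple_center_eq_bot hG, Subgroup.mem_center_iff]
  intro g
  exact (Subgroup.mem_centralizer_singleton_iff.mp (h ▸ Subgroup.mem_top g :
    g ∈ Subgroup.centralizer ({x} : Set G))))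

theorem minSimple_centralizer_ne_top (hG : Cfsg.IsMinSimpleOddOrder G) {H : Subgroup G}
    (h1 : H ≠ ⊥) : Subgroup.centralizer (H : Set G) ≠ ⊤ := fun h => by
  obtain ⟨x, hx⟩ := Subgroup.ne_bot_iff_exists_ne_one.mp h1
  refine minSimple_centralizer_singleton_ne_top hG (x := (x : G)) (fun h' => hx (Subtype.ext h')) ?_
  rw [eq_top_iff, ← h]
  exact Subgroup.centralizer_le (by simp)

/-- A nontrivial subgroup of a minimal simple group of odd order has odd order. -/
theorem minSimple_odd (hG : Cfsg.IsMinSimpleOddOrder G) (H : Subgroup G) : Odd (Nat.card H) :=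
  hG.1.of_dvd_nat (Subgroup.card_subgroup_dvd_card H)

end CfsgLib.OddLocal
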