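import Cfsg.Agent.S1453
import Cfsg.Agent.Lib.PLocal.Basic
import Cfsg.Agent.Lib.OddLocal.RankTwoAction

/-!
Coprime automorphisms of narrow `p`-groups (`p` odd).
-/

set_option autoImplicit false

open Subgroup
open scoped commutatorElement

namespace CfsgLib.OddLocal

variable {R : Type*} [Group R] [Finite R] {p : ℕ} [Fact p.Prime]

/-- A characteristic subgroup of exponent `p` detecting automorphisms of order prime to `p`. -/
theorem exists_detecting_any (hp : p ≠ 2) (hR : IsPGroup p R) :
    ∃ D : Subgroup R, D.Characteristic ∧ (∀ x ∈ D, x ^ p = 1) ∧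
      ∀ a : MulAut R, (orderOf a).Coprime p → (∀ x ∈ D, a x = x) → a = 1 := by
  have hpr := (Fact.out : p.Prime)
  obtain ⟨H, hHch, hHfr, hHR, hHC⟩ := CfsgLib.Transfer.exists_critical (G := R) (p := p) hR
  have hclH : ∀ x y : H, ⁅x, y⁆ ∈ center H := by
    intro x y
    have h := CfsgLib.Transfer.commutatorElement_mem_frattini (hR.to_subgroup H) x y
    exact mem_center_iff.2 fun w => Subtype.ext (mem_centralizer_iff.1 (hHfr ⟨_, h, rfl⟩) w w.2)
  set D := closure {x : R | x ∈ H ∧ x ^ p = 1} with hD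
  have hexp : ∀ x ∈ D, x ^ p = 1 := by
    intro x hx
    have hle : D ≤ (closure {x : H | x ^ p = 1}).map H.subtype := (closure_le _).2 fun y hy =>
      ⟨⟨y, hy.1⟩, subset_closure (Subtype.ext hy.2), rfl⟩
    obtain ⟨y, hy, rfl⟩ := hle hx
    exact congrArg Subtype.val (CfsgLib.Transfer.pow_eq_one_of_mem_closure_class_two hpr hp hclH hy)
  have hDch : D.Characteristic := by
    rw [characteristic_iff_map_le]
    intro φ
    rw [hD, MonoidHom.map_closure, closure_le]
    rintro _ ⟨x, ⟨hx, hxp⟩, rfl⟩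
    exact subset_closure ⟨characteristic_iff_map_le.1 hHch φ ⟨x, hx, rfl⟩, by rw [← map_pow, hxp, map_one]⟩
  refine ⟨D, hDch, hexp, fun a ha hfix => ?_⟩
  have haH : ∀ h : R, h ∈ H → a h ∈ H := fun h hh => characteristic_iff_map_le.1 hHch a ⟨h, hh, rfl⟩
  let aH : MulAut H :=
    { toFun := fun h => ⟨a h, haH h h.2⟩
      invFun := fun h => ⟨a.symm h, characteristic_iff_map_le.1 hHch a.symm ⟨h, h.2, rfl⟩⟩
      left_inv := fun h => Subtype.ext (a.symm_apply_apply _)
      right_inv := fun h => Subtype.ext (a.apply_symm_apply _)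
      map_mul' := fun u v => Subtype.ext (map_mul a (u : R) v) }
  have hpw : ∀ (n : ℕ) (h : H), ((aH ^ n) h : R) = (a ^ n) h := by
    intro n
    induction n with
    | zero => intro h; rfl
    | succ n ih => intro h; rw [pow_succ, pow_succ, MulAut.mul_apply, MulAut.mul_apply, ih]; rfl
  have hord : (orderOf aH).Coprime p := ha.coprime_dvd_left (orderOf_dvd_of_pow_eq_one (by
    ext h; rw [hpw, pow_orderOf_eq_one]; rfl))
  have haH1 : aH = 1 := CfsgLib.Transfer.eq_one_of_fixes_omega_one hp (hR.to_subgroup H) aH hord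
    fun h hh => Subtype.ext (hfix h (subset_closure ⟨h.2, congrArg Subtype.val hh⟩))
  have hfixH : ∀ h ∈ H, a h = h := fun h hh =>
    congrArg (fun b : MulAut H => ((b ⟨h, hh⟩ : H) : R)) haH1
  ext x
  refine CfsgLib.Transfer.apply_eq_self_of_fixed_quotient hR a ha (hfixH _ (hHC ?_))
  rw [mem_centralizer_iff]
  intro h hh
  haveI := hHch
  exact (CfsgLib.Transfer.commute_of_conj_fixed a (hfixH h hh)
    (hfixH _ ((inferInstance : H.Normal).conj_mem h hh x))).eq.symm

/-- The automorphisms acting trivially on every characteristic section of order at most `p`. -/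
def trivOnSmall (p : ℕ) (R : Type*) [Group R] (a : MulAut R) : Prop :=
  ∀ K L : Subgroup R, K.Characteristic → L.Characteristic → L ≤ K → Nat.card K ≤ p * Nat.card L →
    ∀ k ∈ K, a k * k⁻¹ ∈ L

/-- Commutators and `(p-1)`-st powers act trivially on characteristic sections of order `≤ p`. -/
theorem trivOnSmall_facts (hR : IsPGroup p R) :
    (∀ a b : MulAut R, trivOnSmall p R ⁅a, b⁆) ∧ (∀ a : MulAut R, trivOnSmall p R (a ^ (p - 1))) ∧
      trivOnSmall p R (1 : MulAut R) ∧ (∀ a b : MulAut R, trivOnSmall p R a → trivOnSmall p R b → trivOnSmall p R (a * b)) ∧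
      (∀ a : MulAut R, trivOnSmall p R a → trivOnSmall p R a⁻¹) := by
  classical
  have hpr := (Fact.out : p.Prime)
  have key : ∀ K L : Subgroup R, K.Characteristic → L.Characteristic → L ≤ K → Nat.card K ≤ p * Nat.card L →
      ∃ ψ : MulAut R →* Multiplicative (ZMod (p - 1)) , ∀ a : MulAut R, ψ a = 1 → ∀ k ∈ K, a k * k⁻¹ ∈ L := by
    intro K L hK hL hLK hcard
    haveI := hL
    set L' := L.subgroupOf K with hL'
    haveI : L'.Normal := inferInstance
    have hq : Nat.card (K ⧸ L') ≤ p := by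
      have h := card_eq_card_quotient_mul_card_subgroup L'
      rw [Nat.card_congr (subgroupOfEquivOfLe hLK).toEquiv] at h
      rw [h] at hcard
      exact Nat.le_of_mul_le_mul_right hcard Nat.card_pos
    have hKf : ∀ (a : MulAut R) (k : R), k ∈ K → a k ∈ K := fun a k hk =>
      characteristic_iff_map_le.1 hK a ⟨k, hk, rfl⟩
    let res : MulAut R →* MulAut K :=
      { toFun := fun a =>
          { toFun := fun k => ⟨a k, hKf a k k.2⟩
            invFun := fun k => ⟨a.symm k, hKf a.symm k k.2⟩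
            left_inv := fun k => Subtype.ext (a.symm_apply_apply _)
            right_inv := fun k => Subtype.ext (a.apply_symm_apply _)
            map_mul' := fun u v => Subtype.ext (map_mul a (u : R) v) }
        map_one' := rfl
        map_mul' := fun a b => rfl }
    have hinv : ∀ a : MulAut R, L'.map (res a).toMonoidHom = L' := by
      intro a
      refine eq_of_le_of_card_ge ?_ (le_of_eq (card_map_of_injective (res a).injective).symm)
      rintro _ ⟨k, hk, rfl⟩
      exact mem_subgroupOf.2 (characteristic_iff_map_le.1 hL a ⟨k, mem_subgroupOf.1 hk, rfl⟩)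
    let Φ : MulAut R →* MulAut (K ⧸ L') :=
      { toFun := fun a => QuotientGroup.congr L' L' (res a) (hinv a)
        map_one' := by
          ext v; obtain ⟨v, rfl⟩ := QuotientGroup.mk_surjective v; rfl
        map_mul' := fun a b => by
          ext v; obtain ⟨v, rfl⟩ := QuotientGroup.mk_surjective v; rfl }
    obtain ⟨j, hj⟩ := IsPGroup.iff_card.1 ((hR.to_subgroup K).to_quotient L')
    have hj1 : j ≤ 1 := (Nat.pow_le_pow_iff_right hpr.one_lt).1 (by rw [← hj, pow_one]; exact hq)
    have hfinal : ∀ a : MulAut R, Φ a = 1 → ∀ k ∈ K, a k * k⁻¹ ∈ L := by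
      intro a ha k hk
      have h1 : Φ a ((⟨k, hk⟩ : K) : K ⧸ L') = ((⟨k, hk⟩ : K) : K ⧸ L') := by rw [ha]; rfl
      have h2 : (((res a ⟨k, hk⟩ : K) : K ⧸ L')) = ((⟨k, hk⟩ : K) : K ⧸ L') := h1
      rw [← mul_inv_eq_one, ← QuotientGroup.mk_inv, ← QuotientGroup.mk_mul, QuotientGroup.eq_one_iff] at h2
      exact mem_subgroupOf.1 h2
    rcases Nat.le_one_iff_eq_zero_or_eq_one.1 hj1 with rfl | rfl
    · haveI : Subsingleton (K ⧸ L') := (Nat.card_eq_one_iff_unique.1 (by simpa using hj)).1
      exact ⟨1, fun a _ => hfinal a (by ext v; exact Subsingleton.elim _ _)⟩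
    · haveI : IsCyclic (K ⧸ L') := isCyclic_of_prime_card (by simpa using hj)
      have hc : Nat.card (K ⧸ L') = p := by simpa using hj
      haveI : IsCyclic (ZMod p)ˣ := inferInstance
      let e1 : MulAut (K ⧸ L') ≃* (ZMod p)ˣ :=
        (IsCyclic.mulAutMulEquiv (K ⧸ L')).trans (by rw [hc])
      let e2 : (ZMod p)ˣ ≃* Multiplicative (ZMod (p - 1)) :=
        mulEquivOfCyclicCardEq (by
          rw [Nat.card_eq_fintype_card, ZMod.card_units, Nat.card_congr Multiplicative.toAdd, Nat.card_zmod])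
      refine ⟨((e1.trans e2).toMonoidHom).comp Φ, fun a ha => hfinal a ((e1.trans e2).injective ?_)⟩
      rw [map_one]; exact ha
  refine ⟨fun a b => ?_, fun a => ?_, ?_, fun a b ha hb => ?_, fun a ha => ?_⟩
  all_goals intro K L hK hL hLK hc
  · obtain ⟨ψ, hψ⟩ := key K L hK hL hLK hc
    refine hψ _ ?_
    rw [map_commutatorElement, commutatorElement_eq_one_iff_mul_comm, mul_comm]
  · obtain ⟨ψ, hψ⟩ := key K L hK hL hLK hc
    refine hψ _ ?_
    rw [map_pow]
    exact Multiplicative.toAdd.injective (by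
      rw [toAdd_pow, nsmul_eq_mul, ZMod.natCast_self, zero_mul, toAdd_one])
  · intro k _
    rw [MulAut.one_apply, mul_inv_cancel]; exact one_mem L
  · intro k hk
    have hbk : b k ∈ K := characteristic_iff_map_le.1 hK b ⟨k, hk, rfl⟩
    have := mul_mem (ha K L hK hL hLK hc (b k) hbk) (hb K L hK hL hLK hc k hk)
    rwa [← mul_assoc, inv_mul_cancel_right, ← MulAut.mul_apply] at this
  · intro k hk
    have hak : a⁻¹ k ∈ K := characteristic_iff_map_le.1 hK a⁻¹ ⟨k, hk, rfl⟩
    have h := inv_mem (ha K L hK hL hLK hc (a⁻¹ k) hak)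
    rwa [← MulAut.mul_apply, mul_inv_cancel, MulAut.one_apply, mul_inv_rev, inv_inv] at h

/-- In a narrow group of rank at least three there is a characteristic subgroup of index `p`
in which the centralizer of an element outside has only one subgroup of order `p`. -/
theorem exists_narrow_data (hp : p ≠ 2) (hR : IsPGroup p R) (hr : ¬ Cfsg.PRankLE p 2 R)
    (hn : Cfsg.IsNarrow p R) :
    ∃ (T : Subgroup R) (x : R), T.Characteristic ∧ T.index = p ∧ x ∉ T ∧
      ∀ U : Subgroup R, U ≤ T → (∀ u ∈ U, u ^ p = 1) → Nat.card (U ⊓ centralizer {x} : Subgroup R) ≤ p := by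
  have hpr := (Fact.out : p.Prime)
  obtain ⟨R₀, R₁, hR₀, hR₁, hinf, hcomm, hsup⟩ := hn.resolve_left hr
  obtain ⟨⟨x, hxR⟩, hx⟩ := (isCyclic_of_prime_card hR₀).exists_generator
  have hR₀x : R₀ = zpowers x := le_antisymm (fun y hy => by
    obtain ⟨i, hi⟩ := hx ⟨y, hy⟩
    exact ⟨i, congrArg Subtype.val hi⟩) (zpowers_le.2 hxR)
  have hxo : orderOf x = p := by rw [← Nat.card_zpowers, ← hR₀x, hR₀]
  have hxp : x ^ p = 1 := hxo ▸ pow_orderOf_eq_one x
  have hx1 : x ≠ 1 := fun h => by rw [h, orderOf_one] at hxo; exact hpr.ne_one hxo.symm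
  have hC : centralizer (R₀ : Set R) = centralizer ({x} : Set R) := by
    rw [hR₀x, zpowers_eq_closure, centralizer_closure]
  have hR₁ne : R₁ ≠ ⊥ := by
    intro h
    rw [h, sup_bot_eq, hC] at hsup
    have hcen : center R ≤ R₀ := (center_le_centralizer _).trans hsup.ge
    haveI : Nontrivial R := ⟨⟨x, 1, hx1⟩⟩
    haveI := hR.center_nontrivial
    obtain ⟨k, hk⟩ := IsPGroup.iff_card.1 (hR.to_subgroup (center R))
    have hk0 : k ≠ 0 := by
      rintro rfl
      exact (Finite.one_lt_card (α := center R)).ne' (by rw [hk, pow_zero])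
    have heq : center R = R₀ := eq_of_le_of_card_ge hcen (by
      rw [hR₀, hk]; exact Nat.le_self_pow hk0 p)
    have htop : centralizer ({x} : Set R) = ⊤ := eq_top_iff.2 fun g _ =>
      mem_centralizer_singleton_iff.2 (mem_center_iff.1 (heq.ge hxR) g)
    refine hr fun B _ _ => ?_
    calc Nat.card B ≤ Nat.card (⊤ : Subgroup R) := card_le_of_le le_top
      _ = p := by rw [← htop, ← hsup, hR₀]
      _ ≤ p ^ 2 := Nat.le_self_pow (by norm_num) p
  -- `Ω₁(R₁)`
  obtain ⟨k, hk⟩ := IsPGroup.iff_card.1 (hR.to_subgroup R₁)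
  have hk0 : k ≠ 0 := fun h => hR₁ne (eq_bot_of_card_eq _ (by rw [hk, h, pow_zero]))
  obtain ⟨⟨y, hyR⟩, hy⟩ := exists_prime_orderOf_dvd_card' (G := R₁) p (hk ▸ dvd_pow_self p hk0)
  rw [Subgroup.orderOf_mk] at hy
  set E := zpowers x ⊔ zpowers y with hE
  have hEmem : ∀ w, w ∈ centralizer ({x} : Set R) → w ^ p = 1 → w ∈ E := by
    intro w hw hwp
    rw [← hC, ← hsup] at hw
    have hR10 : R₁ ≤ normalizer (R₀ : Set R) := by
      refine le_trans ?_ (centralizer_le_normalizer _)
      exact fun b hb => mem_centralizer_iff.2 fun a ha => hcomm a ha b hb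
    obtain ⟨a, ha, b, hb, rfl⟩ := (CfsgLib.Coprime.mem_sup_of_le_normalizer hR10).1 hw
    have hab : Commute a b := hcomm a ha b hb
    have hap : a ^ p = 1 := by
      rw [hR₀x] at ha
      obtain ⟨i, rfl⟩ := ha
      show (x ^ i) ^ p = 1
      rw [← zpow_natCast, ← zpow_mul, mul_comm, zpow_mul, zpow_natCast, hxp, one_zpow]
    rw [hab.mul_pow, hap, one_mul] at hwp
    refine mul_mem (mem_sup_left (hR₀x ▸ ha)) (mem_sup_right ?_)
    haveI := hR₁
    classical
    haveI := Fintype.ofFinite R₁
    have h2 : ({z : R₁ | z ^ p = 1} : Set R₁) ⊆ zpowers (⟨y, hyR⟩ : R₁) := by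
      intro z hz
      have hcard := IsCyclic.card_pow_eq_one_le (α := R₁) (n := p) hpr.pos
      have hsub : (Finset.univ.filter fun a : R₁ => a ∈ zpowers (⟨y, hyR⟩ : R₁)) ⊆
          Finset.univ.filter fun a : R₁ => a ^ p = 1 := by
        intro a ha
        simp only [Finset.mem_filter, Finset.mem_univ, true_and] at ha ⊢
        obtain ⟨i, rfl⟩ := ha
        have hyp : (⟨y, hyR⟩ : R₁) ^ p = 1 := Subtype.ext (by simpa using hy ▸ pow_orderOf_eq_one y)
        show ((⟨y, hyR⟩ : R₁) ^ i) ^ p = 1
        rw [← zpow_natCast, ← zpow_mul, mul_comm, zpow_mul, zpow_natCast, hyp, one_zpow]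
      have heq := Finset.eq_of_subset_of_card_le hsub (hcard.trans (le_of_eq (by
        rw [← Fintype.card_subtype, ← Nat.card_eq_fintype_card]
        exact ((Nat.card_zpowers _).trans ((Subgroup.orderOf_mk y hyR).trans hy)).symm)))
      have hz' : z ∈ Finset.univ.filter fun a : R₁ => a ^ p = 1 := by simpa using hz
      rw [← heq] at hz'
      simpa using hz'
    obtain ⟨i, hi⟩ := h2 (show (⟨b, hb⟩ : R₁) ∈ _ from Subtype.ext hwp)
    exact ⟨i, congrArg Subtype.val hi⟩
  have hxy : Commute x y := hcomm x hxR y hyR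
  have hEcomm : IsMulCommutative E := by
    rw [hE, zpowers_eq_closure, zpowers_eq_closure, ← Subgroup.closure_union]
    refine isMulCommutative_closure ?_
    rintro a (rfl | rfl) b (rfl | rfl)
    · rfl
    · exact hxy.eq
    · exact hxy.eq.symm
    · rfl
  have hyp : y ^ p = 1 := hy ▸ pow_orderOf_eq_one y
  have hEe : Cfsg.IsElementaryAbelian p E := by
    refine ⟨hEcomm, fun a ha => ?_⟩
    have h : E ≤ closure {a : R | a = x ∨ a = y} := by
      rw [hE]
      exact sup_le (zpowers_le.2 (subset_closure (Or.inl rfl))) (zpowers_le.2 (subset_closure (Or.inr rfl)))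
    have hle : closure {a : R | a = x ∨ a = y} ≤ E := (closure_le _).2 (by
      rintro w (rfl | rfl)
      · exact mem_sup_left (mem_zpowers w)
      · exact mem_sup_right (mem_zpowers w))
    have ha' := h ha
    clear ha
    induction ha' using closure_induction with
    | mem z hz => exact hz.elim (fun h => h ▸ hxp) (fun h => h ▸ hyp)
    | one => exact one_pow p
    | mul u v hu hv ihu ihv =>
      have huv : Commute u v := congrArg Subtype.val (hEcomm.is_comm.comm (⟨u, hle hu⟩ : E) ⟨v, hle hv⟩)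
      rw [huv.mul_pow, ihu, ihv, one_mul]
    | inv u _ ihu => rw [inv_pow, ihu, inv_one]
  have hE2 : Nat.card E = p ^ 2 := by
    have hy0 : zpowers y ⊓ zpowers x = ⊥ := by
      refine eq_bot_iff.2 fun w hw => ?_
      have : w ∈ R₀ ⊓ R₁ := ⟨by rw [hR₀x]; exact hw.2, zpowers_le.2 hyR hw.1⟩
      rwa [hinf] at this
    have hnorm : zpowers y ≤ normalizer (zpowers x : Set R) := by
      refine le_trans ?_ (centralizer_le_normalizer _)
      rw [zpowers_le, mem_centralizer_iff]
      rintro _ ⟨i, rfl⟩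
      exact (hxy.zpow_left i).eq
    rw [hE, CfsgLib.Coprime.card_sup_of_inf_eq_bot hnorm hy0, Nat.card_zpowers, Nat.card_zpowers, hxo, hy, sq]
  have hEmax : ∀ B : Subgroup R, Cfsg.IsElementaryAbelian p B → E ≤ B → B = E := by
    intro B hB hEB
    refine le_antisymm (fun w hw => hEmem w ?_ (hB.2 w hw)) hEB
    exact mem_centralizer_singleton_iff.2 (congrArg Subtype.val
      (hB.1.is_comm.comm (⟨w, hw⟩ : B) ⟨x, hEB (mem_sup_left (mem_zpowers x))⟩))
  obtain ⟨hET, -, ⟨hWe, hW2⟩, hTch, hTi⟩ :=
    Cfsg.Agent.S1453.result p hp hR hr E hEe hE2 hEmax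
  set W : Subgroup R := closure {x : R | x ∈ Subgroup.upperCentralSeries R 2 ∧ x ^ p = 1}
  set T := centralizer (W : Set R)
  have hxT : x ∉ T := by
    intro h
    have hWE : W ≤ E := fun w hw => hEmem w
      (mem_centralizer_singleton_iff.2 (mem_centralizer_iff.1 h w hw)) (hWe.2 w hw)
    have heq : W = E := eq_of_le_of_card_ge hWE (by rw [hE2, hW2])
    apply hET
    intro e he
    exact mem_centralizer_iff.2 fun w hw => congrArg Subtype.val
      (hEcomm.is_comm.comm (⟨w, hWE hw⟩ : E) ⟨e, he⟩)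
  refine ⟨T, x, hTch, hTi, hxT, fun U hUT hUe => ?_⟩
  have hle : U ⊓ centralizer ({x} : Set R) ≤ T ⊓ E := fun w hw => ⟨hUT hw.1, hEmem w hw.2 (hUe w hw.1)⟩
  refine (card_le_of_le hle).trans ?_
  obtain ⟨j, hj2, hj⟩ := (Nat.dvd_prime_pow hpr).1 (hE2 ▸ card_dvd_of_le (inf_le_right : T ⊓ E ≤ E))
  rcases Nat.lt_or_ge j 2 with h | h
  · rw [hj]
    calc p ^ j ≤ p ^ 1 := Nat.pow_le_pow_right hpr.pos (by omega)
      _ = p := pow_one p
  · exact absurd ((eq_of_le_of_card_ge (inf_le_right : T ⊓ E ≤ E) (by rw [hE2, hj, show j = 2 by omega])).ge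
      (mem_sup_left (mem_zpowers x))).1 hxT

/-- Given a characteristic subgroup of index `p` in which the centralizer of an outside element has
only one subgroup of order `p`, a `p'`-automorphism trivial on small characteristic sections is trivial. -/
theorem eq_one_of_trivOnSmall_of_data (hp : p ≠ 2) (hR : IsPGroup p R) {T : Subgroup R} {x : R}
    (hTch : T.Characteristic) (hTi : T.index = p) (hxT : x ∉ T)
    (hsmall : ∀ U : Subgroup R, U ≤ T → (∀ u ∈ U, u ^ p = 1) →
      Nat.card (U ⊓ centralizer {x} : Subgroup R) ≤ p)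
    (a : MulAut R) (ha : (orderOf a).Coprime p) (ht : trivOnSmall p R a) : a = 1 := by
  have hpr := (Fact.out : p.Prime)
  obtain ⟨D, hDch, hDe, hdet⟩ := exists_detecting_any hp hR
  have hstep : ∀ U L : Subgroup R, L ≤ U → L.Characteristic → (∀ u ∈ L, a u = u) →
      (∀ u ∈ U, a u * u⁻¹ ∈ L) → ∀ u ∈ U, a u = u := by
    intro U L _ hL hfix h u hu
    refine CfsgLib.Transfer.apply_eq_self_of_fixed_quotient hR a ha (hfix _ ?_)
    haveI := hL
    have := (inferInstance : L.Normal).conj_mem _ (h u hu) u⁻¹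
    rwa [inv_inv, mul_assoc, mul_assoc, inv_mul_cancel, mul_one] at this
  have key : ∀ (n : ℕ) (U : Subgroup R), Nat.card U = n → U.Characteristic → U ≤ T →
      (∀ u ∈ U, u ^ p = 1) → ∀ u ∈ U, a u = u := by
    intro n
    induction n using Nat.strong_induction_on with
    | _ n ih =>
      intro U hn' hU hUT hUe
      by_cases hU1 : U = ⊥
      · intro u hu; rw [hU1, mem_bot] at hu; rw [hu, map_one]
      haveI := hU
      set L := ⁅U, (⊤ : Subgroup R)⁆ with hL
      have hLU : L ≤ U := commutator_le_left U ⊤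
      have hLch : L.Characteristic := by
        rw [characteristic_iff_map_le]
        intro φ
        rw [hL, map_commutator]
        exact commutator_mono (characteristic_iff_map_le.1 hU φ) le_top
      haveI := hLch
      have hLlt : L < U := by
        refine lt_of_le_of_ne hLU fun h => hU1 ?_
        haveI : Group.IsNilpotent R := hR.isNilpotent
        have hlow : ∀ i, U ≤ Subgroup.lowerCentralSeries (⊤ : Subgroup R) i := by
          intro i
          induction i with
          | zero => exact le_top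
          | succ i ihi => rw [← h, hL, Subgroup.lowerCentralSeries_succ]; exact commutator_mono ihi le_rfl
        obtain ⟨m, hm⟩ := Subgroup.nilpotent_iff_lowerCentralSeries.1 ‹Group.IsNilpotent R›
        exact eq_bot_iff.2 (hm ▸ hlow m)
      have hcard : Nat.card U ≤ p * Nat.card L := by
        classical
        let f : U → L := fun u => ⟨⁅(u : R), x⁆, commutator_mem_commutator u.2 (mem_top x)⟩
        have hrep : ∀ u : U, ((Function.invFun f (f u) : U) : R)⁻¹ * u ∈ U ⊓ centralizer ({x} : Set R) := by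
          intro u
          set v := Function.invFun f (f u)
          have hv : f v = f u := Function.invFun_eq ⟨u, rfl⟩
          refine Subgroup.mem_inf.2 ⟨U.mul_mem (U.inv_mem v.2) u.2, mem_centralizer_singleton_iff.2 ?_⟩
          have h1 : (v : R) * x * (v : R)⁻¹ * x⁻¹ = (u : R) * x * (u : R)⁻¹ * x⁻¹ := by
            simpa [f, commutatorElement_def] using congrArg Subtype.val hv
          have h2 : (v : R) * x * (v : R)⁻¹ = (u : R) * x * (u : R)⁻¹ := mul_right_cancel h1
          calc (v : R)⁻¹ * u * x = (v : R)⁻¹ * ((u : R) * x * (u : R)⁻¹) * u := by group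
            _ = x * ((v : R)⁻¹ * u) := by rw [← h2]; group
        let g : U → L × (U ⊓ centralizer ({x} : Set R) : Subgroup R) := fun u => (f u, ⟨_, hrep u⟩)
        have hg : Function.Injective g := by
          intro u v h
          have h1 : f u = f v := congrArg Prod.fst h
          have h2 : ((Function.invFun f (f u) : U) : R)⁻¹ * u = ((Function.invFun f (f v) : U) : R)⁻¹ * v :=
            congrArg (fun t : L × (U ⊓ centralizer ({x} : Set R) : Subgroup R) => (t.2 : R)) h
          rw [h1] at h2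
          exact Subtype.ext (mul_left_cancel h2)
        calc Nat.card U ≤ Nat.card (L × (U ⊓ centralizer ({x} : Set R) : Subgroup R)) :=
              Nat.card_le_card_of_injective g hg
          _ = Nat.card L * Nat.card (U ⊓ centralizer ({x} : Set R) : Subgroup R) := Nat.card_prod _ _
          _ ≤ Nat.card L * p := Nat.mul_le_mul_left _ (hsmall U hUT hUe)
          _ = _ := mul_comm _ _
      have hlt : Nat.card L < n := hn' ▸ lt_of_le_of_ne (card_le_of_le hLU)
        fun e => hLlt.ne (eq_of_le_of_card_ge hLU e.ge)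
      exact hstep U L hLU hLch (ih _ hlt L rfl hLch (hLU.trans hUT) fun u hu => hUe u (hLU hu))
        (ht U L hU hLch hLU hcard)
  refine hdet a ha ?_
  haveI := hTch
  haveI := hDch
  have hDT : (D ⊓ T).Characteristic := by
    rw [characteristic_iff_map_le]
    intro φ
    exact (map_inf_le _ _ _).trans (inf_le_inf (characteristic_iff_map_le.1 hDch φ) (characteristic_iff_map_le.1 hTch φ))
  refine hstep D (D ⊓ T) inf_le_left hDT (key _ _ rfl hDT inf_le_right fun u hu => hDe u hu.1)
    (ht D (D ⊓ T) hDch hDT inf_le_left ?_)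
  have h1 : (D ⊓ T).relIndex D ≤ p := by
    rw [inf_relIndex_left]
    exact hTi ▸ Nat.le_of_dvd (hTi ▸ hpr.pos) (relIndex_dvd_index_of_normal T D)
  calc Nat.card D = Nat.card (D ⊓ T : Subgroup R) * (D ⊓ T).relIndex D :=
        (CfsgLib.Coprime.card_mul_relIndex inf_le_left).symm
    _ ≤ Nat.card (D ⊓ T : Subgroup R) * p := Nat.mul_le_mul_left _ h1
    _ = _ := mul_comm _ _

/-- In the narrow case a `p'`-automorphism trivial on small characteristic sections is trivial. -/
theorem eq_one_of_trivOnSmall (hp : p ≠ 2) (hR : IsPGroup p R) (hr : ¬ Cfsg.PRankLE p 2 R)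
    (hn : Cfsg.IsNarrow p R) (a : MulAut R) (ha : (orderOf a).Coprime p) (ht : trivOnSmall p R a) :
    a = 1 := by
  obtain ⟨T, x, hTch, hTi, hxT, hsmall⟩ := exists_narrow_data hp hR hr hn
  exact eq_one_of_trivOnSmall_of_data hp hR hTch hTi hxT hsmall a ha ht

/-- A maximal elementary abelian subgroup of order `p²` in a group of rank at least three gives such
a pair. -/
theorem exists_data_of_maximal_elementary (hp : p ≠ 2) (hR : IsPGroup p R) (hr : ¬ Cfsg.PRankLE p 2 R)
    {E : Subgroup R} (hEe : Cfsg.IsElementaryAbelian p E) (hE2 : Nat.card E = p ^ 2)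
    (hEmax : ∀ B : Subgroup R, Cfsg.IsElementaryAbelian p B → E ≤ B → B = E) :
    ∃ (T : Subgroup R) (x : R), T.Characteristic ∧ T.index = p ∧ x ∉ T ∧
      ∀ U : Subgroup R, U ≤ T → (∀ u ∈ U, u ^ p = 1) → Nat.card (U ⊓ centralizer {x} : Subgroup R) ≤ p := by
  have hpr := (Fact.out : p.Prime)
  obtain ⟨hET, hZc, ⟨hWe, hW2⟩, hTch, hTi⟩ := Cfsg.Agent.S1453.result p hp hR hr E hEe hE2 hEmax
  set W : Subgroup R := closure {x : R | x ∈ Subgroup.upperCentralSeries R 2 ∧ x ^ p = 1}
  set T := centralizer (W : Set R)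
  set Z : Subgroup R := closure {x : R | x ∈ Subgroup.center R ∧ x ^ p = 1}
  have hcomm : ∀ z ∈ center R, z ^ p = 1 → z ∈ E := by
    intro z hz hzp
    have hze : Cfsg.IsElementaryAbelian p (zpowers z) := ⟨inferInstance, by
      rintro _ ⟨i, rfl⟩
      rw [← zpow_natCast, ← zpow_mul, mul_comm, zpow_mul, zpow_natCast, hzp, one_zpow]⟩
    rw [← hEmax _ (CfsgLib.PLocal.elemAb_sup hEe hze fun e _ => mem_centralizer_iff.2 fun y hy => by
      obtain ⟨i, rfl⟩ := hy
      exact (mem_center_iff.1 (zpow_mem hz i) e).symm) le_sup_left]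
    exact mem_sup_right (mem_zpowers z)
  obtain ⟨x, hxE, hxT⟩ := SetLike.not_le_iff_exists.1 hET
  have hEmem : ∀ w, w ∈ centralizer ({x} : Set R) → w ^ p = 1 → w ∈ E := by
    intro w hw hwp
    have hwx : Commute w x := mem_centralizer_singleton_iff.1 hw
    have hZE : Z ≤ E := (closure_le _).2 fun z hz => hcomm z hz.1 hz.2
    have hZcen : Z ≤ center R := (closure_le _).2 fun z hz => hz.1
    have hxZ : x ∉ Z := fun h => hxT (mem_centralizer_iff.2 fun y _ => mem_center_iff.1 (hZcen h) y)
    have hle : E ≤ centralizer ({w} : Set R) := by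
      have heq : Z ⊔ zpowers x = E := by
        refine eq_of_le_of_card_ge (sup_le hZE (zpowers_le.2 hxE)) ?_
        obtain ⟨m, hm⟩ := IsPGroup.iff_card.1 (hR.to_subgroup (Z ⊔ zpowers x))
        have hlt : p ^ 1 < p ^ m := by
          rw [pow_one, ← hm]
          nth_rewrite 1 [← hZc]
          exact lt_of_le_of_ne (card_le_of_le le_sup_left) fun h =>
            hxZ ((eq_of_le_of_card_ge le_sup_left h.ge).ge (mem_sup_right (mem_zpowers x)))
        rw [hE2, hm]
        exact Nat.pow_le_pow_right hpr.pos ((Nat.pow_lt_pow_iff_right hpr.one_lt).1 hlt)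
      rw [← heq]
      exact sup_le (fun z hz => mem_centralizer_singleton_iff.2 (mem_center_iff.1 (hZcen hz) w).symm)
        (zpowers_le.2 (mem_centralizer_singleton_iff.2 hwx.symm))
    have hwe : Cfsg.IsElementaryAbelian p (zpowers w) := ⟨inferInstance, by
      rintro _ ⟨i, rfl⟩
      rw [← zpow_natCast, ← zpow_mul, mul_comm, zpow_mul, zpow_natCast, hwp, one_zpow]⟩
    rw [← hEmax _ (CfsgLib.PLocal.elemAb_sup hEe hwe fun e he => mem_centralizer_iff.2 fun y hy => by
      obtain ⟨i, rfl⟩ := hy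
      exact (((show Commute e w from mem_centralizer_singleton_iff.1 (hle he)).zpow_right i).eq).symm) le_sup_left]
    exact mem_sup_right (mem_zpowers w)
  refine ⟨T, x, hTch, hTi, hxT, fun U hUT hUe => ?_⟩
  have hle : U ⊓ centralizer ({x} : Set R) ≤ T ⊓ E := fun w hw => ⟨hUT hw.1, hEmem w hw.2 (hUe w hw.1)⟩
  refine (card_le_of_le hle).trans ?_
  obtain ⟨j, hj2, hj⟩ := (Nat.dvd_prime_pow hpr).1 (hE2 ▸ card_dvd_of_le (inf_le_right : T ⊓ E ≤ E))
  rcases Nat.lt_or_ge j 2 with h | h
  · rw [hj]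
    calc p ^ j ≤ p ^ 1 := Nat.pow_le_pow_right hpr.pos (by omega)
      _ = p := pow_one p
  · exact absurd ((eq_of_le_of_card_ge (inf_le_right : T ⊓ E ≤ E) (by rw [hE2, hj, show j = 2 by omega])).ge
      hxE).1 hxT

end CfsgLib.OddLocal
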