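import Cfsg.Prelude.Def_OddOrderLocal
import Mathlib.GroupTheory.Nilpotent
import Mathlib.GroupTheory.PGroup
import Mathlib.Data.Fintype.Order

set_option autoImplicit false

namespace CfsgLib.OddLocal

open Subgroup

universe u
variable {G : Type u} [Group G]

theorem puigStep_antitone {X Y : Subgroup G} (h : X ≤ Y) : Cfsg.puigStep Y ≤ Cfsg.puigStep X :=
  sSup_le fun _ hA => le_sSup ⟨hA.1, h.trans hA.2⟩

theorem puigStep_bot : Cfsg.puigStep (⊥ : Subgroup G) = ⊤ := by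
  rw [eq_top_iff]
  intro g _
  have h : Subgroup.zpowers g ≤ Cfsg.puigStep (⊥ : Subgroup G) :=
    le_sSup ⟨inferInstance, bot_le⟩
  exact h (Subgroup.mem_zpowers g)

theorem puigSeq_succ (n : ℕ) : Cfsg.puigSeq G (n + 1) = Cfsg.puigStep (Cfsg.puigSeq G n) := rfl

theorem puigSeq_zero : Cfsg.puigSeq G 0 = ⊥ := rfl

theorem puigSeq_one : Cfsg.puigSeq G 1 = ⊤ := puigStep_bot

theorem puigSeq_even_succ : ∀ n : ℕ, Cfsg.puigSeq G (2 * n) ≤ Cfsg.puigSeq G (2 * n + 2) ∧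
    Cfsg.puigSeq G (2 * n + 3) ≤ Cfsg.puigSeq G (2 * n + 1)
  | 0 => ⟨by rw [puigSeq_zero]; exact bot_le,
      puigStep_antitone (by rw [puigSeq_zero]; exact bot_le)⟩
  | n + 1 => by
    have ih := puigSeq_even_succ n
    have h1 : Cfsg.puigSeq G (2 * (n + 1)) ≤ Cfsg.puigSeq G (2 * (n + 1) + 2) :=
      puigStep_antitone ih.2
    exact ⟨h1, puigStep_antitone h1⟩

theorem puigSeq_even_monotone : Monotone fun n => Cfsg.puigSeq G (2 * n) :=
  monotone_nat_of_le_succ fun n => (puigSeq_even_succ n).1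

theorem puigSeq_odd_antitone : Antitone fun n => Cfsg.puigSeq G (2 * n + 1) :=
  antitone_nat_of_succ_le fun n => (puigSeq_even_succ n).2

theorem puigSeq_even_le_odd_diag : ∀ n : ℕ, Cfsg.puigSeq G (2 * n) ≤ Cfsg.puigSeq G (2 * n + 1)
  | 0 => by rw [puigSeq_zero]; exact bot_le
  | n + 1 => by
    show Cfsg.puigSeq G (2 * n + 1 + 1) ≤ Cfsg.puigSeq G (2 * (n + 1) + 1)
    have h : Cfsg.puigSeq G (2 * n + 1 + 1) ≤ Cfsg.puigSeq G (2 * n + 1) :=
      puigStep_antitone (puigSeq_even_le_odd_diag n)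
    exact puigStep_antitone h

theorem puigSeq_even_le_odd (n m : ℕ) : Cfsg.puigSeq G (2 * n) ≤ Cfsg.puigSeq G (2 * m + 1) :=
  ((puigSeq_even_monotone (le_max_left n m)).trans (puigSeq_even_le_odd_diag (max n m))).trans
    (puigSeq_odd_antitone (le_max_right n m))

theorem puigLower_le_puigSubgroup : Cfsg.puigLower G ≤ Cfsg.puigSubgroup G :=
  iSup_le fun n => le_iInf fun m => puigSeq_even_le_odd n m

theorem puigSeq_eventually [Finite G] :
    ∃ k : ℕ, ∀ n : ℕ, k ≤ n → Cfsg.puigSeq G (2 * n) = Cfsg.puigLower G ∧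
      Cfsg.puigSeq G (2 * n + 1) = Cfsg.puigSubgroup G := by
  obtain ⟨k₁, hk₁⟩ := WellFoundedGT.monotone_chain_condition
    (⟨_, puigSeq_even_monotone (G := G)⟩ : ℕ →o Subgroup G)
  have he : ∀ n, k₁ ≤ n → Cfsg.puigSeq G (2 * n) = Cfsg.puigLower G := by
    intro n hn
    refine le_antisymm (le_iSup (fun m => Cfsg.puigSeq G (2 * m)) n) (iSup_le fun m => ?_)
    rcases le_total m n with h | h
    · exact puigSeq_even_monotone h
    · exact ((hk₁ m (hn.trans h)).symm.trans (hk₁ n hn)).le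
  have ho : ∀ n, k₁ ≤ n → Cfsg.puigSeq G (2 * n + 1) = Cfsg.puigStep (Cfsg.puigLower G) := by
    intro n hn; rw [puigSeq_succ, he n hn]
  refine ⟨k₁, fun n hn => ⟨he n hn, ?_⟩⟩
  refine le_antisymm (le_iInf fun m => ?_) (iInf_le _ n)
  rcases le_total m n with h | h
  · exact puigSeq_odd_antitone h
  · exact ((ho n hn).trans (ho m (hn.trans h)).symm).le

theorem puigStep_puigLower [Finite G] :
    Cfsg.puigStep (Cfsg.puigLower G) = Cfsg.puigSubgroup G ∧
      Cfsg.puigStep (Cfsg.puigSubgroup G) = Cfsg.puigLower G := by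
  obtain ⟨k, hk⟩ := puigSeq_eventually (G := G)
  constructor
  · rw [← (hk k le_rfl).1, ← puigSeq_succ, (hk k le_rfl).2]
  · rw [← (hk k le_rfl).2, ← puigSeq_succ]
    exact (hk (k + 1) (Nat.le_succ k)).1

/-- Every normal abelian subgroup lies in every term `L_i` with `i > 0`. -/
theorem le_puigSeq_of_normal_abelian (A : Subgroup G) [A.Normal] (hA : IsMulCommutative A)
    {i : ℕ} (hi : 0 < i) : A ≤ Cfsg.puigSeq G i := by
  obtain ⟨j, rfl⟩ : ∃ j, i = j + 1 := ⟨i - 1, by omega⟩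
  exact le_sSup ⟨hA, le_top.trans (Subgroup.normalizer_eq_top A).ge⟩

end CfsgLib.OddLocal
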