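import Cfsg.Agent.Lib.OddLocal.Puig
import Cfsg.Agent.Lib.OddLocal.PGroup
import Cfsg.Agent.Lib.OddLocal.PStable
import Cfsg.Agent.Lib.OddLocal.ZJ
import Cfsg.Agent.Lib.PLocal.Sylow
import Cfsg.Agent.Lib.OddLocal.PLength

/-!
# Puig's theorem for solvable groups of odd order
-/

set_option autoImplicit false

namespace CfsgLib.OddLocal

open Subgroup

universe u

variable {G H : Type u} [Group G] [Group H]

/-- The Puig series of a subgroup, inside the ambient group. -/
def puigIn (R : Subgroup G) (n : ℕ) : Subgroup G := (Cfsg.puigSeq R n).map R.subtype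

/-- The abelian subgroups of `R` normalized by `X`. -/
def puigFamily (R X : Subgroup G) : Set (Subgroup G) :=
  {A | A ≤ R ∧ IsMulCommutative A ∧ X ≤ Subgroup.normalizer (A : Set G)}

theorem puigIn_zero (R : Subgroup G) : puigIn R 0 = ⊥ := Subgroup.map_bot _

theorem puigIn_le (R : Subgroup G) (n : ℕ) : puigIn R n ≤ R := Subgroup.map_subtype_le _

theorem isMulCommutative_map_of {A : Subgroup G} (hA : IsMulCommutative A) (f : G →* H) :
    IsMulCommutative (A.map f) := by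
  refine ⟨⟨?_⟩⟩
  rintro ⟨_, u, hu, rfl⟩ ⟨_, v, hv, rfl⟩
  refine Subtype.ext ?_
  show f u * f v = f v * f u
  rw [← map_mul, ← map_mul]
  exact congrArg f (congrArg Subtype.val (hA.is_comm.comm (⟨u, hu⟩ : A) ⟨v, hv⟩))

theorem puigIn_succ (R : Subgroup G) (n : ℕ) :
    puigIn R (n + 1) = sSup (puigFamily R (puigIn R n)) := by
  unfold puigIn
  rw [puigSeq_succ]
  unfold Cfsg.puigStep
  refine le_antisymm ?_ (sSup_le ?_)
  · rw [Subgroup.map_le_iff_le_comap]
    refine sSup_le fun A hA => Subgroup.map_le_iff_le_comap.mp (le_sSup ⟨Subgroup.map_subtype_le A,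
      isMulCommutative_map_of hA.1 _, (Subgroup.map_mono hA.2).trans (Subgroup.le_normalizer_map _)⟩)
  · rintro B ⟨hBR, hBc, hBN⟩
    rw [← Subgroup.map_subgroupOf_eq_of_le hBR]
    refine Subgroup.map_mono (le_sSup ⟨⟨⟨fun x y => Subtype.ext (Subtype.ext ?_)⟩⟩, ?_⟩)
    · show x.1.1 * y.1.1 = y.1.1 * x.1.1
      exact congrArg Subtype.val (hBc.is_comm.comm (⟨x.1.1, x.2⟩ : B) ⟨y.1.1, y.2⟩)
    · exact (Subgroup.map_le_iff_le_comap.mp hBN).trans (Subgroup.le_normalizer_comap R.subtype)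

theorem puigIn_map (f : G →* H) {R : Subgroup G} (hf : ∀ x ∈ R, f x = 1 → x = 1) :
    ∀ n : ℕ, (puigIn R n).map f = puigIn (R.map f) n
  | 0 => by rw [puigIn_zero, puigIn_zero, Subgroup.map_bot]
  | n + 1 => by
    have ih := puigIn_map f hf n
    rw [puigIn_succ, puigIn_succ, ← ih]
    refine le_antisymm ?_ (sSup_le ?_)
    · rw [Subgroup.map_le_iff_le_comap]
      refine sSup_le fun A hA => Subgroup.map_le_iff_le_comap.mp (le_sSup ⟨Subgroup.map_mono hA.1,
        isMulCommutative_map_of hA.2.1 f, (Subgroup.map_mono hA.2.2).trans (Subgroup.le_normalizer_map f)⟩)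
    · rintro B ⟨hBR, hBc, hBN⟩
      set A := R ⊓ B.comap f
      have hAB : A.map f = B := by
        refine le_antisymm ?_ fun y hy => ?_
        · rintro _ ⟨x, hx, rfl⟩; exact hx.2
        · obtain ⟨x, hx, rfl⟩ := hBR hy
          exact ⟨x, ⟨hx, hy⟩, rfl⟩
      rw [← hAB]
      refine Subgroup.map_mono (le_sSup ⟨inf_le_left, ⟨⟨fun x y => Subtype.ext ?_⟩⟩, ?_⟩)
      · have h := congrArg Subtype.val (hBc.is_comm.comm (⟨f x.1, x.2.2⟩ : B) ⟨f y.1, y.2.2⟩)
        change f x.1 * f y.1 = f y.1 * f x.1 at h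
        rw [← map_mul, ← map_mul] at h
        show x.1 * y.1 = y.1 * x.1
        exact mul_inv_eq_one.mp (hf _ (R.mul_mem (R.mul_mem x.2.1 y.2.1)
          (R.inv_mem (R.mul_mem y.2.1 x.2.1))) (by rw [map_mul, map_inv, h, mul_inv_cancel]))
      · intro x hx
        have hxR : x ∈ Subgroup.normalizer (R : Set G) := Subgroup.le_normalizer (puigIn_le R n hx)
        have hxB : x ∈ Subgroup.normalizer ((B.comap f : Subgroup G) : Set G) :=
          Subgroup.le_normalizer_comap f (show f x ∈ Subgroup.normalizer (B : Set H) from hBN ⟨x, hx, rfl⟩)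
        rw [Subgroup.mem_normalizer_iff] at hxR hxB ⊢
        exact fun y => and_congr (hxR y) (hxB y)

theorem normalizer_le_normalizer_puigIn (R : Subgroup G) (n : ℕ) :
    Subgroup.normalizer (R : Set G) ≤ Subgroup.normalizer (puigIn R n : Set G) := by
  intro g hg
  rw [Subgroup.mem_normalizer_iff_map_conj_eq] at hg ⊢
  rw [puigIn_map _ (fun x _ hx => (MulAut.conj g).injective (hx.trans (map_one _).symm)), hg]

theorem puigIn_eventually [Finite G] (R : Subgroup G) :
    ∃ k : ℕ, ∀ n : ℕ, k ≤ n → puigIn R (2 * n) = (Cfsg.puigLower R).map R.subtype ∧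
      puigIn R (2 * n + 1) = (Cfsg.puigSubgroup R).map R.subtype := by
  obtain ⟨k, hk⟩ := puigSeq_eventually (G := R)
  exact ⟨k, fun n hn => ⟨by rw [puigIn, (hk n hn).1], by rw [puigIn, (hk n hn).2]⟩⟩

/-- A term `L_i`, `i > 0`, contains its own centralizer in the `p`-group `R`. -/
theorem puigIn_centralizer_le [Finite G] {p : ℕ} [Fact p.Prime] {R : Subgroup G} (hR : IsPGroup p R)
    {i : ℕ} (hi : 0 < i) : R ⊓ Subgroup.centralizer (puigIn R i : Set G) ≤ puigIn R i := by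
  rintro x ⟨hxR, hxc⟩
  obtain ⟨A, -, hAn, hAc, hAC'⟩ := exists_normal_self_centralizing (G := R) hR ⊥ ⟨⟨fun x y => Subsingleton.elim _ _⟩⟩
  have hAC := hAC'.le
  have := hAn
  refine ⟨⟨x, hxR⟩, ?_, rfl⟩
  refine le_puigSeq_of_normal_abelian A hAc hi (hAC ?_)
  rw [Subgroup.mem_centralizer_iff]
  exact fun a ha => Subtype.ext (hxc a ⟨a, le_puigSeq_of_normal_abelian A hAc hi ha, rfl⟩)

variable [Finite G] [Group.IsSolvable G] {p : ℕ} [hp : Fact p.Prime]

/-- If `O_{p'}(G) = 1` and the normal `p`-subgroup `P` contains `C_{O_p(G)}(P)`, then `C_G(P)` is a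
`p`-group. -/
theorem isPGroup_centralizer_of_self_centralizing (hO : Cfsg.pPrimeCore p G = ⊥) {P : Subgroup G}
    (hP : P ≤ Cfsg.pCore p G) (hC : Cfsg.pCore p G ⊓ Subgroup.centralizer (P : Set G) ≤ P) :
    IsPGroup p (Subgroup.centralizer (P : Set G)) := by
  have hT := CfsgLib.Solvable.pCore_isPGroup (G := G) p
  have := CfsgLib.Solvable.pCore_normal p G
  set T := Cfsg.pCore p G
  obtain ⟨k, hk⟩ := IsPGroup.iff_card.mp hT
  have hp'1 : ∀ x ∈ Subgroup.centralizer (P : Set G), (orderOf x).Coprime p → x = 1 := by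
    intro x hx hord
    have hxT : x ∈ T := by
      refine CfsgLib.Solvable.centralizer_pCore_le p hO ?_
      refine le_centralizer_of_centralizer_fixed_le (H := T) (A := Subgroup.zpowers x)
        hT.isNilpotent (le_top.trans (Subgroup.normalizer_eq_top T).ge)
        (by rw [Nat.card_zpowers, hk]; exact hord.pow_right k) ?_ (Subgroup.mem_zpowers x)
      have hPf : P ≤ T ⊓ Subgroup.centralizer (Subgroup.zpowers x : Set G) := by
        refine le_inf hP (Subgroup.le_centralizer_iff.mp ?_)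
        rw [Subgroup.zpowers_le]
        exact hx
      exact (inf_le_inf_left T (Subgroup.centralizer_le hPf)).trans (hC.trans hPf)
    rw [← orderOf_eq_one_iff]
    exact Nat.eq_one_of_dvd_coprimes (hord.pow_right k) dvd_rfl (hk ▸ Subgroup.orderOf_dvd_natCard T hxT)
  rintro ⟨x, hx⟩
  refine ⟨(orderOf x).factorization p, Subtype.ext ?_⟩
  refine hp'1 _ (pow_mem hx _) ?_
  show (orderOf (x ^ _)).Coprime p
  rw [orderOf_pow' x (pow_ne_zero _ hp.out.ne_zero),
    Nat.gcd_eq_right (Nat.ordProj_dvd (orderOf x) p)]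
  exact (Nat.coprime_ordCompl hp.out (orderOf_pos x).ne').symm

theorem puigIn_compare (hodd : Odd (Nat.card G)) (hO : Cfsg.pPrimeCore p G = ⊥) (S : Sylow p G) :
    ∀ n : ℕ, puigIn (S : Subgroup G) (2 * n) ≤ puigIn (Cfsg.pCore p G) (2 * n) ∧
      puigIn (Cfsg.pCore p G) (2 * n + 1) ≤ puigIn (S : Subgroup G) (2 * n + 1) := by
  have hT := CfsgLib.Solvable.pCore_isPGroup (G := G) p
  have hTn := CfsgLib.Solvable.pCore_normal p G
  set T := Cfsg.pCore p G with hTdef
  have hTS : T ≤ (S : Subgroup G) := CfsgLib.Solvable.pCore_le_sylow S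
  have hodd_step : ∀ n, puigIn (S : Subgroup G) (2 * n) ≤ puigIn T (2 * n) →
      puigIn T (2 * n + 1) ≤ puigIn (S : Subgroup G) (2 * n + 1) := by
    intro n h
    rw [puigIn_succ, puigIn_succ]
    exact sSup_le_sSup fun A hA => ⟨hA.1.trans hTS, hA.2.1, h.trans hA.2.2⟩
  intro n
  induction n with
  | zero =>
    have h0 : puigIn (S : Subgroup G) (2 * 0) ≤ puigIn T (2 * 0) := by simp [puigIn_zero]
    exact ⟨h0, hodd_step 0 h0⟩
  | succ n ih =>
    have hev : puigIn (S : Subgroup G) (2 * (n + 1)) ≤ puigIn T (2 * (n + 1)) := by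
      rw [show 2 * (n + 1) = 2 * n + 1 + 1 from by ring, puigIn_succ (S : Subgroup G), puigIn_succ T]
      refine sSup_le fun A hA => le_sSup ⟨?_, hA.2.1, ih.2.trans hA.2.2⟩
      have hPn : (puigIn T (2 * n + 1)).Normal := Subgroup.normalizer_eq_top_iff.mp
        (top_le_iff.mp ((Subgroup.normalizer_eq_top T).ge.trans (normalizer_le_normalizer_puigIn T _)))
      set P := puigIn T (2 * n + 1)
      have hPT : P ≤ T := puigIn_le T _
      have hC := isPGroup_centralizer_of_self_centralizing (P := P) hO hPT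
        (puigIn_centralizer_le hT (Nat.succ_pos _))
      intro a ha
      exact comap_pCore_le _ hC (quadratic_mem_pCore hodd P (hT.to_le hPT) _ le_rfl fun x hx =>
        quad_of_normalizes hA.2.1 ha (hA.2.2 (ih.2 hx)))
    exact ⟨hev, hodd_step _ hev⟩

/-- `L_*(S) ≤ L_*(T) ≤ L(T) ≤ L(S)` for `T = O_p(G)`. -/
theorem puig_compare (hodd : Odd (Nat.card G)) (hO : Cfsg.pPrimeCore p G = ⊥) (S : Sylow p G) :
    (Cfsg.puigLower ↥(S : Subgroup G)).map (S : Subgroup G).subtype ≤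
        (Cfsg.puigLower ↥(Cfsg.pCore p G)).map (Cfsg.pCore p G).subtype ∧
      (Cfsg.puigLower ↥(Cfsg.pCore p G)).map (Cfsg.pCore p G).subtype ≤
        (Cfsg.puigSubgroup ↥(Cfsg.pCore p G)).map (Cfsg.pCore p G).subtype ∧
      (Cfsg.puigSubgroup ↥(Cfsg.pCore p G)).map (Cfsg.pCore p G).subtype ≤
        (Cfsg.puigSubgroup ↥(S : Subgroup G)).map (S : Subgroup G).subtype := by
  obtain ⟨k₁, h₁⟩ := puigIn_eventually (S : Subgroup G)
  obtain ⟨k₂, h₂⟩ := puigIn_eventually (Cfsg.pCore p G)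
  have h := puigIn_compare hodd hO S (max k₁ k₂)
  rw [(h₁ _ (le_max_left _ _)).1, (h₁ _ (le_max_left _ _)).2, (h₂ _ (le_max_right _ _)).1,
    (h₂ _ (le_max_right _ _)).2] at h
  exact ⟨h.1, Subgroup.map_mono puigLower_le_puigSubgroup, h.2⟩

omit [Group.IsSolvable G] hp in
/-- If `L(S) ≤ R ≤ S` then `L(R) = L(S)`. -/
theorem puigSubgroup_eq_of_le {R S : Subgroup G} (hRS : R ≤ S)
    (hL : (Cfsg.puigSubgroup S).map S.subtype ≤ R) :
    (Cfsg.puigSubgroup R).map R.subtype = (Cfsg.puigSubgroup S).map S.subtype := by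
  obtain ⟨k₁, h₁⟩ := puigIn_eventually S
  obtain ⟨k₂, h₂⟩ := puigIn_eventually R
  set L := (Cfsg.puigSubgroup S).map S.subtype
  set M := (Cfsg.puigLower S).map S.subtype
  have hM : M ≤ L := Subgroup.map_mono puigLower_le_puigSubgroup
  have hMev : ∀ n, puigIn S (2 * n) ≤ M := fun n =>
    Subgroup.map_mono (le_iSup (fun m => Cfsg.puigSeq S (2 * m)) n)
  have hstepM : L = sSup (puigFamily S M) := by
    rw [← (h₁ k₁ le_rfl).1, ← puigIn_succ, (h₁ k₁ le_rfl).2]
  have hstepL : M = sSup (puigFamily S L) := by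
    rw [← (h₁ k₁ le_rfl).2, ← puigIn_succ, show 2 * k₁ + 1 + 1 = 2 * (k₁ + 1) by ring,
      (h₁ (k₁ + 1) (Nat.le_succ _)).1]
  have key : ∀ n, (puigIn S (2 * n) ≤ puigIn R (2 * n) ∧ puigIn R (2 * n + 1) ≤ puigIn S (2 * n + 1)) ∧
      puigIn R (2 * n) ≤ M ∧ L ≤ puigIn R (2 * n + 1) := by
    have s1 : ∀ n, puigIn S (2 * n) ≤ puigIn R (2 * n) → puigIn R (2 * n + 1) ≤ puigIn S (2 * n + 1) := by
      intro n h
      rw [puigIn_succ, puigIn_succ]
      exact sSup_le_sSup fun A hA => ⟨hA.1.trans hRS, hA.2.1, h.trans hA.2.2⟩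
    have s2 : ∀ n, puigIn R (2 * n) ≤ M → L ≤ puigIn R (2 * n + 1) := by
      intro n h
      rw [puigIn_succ, hstepM]
      exact sSup_le fun A hA => le_sSup ⟨((le_sSup hA).trans hstepM.ge).trans hL, hA.2.1, h.trans hA.2.2⟩
    intro n
    induction n with
    | zero =>
      have a : puigIn S (2 * 0) ≤ puigIn R (2 * 0) := by simp [puigIn_zero]
      have b : puigIn R (2 * 0) ≤ M := by simp [puigIn_zero]
      exact ⟨⟨a, s1 0 a⟩, b, s2 0 b⟩
    | succ n ih =>
      obtain ⟨⟨-, ih1⟩, -, ih2⟩ := ih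
      have a : puigIn S (2 * (n + 1)) ≤ puigIn R (2 * (n + 1)) := by
        rw [show 2 * (n + 1) = 2 * n + 1 + 1 from by ring, puigIn_succ S, puigIn_succ R]
        refine sSup_le fun A hA => le_sSup ⟨?_, hA.2.1, ih1.trans hA.2.2⟩
        have : A ≤ puigIn S (2 * (n + 1)) := by
          rw [show 2 * (n + 1) = 2 * n + 1 + 1 from by ring, puigIn_succ S]; exact le_sSup hA
        exact ((this.trans (hMev _)).trans hM).trans hL
      have b : puigIn R (2 * (n + 1)) ≤ M := by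
        rw [show 2 * (n + 1) = 2 * n + 1 + 1 from by ring, puigIn_succ R, hstepL]
        exact sSup_le_sSup fun A hA => ⟨hA.1.trans hRS, hA.2.1, ih2.trans hA.2.2⟩
      exact ⟨⟨a, s1 _ a⟩, b, s2 _ b⟩
  obtain ⟨⟨-, ha⟩, -, hb⟩ := key (max k₁ k₂)
  rw [(h₁ _ (le_max_left _ _)).2, (h₂ _ (le_max_right _ _)).2] at ha
  rw [(h₂ _ (le_max_right _ _)).2] at hb
  exact le_antisymm ha hb

omit [Group.IsSolvable G] hp in
/-- `Z(L(S))` as a subgroup of `G`. -/
theorem center_puig_map (S : Subgroup G) :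
    ((Subgroup.center ↥(Cfsg.puigSubgroup S)).map (Cfsg.puigSubgroup S).subtype).map S.subtype =
      (Cfsg.puigSubgroup S).map S.subtype ⊓
        Subgroup.centralizer (((Cfsg.puigSubgroup S).map S.subtype : Subgroup G) : Set G) := by
  ext x
  constructor
  · rintro ⟨_, ⟨y, hy, rfl⟩, rfl⟩
    refine ⟨⟨_, y.2, rfl⟩, ?_⟩
    rintro _ ⟨z, hz, rfl⟩
    exact congrArg (fun w : Cfsg.puigSubgroup S => ((w : S) : G)) (Subgroup.mem_center_iff.mp hy ⟨z, hz⟩)
  · rintro ⟨⟨y, hy, rfl⟩, hc⟩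
    exact ⟨y, ⟨⟨y, hy⟩, Subgroup.mem_center_iff.mpr fun z =>
      Subtype.ext (Subtype.ext (hc _ ⟨z, z.2, rfl⟩)), rfl⟩, rfl⟩

/-- Puig's theorem: `Z(L(S))` is normal when `O_{p'}(G) = 1`. -/
theorem center_puig_normal (hodd : Odd (Nat.card G)) (hO : Cfsg.pPrimeCore p G = ⊥) (S : Sylow p G) :
    ((Cfsg.puigSubgroup ↥(S : Subgroup G)).map (S : Subgroup G).subtype ⊓
      Subgroup.centralizer (((Cfsg.puigSubgroup ↥(S : Subgroup G)).map (S : Subgroup G).subtype
        : Subgroup G) : Set G)).Normal := by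
  have hT := CfsgLib.Solvable.pCore_isPGroup (G := G) p
  have hTn := CfsgLib.Solvable.pCore_normal p G
  set T := Cfsg.pCore p G with hTdef
  have hTS : T ≤ (S : Subgroup G) := CfsgLib.Solvable.pCore_le_sylow S
  obtain ⟨k₁, h₁⟩ := puigIn_eventually (S : Subgroup G)
  obtain ⟨k₂, h₂⟩ := puigIn_eventually T
  set L := (Cfsg.puigSubgroup ↥(S : Subgroup G)).map (S : Subgroup G).subtype with hLdef
  set Y := L ⊓ Subgroup.centralizer (L : Set G)
  set L' := (Cfsg.puigSubgroup ↥T).map T.subtype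
  set M := (Cfsg.puigLower ↥(S : Subgroup G)).map (S : Subgroup G).subtype
  have hLS : L ≤ (S : Subgroup G) := Subgroup.map_subtype_le _
  have hL'L : L' ≤ L := (puig_compare hodd hO S).2.2
  have hL'n : L'.Normal := by
    refine Subgroup.normalizer_eq_top_iff.mp (top_le_iff.mp ?_)
    have := normalizer_le_normalizer_puigIn T (2 * k₂ + 1)
    rw [(h₂ _ le_rfl).2] at this
    exact (Subgroup.normalizer_eq_top T).ge.trans this
  have hnormY : ∀ g : G, g ∈ Subgroup.normalizer (L : Set G) → g ∈ Subgroup.normalizer (Y : Set G) := by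
    intro g hg
    have hc := Subgroup.mem_normalizer_iff_map_conj_eq.mp hg
    refine Subgroup.mem_normalizer_iff.mpr fun x => and_congr (Subgroup.mem_normalizer_iff.mp hg x) ?_
    constructor
    · intro h
      rintro l hl
      have h1 : g⁻¹ * l * g ∈ L := (Subgroup.mem_normalizer_iff''.mp hg l).mp hl
      have := ((show Commute (g⁻¹ * l * g) x from h _ h1).map (MulAut.conj g).toMonoidHom).eq
      simpa [mul_assoc] using this
    · intro h l hl
      have h1 : g * l * g⁻¹ ∈ L := (Subgroup.mem_normalizer_iff.mp hg l).mp hl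
      have := ((show Commute (g * l * g⁻¹) (g * x * g⁻¹) from h _ h1).map (MulAut.conj g⁻¹).toMonoidHom).eq
      simpa [mul_assoc] using this
  have hSY : (S : Subgroup G) ≤ Subgroup.normalizer (Y : Set G) := fun s hs => hnormY s (by
    have := normalizer_le_normalizer_puigIn (S : Subgroup G) (2 * k₁ + 1)
    rw [(h₁ _ le_rfl).2] at this
    exact this (Subgroup.le_normalizer hs))
  have hYc : IsMulCommutative Y := ⟨⟨fun x y => Subtype.ext (y.2.2 x.1 x.2.1)⟩⟩
  have hYT : Y ≤ T := by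
    intro a ha
    exact comap_pCore_le _ (hT.to_le (CfsgLib.Solvable.centralizer_pCore_le p hO))
      (quadratic_mem_pCore hodd T hT _ le_rfl fun x hx => quad_of_normalizes hYc ha (hSY (hTS hx)))
  -- the normal abelian subgroup `W = Z(L(T))`
  set W := L' ⊓ Subgroup.centralizer (L' : Set G)
  have hWn : W.Normal := by
    have : (Subgroup.centralizer (L' : Set G)).Normal := Subgroup.normal_centralizer
    exact Subgroup.normal_inf_normal _ _
  have hWc : IsMulCommutative W := ⟨⟨fun x y => Subtype.ext (y.2.2 x.1 x.2.1)⟩⟩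
  have hYW : Y ≤ W := by
    refine le_inf (fun x hx => ?_) (inf_le_right.trans (Subgroup.centralizer_le hL'L))
    have hL'eq : puigIn T (2 * k₂ + 1) = L' := (h₂ _ le_rfl).2
    show x ∈ L'
    rw [← hL'eq]
    refine puigIn_centralizer_le hT (Nat.succ_pos _) ⟨hYT hx, ?_⟩
    rw [hL'eq]
    exact Subgroup.centralizer_le hL'L hx.2
  have hWS : W ≤ (S : Subgroup G) := inf_le_left.trans ((Subgroup.map_subtype_le _).trans hTS)
  have hWM : W ≤ M := by
    rw [← (h₁ (k₁ + 1) (Nat.le_succ _)).1, show 2 * (k₁ + 1) = 2 * k₁ + 1 + 1 by ring, puigIn_succ]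
    exact le_sSup ⟨hWS, hWc, le_top.trans (Subgroup.normalizer_eq_top W).ge⟩
  set C := Subgroup.centralizer (W : Set G)
  set K := (Cfsg.pCore p (G ⧸ C)).comap (QuotientGroup.mk' C) with hKdef
  have := CfsgLib.Solvable.pCore_normal p (G ⧸ C)
  have hKn : K.Normal := Subgroup.Normal.comap inferInstance _
  have hLK : L ≤ K := by
    have e : puigIn (S : Subgroup G) (2 * k₁ + 1) = L := (h₁ k₁ le_rfl).2
    rw [← e, puigIn_succ, (h₁ k₁ le_rfl).1]
    refine sSup_le fun A hA a ha => ?_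
    exact quadratic_mem_pCore hodd W (S.2.to_le hWS) C le_rfl fun x hx =>
      quad_of_normalizes hA.2.1 ha (hA.2.2 (hWM hx))
  set R := (S : Subgroup G) ⊓ K
  have hRL : (Cfsg.puigSubgroup ↥R).map R.subtype = L := puigSubgroup_eq_of_le inf_le_left (le_inf hLS hLK)
  refine Subgroup.normalizer_eq_top_iff.mp (top_le_iff.mp fun g _ => ?_)
  obtain ⟨c, hc, n, hn, rfl⟩ := CfsgLib.PLocal.frattini_mul S K g
  refine Subgroup.mul_mem _ ?_ (hnormY n ?_)
  · obtain ⟨s, hs, hsc⟩ :=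
      CfsgLib.Solvable.pCore_le_sylow (S.mapSurjective (QuotientGroup.mk'_surjective C)) hc
    have h1 : s⁻¹ * c ∈ C := QuotientGroup.eq.mp hsc
    have h2 : s⁻¹ * c ∈ Subgroup.normalizer (Y : Set G) :=
      Subgroup.centralizer_le_normalizer _ (Subgroup.centralizer_le hYW h1)
    simpa using Subgroup.mul_mem _ (hSY hs) h2
  · obtain ⟨k₃, h₃⟩ := puigIn_eventually R
    have := normalizer_le_normalizer_puigIn R (2 * k₃ + 1) hn
    rwa [(h₃ _ le_rfl).2, hRL] at this

omit [Group.IsSolvable G] hp in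
/-- The image of `L(S)` under a map injective on `S`. -/
theorem puigSubgroup_map [Finite H] (f : G →* H) {S : Subgroup G} (hf : ∀ x ∈ S, f x = 1 → x = 1) :
    ((Cfsg.puigSubgroup S).map S.subtype).map f =
      (Cfsg.puigSubgroup (S.map f : Subgroup H)).map (S.map f).subtype := by
  obtain ⟨k₁, h₁⟩ := puigIn_eventually S
  obtain ⟨k₂, h₂⟩ := puigIn_eventually (S.map f)
  rw [← (h₁ _ (le_max_left k₁ k₂)).2, ← (h₂ _ (le_max_right k₁ k₂)).2, puigIn_map f hf]

/-- `G = O_{p'}(G) N_G(Z(L(S)))`. -/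
theorem puig_factorization (hodd : Odd (Nat.card G)) (S : Sylow p G) :
    Cfsg.pPrimeCore p G ⊔ Subgroup.normalizer
      ((((Cfsg.puigSubgroup ↥(S : Subgroup G)).map (S : Subgroup G).subtype ⊓
        Subgroup.centralizer (((Cfsg.puigSubgroup ↥(S : Subgroup G)).map (S : Subgroup G).subtype
          : Subgroup G) : Set G)) : Subgroup G) : Set G) = ⊤ := by
  have hOn := CfsgLib.Solvable.pPrimeCore_normal p G
  set O := Cfsg.pPrimeCore p G
  set f := QuotientGroup.mk' O
  have hf : ∀ x ∈ (S : Subgroup G), f x = 1 → x = 1 := fun x hx h =>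
    eq_one_of_mem_pPrimeCore_of_mem_pgroup S.2 ((QuotientGroup.eq_one_iff x).mp h) hx
  set L := (Cfsg.puigSubgroup ↥(S : Subgroup G)).map (S : Subgroup G).subtype
  set Z := L ⊓ Subgroup.centralizer (L : Set G)
  have hLS : L ≤ (S : Subgroup G) := Subgroup.map_subtype_le _
  have hmap : Z.map f = L.map f ⊓ Subgroup.centralizer ((L.map f : Subgroup (G ⧸ O)) : Set (G ⧸ O)) := by
    ext y
    constructor
    · rintro ⟨x, ⟨hx, hxc⟩, rfl⟩
      refine ⟨⟨x, hx, rfl⟩, ?_⟩
      rintro _ ⟨z, hz, rfl⟩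
      rw [← map_mul, ← map_mul, hxc z hz]
    · rintro ⟨⟨x, hx, rfl⟩, hxc⟩
      refine ⟨x, ⟨hx, fun z hz => ?_⟩, rfl⟩
      exact mul_inv_eq_one.mp (hf ((z * x) * (x * z)⁻¹) (Subgroup.mul_mem _
          (Subgroup.mul_mem _ (hLS hz) (hLS hx)) (Subgroup.inv_mem _ (Subgroup.mul_mem _ (hLS hx) (hLS hz))))
        (by rw [map_mul, map_inv, map_mul, map_mul, hxc (f z) ⟨z, hz, rfl⟩, mul_inv_cancel]))
  have hn : (Z.map f).Normal := by
    rw [hmap, puigSubgroup_map f hf]
    exact center_puig_normal (hodd.of_dvd_nat (Subgroup.card_quotient_dvd_card O))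
      (CfsgLib.Solvable.pPrimeCore_quotient_eq_bot p) (S.mapSurjective (QuotientGroup.mk'_surjective O))
  have hM : (Z ⊔ O).Normal := sup_pPrimeCore_normal Z hn
  have hSM : (S : Subgroup G) ⊓ (Z ⊔ O) = Z := by
    refine le_antisymm ?_ (le_inf (inf_le_left.trans hLS) le_sup_left)
    rintro x ⟨hxS, hxM⟩
    obtain ⟨z, hz, o, ho, rfl⟩ := (CfsgLib.Coprime.mem_sup_of_le_normalizer'
      (le_top.trans (Subgroup.normalizer_eq_top O).ge)).mp ((sup_comm Z O) ▸ hxM)
    have : o = 1 := by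
      refine eq_one_of_mem_pPrimeCore_of_mem_pgroup S.2 ho ?_
      simpa using Subgroup.mul_mem _ (Subgroup.inv_mem _ (hLS hz.1)) hxS
    rw [this, mul_one]; exact hz
  refine top_le_iff.mp fun g _ => ?_
  obtain ⟨c, hc, n, hn', rfl⟩ := CfsgLib.PLocal.frattini_mul S (Z ⊔ O) g
  rw [hSM] at hn'
  exact Subgroup.mul_mem _
    ((sup_le (Subgroup.le_normalizer.trans le_sup_right) le_sup_left : Z ⊔ O ≤ _) hc)
    (Subgroup.mem_sup_right hn')

end CfsgLib.OddLocal
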