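import Cfsg.Agent.Lib.OddLocal.SCNUniqueTools

/-!
`SCN₃` subgroups of a minimal simple group of odd order are uniqueness subgroups.
-/

set_option autoImplicit false
set_option linter.style.haveILetI false

open Subgroup
open scoped commutatorElement

namespace CfsgLib.OddLocal

universe u
variable {G : Type u} [Group G] [Finite G] {p : ℕ} [hp : Fact p.Prime]

/-- If `O_r(H)` has rank at most two for all `r` then `H' ≤ F(H)`. -/
theorem commutator_le_fittingOf_of_parts (hG : Cfsg.IsMinSimpleOddOrder G) {H : Subgroup G} (hH : H ≠ ⊤)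
    (h : ∀ r : ℕ, r.Prime → Cfsg.PRankLE r 2 ↥(fPart H r)) : ⁅H, H⁆ ≤ Cfsg.fittingOf H := by
  haveI := minSimple_isSolvable hG hH
  have hle : _root_.commutator H ≤ Cfsg.fittingSubgroup H := by
    refine commutator_le_fitting fun r hr y hy hyr => centralizes_pCore_of_rank_two (minSimple_odd hG H) hr ?_ hy hyr
    intro C hC hCe
    haveI := Fact.mk hr
    have hle : (Cfsg.pCore r H).map H.subtype ≤ fPart H r := by
      refine map_mono (le_piCore (CfsgLib.Solvable.pCore_normal r H) fun d hd hdd => ?_)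
      exact prime_dvd_pGroup (CfsgLib.Solvable.pCore_isPGroup (G := H) r) hd hdd
    let ι : Cfsg.pCore r H →* fPart H r :=
      (inclusion hle).comp ((Cfsg.pCore r H).equivMapOfInjective H.subtype H.subtype_injective).toMonoidHom
    have hι : Function.Injective ι := (inclusion_injective hle).comp (MulEquiv.injective _)
    rw [← card_map_of_injective (f := ι) (K := C) hι]
    refine h r hr _ (haveI := hC; inferInstance) ?_
    rintro _ ⟨x, hx, rfl⟩
    rw [← map_pow, hCe x hx, map_one]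
  rintro x hx
  have hx' : x ∈ (_root_.commutator H).map H.subtype := by
    rw [_root_.commutator_def, Subgroup.map_commutator, ← MonoidHom.range_eq_map, range_subtype]
    exact hx
  exact map_mono hle hx'

/-- Two proper subgroups do not cover a subgroup. -/
theorem exists_not_mem_two {D D₁ D₂ : Subgroup G} (h₁ : ¬ D ≤ D₁) (h₂ : ¬ D ≤ D₂) :
    ∃ x ∈ D, x ∉ D₁ ∧ x ∉ D₂ := by
  obtain ⟨x, hx, hx1⟩ := SetLike.not_le_iff_exists.1 h₁
  obtain ⟨y, hy, hy2⟩ := SetLike.not_le_iff_exists.1 h₂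
  by_cases hx2 : x ∈ D₂
  · by_cases hy1 : y ∈ D₁
    · refine ⟨x * y, mul_mem hx hy, fun h => hx1 ?_, fun h => hy2 ?_⟩
      · simpa using mul_mem h (inv_mem hy1)
      · simpa using mul_mem (inv_mem hx2) h
    · exact ⟨y, hy, hy1, hy2⟩
  · exact ⟨x, hx, hx1, hx2⟩

/-- Two distinct hyperplanes are incomparable. -/
theorem not_le_of_hyperplane {B D₁ D₂ : Subgroup G} (h₁ : D₁ ≤ B ∧ D₁.relIndex B = p)
    (h₂ : D₂ ≤ B ∧ D₂.relIndex B = p) (hne : D₁ ≠ D₂) : ¬ D₁ ≤ D₂ := by
  intro hle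
  have h1 := relIndex_mul_relIndex ⊥ D₁ B bot_le h₁.1
  have h2 := relIndex_mul_relIndex ⊥ D₂ B bot_le h₂.1
  rw [relIndex_bot_left, relIndex_bot_left, h₁.2] at h1
  rw [relIndex_bot_left, relIndex_bot_left, h₂.2, ← h1] at h2
  exact hne (eq_of_le_of_card_ge hle (Nat.eq_of_mul_eq_mul_right hp.out.pos h2).le)

theorem hyperplane_card {B D : Subgroup G} (hB3 : p ^ 3 ≤ Nat.card B) (hD : D ≤ B)
    (hi : D.relIndex B = p) : p ^ 2 ≤ Nat.card D := by
  have h1 := relIndex_mul_relIndex ⊥ D B bot_le hD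
  rw [relIndex_bot_left, relIndex_bot_left, hi] at h1
  refine Nat.le_of_mul_le_mul_right ?_ hp.out.pos
  calc p ^ 2 * p = p ^ 3 := by ring
    _ ≤ _ := hB3.trans h1.ge

theorem scn_three_uniqueMax (hG : Cfsg.IsMinSimpleOddOrder G) (P : Sylow p G) {A : Subgroup G}
    (hA : Cfsg.IsSCN (P : Subgroup G) A) (hA3 : ¬ Cfsg.PRankLE p 2 A) : Cfsg.InUniqueMaximal A := by
  classical
  have hpr := hp.out
  have hAc : IsMulCommutative A :=
    ⟨⟨fun x y => Subtype.ext (mem_centralizer_iff.1 (hA.2.2.ge y.2).2 x x.2)⟩⟩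
  have hAp : IsPGroup p A := P.2.to_le hA.1
  have hA1 : ¬ Cfsg.PRankLE p 1 A := fun h => hA3 (pRankLE_mono one_le_two h)
  have hAne : A ≠ ⊥ := fun h => hA1 fun C _ _ => by
    subst h
    exact (card_le_card_group _).trans (card_bot.le.trans (Nat.one_le_pow _ _ hpr.pos))
  have hS : TransSetup p A := ⟨hAp, hAc,
    Cfsg.Agent.S1396.result hG p (dvd_card_of_pGroup_ne_bot hAp hAne) A hAp hAc (Or.inr ⟨P, hA, hA1⟩), hA3⟩
  have hp2 : p ≠ 2 := ne_two_of_dvd hG hS.dvd
  by_contra hU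
  obtain ⟨B, hBA, hBe, hB3'⟩ := exists_elemAb_of_not_pRankLE hA3
  have hB3 : p ^ 3 ≤ Nat.card B := hB3'
  have hBc := hBe.1
  have hBp := CfsgLib.Comp.isPGroup_of_elemAb hBe
  have hBne : B ≠ ⊥ := fun h => by
    rw [h, card_bot] at hB3
    have := Nat.one_lt_pow (show 3 ≠ 0 by norm_num) hpr.one_lt
    omega
  -- no uniqueness subgroup of rank two centralized by `A`
  have h1 : ∀ D : Subgroup G, D ≤ A → ¬ Cfsg.InUniqueMaximal D := fun D hDA hD =>
    hU (inUniqueMax_of_centralizes (p := p) hG hD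
      (le_centralizer_iff.1 (hDA.trans (le_centralizer_self hAc))) hA1)
  have hbigp : ∀ N : Subgroup G, IsCoatom N → ∀ r : ℕ, IsBigPart N r → r ≠ p := by
    intro N hN r hr hrp
    subst hrp
    exact h1 B hBA (hr.uniqueMax hG hN hBe hB3)
  have h3 : ∀ N : Subgroup G, IsCoatom N → A ≤ N → ∃ Y : Subgroup G, (Nat.card Y).Coprime p ∧
      A ≤ normalizer (Y : Set G) ∧ ¬ Y ≤ N := by
    intro N hN hAN
    by_contra hall
    push Not at hall
    exact hU (inUniqueMax_of_signalizers hG hN hAp hAne hAN hall)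
  -- the maximal subgroup over `N(Z(J(P)))`
  set Z := Cfsg.centerThompsonOf p (P : Subgroup G)
  have hPne : (P : Subgroup G) ≠ ⊥ := fun h => hAne (le_bot_iff.1 (h ▸ hA.1))
  have hPtop : (P : Subgroup G) ≠ ⊤ := fun h => by
    have hGp : IsPGroup p G := (h ▸ P.2 : IsPGroup p ↥(⊤ : Subgroup G)).of_equiv topEquiv
    obtain ⟨x, -, hx1⟩ := CfsgLib.Comp.exists_mem_ne_one hAne
    haveI : Nontrivial G := ⟨⟨x, 1, hx1⟩⟩
    exact hGp.bot_lt_center.ne' (minSimple_center_eq_bot hG)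
  obtain ⟨M, hM, hNM⟩ := exists_coatom_ge (minSimple_normalizer_ne_top hG
    (CfsgLib.Char.centerThompsonOf_ne_bot P.2 hPne)
    (fun h => hPtop (top_le_iff.1 (h.ge.trans (centerThompsonOf_le _)))))
  have hPM' : (P : Subgroup G) ≤ ⁅M, M⁆ :=
    (sylow_le_commutator_normalizer hG P).trans (commutator_mono hNM hNM)
  have hPM : (P : Subgroup G) ≤ M :=
    (le_normalizer.trans (normalizer_le_normalizer_centerThompsonOf _)).trans hNM
  have hAM : A ≤ M := hA.1.trans hPM
  have hBM : B ≤ M := hBA.trans hAM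
  obtain ⟨q, hq⟩ : ∃ q, IsBigPart M q := by
    by_contra hall
    push Not at hall
    have hle := commutator_le_fittingOf_of_parts hG hM.1 fun r hr => by
      by_contra h
      exact hall r ⟨hr, h⟩
    exact hall p ⟨hpr, not_pRankLE_of_le_elemAb (k := 2) hBe
      ((hBA.trans hA.1).trans (le_fPart_of_pGroup M P.2 (hPM'.trans hle))) hB3⟩
  haveI := Fact.mk hq.1
  have hqp := hbigp M hM q hq
  have hq2 := ne_two_of_dvd hG hq.dvd
  obtain ⟨W, hWM, hWp, -, hMW, hWnc, hWU, hWC⟩ := hq.exists_witness hG hM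
  obtain ⟨c, hcB, hc1, hcM⟩ := hq.exists_centralizer_le hG hM hqp hBe hB3 hBM
  -- a maximal subgroup over each centralizer
  have hcent : ∀ a ∈ B, ∀ H : Subgroup G, centralizer ({a} : Set G) ≤ H → A ≤ H :=
    fun a ha H h => (hS.le_centralizer (hBA ha)).trans h
  let Good : G → Prop := fun b => b ∈ B ∧ b ≠ 1 ∧ ∀ Y : Subgroup G, (Nat.card Y).Coprime p →
    A ≤ normalizer (Y : Set G) → Y ≤ centralizer ({b} : Set G) → Y ≤ M
  have hcgood : Good c := ⟨hcB, hc1, fun Y _ _ hY => hY.trans hcM⟩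
  have hAn : ∀ (Y : Subgroup G), A ≤ normalizer (Y : Set G) → ∀ S : Set G, S ⊆ A →
      A ≤ normalizer ((Y ⊓ centralizer S : Subgroup G) : Set G) := fun Y hY S hS' =>
    (le_inf hY (((le_centralizer_self hAc).trans (centralizer_le hS')).trans le_normalizer)).trans
      inf_normalizer_le_normalizer_inf
  -- some hyperplane has no good element
  have hnogood : ∃ D : Subgroup G, D ≤ B ∧ D.relIndex B = p ∧ ∀ b ∈ D, ¬ Good b := by
    by_contra hall
    push Not at hall
    obtain ⟨Y, hY, hAY, hYM⟩ := h3 M hM hAM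
    refine hYM ?_
    rw [CfsgLib.Comp.eq_iSup_centralizer_hyperplane hBe hBne
      (fun hd => hpr.ne_one (Nat.eq_one_of_dvd_coprimes hY hd dvd_rfl)) (hBA.trans hAY)]
    refine iSup_le ?_
    rintro ⟨D, hD, hDi⟩
    obtain ⟨b, hbD, hb⟩ := hall D hD hDi
    exact (inf_le_inf_left _ (centralizer_le_singleton hbD)).trans
      (hb.2.2 _ (hY.coprime_dvd_left (card_dvd_of_le inf_le_left))
        (hAn Y hAY _ (Set.singleton_subset_iff.2 (hBA hb.1))) inf_le_right)
  let Moved : Subgroup G → Prop := fun D =>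
    (D ≤ B ∧ D.relIndex B = p) ∧ ¬ W ⊓ centralizer (D : Set G) ≤ centralizer (B : Set G)
  have hBW : B ≤ normalizer (W : Set G) := hBM.trans hMW
  have hpW : ¬ p ∣ Nat.card W := fun hd => hqp.symm (prime_dvd_pGroup hWp hpr hd)
  -- `V = [C_W(D), B]`
  have hVfacts : ∀ D : Subgroup G, Moved D → ∀ a ∈ D, a ≠ 1 → ∀ H : Subgroup G,
      centralizer ({a} : Set G) ≤ H →
      ⁅W ⊓ centralizer (D : Set G), B⁆ ≤ W ⊓ centralizer (D : Set G) ∧
      ⁅W ⊓ centralizer (D : Set G), B⁆ ≠ ⊥ ∧ W ⊓ centralizer (D : Set G) ≤ H := by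
    intro D hD a ha ha1 H hH
    refine ⟨le_normalizer_iff_commutator_le_left.mp ?_, fun h => hD.2 (commutator_eq_bot_iff_le_centralizer.1 h),
      inf_le_right.trans ((centralizer_le_singleton ha).trans hH)⟩
    exact (le_inf hBW (((le_centralizer_self hBc).trans (centralizer_le hD.1.1)).trans le_normalizer)).trans
      inf_normalizer_le_normalizer_inf
  -- a centralizer of a bad element of a moved hyperplane gives a second big maximal subgroup
  have hbig : ∀ D : Subgroup G, Moved D → ∀ a ∈ D, a ≠ 1 → ¬ Good a → ∀ H : Subgroup G, IsCoatom H →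
      centralizer ({a} : Set G) ≤ H → ∃ r : ℕ, IsBigPart H r ∧ H ≠ M := by
    intro D hD a ha ha1 hgood H hH haH
    by_contra hall
    push Not at hall
    have haB := hD.1.1 ha
    by_cases hHM : H = M
    · exact hgood ⟨haB, ha1, fun Y _ _ hY => hY.trans (hHM ▸ haH)⟩
    have hsmall : ∀ r : ℕ, r.Prime → Cfsg.PRankLE r 2 ↥(fPart H r) := fun r hr => by
      by_contra h
      exact hHM (hall r ⟨hr, h⟩)
    have hder := commutator_le_fittingOf_of_parts hG hH.1 hsmall
    have hAH := hcent a haB H haH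
    obtain ⟨hVle, hVne, hSH⟩ := hVfacts D hD a ha ha1 H haH
    set V := ⁅W ⊓ centralizer (D : Set G), B⁆
    have hVq : IsPGroup q V := hWp.to_le (hVle.trans inf_le_left)
    have hVF : V ≤ fPart H q :=
      le_fPart_of_pGroup H hVq ((commutator_mono hSH (hBA.trans hAH)).trans hder)
    obtain ⟨v, hv, hv1⟩ := CfsgLib.Comp.exists_mem_ne_one hVne
    have hFM : Cfsg.fittingOf H ≤ M := by
      refine fittingOf_le_of_parts H fun s hs => ?_
      haveI := Fact.mk hs
      by_cases hsq : s = q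
      · subst hsq
        exact hq.inv_le hG hS hM hqp hAM (hBA hcB) hcM (isPGroup_fPart H s)
          (hAH.trans (le_normalizer_fPart H s))
      · exact ((fPart_commute H hsq).trans (centralizer_le_singleton (hVF hv))).trans
          (hWC v (hVle hv).1 hv1)
    have hLn : B ≤ normalizer (oPrime p H : Set G) :=
      (hBA.trans hAH).trans (le_normalizer.trans (le_normalizer_piCoreOf _ _))
    obtain ⟨n, hn⟩ := IsPGroup.iff_card.1 hBp
    have hLM : oPrime p H ≤ M := by
      rw [← CfsgLib.Coprime.commutator_sup_centralizer hLn (hn ▸ ((coprime_oPrime (p := p) H).symm.pow_left n))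
        (Or.inl (haveI := hBp.isNilpotent; inferInstance))]
      refine sup_le ?_ (inf_le_right.trans ((centralizer_le_singleton hcB).trans hcM))
      exact ((commutator_mono (piCoreOf_le _ _) (hBA.trans hAH)).trans hder).trans hFM
    exact hgood ⟨haB, ha1, fun Y hY hAY hYa =>
      (le_oPrime_of_transHyp hS.th hAp hH.1 hAH (hYa.trans haH) hAY hY).trans hLM⟩
  -- invariant subgroups of `M` seen from another big maximal subgroup
  have hnomoved : ∀ H : Subgroup G, IsCoatom H → ∀ (r : ℕ) [Fact r.Prime], IsBigPart H r → H ≠ M →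
      ∀ a ∈ B, centralizer ({a} : Set G) ≤ H → ∀ Y : Subgroup G, IsPGroup r Y → Y ≤ M →
      B ≤ normalizer (Y : Set G) → Y ≤ centralizer (B : Set G) := by
    intro H hH r _ hr hne a ha haH Y hY hYM hBY
    exact le_centralizer_of_other_big hG hS hH hr (hbigp H hH r hr) (hcent a ha H haH) (hBA ha) haH
      hM hAM hne hBp ((hBA.trans hA.1).trans hPM') hY hYM hBY
  -- every good element lies in every moved hyperplane having a bad element
  have hgoodin : ∀ D : Subgroup G, Moved D → (∃ a ∈ D, a ≠ 1 ∧ ¬ Good a) → ∀ e, Good e → e ∈ D := by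
    rintro D hD ⟨a, ha, ha1, hbad⟩ e he
    by_contra heD
    have haB := hD.1.1 ha
    obtain ⟨H, hH, haH⟩ := exists_coatom_ge (minSimple_centralizer_singleton_ne_top hG ha1)
    obtain ⟨r, hr, hne⟩ := hbig D hD a ha ha1 hbad H hH haH
    haveI := Fact.mk hr.1
    have hrp := hbigp H hH r hr
    have hAH := hcent a haB H haH
    have hrq : r ≠ q := by
      rintro rfl
      obtain ⟨E, hE, hEe, hE3, -⟩ := hr.exists_elem hG hH
      exact hne (hq.eq_of_rank hG hS hM hqp hAM (hBA hcB) hcM hH hAH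
        (not_pRankLE_of_le_elemAb (k := 2) hEe (hE.trans (fPart_le _ _)) hE3))
    obtain ⟨X, hXH, hXp, -, hHX, hXnc, hXU, -⟩ := hr.exists_witness hG hH
    obtain ⟨hVle, hVne, hSH⟩ := hVfacts D hD a ha ha1 H haH
    have hSB : B ≤ normalizer ((W ⊓ centralizer (D : Set G) : Subgroup G) : Set G) :=
      (le_inf hBW (((le_centralizer_self hBc).trans (centralizer_le hD.1.1)).trans le_normalizer)).trans
        inf_normalizer_le_normalizer_inf
    have hSp : IsPGroup q ↥(W ⊓ centralizer (D : Set G)) := hWp.to_le inf_le_left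
    have hVV : ⁅⁅W ⊓ centralizer (D : Set G), B⁆, B⁆ = ⁅W ⊓ centralizer (D : Set G), B⁆ :=
      CfsgLib.Coprime.commutator_commutator_eq hSB
        (coprime_of_pGroups hBp hSp hqp.symm) (Or.inl (haveI := hBp.isNilpotent; inferInstance))
    have hXV : ¬ X ≤ centralizer ((⁅W ⊓ centralizer (D : Set G), B⁆ : Subgroup G) : Set G) := by
      intro hc
      obtain ⟨v, hv, hv1⟩ := CfsgLib.Comp.exists_mem_ne_one hVne
      exact hne (eq_of_inUniqueMax (hXU X le_rfl hXnc) hM
        ((hc.trans (centralizer_le_singleton hv)).trans (hWC v (hVle hv).1 hv1)) hH hXH)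
    refine not_le_centralizer_of_moved hG hrp hqp hrq hp2 (ne_two_of_dvd hG hr.dvd) hq2 hH hXH hXp hHX
      hXU (hSp.to_le hVle) (hVle.trans hSH) (hBA.trans hAH) (normalizer_commutator_ge_right _ _) hVV hBe hB3
      hD.1.1 hD.1.2 (le_centralizer_iff.1 (hVle.trans inf_le_right)) (h1 D (hD.1.1.trans hBA)) hXV
      he.1 heD (hnomoved H hH r hr hne a haB haH _ (hXp.to_le inf_le_left) ?_ ?_)
    · exact he.2.2 _ (singleton_eq_of_prime (hXp.to_le inf_le_left) hrp)
        (hAn X (hAH.trans hHX) _ (Set.singleton_subset_iff.2 (hBA he.1))) inf_le_right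
    · exact hBA.trans (hAn X (hAH.trans hHX) _ (Set.singleton_subset_iff.2 (hBA he.1)))
  have hne1 : ∀ D : Subgroup G, D ≤ B → D.relIndex B = p → ∀ D' : Subgroup G, D' ≤ B → D'.relIndex B = p →
      ∃ d ∈ D, d ∈ D' ∧ d ≠ 1 := by
    intro D hD hDi D' hD' hD'i
    have hne : D ⊓ D' ≠ ⊥ := by
      intro hbot
      have h' := Subgroup.relIndex_inf_le (H := D) (K := D') (L := B)
      rw [hbot, relIndex_bot_left, hDi, hD'i] at h'
      have : p * p < p ^ 3 := by
        rw [← sq]; exact Nat.pow_lt_pow_right hpr.one_lt (by norm_num)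
      omega
    obtain ⟨d, hd, hd1⟩ := CfsgLib.Comp.exists_mem_ne_one hne
    exact ⟨d, hd.1, hd.2, hd1⟩
  have hmovedgood : ∀ D : Subgroup G, Moved D → ∀ e, Good e → e ∈ D := by
    intro D hD
    refine hgoodin D hD ?_
    obtain ⟨D₀, hD₀, hD₀i, hno⟩ := hnogood
    obtain ⟨d, hd, hd', hd1⟩ := hne1 D hD.1.1 hD.1.2 D₀ hD₀ hD₀i
    exact ⟨d, hd, hd1, hno d hd'⟩
  have hgen := CfsgLib.Comp.eq_iSup_centralizer_hyperplane hBe hBne hpW hBW
  -- two moved hyperplanes
  obtain ⟨D₁, hD₁⟩ : ∃ D, Moved D := by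
    by_contra hall
    push Not at hall
    have hWB : W ≤ centralizer (B : Set G) := by
      rw [hgen]
      refine iSup_le fun D => ?_
      by_contra h
      exact hall D.1 ⟨D.2, h⟩
    obtain ⟨Y, hY, hAY, hYM⟩ := h3 M hM hAM
    refine hYM ?_
    obtain ⟨n, hn⟩ := IsPGroup.iff_card.1 hBp
    rw [← CfsgLib.Coprime.iSup_centralizer_eq hBc (CfsgLib.Comp.not_isCyclic_elemAb hBe
      ((Nat.pow_le_pow_right hpr.pos (by norm_num)).trans hB3)) (hBA.trans hAY) (hn ▸ hY.symm.pow_left n)]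
    refine iSup_le fun b => inf_le_right.trans ?_
    exact le_of_inUniqueMax (hWU W le_rfl hWnc) hM hWM (hWB.trans (centralizer_le_singleton b.2.1))
      (minSimple_centralizer_singleton_ne_top hG b.2.2)
  obtain ⟨D₂, hD₂, hne12⟩ : ∃ D, Moved D ∧ D ≠ D₁ := by
    by_contra hall
    push Not at hall
    have hWD : W ≤ centralizer (D₁ : Set G) := by
      rw [hgen]
      refine iSup_le fun D => ?_
      by_cases h : W ⊓ centralizer ((D.1 : Subgroup G) : Set G) ≤ centralizer (B : Set G)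
      · exact h.trans (centralizer_le hD₁.1.1)
      · exact (hall D.1 ⟨D.2, h⟩) ▸ inf_le_right
    refine h1 D₁ (hD₁.1.1.trans hBA) (inUniqueMax_of_centralizers hG hM (hD₁.1.1.trans hBM)
      (CfsgLib.Comp.elemAb_mono hBe hD₁.1.1) (CfsgLib.Comp.not_isCyclic_elemAb
        (CfsgLib.Comp.elemAb_mono hBe hD₁.1.1) (hyperplane_card hB3 hD₁.1.1 hD₁.1.2)) fun d hd hd1 => ?_)
    exact le_of_inUniqueMax (hWU W le_rfl hWnc) hM hWM (hWD.trans (centralizer_le_singleton hd))
      (minSimple_centralizer_singleton_ne_top hG hd1)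
  -- all centralizers of bad elements go to the same maximal subgroup
  have hsame : ∀ E₁ E₂ : Subgroup G, Moved E₁ → Moved E₂ → ∀ a b : G, a ∈ E₁ → a ∉ E₂ → b ∈ E₂ →
      b ∉ E₁ → ∀ Ha Hb : Subgroup G, IsCoatom Ha → centralizer ({a} : Set G) ≤ Ha → IsCoatom Hb →
      centralizer ({b} : Set G) ≤ Hb → Ha = Hb := by
    intro E₁ E₂ hE₁ hE₂ a b ha ha' hb hb' Ha Hb hHa haH hHb hbH
    have ha1 : a ≠ 1 := fun h => ha' (h ▸ one_mem _)
    have hb1 : b ≠ 1 := fun h => hb' (h ▸ one_mem _)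
    have haB := hE₁.1.1 ha
    have hbB := hE₂.1.1 hb
    obtain ⟨r, hr, hnea⟩ := hbig E₁ hE₁ a ha ha1 (fun h => ha' (hmovedgood E₂ hE₂ a h)) Ha hHa haH
    obtain ⟨s, hs, hneb⟩ := hbig E₂ hE₂ b hb hb1 (fun h => hb' (hmovedgood E₁ hE₁ b h)) Hb hHb hbH
    haveI := Fact.mk hr.1
    haveI := Fact.mk hs.1
    have hrp := hbigp Ha hHa r hr
    have hsp := hbigp Hb hHb s hs
    have hAa := hcent a haB Ha haH
    have hAb := hcent b hbB Hb hbH
    by_cases hrs : s = r
    · subst hrs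
      obtain ⟨E, hE, hEe, hE3, -⟩ := hs.exists_elem hG hHb
      exact (hr.eq_of_rank hG hS hHa hrp hAa (hBA haB) haH hHb hAb
        (not_pRankLE_of_le_elemAb (k := 2) hEe (hE.trans (fPart_le _ _)) hE3)).symm
    obtain ⟨X, hXH, hXp, -, hHX, hXnc, hXU, hXC⟩ := hr.exists_witness hG hHa
    obtain ⟨X', hX'H, hX'p, -, hHX', hX'nc, hX'U, -⟩ := hs.exists_witness hG hHb
    -- `C_X(b)` is not centralized by `B`
    have hrq : r ≠ q := by
      rintro rfl
      obtain ⟨E, hE, hEe, hE3, -⟩ := hr.exists_elem hG hHa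
      exact hnea (hq.eq_of_rank hG hS hM hqp hAM (hBA hcB) hcM hHa hAa
        (not_pRankLE_of_le_elemAb (k := 2) hEe (hE.trans (fPart_le _ _)) hE3))
    obtain ⟨hVle, hVne, hSH⟩ := hVfacts E₁ hE₁ a ha ha1 Ha haH
    have hSB : B ≤ normalizer ((W ⊓ centralizer (E₁ : Set G) : Subgroup G) : Set G) :=
      (le_inf hBW (((le_centralizer_self hBc).trans (centralizer_le hE₁.1.1)).trans le_normalizer)).trans
        inf_normalizer_le_normalizer_inf
    have hSq : IsPGroup q ↥(W ⊓ centralizer (E₁ : Set G)) := hWp.to_le inf_le_left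
    have hmoved := not_le_centralizer_of_moved hG hrp hqp hrq hp2 (ne_two_of_dvd hG hr.dvd) hq2 hHa hXH
      hXp hHX hXU (hSq.to_le hVle) (hVle.trans hSH) (hBA.trans hAa) (normalizer_commutator_ge_right _ _)
      (CfsgLib.Coprime.commutator_commutator_eq hSB
        (coprime_of_pGroups hBp hSq hqp.symm) (Or.inl (haveI := hBp.isNilpotent; inferInstance)))
      hBe hB3 hE₁.1.1 hE₁.1.2 (le_centralizer_iff.1 (hVle.trans inf_le_right))
      (h1 E₁ (hE₁.1.1.trans hBA))
      (fun hc => by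
        obtain ⟨v, hv, hv1⟩ := CfsgLib.Comp.exists_mem_ne_one hVne
        exact hnea (eq_of_inUniqueMax (hXU X le_rfl hXnc) hM
          ((hc.trans (centralizer_le_singleton hv)).trans (hWC v (hVle hv).1 hv1)) hHa hXH))
      hbB hb'
    set T := X ⊓ centralizer ({b} : Set G)
    have hBT : B ≤ normalizer (T : Set G) :=
      hBA.trans (hAn X (hAa.trans hHX) _ (Set.singleton_subset_iff.2 (hBA hbB)))
    obtain ⟨⟨D, hD, hDi⟩, hTD⟩ : ∃ D : {D : Subgroup G // D ≤ B ∧ D.relIndex B = p},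
        ¬ T ⊓ centralizer ((D : Subgroup G) : Set G) ≤ centralizer (B : Set G) := by
      by_contra hall
      push Not at hall
      refine hmoved ?_
      rw [CfsgLib.Comp.eq_iSup_centralizer_hyperplane hBe hBne
        (fun hd => hrp.symm (prime_dvd_pGroup (hXp.to_le inf_le_left : IsPGroup r T) hpr hd)) hBT]
      exact iSup_le hall
    simp only at hTD
    set S := T ⊓ centralizer (D : Set G)
    have hSX : S ≤ X := inf_le_left.trans inf_le_left
    have hBS : B ≤ normalizer (S : Set G) :=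
      (le_inf hBT (((le_centralizer_self hBc).trans (centralizer_le hD)).trans le_normalizer)).trans
        inf_normalizer_le_normalizer_inf
    have hcD : c ∉ D := fun hc => hTD (hnomoved Ha hHa r hr hnea a haB haH S (hXp.to_le hSX)
      ((inf_le_right.trans (centralizer_le_singleton hc)).trans hcM) hBS)
    have hV'S : ⁅S, B⁆ ≤ S := le_normalizer_iff_commutator_le_left.mp hBS
    have hSp : IsPGroup r S := hXp.to_le hSX
    obtain ⟨v, hv, hv1⟩ := CfsgLib.Comp.exists_mem_ne_one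
      (fun h => hTD (commutator_eq_bot_iff_le_centralizer.1 h) : ⁅S, B⁆ ≠ ⊥)
    have hX'C : X' ≤ centralizer ((⁅S, B⁆ : Subgroup G) : Set G) := by
      by_contra hc
      refine not_le_centralizer_of_moved hG hsp hrp hrs hp2 (ne_two_of_dvd hG hs.dvd)
        (ne_two_of_dvd hG hr.dvd) hHb hX'H hX'p hHX' hX'U (hSp.to_le hV'S)
        (hV'S.trans ((inf_le_left.trans inf_le_right).trans hbH)) (hBA.trans hAb)
        (normalizer_commutator_ge_right _ _)
        (CfsgLib.Coprime.commutator_commutator_eq hBS (coprime_of_pGroups hBp hSp hrp.symm)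
          (Or.inl (haveI := hBp.isNilpotent; inferInstance)))
        hBe hB3 hD hDi (le_centralizer_iff.1 (hV'S.trans inf_le_right)) (h1 D (hD.trans hBA)) hc hcB hcD
        (hnomoved Hb hHb s hs hneb b hbB hbH _ (hX'p.to_le inf_le_left) (inf_le_right.trans hcM) ?_)
      exact hBA.trans (hAn X' (hAb.trans hHX') _ (Set.singleton_subset_iff.2 (hBA hcB)))
    exact eq_of_inUniqueMax (hX'U X' le_rfl hX'nc) hHb hX'H hHa
      ((hX'C.trans (centralizer_le_singleton hv)).trans (hXC v (hSX (hV'S hv)) hv1))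
  have hn12 := not_le_of_hyperplane hD₁.1 hD₂.1 hne12.symm
  have hn21 := not_le_of_hyperplane hD₂.1 hD₁.1 hne12
  obtain ⟨a, ha, ha'⟩ := SetLike.not_le_iff_exists.1 hn12
  obtain ⟨b, hb, hb'⟩ := SetLike.not_le_iff_exists.1 hn21
  have hex : ∀ x : G, ∀ D : Subgroup G, x ∉ D → ∃ H : Subgroup G, IsCoatom H ∧ centralizer ({x} : Set G) ≤ H :=
    fun x D hx => exists_coatom_ge (minSimple_centralizer_singleton_ne_top hG fun h => hx (h ▸ one_mem D))
  obtain ⟨H, hH, hbH⟩ := hex b D₁ hb'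
  obtain ⟨Ha, hHa, haH⟩ := hex a D₂ ha'
  have haH' : centralizer ({a} : Set G) ≤ H :=
    hsame D₁ D₂ hD₁ hD₂ a b ha ha' hb hb' Ha H hHa haH hH hbH ▸ haH
  obtain ⟨-, -, hHM⟩ := hbig D₂ hD₂ b hb (fun h => hb' (h ▸ one_mem _))
    (fun h => hb' (hmovedgood D₁ hD₁ b h)) H hH hbH
  have hWH : W ≤ H := by
    rw [hgen]
    refine iSup_le fun D => ?_
    by_cases hfix : W ⊓ centralizer ((D.1 : Subgroup G) : Set G) ≤ centralizer (B : Set G)
    · exact hfix.trans ((centralizer_le_singleton (hD₁.1.1 ha)).trans haH')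
    have hD : Moved D.1 := ⟨D.2, hfix⟩
    refine inf_le_right.trans ?_
    by_cases h₁ : D.1 = D₁
    · exact h₁ ▸ (centralizer_le_singleton ha).trans haH'
    by_cases h₂ : D.1 = D₂
    · exact h₂ ▸ (centralizer_le_singleton hb).trans hbH
    obtain ⟨b', hb₁, hb₂, hb₃⟩ := exists_not_mem_two hn21 (not_le_of_hyperplane hD₂.1 D.2 (Ne.symm h₂))
    obtain ⟨a₃, ha₃, ha₃'⟩ := SetLike.not_le_iff_exists.1 (not_le_of_hyperplane D.2 hD₂.1 h₂)
    obtain ⟨H', hH', hb'H⟩ := hex b' D₁ hb₂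
    obtain ⟨H₃, hH₃, ha₃H⟩ := hex a₃ D₂ ha₃'
    have e1 : H = H' := hsame D₁ D₂ hD₁ hD₂ a b' ha ha' hb₁ hb₂ H H' hH haH' hH' hb'H
    have e2 : H₃ = H' := hsame D.1 D₂ hD hD₂ a₃ b' ha₃ ha₃' hb₁ hb₃ H₃ H' hH₃ ha₃H hH' hb'H
    rw [e1, ← e2]
    exact (centralizer_le_singleton ha₃).trans ha₃H
  exact hHM (eq_of_inUniqueMax (hWU W le_rfl hWnc) hM hWM hH hWH)

end CfsgLib.OddLocal
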