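import Mathlib.GroupTheory.Sylow
import Mathlib.GroupTheory.Index
import Mathlib.LinearAlgebra.Matrix.GeneralLinearGroup.Defs
import Mathlib.LinearAlgebra.Matrix.NonsingularInverse
import Mathlib.Algebra.CharP.Lemmas
import Mathlib.Algebra.CharP.Algebra
import Mathlib.RingTheory.Nilpotent.Basic
import Mathlib.Tactic.LinearCombination
import Mathlib.Tactic.NoncommRing
import Mathlib.Tactic.FieldSimp
import Mathlib.Tactic.Group

/-!
# Subgroups of odd order of `GL(2, F)` in characteristic `p`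

An elementary count shows that such a group with two Sylow `p`-subgroups does not exist.
-/

set_option autoImplicit false

namespace CfsgLib.OddLocal

open Matrix

universe u v

variable {F : Type u} [Field F]

theorem sq_eq_trace_smul {M : Matrix (Fin 2) (Fin 2) F} (h : M.det = 1) :
    M * M = (M 0 0 + M 1 1) • M - 1 := by
  rw [Matrix.det_fin_two] at h
  ext i j
  fin_cases i <;> fin_cases j <;> simp [Matrix.mul_apply, Fin.sum_univ_two]
  · linear_combination -h
  · ring
  · ring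
  · linear_combination -h

theorem exists_of_commute {M N : Matrix (Fin 2) (Fin 2) F} (hM : ∀ c : F, M ≠ c • 1)
    (h : N * M = M * N) : ∃ a b : F, N = a • 1 + b • M := by
  have e00 := congrFun (congrFun h 0) 0
  have e01 := congrFun (congrFun h 0) 1
  have e10 := congrFun (congrFun h 1) 0
  simp only [Matrix.mul_apply, Fin.sum_univ_two] at e00 e01 e10
  by_cases h01 : M 0 1 = 0
  · by_cases h10 : M 1 0 = 0
    · have hd : M 0 0 - M 1 1 ≠ 0 := by
        intro hd
        apply hM (M 0 0)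
        ext i j
        fin_cases i <;> fin_cases j <;> simp [h01, h10]
        exact (sub_eq_zero.mp hd).symm
      have n01 : N 0 1 = 0 := mul_right_cancel₀ hd (by rw [zero_mul]; linear_combination -e01 + (N 0 0 - N 1 1) * h01)
      have n10 : N 1 0 = 0 := mul_right_cancel₀ hd (by rw [zero_mul]; linear_combination e10 + (N 0 0 - N 1 1) * h10)
      refine ⟨N 0 0 - (N 0 0 - N 1 1) / (M 0 0 - M 1 1) * M 0 0, (N 0 0 - N 1 1) / (M 0 0 - M 1 1), ?_⟩
      ext i j
      fin_cases i <;> fin_cases j <;> simp [h01, h10, n01, n10]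
      field_simp
      ring
    · refine ⟨N 0 0 - N 1 0 / M 1 0 * M 0 0, N 1 0 / M 1 0, ?_⟩
      ext i j
      fin_cases i <;> fin_cases j <;> simp [h10]
      · field_simp
        linear_combination e00
      · field_simp
        linear_combination e10
  · refine ⟨N 0 0 - N 0 1 / M 0 1 * M 0 0, N 0 1 / M 0 1, ?_⟩
    ext i j
    fin_cases i <;> fin_cases j <;> simp [h01]
    · field_simp
      linear_combination -e00
    · field_simp
      linear_combination -e01

theorem smul_one_add_smul_commute (M : Matrix (Fin 2) (Fin 2) F) (a b c d : F) :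
    Commute (a • 1 + b • M) (c • 1 + d • M) := by
  refine (Commute.add_left (Commute.smul_left (Commute.one_left _) a) (Commute.smul_left ?_ b))
  exact Commute.add_right ((Commute.one_right M).smul_right c) ((Commute.refl M).smul_right d)

section group

variable {K : Type v} [Group K] [Finite K] (hodd : Odd (Nat.card K))
  (ρ : K →* Matrix (Fin 2) (Fin 2) F) (hinj : Function.Injective ρ) (hdet : ∀ x, (ρ x).det = 1)

include hodd in
theorem eq_one_of_sq {x : K} (h : x ^ 2 = 1) : x = 1 := by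
  rw [← orderOf_eq_one_iff]
  exact Nat.eq_one_of_dvd_coprimes hodd.coprime_two_left.symm (orderOf_dvd_natCard x)
    (orderOf_dvd_of_pow_eq_one h)

include hodd hinj hdet in
theorem ne_smul_one {x : K} (hx : x ≠ 1) (c : F) : ρ x ≠ c • 1 := by
  intro h
  refine hx (eq_one_of_sq hodd (hinj ?_))
  have h2 : c * c = 1 := by
    have := hdet x
    rw [h, Matrix.det_smul, Fintype.card_fin, Matrix.det_one, mul_one, pow_two] at this
    exact this
  rw [pow_two, map_mul, map_one, h, smul_mul_smul_comm, h2, one_mul, one_smul]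

include hodd hinj hdet in
theorem commute_of_commute {x y z : K} (hx : x ≠ 1) (hy : y * x = x * y) (hz : z * x = x * z) :
    y * z = z * y := by
  have h1 : ρ y * ρ x = ρ x * ρ y := by rw [← map_mul, ← map_mul, hy]
  have h2 : ρ z * ρ x = ρ x * ρ z := by rw [← map_mul, ← map_mul, hz]
  obtain ⟨a, b, hab⟩ := exists_of_commute (ne_smul_one hodd ρ hinj hdet hx) h1
  obtain ⟨c, d, hcd⟩ := exists_of_commute (ne_smul_one hodd ρ hinj hdet hx) h2
  apply hinj
  rw [map_mul, map_mul, hab, hcd, (smul_one_add_smul_commute _ a b c d).eq]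

include hodd hinj hdet in
theorem centralizer_eq_of_mem {x y : K} (hx : x ≠ 1) (hy : y ≠ 1)
    (h : y ∈ Subgroup.centralizer ({x} : Set K)) :
    Subgroup.centralizer ({y} : Set K) = Subgroup.centralizer ({x} : Set K) := by
  rw [Subgroup.mem_centralizer_singleton_iff] at h
  ext z
  rw [Subgroup.mem_centralizer_singleton_iff, Subgroup.mem_centralizer_singleton_iff]
  exact ⟨fun hz => commute_of_commute hodd ρ hinj hdet hy hz h.symm,
    fun hz => commute_of_commute hodd ρ hinj hdet hx hz h⟩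

variable {p : ℕ} [hp : Fact p.Prime] [CharP F p] (hp2 : p ≠ 2)

include hdet in
theorem sub_one_sq_of_trace {x : K} (h : ρ x 0 0 + ρ x 1 1 = 2) : (ρ x - 1) * (ρ x - 1) = 0 := by
  have := sq_eq_trace_smul (hdet x)
  rw [h] at this
  rw [sub_mul, mul_sub, mul_one, one_mul, this, two_smul]
  abel

include hinj hdet hp2 in
theorem pow_p_of_trace {x : K} (h : ρ x 0 0 + ρ x 1 1 = 2) : x ^ p = 1 := by
  have : CharP (Matrix (Fin 2) (Fin 2) F) p :=
    charP_of_injective_algebraMap (algebraMap F (Matrix (Fin 2) (Fin 2) F)).injective p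
  apply hinj
  rw [map_pow, map_one, show ρ x = 1 + (ρ x - 1) by abel,
    add_pow_char_of_commute (p := p) (h := Commute.one_left _), one_pow,
    pow_eq_zero_of_le (show 2 ≤ p from hp.out.two_le) (by rw [pow_two]; exact sub_one_sq_of_trace ρ hdet h),
    add_zero]

include hdet in
theorem trace_of_pow_p {x : K} {n : ℕ} (h : x ^ p ^ n = 1) : ρ x 0 0 + ρ x 1 1 = 2 := by
  have : CharP (Matrix (Fin 2) (Fin 2) F) p :=
    charP_of_injective_algebraMap (algebraMap F (Matrix (Fin 2) (Fin 2) F)).injective p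
  have h1 : (ρ x - 1) ^ p ^ n = 0 := by
    rw [sub_pow_char_pow_of_commute (p := p) (n := n) (h := Commute.one_right _), one_pow, ← map_pow, h,
      map_one, sub_self]
  have h2 : (ρ x - 1).det = 0 := by
    refine eq_zero_of_pow_eq_zero (n := p ^ n) ?_
    rw [← Matrix.det_pow, h1, Matrix.det_zero]
  have h3 := hdet x
  rw [Matrix.det_fin_two] at h2 h3
  simp at h2
  linear_combination h3 - h2

include hodd hinj hdet hp2 in
theorem trace_ne_neg_two (x : K) : ρ x 0 0 + ρ x 1 1 ≠ -2 := by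
  intro h
  have : CharP (Matrix (Fin 2) (Fin 2) F) p :=
    charP_of_injective_algebraMap (algebraMap F (Matrix (Fin 2) (Fin 2) F)).injective p
  have hsq : (-(ρ x) - 1) * (-(ρ x) - 1) = 0 := by
    have := sq_eq_trace_smul (hdet x)
    rw [h, neg_smul, two_smul] at this
    calc (-(ρ x) - 1) * (-(ρ x) - 1) = ρ x * ρ x + ρ x + ρ x + 1 := by noncomm_ring
      _ = 0 := by rw [this]; abel
  have hpx : (-(ρ x)) ^ p = 1 := by
    rw [show -(ρ x) = 1 + (-(ρ x) - 1) by abel,
      add_pow_char_of_commute (p := p) (h := Commute.one_left _), one_pow,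
      pow_eq_zero_of_le (show 2 ≤ p from hp.out.two_le) (by rw [pow_two]; exact hsq), add_zero]
  rw [(hp.out.odd_of_ne_two hp2).neg_pow, ← map_pow, neg_eq_iff_eq_neg] at hpx
  have h1 : x ^ p = 1 := eq_one_of_sq hodd (hinj (by rw [pow_two, map_mul, map_one, hpx, neg_mul_neg, one_mul]))
  rw [h1, map_one] at hpx
  have : (2 : F) = 0 := by
    have := congrFun (congrFun hpx 0) 0
    simp at this
    linear_combination this
  exact hp2 ((Nat.prime_dvd_prime_iff_eq hp.out Nat.prime_two).mp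
    ((CharP.cast_eq_zero_iff F p 2).mp (by exact_mod_cast this)))

include hodd hinj hdet hp2 in
/-- A semisimple element is not conjugate to another element of its centralizer. -/
theorem normalizer_eq_centralizer {x g : K} (ht : ρ x 0 0 + ρ x 1 1 ≠ 2)
    (hg : g * x * g⁻¹ ∈ Subgroup.centralizer ({x} : Set K)) :
    g ∈ Subgroup.centralizer ({x} : Set K) := by
  by_cases hx : x = 1
  · subst hx; exact (ht (by simp; norm_num)).elim
  rw [Subgroup.mem_centralizer_singleton_iff] at hg ⊢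
  have h1 : ρ (g * x * g⁻¹) * ρ x = ρ x * ρ (g * x * g⁻¹) := by rw [← map_mul, ← map_mul, hg]
  obtain ⟨a, b, hab⟩ := exists_of_commute (ne_smul_one hodd ρ hinj hdet hx) h1
  have e : ρ (g * x * g⁻¹) = ρ g * ρ x * ρ g⁻¹ := by rw [map_mul, map_mul]
  have e2 : ρ g⁻¹ * ρ g = 1 := by rw [← map_mul, inv_mul_cancel, map_one]
  have htr : (ρ (g * x * g⁻¹)).trace = (ρ x).trace := by
    rw [e, Matrix.trace_mul_comm, ← mul_assoc, e2, one_mul]
  rw [Matrix.trace_fin_two, Matrix.trace_fin_two, hab] at htr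
  simp at htr
  have hd := hdet (g * x * g⁻¹)
  have hdx := hdet x
  rw [Matrix.det_fin_two] at hdx
  rw [hab, Matrix.det_fin_two] at hd
  simp at hd
  set t := ρ x 0 0 + ρ x 1 1 with htdef
  have h2 : (b * b - 1) * ((2 - t) * (2 + t)) = 0 := by
    rw [htdef]
    linear_combination 4 * hd - 4 * b * b * hdx - (2 * a + (b + 1) * (ρ x 0 0 + ρ x 1 1)) * htr
  have h4 : (2 - t) * (2 + t) ≠ 0 := mul_ne_zero (sub_ne_zero.mpr (Ne.symm ht)) fun h =>
    trace_ne_neg_two hodd ρ hinj hdet hp2 x (by linear_combination h)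
  have h3 := sub_eq_zero.mp ((mul_eq_zero.mp h2).resolve_right h4)
  have h20 : (2 : F) ≠ 0 := fun this => hp2 ((Nat.prime_dvd_prime_iff_eq hp.out Nat.prime_two).mp
    ((CharP.cast_eq_zero_iff F p 2).mp (by exact_mod_cast this)))
  rcases mul_self_eq_one_iff.mp h3 with hb | hb
  · have ha : a = 0 := mul_left_cancel₀ h20 (by rw [mul_zero]; subst hb; linear_combination htr)
    have : g * x * g⁻¹ = x := hinj (by rw [hab, ha, hb, zero_smul, one_smul, zero_add])
    exact mul_inv_eq_iff_eq_mul.mp this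
  · exfalso
    have ha : a = t := mul_left_cancel₀ h20 (by subst hb; rw [htdef]; linear_combination htr)
    have hinv : g * x * g⁻¹ = x⁻¹ := by
      rw [eq_inv_iff_mul_eq_one]
      apply hinj
      rw [map_mul, hab, ha, hb, add_mul, smul_mul_assoc, one_mul, smul_mul_assoc,
        sq_eq_trace_smul (hdet x), map_one, neg_smul, one_smul]
      rw [← htdef]
      abel
    apply hx
    obtain ⟨j, hj⟩ := hodd
    have key : g ^ (2 * j + 1) * x * (g ^ (2 * j + 1))⁻¹ = x⁻¹ := by
      have h2g : ∀ m : ℕ, g ^ (2 * m + 1) * x * (g ^ (2 * m + 1))⁻¹ = x⁻¹ := by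
        intro m
        induction m with
        | zero => simpa using hinv
        | succ m ih =>
          have h' : g * x⁻¹ * g⁻¹ = x := by
            rw [← _root_.inv_inj]
            rw [show (g * x⁻¹ * g⁻¹)⁻¹ = g * x * g⁻¹ by group]
            exact hinv
          calc g ^ (2 * (m + 1) + 1) * x * (g ^ (2 * (m + 1) + 1))⁻¹
              = g * (g * (g ^ (2 * m + 1) * x * (g ^ (2 * m + 1))⁻¹) * g⁻¹) * g⁻¹ := by
                rw [show 2 * (m + 1) + 1 = 1 + (1 + (2 * m + 1)) by ring, pow_add, pow_add _ 1, pow_one]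
                group
            _ = x⁻¹ := by rw [ih, h', hinv]
      exact h2g j
    rw [← hj, pow_card_eq_one', one_mul, inv_one, mul_one] at key
    exact eq_one_of_sq ⟨j, hj⟩ (by rw [pow_two]; exact eq_inv_iff_mul_eq_one.mp key)

omit [Finite K] in
/-- The conjugates of `D ⊆ K` by coset representatives of `N`. -/
theorem conj_count {N A : Subgroup K} [Finite K]
    (h : ∀ g : K, ∀ y ∈ A, y ≠ 1 → g * y * g⁻¹ ∈ A → g ∈ N) :
    Nat.card {x : K | ∃ g : K, ∃ y ∈ A, y ≠ 1 ∧ x = g * y * g⁻¹} ≥ N.index * (Nat.card A - 1) := by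
  classical
  have hD : Nat.card {y : A // y ≠ 1} = Nat.card A - 1 := by
    have := Fintype.ofFinite A
    rw [Nat.card_eq_fintype_card, Nat.card_eq_fintype_card, Fintype.card_subtype_compl,
      Fintype.card_subtype_eq]
  rw [← hD, Subgroup.index_eq_card, ← Nat.card_prod]
  refine Nat.card_le_card_of_injective (fun q : (K ⧸ N) × {y : A // y ≠ 1} =>
    ⟨q.1.out * (q.2.1 : K) * q.1.out⁻¹, q.1.out, (q.2.1 : K), q.2.1.2,
      fun hh => q.2.2 (Subtype.ext hh), rfl⟩) ?_
  rintro ⟨q, ⟨y, hy⟩⟩ ⟨r, ⟨z, hz⟩⟩ he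
  have he' : q.out * (y : K) * q.out⁻¹ = r.out * (z : K) * r.out⁻¹ := congrArg Subtype.val he
  have h1 : (r.out⁻¹ * q.out) * (y : K) * (r.out⁻¹ * q.out)⁻¹ = z := by
    calc _ = r.out⁻¹ * (q.out * (y : K) * q.out⁻¹) * r.out := by group
      _ = z := by rw [he']; group
  have h2 := h _ y y.2 (fun hh => hy (Subtype.ext hh)) (h1 ▸ z.2)
  have h3 : r = q := by
    rw [← QuotientGroup.out_eq' r, ← QuotientGroup.out_eq' q]
    exact QuotientGroup.eq.mpr h2
  subst h3
  simp at h1
  subst h1; rfl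

omit [Finite K] in
theorem conj_count' {N A : Subgroup K} [Finite K] (hAN : N ≤ Subgroup.normalizer (A : Set K)) :
    Nat.card {x : K | ∃ g : K, ∃ y ∈ A, y ≠ 1 ∧ x = g * y * g⁻¹} ≤ N.index * (Nat.card A - 1) := by
  classical
  have hD : Nat.card {y : A // y ≠ 1} = Nat.card A - 1 := by
    have := Fintype.ofFinite A
    rw [Nat.card_eq_fintype_card, Nat.card_eq_fintype_card, Fintype.card_subtype_compl,
      Fintype.card_subtype_eq]
  rw [← hD, Subgroup.index_eq_card, ← Nat.card_prod]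
  refine Nat.card_le_card_of_surjective (fun q : (K ⧸ N) × {y : A // y ≠ 1} =>
    ⟨q.1.out * (q.2.1 : K) * q.1.out⁻¹, q.1.out, (q.2.1 : K), q.2.1.2,
      fun hh => q.2.2 (Subtype.ext hh), rfl⟩) ?_
  rintro ⟨_, g, y, hy, hy1, rfl⟩
  obtain ⟨n, hn⟩ := QuotientGroup.mk_out_eq_mul N g
  have hy' : (n : K)⁻¹ * y * n ∈ A :=
    (Subgroup.mem_normalizer_iff''.mp (hAN n.2) y).mp hy
  refine ⟨⟨(g : K ⧸ N), ⟨⟨_, hy'⟩, fun hh => hy1 ?_⟩⟩, Subtype.ext ?_⟩
  · have h' : (n : K)⁻¹ * y * n = 1 := congrArg Subtype.val hh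
    calc y = (n : K) * ((n : K)⁻¹ * y * n) * (n : K)⁻¹ := by group
      _ = 1 := by rw [h']; group
  · show (g : K ⧸ N).out * ((n : K)⁻¹ * y * n) * (g : K ⧸ N).out⁻¹ = g * y * g⁻¹
    rw [hn]; group

include hodd hinj hdet hp2 in
/-- An odd-order subgroup of `SL(2, F)` in characteristic `p` has a normal Sylow `p`-subgroup. -/
theorem sylow_normal_of_det_one (P : Sylow p K) : (P : Subgroup K).Normal := by
  classical
  by_cases hP1 : (P : Subgroup K) = ⊥
  · rw [hP1]; infer_instance
  obtain ⟨q, hq⟩ := IsPGroup.iff_card.mp P.2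
  obtain ⟨⟨u, huP⟩, hu1⟩ := Subgroup.ne_bot_iff_exists_ne_one.mp hP1
  have hu : u ≠ 1 := fun h => hu1 (Subtype.ext h)
  have htP : ∀ y ∈ (P : Subgroup K), ρ y 0 0 + ρ y 1 1 = 2 := fun y hy => by
    obtain ⟨k, hk⟩ := P.2 ⟨y, hy⟩
    exact trace_of_pow_p ρ hdet (n := k) (by simpa using congrArg Subtype.val hk)
  -- `P` is the centralizer of each of its non-identity elements
  have : Nontrivial (P : Subgroup K) := (Subgroup.nontrivial_iff_ne_bot _).mpr hP1
  have := P.2.center_nontrivial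
  obtain ⟨⟨⟨w, hwP⟩, hwc⟩, hw1⟩ := exists_ne (1 : Subgroup.center (P : Subgroup K))
  have hw : w ≠ 1 := fun h => hw1 (Subtype.ext (Subtype.ext h))
  have hPeq : (P : Subgroup K) = Subgroup.centralizer ({w} : Set K) := by
    refine (P.3 ?_ fun y hy => Subgroup.mem_centralizer_singleton_iff.mpr
      (congrArg Subtype.val (Subgroup.mem_center_iff.mp hwc ⟨y, hy⟩))).symm
    intro z
    refine ⟨1, Subtype.ext ?_⟩
    show (z : K) ^ p ^ 1 = 1
    rw [pow_one]
    refine pow_p_of_trace ρ hinj hdet hp2 ?_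
    by_contra hz
    have hz1 : (z : K) ≠ 1 := fun h => hz (by rw [h]; simp; norm_num)
    have hwz : w ∈ Subgroup.centralizer ({(z : K)} : Set K) :=
      Subgroup.mem_centralizer_singleton_iff.mpr (Subgroup.mem_centralizer_singleton_iff.mp z.2).symm
    obtain ⟨a, b, hab⟩ := exists_of_commute (ne_smul_one hodd ρ hinj hdet hw)
      (show ρ (z : K) * ρ w = ρ w * ρ (z : K) by
        rw [← map_mul, ← map_mul, Subgroup.mem_centralizer_singleton_iff.mp z.2])
    have h1 := hdet (z : K)
    have h2 := hdet w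
    have h3 := htP w hwP
    rw [Matrix.det_fin_two] at h1 h2
    rw [hab] at hz h1
    simp at hz h1
    have h4 : (a + b) * (a + b) = 1 := by linear_combination h1 - a * b * h3 - b * b * h2
    rcases mul_self_eq_one_iff.mp h4 with h5 | h5
    · exact hz (by linear_combination b * h3 + 2 * h5)
    · refine trace_ne_neg_two hodd ρ hinj hdet hp2 (z : K) ?_
      rw [hab]; simp
      linear_combination b * h3 + 2 * h5
  have hCP : ∀ y ∈ (P : Subgroup K), y ≠ 1 → Subgroup.centralizer ({y} : Set K) = (P : Subgroup K) :=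
    fun y hy hy1 => by
      rw [hPeq] at hy ⊢
      exact centralizer_eq_of_mem hodd ρ hinj hdet hw hy1 hy
  have hconjC : ∀ g y : K, ∀ z, z ∈ Subgroup.centralizer ({g * y * g⁻¹} : Set K) ↔
      g⁻¹ * z * g ∈ Subgroup.centralizer ({y} : Set K) := by
    intro g y z
    rw [Subgroup.mem_centralizer_singleton_iff, Subgroup.mem_centralizer_singleton_iff]
    constructor
    · intro h
      calc g⁻¹ * z * g * y = g⁻¹ * (z * (g * y * g⁻¹)) * g := by group
        _ = y * (g⁻¹ * z * g) := by rw [h]; group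
    · intro h
      calc z * (g * y * g⁻¹) = g * (g⁻¹ * z * g * y) * g⁻¹ := by group
        _ = g * y * g⁻¹ * z := by rw [h]; group
  set N := Subgroup.normalizer ((P : Subgroup K) : Set K)
  have hPTI : ∀ g : K, ∀ y ∈ (P : Subgroup K), y ≠ 1 → g * y * g⁻¹ ∈ (P : Subgroup K) → g ∈ N := by
    intro g y hy hy1 hgy
    have h1 := hCP _ hgy (fun h => hy1 (by
      calc y = g⁻¹ * (g * y * g⁻¹) * g := by group
        _ = 1 := by rw [h]; group))
    refine Subgroup.mem_normalizer_iff''.mpr fun z => ?_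
    conv_lhs => rw [← h1]
    simp only [SetLike.mem_coe, hconjC g y z, hCP y hy hy1]
  set U := {x : K | ∃ g : K, ∃ y ∈ (P : Subgroup K), y ≠ 1 ∧ x = g * y * g⁻¹}
  have hUcard : Nat.card U = N.index * (Nat.card (P : Subgroup K) - 1) :=
    le_antisymm (conj_count' le_rfl) (conj_count hPTI)
  have hUtr : ∀ x ∈ U, ρ x 0 0 + ρ x 1 1 = 2 := by
    rintro _ ⟨g, y, hy, -, rfl⟩
    obtain ⟨k, hk⟩ := P.2 ⟨y, hy⟩
    refine trace_of_pow_p ρ hdet (n := k) ?_
    rw [conj_pow, show y ^ p ^ k = 1 by simpa using congrArg Subtype.val hk]; group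
  have huni : ∀ x : K, x ≠ 1 → ρ x 0 0 + ρ x 1 1 = 2 → x ∈ U := by
    intro x hx ht
    have hz : IsPGroup p (Subgroup.zpowers x) := by
      refine IsPGroup.of_card (n := 1) ?_
      rw [Nat.card_zpowers, pow_one]
      exact orderOf_eq_prime (pow_p_of_trace ρ hinj hdet hp2 ht) hx
    obtain ⟨T, hT⟩ := hz.exists_le_sylow
    obtain ⟨g, hg⟩ := MulAction.exists_smul_eq K T P
    have hmem : g * x * g⁻¹ ∈ (P : Subgroup K) := by
      rw [← hg]; exact ⟨x, hT (Subgroup.mem_zpowers x), rfl⟩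
    refine ⟨g⁻¹, _, hmem, fun h => hx ?_, by group⟩
    calc x = g⁻¹ * (g * x * g⁻¹) * g := by group
      _ = 1 := by rw [h]; group
  have h3 : 3 ≤ Nat.card (P : Subgroup K) := by
    rw [hq]
    have : q ≠ 0 := fun h => hP1 (Subgroup.card_eq_one.mp (by rw [hq, h, pow_zero]))
    have h5 : 3 ≤ p := by have := hp.out.two_le; omega
    calc 3 ≤ p := h5
      _ ≤ p ^ q := Nat.le_self_pow this p
  have hNidx : N.index * Nat.card N = Nat.card K := N.index_mul_card
  have hPN : (P : Subgroup K) ≤ N := Subgroup.le_normalizer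
  rw [← Subgroup.normalizer_eq_top_iff]
  apply Subgroup.index_eq_one.mp
  by_cases hss : ∀ x : K, x ≠ 1 → ρ x 0 0 + ρ x 1 1 = 2
  · -- only unipotent elements
    have hKp : IsPGroup p (⊤ : Subgroup K) := fun z => ⟨1, Subtype.ext (by
      show (z : K) ^ p ^ 1 = 1
      rw [pow_one]
      by_cases hz : (z : K) = 1
      · rw [hz, one_pow]
      · exact pow_p_of_trace ρ hinj hdet hp2 (hss _ hz))⟩
    have : (P : Subgroup K) = ⊤ := (P.3 hKp le_top).symm
    rw [Subgroup.index_eq_one]
    exact top_le_iff.mp (this ▸ hPN)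
  simp only [not_forall] at hss
  -- semisimple elements
  have hSS : ∀ x : K, x ≠ 1 → ρ x 0 0 + ρ x 1 1 ≠ 2 → ∀ g : K, ∀ y ∈ Subgroup.centralizer ({x} : Set K),
      y ≠ 1 → ρ y 0 0 + ρ y 1 1 ≠ 2 ∧
        (g * y * g⁻¹ ∈ Subgroup.centralizer ({x} : Set K) → g ∈ Subgroup.centralizer ({x} : Set K)) := by
    intro x hx ht g y hy hy1
    have h1 := centralizer_eq_of_mem hodd ρ hinj hdet hx hy1 hy
    have hty : ρ y 0 0 + ρ y 1 1 ≠ 2 := by
      intro h
      obtain ⟨g', z, hz, hz1, hyz⟩ := huni y hy1 h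
      have h2 : x ∈ Subgroup.centralizer ({y} : Set K) := by
        rw [h1, Subgroup.mem_centralizer_singleton_iff]
      rw [hyz, hconjC, hCP z hz hz1] at h2
      refine ht (hUtr x ⟨g', _, h2, fun h3 => hx ?_, by group⟩)
      calc x = g' * (g'⁻¹ * x * g') * g'⁻¹ := by group
        _ = 1 := by rw [h3]; group
    exact ⟨hty, fun h => h1 ▸ normalizer_eq_centralizer hodd ρ hinj hdet hp2 hty (h1.symm ▸ h)⟩
  have hscard : ∀ x : K, x ≠ 1 → ρ x 0 0 + ρ x 1 1 ≠ 2 →
      Nat.card {z : K | ∃ g : K, ∃ y ∈ Subgroup.centralizer ({x} : Set K), y ≠ 1 ∧ z = g * y * g⁻¹} =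
        (Subgroup.centralizer ({x} : Set K)).index * (Nat.card (Subgroup.centralizer ({x} : Set K)) - 1) ∧
      3 * (Subgroup.centralizer ({x} : Set K)).index ≤ Nat.card K := by
    intro x hx ht
    refine ⟨le_antisymm (conj_count' Subgroup.le_normalizer)
      (conj_count fun g y hy hy1 h => (hSS x hx ht g y hy hy1).2 h), ?_⟩
    rw [← (Subgroup.centralizer ({x} : Set K)).index_mul_card, mul_comm]
    refine Nat.mul_le_mul_left _ ?_
    have h1 : 1 < Nat.card (Subgroup.centralizer ({x} : Set K)) :=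
      (Subgroup.one_lt_card_iff_ne_bot _).mpr fun h => hx
        (Subgroup.mem_bot.mp (h ▸ Subgroup.mem_centralizer_singleton_iff.mpr rfl))
    obtain ⟨j, hj⟩ := hodd.of_dvd_nat (Subgroup.card_subgroup_dvd_card (Subgroup.centralizer ({x} : Set K)))
    omega
  have hdisj : ∀ S T : Set K, (∀ z ∈ S, z ∉ T) → (∀ z ∈ S ∪ T, z ≠ 1) →
      Nat.card S + Nat.card T + 1 ≤ Nat.card K := by
    intro S T h1 h2
    have e : Set.ncard (S ∪ T) = Nat.card S + Nat.card T := by
      rw [Set.ncard_union_eq (Set.disjoint_left.mpr h1) (Set.toFinite _) (Set.toFinite _)]; rfl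
    have h3 : Set.ncard (S ∪ T) + 1 ≤ Set.ncard (Set.univ : Set K) := by
      rw [← Set.ncard_insert_of_notMem (fun h => h2 1 h rfl) (Set.toFinite _)]
      exact Set.ncard_le_ncard (Set.subset_univ _) (Set.toFinite _)
    rw [Set.ncard_univ] at h3
    omega
  have hne1 : ∀ (A : Subgroup K) (z : K),
      z ∈ {z : K | ∃ g : K, ∃ y ∈ A, y ≠ 1 ∧ z = g * y * g⁻¹} → z ≠ 1 := by
    rintro A _ ⟨g, y, hy, hy1, rfl⟩ h
    refine hy1 ?_
    calc y = g⁻¹ * (g * y * g⁻¹) * g := by group
      _ = 1 := by rw [h]; group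
  -- some semisimple element normalizes `P`
  obtain ⟨x, hxN, hx1, hxt⟩ : ∃ x ∈ N, x ≠ 1 ∧ ρ x 0 0 + ρ x 1 1 ≠ 2 := by
    by_contra hno
    simp only [not_exists, not_and, not_not] at hno
    obtain ⟨x, hx, hxt⟩ := hss
    have hNP : N ≤ (P : Subgroup K) := by
      refine le_of_eq (P.3 ?_ hPN)
      intro z
      refine ⟨1, Subtype.ext ?_⟩
      show (z : K) ^ p ^ 1 = 1
      rw [pow_one]
      by_cases hz : (z : K) = 1
      · rw [hz, one_pow]
      · exact pow_p_of_trace ρ hinj hdet hp2 (hno _ z.2 hz)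
    obtain ⟨hA, hA3⟩ := hscard x hx hxt
    have h := hdisj U _ (fun z hz hz' => by
      obtain ⟨g, y, hy, hy1, rfl⟩ := hz'
      refine (hSS x hx hxt 1 y hy hy1).1 ?_
      obtain ⟨g', y', hy', hy'1, e⟩ := hz
      exact hUtr y ⟨g⁻¹ * g', y', hy', hy'1, by
        calc y = g⁻¹ * (g * y * g⁻¹) * g := by group
          _ = (g⁻¹ * g') * y' * (g⁻¹ * g')⁻¹ := by rw [e]; group⟩) (fun z hz => hz.elim (hne1 _ z) (hne1 _ z))
    rw [hA, hUcard, le_antisymm hNP hPN, Nat.mul_sub, Nat.mul_sub, mul_one, mul_one,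
      Subgroup.index_mul_card, Subgroup.index_mul_card] at h
    have h5 : 3 * (P : Subgroup K).index ≤ Nat.card K := by
      rw [← (P : Subgroup K).index_mul_card, mul_comm]; exact Nat.mul_le_mul_left _ h3
    have : 0 < Nat.card K := Nat.card_pos
    omega
  obtain ⟨hA, hA3⟩ := hscard x hx1 hxt
  set A := Subgroup.centralizer ({x} : Set K)
  -- `A` normalizes `P`
  have hAN : A ≤ N := by
    have hXN : ∀ y ∈ A, y ∈ N := by
      intro y hy
      have hxu : x * u * x⁻¹ ∈ (P : Subgroup K) := (Subgroup.mem_normalizer_iff.mp hxN u).mp huP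
      set X := ρ x
      set Nn := ρ u - 1
      have hN2 : Nn * Nn = 0 := sub_one_sq_of_trace ρ hdet (htP u huP)
      obtain ⟨a, b, hab⟩ := exists_of_commute (ne_smul_one hodd ρ hinj hdet hu)
        (show ρ (x * u * x⁻¹) * ρ u = ρ u * ρ (x * u * x⁻¹) by
          rw [← map_mul, ← map_mul]
          have := hCP u huP hu ▸ hxu
          rw [Subgroup.mem_centralizer_singleton_iff.mp this])
      have e1 : X * Nn * ρ x⁻¹ = ρ (x * u * x⁻¹) - 1 := by
        simp only [X, Nn, mul_sub, sub_mul, mul_one, ← map_mul, mul_inv_cancel, map_one]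
      have hNXN : Nn * X * Nn = 0 := by
        have h1 : (X * Nn * ρ x⁻¹) = (a + b - 1) • (1 : Matrix (Fin 2) (Fin 2) F) + b • Nn := by
          rw [e1, hab]; simp only [Nn, smul_sub, sub_smul, add_smul, one_smul]; abel
        have hc : (a + b - 1) • (1 : Matrix (Fin 2) (Fin 2) F) = 0 := by
          have h2 : (X * Nn * ρ x⁻¹) * (X * Nn * ρ x⁻¹) = 0 := by
            calc _ = X * Nn * (ρ x⁻¹ * X) * Nn * ρ x⁻¹ := by noncomm_ring
              _ = X * (Nn * Nn) * ρ x⁻¹ := by
                simp only [X, ← map_mul, inv_mul_cancel, map_one, mul_one, mul_assoc]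
              _ = 0 := by rw [hN2, mul_zero, zero_mul]
          have h3 : (a + b - 1) = 0 := by
            rw [h1] at h2
            have h4 := congrArg (fun M => M * Nn) h2
            simp only [add_mul, mul_add, smul_mul_assoc, mul_smul_comm, one_mul, mul_one, mul_assoc, hN2,
              smul_zero, add_zero, zero_mul, mul_zero, smul_smul] at h4
            have hNn : Nn ≠ 0 := fun h => hu (hinj ((sub_eq_zero.mp h).trans ρ.map_one.symm))
            exact mul_self_eq_zero.mp ((smul_eq_zero.mp h4).resolve_right hNn)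
          rw [h3, zero_smul]
        rw [hc, zero_add] at h1
        have h5 : Nn * (X * Nn * ρ x⁻¹) * X = 0 := by rw [h1, mul_smul_comm, hN2, smul_zero, zero_mul]
        calc Nn * X * Nn = Nn * X * Nn * (ρ x⁻¹ * X) := by
              simp only [X, ← map_mul, inv_mul_cancel, map_one, mul_one]
          _ = 0 := by rw [← h5]; simp only [mul_assoc]
      have hspan : ∀ z ∈ A, Nn * ρ z * Nn = 0 := by
        intro z hz
        obtain ⟨c, d, hcd⟩ := exists_of_commute (ne_smul_one hodd ρ hinj hdet hx1)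
          (show ρ z * ρ x = ρ x * ρ z by
            rw [← map_mul, ← map_mul, Subgroup.mem_centralizer_singleton_iff.mp hz])
        rw [hcd]
        simp only [mul_add, add_mul, mul_smul_comm, smul_mul_assoc, mul_one, hN2, smul_zero]
        rw [show Nn * ρ x * Nn = 0 from hNXN, smul_zero, add_zero]
      have hcomm : (y * u * y⁻¹) * u = u * (y * u * y⁻¹) := by
        apply hinj
        have e2 : ρ (y * u * y⁻¹) = 1 + ρ y * Nn * ρ y⁻¹ := by
          simp only [Nn, mul_sub, sub_mul, mul_one, ← map_mul, mul_inv_cancel, map_one]; abel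
        have e3 : ρ u = 1 + Nn := by simp only [Nn]; abel
        have z1 : ρ y * Nn * ρ y⁻¹ * Nn = 0 := by
          rw [mul_assoc (ρ y * Nn), mul_assoc (ρ y), ← mul_assoc Nn, hspan _ (A.inv_mem hy), mul_zero]
        have z2 : Nn * (ρ y * Nn * ρ y⁻¹) = 0 := by
          rw [← mul_assoc, ← mul_assoc, hspan _ hy, zero_mul]
        rw [map_mul _ (y * u * y⁻¹) u, map_mul _ u (y * u * y⁻¹), e2, e3]
        simp only [mul_add, add_mul, one_mul, mul_one, z1, z2]
        abel
      refine hPTI y u huP hu ?_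
      rw [← hCP u huP hu]
      exact Subgroup.mem_centralizer_singleton_iff.mpr hcomm
    exact hXN
  -- all semisimple elements are conjugate into `A`
  have hcover : ∀ z : K, z ≠ 1 → ρ z 0 0 + ρ z 1 1 ≠ 2 →
      z ∈ {z : K | ∃ g : K, ∃ y ∈ A, y ≠ 1 ∧ z = g * y * g⁻¹} := by
    intro z hz hzt
    by_contra hzA
    obtain ⟨hB, hB3⟩ := hscard z hz hzt
    have h := hdisj _ _ (fun w hw hw' => by
      obtain ⟨g, y, hy, hy1, rfl⟩ := hw
      obtain ⟨g', y', hy', hy'1, e⟩ := hw'
      apply hzA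
      have h1 := centralizer_eq_of_mem hodd ρ hinj hdet hx1 hy1 hy
      have h2 : z ∈ Subgroup.centralizer ({y'} : Set K) := by
        rw [centralizer_eq_of_mem hodd ρ hinj hdet hz hy'1 hy', Subgroup.mem_centralizer_singleton_iff]
      have e' : y' = (g'⁻¹ * g) * y * (g'⁻¹ * g)⁻¹ := by
        calc y' = g'⁻¹ * (g' * y' * g'⁻¹) * g' := by group
          _ = _ := by rw [← e]; group
      rw [e', hconjC, h1] at h2
      refine ⟨g'⁻¹ * g, _, h2, fun h3 => hz ?_, by group⟩
      calc z = (g'⁻¹ * g) * ((g'⁻¹ * g)⁻¹ * z * (g'⁻¹ * g)) * (g'⁻¹ * g)⁻¹ := by group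
        _ = 1 := by rw [h3]; group) (fun w hw => hw.elim (hne1 _ w) (hne1 _ w))
    rw [hA, hB, Nat.mul_sub, Nat.mul_sub, mul_one, mul_one, Subgroup.index_mul_card,
      Subgroup.index_mul_card] at h
    have : 0 < Nat.card K := Nat.card_pos
    omega
  have hall : Nat.card K ≤ 1 + (Nat.card U + Nat.card {z : K | ∃ g : K, ∃ y ∈ A, y ≠ 1 ∧ z = g * y * g⁻¹}) := by
    have hsub : (Set.univ : Set K) ⊆ {1} ∪ (U ∪ {z : K | ∃ g : K, ∃ y ∈ A, y ≠ 1 ∧ z = g * y * g⁻¹}) := by
      intro z _
      by_cases hz : z = 1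
      · exact Or.inl hz
      by_cases hzt : ρ z 0 0 + ρ z 1 1 = 2
      · exact Or.inr (Or.inl (huni z hz hzt))
      · exact Or.inr (Or.inr (hcover z hz hzt))
    calc Nat.card K = Set.ncard (Set.univ : Set K) := (Set.ncard_univ K).symm
      _ ≤ _ := Set.ncard_le_ncard hsub (Set.toFinite _)
      _ ≤ Set.ncard ({1} : Set K) + Set.ncard (U ∪ _) := Set.ncard_union_le _ _
      _ ≤ 1 + (Set.ncard U + Set.ncard _) := by
        rw [Set.ncard_singleton]; exact Nat.add_le_add_left (Set.ncard_union_le _ _) _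
  have hmul : Nat.card A * Nat.card (P : Subgroup K) ≤ Nat.card N := by
    rw [← Nat.card_prod]
    refine Nat.card_le_card_of_injective
      (fun q : A × (P : Subgroup K) => (⟨(q.1 : K) * q.2, N.mul_mem (hAN q.1.2) (hPN q.2.2)⟩ : N)) ?_
    rintro ⟨a, s⟩ ⟨a', s'⟩ he
    have he' : (a : K) * s = a' * s' := congrArg Subtype.val he
    have h1 : (a' : K)⁻¹ * a = s' * (s : K)⁻¹ := by
      rw [eq_mul_inv_iff_mul_eq, mul_assoc, he']; group
    have hm : (a' : K)⁻¹ * a ∈ (P : Subgroup K) := h1 ▸ mul_mem s'.2 (inv_mem s.2)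
    have h2 : (a' : K)⁻¹ * a = 1 := by
      by_contra hne
      exact (hSS x hx1 hxt 1 _ (A.mul_mem (A.inv_mem a'.2) a.2) hne).1 (htP _ hm)
    have ha : a = a' := Subtype.ext (inv_mul_eq_one.mp h2).symm
    subst ha
    exact Prod.ext rfl (Subtype.ext (mul_left_cancel he'))
  rw [hA, hUcard] at hall
  have hAidx := A.index_mul_card
  have hi : N.index * Nat.card (P : Subgroup K) ≤ A.index := by
    refine Nat.le_of_mul_le_mul_right (c := Nat.card A) ?_ Nat.card_pos
    rw [hAidx, ← hNidx, mul_assoc, mul_comm (Nat.card (P : Subgroup K))]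
    exact Nat.mul_le_mul_left _ hmul
  rw [Nat.mul_sub, Nat.mul_sub, mul_one, mul_one, hAidx] at hall
  have h0 : N.index ≠ 0 := Subgroup.FiniteIndex.index_ne_zero
  have hle : A.index ≤ Nat.card K := by rw [← hAidx]; exact Nat.le_mul_of_pos_right _ Nat.card_pos
  have h7 : N.index ≤ N.index * Nat.card (P : Subgroup K) := Nat.le_mul_of_pos_right _ Nat.card_pos
  change N.index = 1
  omega

end group

end CfsgLib.OddLocal
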