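import Cfsg.Agent.Lib.OddLocal.ZJ
import Cfsg.Agent.Lib.OddLocal.PLength
import Cfsg.Agent.Lib.OddLocal.PuigThm
import Cfsg.Agent.Lib.OddLocal.MinSimple
import Cfsg.Agent.Lib.Char.CNSylow
import Cfsg.Agent.Lib.PLocal.Control
import Cfsg.Agent.Lib.PLocal.WellPlaced
import Cfsg.Agent.Lib.Transfer.Focal

/-!
`Z(J(P))` controls fusion in a group of odd order all of whose local subgroups are solvable; in a
minimal simple group of odd order `P ≤ N(Z(J(P)))'`.
-/

set_option autoImplicit false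

open Subgroup
open scoped commutatorElement

namespace CfsgLib.OddLocal

variable {G : Type*} [Group G] [Finite G] {p : ℕ} [Fact p.Prime]

theorem centerThompsonOf_isConjugacyFunctor :
    Cfsg.IsConjugacyFunctor (G := G) p (Cfsg.centerThompsonOf p) := fun P hP =>
  ⟨centerThompsonOf_le P, fun hne => CfsgLib.Char.centerThompsonOf_ne_bot hP hne, fun g =>
    (centerThompsonOf_map (p := p) (MulAut.conj g).toMonoidHom
      fun _ _ h => (MulAut.conj g).injective (h.trans (map_one _).symm)).symm⟩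

/-- `G = O_{p'}(G) N_G(Z(J(S)))` for solvable groups of odd order. -/
theorem centerThompsonOf_factorization [Group.IsSolvable G] (hodd : Odd (Nat.card G)) (S : Sylow p G) :
    Cfsg.pPrimeCore p G ⊔ normalizer (Cfsg.centerThompsonOf p (S : Subgroup G) : Set G) = ⊤ := by
  haveI := CfsgLib.Solvable.pPrimeCore_normal p G
  set O := Cfsg.pPrimeCore p G
  set f := QuotientGroup.mk' O
  set Z := Cfsg.centerThompsonOf p (S : Subgroup G)
  have hZS : Z ≤ (S : Subgroup G) := centerThompsonOf_le _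
  have hn : (Z.map f).Normal := by
    rw [centerThompsonOf_map _ fun x hx h =>
      eq_one_of_mem_pPrimeCore_of_mem_pgroup S.2 ((QuotientGroup.eq_one_iff x).mp h) hx]
    exact centerThompsonOf_normal (hodd.of_dvd_nat (card_quotient_dvd_card O))
      (CfsgLib.Solvable.pPrimeCore_quotient_eq_bot p) (S.mapSurjective (QuotientGroup.mk'_surjective O))
  have hM : (Z ⊔ O).Normal := sup_pPrimeCore_normal Z hn
  have hSM : (S : Subgroup G) ⊓ (Z ⊔ O) = Z := by
    refine le_antisymm ?_ (le_inf hZS le_sup_left)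
    rintro x ⟨hxS, hxM⟩
    obtain ⟨z, hz, o, ho, rfl⟩ := (CfsgLib.Coprime.mem_sup_of_le_normalizer'
      (le_top.trans (normalizer_eq_top O).ge)).mp ((sup_comm Z O) ▸ hxM)
    have : o = 1 := by
      refine eq_one_of_mem_pPrimeCore_of_mem_pgroup S.2 ho ?_
      simpa using mul_mem (inv_mem (hZS hz)) hxS
    rw [this, mul_one]; exact hz
  refine top_le_iff.mp fun g _ => ?_
  obtain ⟨c, hc, n, hn', rfl⟩ := CfsgLib.PLocal.frattini_mul S (Z ⊔ O) g
  rw [hSM] at hn'
  refine mul_mem (?_ : c ∈ _) (mem_sup_right hn')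
  exact (sup_le ((le_normalizer).trans le_sup_right) le_sup_left : Z ⊔ O ≤ _) hc

/-- `Z(J)` controls fusion in a solvable group of odd order. -/
theorem centerThompsonOf_controls_solvable {H : Subgroup G} [Group.IsSolvable H]
    (hodd : Odd (Nat.card H)) :
    Cfsg.FamilyControlsStrongFusionIn p {Cfsg.centerThompsonOf p} H := by
  obtain ⟨S⟩ : Nonempty (Sylow p H) := inferInstance
  set T := (S : Subgroup H).map H.subtype with hT
  have hTs : CfsgLib.PLocal.SylowIn p T H :=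
    ⟨map_subtype_le _, S.2.map _, CfsgLib.Fusion.not_dvd_relIndex_of_sylow S⟩
  refine CfsgLib.PLocal.familyControls_iff.2 ⟨T, hTs, fun A h hh hA hAh => ?_⟩
  haveI := CfsgLib.Solvable.pPrimeCore_normal p H
  set O := Cfsg.pPrimeCore p H
  set Z := Cfsg.centerThompsonOf p (S : Subgroup H)
  set N := normalizer (Z : Set H)
  have hON : N ≤ normalizer (O : Set H) := by rw [normalizer_eq_top]; exact le_top
  have hmem : (⟨h, hh⟩ : H) ∈ O ⊔ N := by
    rw [centerThompsonOf_factorization hodd S]; exact mem_top _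
  obtain ⟨o, ho, n, hn, hon⟩ := (CfsgLib.Coprime.mem_sup_of_le_normalizer hON).1 hmem
  have hTN : (S : Subgroup H) ≤ N :=
    le_normalizer.trans (normalizer_le_normalizer_centerThompsonOf _)
  -- the conjugate `n A n⁻¹`
  set A' : Set H := {x | ∃ a ∈ A, ∃ ha : a ∈ H, x = n * ⟨a, ha⟩ * n⁻¹}
  have hA'N : A' ⊆ N := by
    rintro _ ⟨a, ha, haH, rfl⟩
    obtain ⟨b, hb, hba⟩ := hA ha
    have hbe : b = ⟨a, haH⟩ := Subtype.ext hba
    exact N.mul_mem (N.mul_mem hn (hTN (hbe ▸ hb))) (N.inv_mem hn)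
  set K := closure A'
  have hKN : K ≤ N := (closure_le N).2 hA'N
  have hKp : IsPGroup p K := by
    refine IsPGroup.to_le (S.2.map (MulAut.conj n).toMonoidHom) ((closure_le _).2 ?_)
    rintro _ ⟨a, ha, haH, rfl⟩
    obtain ⟨b, hb, hba⟩ := hA ha
    have hbe : b = ⟨a, haH⟩ := Subtype.ext hba
    exact ⟨b, hb, by rw [← hbe]; rfl⟩
  have hKSO : K ≤ ((S : Subgroup H) ⊔ O) ⊓ N := by
    refine le_inf ?_ hKN
    refine (closure_le _).2 ?_
    rintro _ ⟨a, ha, haH, rfl⟩
    obtain ⟨b, hb, hbe⟩ := hAh ⟨a, ha, rfl⟩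
    have hb' : b = (⟨h, hh⟩ : H) * ⟨a, haH⟩ * (⟨h, hh⟩ : H)⁻¹ := Subtype.ext hbe
    have e : n * ⟨a, haH⟩ * n⁻¹ = o⁻¹ * b * o := by rw [hb', ← hon]; group
    rw [e]
    exact mul_mem (mul_mem (inv_mem (mem_sup_right ho)) (mem_sup_left hb)) (mem_sup_right ho)
  -- move it into `S` inside `(S ⊔ O) ⊓ N`
  have hS2 : CfsgLib.PLocal.SylowIn p (S : Subgroup H) (((S : Subgroup H) ⊔ O) ⊓ N) :=
    ⟨le_inf le_sup_left hTN, S.2, fun hd => S.not_dvd_index
      (hd.trans (relIndex_dvd_index_of_le (le_inf le_sup_left hTN)))⟩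
  obtain ⟨k, hk, hkK⟩ := hS2.exists_conj_le hKp hKSO
  obtain ⟨s, hs, o', ho', rfl⟩ := (CfsgLib.Coprime.mem_sup_of_le_normalizer'
    (le_top.trans (normalizer_eq_top O).ge)).1 ((sup_comm (S : Subgroup H) O) ▸ hk.1)
  have hm : o' * n ∈ N := by
    refine N.mul_mem ?_ hn
    have := N.mul_mem (N.inv_mem (hTN hs)) hk.2
    rwa [inv_mul_cancel_left] at this
  have hone : ∀ a ∈ A, ∀ haH : a ∈ H,
      ((o' * n) * ⟨a, haH⟩ * (o' * n)⁻¹ : H) = (⟨h, hh⟩ : H) * ⟨a, haH⟩ * (⟨h, hh⟩ : H)⁻¹ := by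
    intro a ha haH
    obtain ⟨b, hb, hbe⟩ := hAh ⟨a, ha, rfl⟩
    have hb' : b = (⟨h, hh⟩ : H) * ⟨a, haH⟩ * (⟨h, hh⟩ : H)⁻¹ := Subtype.ext hbe
    set c := (o' * n) * ⟨a, haH⟩ * (o' * n)⁻¹ with hc
    have hcS : c ∈ (S : Subgroup H) := by
      have h1 := hkK (CfsgLib.PLocal.conj_mem_conjMap (g := s * o')
        (subset_closure ⟨a, ha, haH, rfl⟩ : n * ⟨a, haH⟩ * n⁻¹ ∈ K))
      have h2 := mul_mem (mul_mem (inv_mem hs) h1) hs
      rwa [show s⁻¹ * (s * o' * (n * ⟨a, haH⟩ * n⁻¹) * (s * o')⁻¹) * s = c by rw [hc]; group] at h2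
    rw [← hb']
    refine mul_inv_eq_one.1 (eq_one_of_mem_pPrimeCore_of_mem_pgroup S.2 ?_ (mul_mem hcS (inv_mem hb)))
    rw [show c = o' * o⁻¹ * b * (o' * o⁻¹)⁻¹ by rw [hc, hb', ← hon]; group]
    set d := o' * o⁻¹
    have hd : d ∈ O := mul_mem ho' (inv_mem ho)
    rw [show d * b * d⁻¹ * b⁻¹ = d * (b * d⁻¹ * b⁻¹) by group]
    exact mul_mem hd ((inferInstance : O.Normal).conj_mem _ (inv_mem hd) b)
  have hcongr : ∀ a ∈ A, ((o' * n : H) : G) * a * ((o' * n : H) : G)⁻¹ = h * a * h⁻¹ := fun a ha =>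
    congrArg Subtype.val (hone a ha (hTs.1 (hA ha)))
  refine (CfsgLib.PLocal.FusRel.single hA ⟨_, rfl, (o' * n : H).2, ?_⟩ ?_).congr fun a ha => (hcongr a ha).symm
  · rw [CfsgLib.PLocal.lconj_congr hcongr]
    exact hAh
  · rw [hT, ← centerThompsonOf_map H.subtype fun _ _ h => Subtype.ext h]
    exact le_normalizer_map H.subtype ⟨_, hm, rfl⟩

/-- `Z(J(P))` controls fusion in a minimal simple group of odd order. -/
theorem centerThompsonOf_controls (hG : Cfsg.IsMinSimpleOddOrder G) (P : Sylow p G) :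
    Cfsg.FamilyControlsStrongFusionIn p {Cfsg.centerThompsonOf p} (⊤ : Subgroup G) := by
  refine CfsgLib.PLocal.familyControls_top P _
    (by rintro W rfl; exact centerThompsonOf_isConjugacyFunctor)
    {U | Cfsg.IsWellPlaced p (Cfsg.centerThompsonOf p) (P : Subgroup G) U}
    (fun U hU => ⟨hU.1, hU.2 0⟩) (fun T hT => CfsgLib.PLocal.wellPlaced_good P centerThompsonOf_isConjugacyFunctor T hT)
    fun U hU hne => ?_
  have hUT : U ≠ ⊤ := by
    intro h
    apply minSimple_not_commutative hG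
    have hGp : IsPGroup p G := (P.2.to_le hU.1).of_equiv ((MulEquiv.subgroupCongr h).trans topEquiv)
    haveI := hGp.isNilpotent
    haveI : Nontrivial G := by
      obtain ⟨u, hu⟩ := ne_bot_iff_exists_ne_one.1 hne
      exact ⟨⟨(u : G), 1, fun e => hu (Subtype.ext e)⟩⟩
    haveI := hGp.center_nontrivial
    exact absurd (minSimple_center_eq_bot hG) ((nontrivial_iff_ne_bot _).1 ‹_›)
  haveI := minSimple_isSolvable hG (minSimple_normalizer_ne_top hG hne hUT)
  exact centerThompsonOf_controls_solvable (minSimple_odd hG _)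

/-- A Sylow subgroup of a minimal simple group of odd order lies in the derived group of
`N(Z(J(P)))`. -/
theorem sylow_le_commutator_normalizer (hG : Cfsg.IsMinSimpleOddOrder G) (P : Sylow p G) :
    (P : Subgroup G) ≤ ⁅normalizer (Cfsg.centerThompsonOf p (P : Subgroup G) : Set G),
      normalizer (Cfsg.centerThompsonOf p (P : Subgroup G) : Set G)⁆ := by
  have hpr := (Fact.out : p.Prime)
  set N := normalizer (Cfsg.centerThompsonOf p (P : Subgroup G) : Set G)
  set L := ⁅N, N⁆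
  have hPN : (P : Subgroup G) ≤ N :=
    le_normalizer.trans (normalizer_le_normalizer_centerThompsonOf _)
  have hc := CfsgLib.PLocal.familyControls_at
    (by rintro W rfl; exact centerThompsonOf_isConjugacyFunctor)
    (centerThompsonOf_controls hG P) (CfsgLib.PLocal.sylowIn_top P)
  have hstep : ∀ (A : Set G) (h : G), CfsgLib.PLocal.FusRel
      (CfsgLib.PLocal.FamStep {Cfsg.centerThompsonOf p} ⊤ (P : Subgroup G)) (P : Set G) A h →
      ∀ a ∈ A, h * a * h⁻¹ * a⁻¹ ∈ L := by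
    intro A h hr
    induction hr with
    | refl hA hfix => intro a ha; rw [hfix a ha, mul_inv_cancel]; exact one_mem L
    | @step A x h hA hx _ ih =>
      intro a ha
      obtain ⟨W, rfl, -, hxN⟩ := hx
      have h1 := ih _ ⟨a, ha, rfl⟩
      have h2 : x * a * x⁻¹ * a⁻¹ ∈ L := by
        rw [← commutatorElement_def]; exact commutator_mem_commutator hxN (hPN (hA ha))
      have := mul_mem h1 h2
      rwa [show h * (x * a * x⁻¹) * h⁻¹ * (x * a * x⁻¹)⁻¹ * (x * a * x⁻¹ * a⁻¹)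
        = h * x * a * (h * x)⁻¹ * a⁻¹ by group] at this
  have hfoc : (P : Subgroup G).focalSubgroup ≤ L := by
    rw [focalSubgroup_def, closure_le]
    rintro _ ⟨hmem, x, hx, u, rfl⟩
    have hy : u * x⁻¹ * u⁻¹ ∈ (P : Subgroup G) := by
      have := mul_mem (inv_mem hx) hmem
      simpa [commutatorElement_def, mul_assoc] using this
    have h1 := hstep _ _ (hc {x⁻¹} u (mem_top u) (Set.singleton_subset_iff.2 (inv_mem hx))
      (by rintro _ ⟨a, rfl, rfl⟩; exact hy)) x⁻¹ rfl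
    rw [inv_inv] at h1
    rw [SetLike.mem_coe, commutatorElement_def,
      show x * u * x⁻¹ * u⁻¹ = x * (u * x⁻¹ * u⁻¹ * x) * x⁻¹ by group]
    exact (mem_normalizer_iff.1 (normalizer_commutator_ge_right N N (hPN hx)) _).1 h1
  have hcop : ((P : Subgroup G)).index.Coprime
      (Nat.card ((P : Subgroup G) ⧸ (P : Subgroup G).focalSubgroupOf)) := by
    refine (Nat.Coprime.coprime_dvd_right (card_quotient_dvd_card _) ?_)
    obtain ⟨k, hk⟩ := IsPGroup.iff_card.1 P.2
    rw [hk]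
    exact ((hpr.coprime_iff_not_dvd.2 P.not_dvd_index).symm).pow_right k
  have h := (CfsgLib.Transfer.commutator_inf_eq_focal_of_coprime _ hcop).1
  have hG' : _root_.commutator G = ⊤ := by
    refine (minSimple_eq_bot_or_top hG _).resolve_left fun hb => minSimple_not_commutative hG ?_
    refine ⟨⟨fun a b => commutatorElement_eq_one_iff_mul_comm.1 ?_⟩⟩
    have h' : ⁅a, b⁆ ∈ _root_.commutator G := by
      rw [_root_.commutator_def]; exact commutator_mem_commutator (mem_top _) (mem_top _)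
    rwa [hb, mem_bot] at h'
  rw [hG', top_inf_eq] at h
  exact h.le.trans hfoc

end CfsgLib.OddLocal
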