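import Cfsg.Agent.S1393
import Cfsg.Agent.S1395
import Cfsg.Agent.S1396
import Cfsg.Agent.Lib.OddLocal.UniqueBasic
import Cfsg.Agent.Lib.OddLocal.ZJFusion
import Cfsg.Agent.Lib.OddLocal.PStable
import Cfsg.Agent.Lib.OddLocal.PLocalCore
import Cfsg.Agent.Lib.OddLocal.RankTwoSolvable
import Cfsg.Agent.Lib.OddLocal.NormalRankThree
import Cfsg.Agent.Lib.PLocal.SylowIn

/-!
A `p`-subgroup `B` of a maximal subgroup `M` such that every `B`-invariant `p'`-subgroup lies in
`M` has `M` as its only maximal overgroup (minimal simple groups of odd order).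
-/

set_option autoImplicit false

open Subgroup
open scoped commutatorElement
open CfsgLib.PLocal (SylowIn conjMap)

namespace CfsgLib.OddLocal

universe u
variable {G : Type u} [Group G] [Finite G] {p : ℕ} [hp : Fact p.Prime]

theorem ne_two_of_dvd (hG : Cfsg.IsMinSimpleOddOrder G) (hdvd : p ∣ Nat.card G) : p ≠ 2 := by
  rintro rfl
  exact (Nat.not_even_iff_odd.2 hG.1) (even_iff_two_dvd.2 hdvd)

theorem dvd_card_of_pGroup_ne_bot {B : Subgroup G} (hB : IsPGroup p B) (h1 : B ≠ ⊥) :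
    p ∣ Nat.card G := by
  obtain ⟨n, hn⟩ := IsPGroup.iff_card.1 hB
  have hn0 : n ≠ 0 := fun h => h1 (eq_bot_of_card_eq _ (by rw [hn, h, pow_zero]))
  exact (hn ▸ dvd_pow_self p hn0).trans (card_subgroup_dvd_card B)

theorem exists_sylow_subgroupOf {H P : Subgroup G} (hP : SylowIn p P H) :
    ∃ S : Sylow p H, (S : Subgroup H) = P.subgroupOf H := by
  obtain ⟨S, hS⟩ := (hP.2.1.comap_subtype (K := H)).exists_le_sylow
  refine ⟨S, (eq_of_le_of_card_ge hS ?_).symm⟩
  show _ ≤ Nat.card (P.subgroupOf H)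
  rw [CfsgLib.Coprime.card_subgroupOf hP.1, ← card_map_of_injective (K := (S : Subgroup H)) H.subtype_injective]
  exact hP.card_le (S.2.map _) (map_subtype_le _)

/-- In a solvable group, a `p'`-subgroup normalized by a Sylow `p`-subgroup lies in the `p'`-core. -/
theorem le_oPrime_of_sylow_invariant (hp2 : p ≠ 2) {H P Y : Subgroup G} [Group.IsSolvable H]
    (hP : SylowIn p P H) (hY : Y ≤ H) (hPY : P ≤ normalizer (Y : Set G))
    (hc : (Nat.card Y).Coprime p) : Y ≤ oPrime p H := by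
  rw [oPrime_eq]
  obtain ⟨S, hS⟩ := exists_sylow_subgroupOf hP
  have h := le_pPrimeCore_of_invariant (H := H) (Cfsg.Agent.S1396.isPConstrained_of_solvable H)
    (fun h => absurd h hp2) (S : Subgroup H) (Y.subgroupOf H) S.2 (fun x hx hxp => ?_) ?_
    (by rwa [CfsgLib.Coprime.card_subgroupOf hY])
  · intro y hy
    exact ⟨⟨y, hY hy⟩, h hy, rfl⟩
  · have hn : zpowers x ≤ normalizer ((S : Subgroup H) : Set H) := by
      rw [zpowers_le]; exact centralizer_le_normalizer _ hx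
    have h2 : IsPGroup p ↥((S : Subgroup H) ⊔ zpowers x) := IsPGroup.to_sup_of_normal_left' S.2 hxp hn
    have h3 := S.3 h2 le_sup_left
    exact h3.le (mem_sup_right (mem_zpowers x))
  · intro x hx
    rw [hS, mem_subgroupOf] at hx
    rw [mem_normalizer_iff]
    intro y
    exact mem_normalizer_iff.1 (hPY hx) y

/-- Frattini factorisation `H = O_{p'}(H) N_H(T)` with `T = P ∩ O_{p',p}(H)`. -/
theorem exists_pCore_factor {H P : Subgroup G} (hP : SylowIn p P H) :
    ∃ T : Subgroup G, T ≤ P ∧ P ≤ normalizer (T : Set G) ∧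
      (∀ x ∈ P, ∀ hx : x ∈ H, (⟨x, hx⟩ : H) ∈ Cfsg.pPrimePCore p H → x ∈ T) ∧
      ∀ h ∈ H, ∃ o ∈ oPrime p H, ∃ n ∈ H, n ∈ normalizer (T : Set G) ∧ h = o * n := by
  obtain ⟨S, hS⟩ := exists_sylow_subgroupOf hP
  haveI := CfsgLib.Solvable.pPrimeCore_normal p H
  set O := Cfsg.pPrimeCore p H with hO
  set f := QuotientGroup.mk' O
  haveI := CfsgLib.Solvable.pCore_normal p (H ⧸ O)
  set U := Cfsg.pPrimePCore p H with hU
  haveI hUn : U.Normal := Subgroup.Normal.comap inferInstance _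
  set T₀ := (S : Subgroup H) ⊓ U
  have hT₀P : T₀.map H.subtype ≤ P := by
    rintro _ ⟨x, hx, rfl⟩
    exact mem_subgroupOf.1 (hS.le hx.1)
  refine ⟨T₀.map H.subtype, hT₀P, ?_, fun x hxP hx hxU => ⟨⟨x, hx⟩, ⟨?_, hxU⟩, rfl⟩, fun h hh => ?_⟩
  · intro x hxP
    refine le_normalizer_map H.subtype ⟨⟨x, hP.1 hxP⟩, ?_, rfl⟩
    refine Subgroup.inf_normalizer_le_normalizer_inf ⟨le_normalizer ?_, ?_⟩
    · exact hS.ge (mem_subgroupOf.2 hxP)
    · rw [normalizer_eq_top]; exact mem_top _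
  · exact hS.ge (mem_subgroupOf.2 hxP)
  obtain ⟨c, hc, n, hn, hcn⟩ := CfsgLib.PLocal.frattini_mul S U ⟨h, hh⟩
  have hsol : f c ∈ ((S : Subgroup H).map f) := by
    have h' := CfsgLib.Solvable.pCore_le_sylow (S.mapSurjective (QuotientGroup.mk'_surjective O)) hc
    rwa [Sylow.coe_mapSurjective] at h'
  obtain ⟨s, hs, hsc⟩ := hsol
  have ho : c * s⁻¹ ∈ O := by
    rw [← QuotientGroup.eq_one_iff (N := O)]
    show f (c * s⁻¹) = 1
    rw [map_mul, map_inv, hsc, mul_inv_cancel]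
  have hsU : s ∈ U := by
    have hc' : f c ∈ Cfsg.pCore p (H ⧸ O) := hc
    have h2 : f s ∈ Cfsg.pCore p (H ⧸ O) := by rw [hsc]; exact hc'
    exact h2
  refine ⟨((c * s⁻¹ : H) : G), ?_, ((s * n : H) : G), (s * n).2, ?_, ?_⟩
  · rw [oPrime_eq]; exact ⟨_, ho, rfl⟩
  · exact le_normalizer_map H.subtype ⟨_, mul_mem (le_normalizer ⟨hs, hsU⟩) hn, rfl⟩
  · have e : (⟨h, hh⟩ : H) = (c * s⁻¹) * (s * n) := by rw [hcn]; group
    exact congrArg Subtype.val e

/-- Abelian normal subgroups of a Sylow subgroup lie in `O_{p',p}`. -/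
theorem mem_pPrimePCore_of_normal_abelian {H P A : Subgroup G} [Group.IsSolvable H]
    (hodd : Odd (Nat.card H)) (hP : SylowIn p P H) (hAP : A ≤ P) (hAn : P ≤ normalizer (A : Set G))
    (hAc : IsMulCommutative A) {a : G} (ha : a ∈ A) :
    (⟨a, hP.1 (hAP ha)⟩ : H) ∈ Cfsg.pPrimePCore p H := by
  obtain ⟨S, hS⟩ := exists_sylow_subgroupOf hP
  haveI := CfsgLib.Solvable.pPrimeCore_normal p H
  set O := Cfsg.pPrimeCore p H
  set f := QuotientGroup.mk' O
  haveI : Group.IsSolvable (H ⧸ O) := Group.isSolvable_of_surjective (QuotientGroup.mk'_surjective O)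
  set Q := Cfsg.pCore p (H ⧸ O) with hQ
  haveI hQn : Q.Normal := CfsgLib.Solvable.pCore_normal p _
  have hQp : IsPGroup p Q := CfsgLib.Solvable.pCore_isPGroup p
  set B := (A.subgroupOf H).map f
  have hBc : IsMulCommutative B := by
    refine ⟨⟨fun x y => Subtype.ext ?_⟩⟩
    obtain ⟨u, hu, hux⟩ := x.2
    obtain ⟨v, hv, hvy⟩ := y.2
    show (x : H ⧸ O) * y = y * x
    rw [← hux, ← hvy, ← map_mul, ← map_mul]
    congr 1
    exact Subtype.ext (congrArg (fun z : A => (z : G)) (hAc.is_comm.comm (⟨u, hu⟩ : A) ⟨v, hv⟩))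
  show f (⟨a, hP.1 (hAP ha)⟩ : H) ∈ Q
  have h := quadratic_mem_pCore (hodd.of_dvd_nat (card_quotient_dvd_card O)) Q hQp Q
    (CfsgLib.Solvable.centralizer_pCore_le p (CfsgLib.Solvable.pPrimeCore_quotient_eq_bot p))
    (a := f (⟨a, hP.1 (hAP ha)⟩ : H)) fun x hx => ?_
  · rw [CfsgLib.Solvable.pCore_quotient_eq_bot p, mem_bot] at h
    exact (QuotientGroup.eq_one_iff _).1 h
  refine quad_of_normalizes hBc ⟨_, ha, rfl⟩ ?_
  have hxS := CfsgLib.Solvable.pCore_le_sylow (S.mapSurjective (QuotientGroup.mk'_surjective O)) hx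
  rw [Sylow.coe_mapSurjective] at hxS
  obtain ⟨s, hs, rfl⟩ := hxS
  refine le_normalizer_map f ⟨s, ?_, rfl⟩
  replace hs := mem_subgroupOf.1 (hS.le hs)
  rw [SetLike.mem_coe, mem_normalizer_iff]
  intro y
  exact mem_normalizer_iff.1 (hAn hs) y

/-- A normal elementary abelian subgroup of order `p²`. -/
theorem exists_normal_elementary_sq {R : Type*} [Group R] [Finite R] (hp2 : p ≠ 2) (hR : IsPGroup p R)
    (hr : ¬ Cfsg.PRankLE p 2 R) :
    ∃ E : Subgroup R, E.Normal ∧ Cfsg.IsElementaryAbelian p E ∧ Nat.card E = p ^ 2 := by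
  have hpr := hp.out
  obtain ⟨E3, hc3, he3, hk3⟩ := exists_elementary_of_not_pRankLE hR hr
  obtain ⟨M, hMn, hMe, hM3⟩ := exists_normal_elementary_three hp2 hR hc3 he3 hk3
  obtain ⟨k, hk⟩ := IsPGroup.iff_card.1 (hR.to_subgroup M)
  suffices key : ∀ (d : ℕ), d + 2 ≤ k → ∃ E : Subgroup R, E.Normal ∧ E ≤ M ∧ Nat.card E = p ^ (k - d) by
    have h2k : 2 ≤ k := by
      have h3k : 3 ≤ k := (Nat.pow_le_pow_iff_right hpr.one_lt).1 (hk ▸ hM3)
      omega
    obtain ⟨E, hEn, hEM, hEc⟩ := key (k - 2) (by omega)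
    refine ⟨E, hEn, ⟨⟨⟨fun x y => Subtype.ext ?_⟩⟩, fun x hx => hMe.2 x (hEM hx)⟩, ?_⟩
    · exact congrArg (fun z : M => (z : R)) (hMe.1.is_comm.comm (⟨x, hEM x.2⟩ : M) ⟨y, hEM y.2⟩)
    · rw [hEc, show k - (k - 2) = 2 by omega]
  intro d
  induction d with
  | zero => exact fun _ => ⟨M, hMn, le_rfl, by rw [Nat.sub_zero, hk]⟩
  | succ d ih =>
    intro hd
    obtain ⟨E, hEn, hEM, hEc⟩ := ih (by omega)
    haveI := hEn
    have hne : E ≠ ⊥ := fun h => by
      rw [h, card_bot] at hEc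
      exact absurd hEc.symm (Nat.one_lt_pow (by omega) hpr.one_lt).ne'
    obtain ⟨F, hFn, hFE, hFc, -, -⟩ := CfsgLib.Transfer.exists_chief_below hR E hne
    refine ⟨F, hFn, hFE.trans hEM, ?_⟩
    rw [hEc, show k - d = (k - (d + 1)) + 1 by omega, pow_succ'] at hFc
    exact (Nat.eq_of_mul_eq_mul_left hpr.pos hFc).symm

/-- A Sylow subgroup of rank at least three has a member of `SCN₃`. -/
theorem exists_isSCN_three (hp2 : p ≠ 2) (P : Subgroup G) (hP : IsPGroup p P)
    (hr : ¬ Cfsg.PRankLE p 2 P) :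
    ∃ A : Subgroup G, Cfsg.IsSCN P A ∧ IsMulCommutative A ∧ IsPGroup p A ∧ ¬ Cfsg.PRankLE p 2 A := by
  obtain ⟨E, hEn, hEe, hE2⟩ := exists_normal_elementary_sq hp2 hP hr
  haveI := hEn
  obtain ⟨A, -, hAn, hAc, hcen, hA3⟩ := exists_scn_three hp2 hP hr E hEe hE2
  refine ⟨A.map P.subtype, ⟨map_subtype_le _, ?_, ?_⟩, ?_, (hP.to_subgroup A).map _, ?_⟩
  · have h := le_normalizer_map (H := A) P.subtype
    rwa [normalizer_eq_top, ← MonoidHom.range_eq_map, range_subtype] at h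
  · apply le_antisymm
    · rintro x ⟨hxP, hxC⟩
      refine ⟨⟨x, hxP⟩, hcen.le ?_, rfl⟩
      exact mem_centralizer_iff.2 fun a ha => Subtype.ext (mem_centralizer_iff.1 hxC a ⟨a, ha, rfl⟩)
    · rintro _ ⟨a, ha, rfl⟩
      refine ⟨a.2, mem_centralizer_iff.2 ?_⟩
      rintro _ ⟨b, hb, rfl⟩
      exact congrArg (fun z : P => (z : G)) (congrArg Subtype.val (hAc.is_comm.comm (⟨b, hb⟩ : A) ⟨a, ha⟩))
  · haveI := hAc; infer_instance
  · intro h
    refine hA3 fun B hBc hBe => ?_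
    rw [← card_map_of_injective (K := B) (f := (A.equivMapOfInjective P.subtype P.subtype_injective).toMonoidHom)
      (MulEquiv.injective _)]
    refine h _ (haveI := hBc; inferInstance) ?_
    rintro _ ⟨b, hb, rfl⟩
    rw [← map_pow, hBe b hb, map_one]

theorem not_rankLE_of_not_pRankLE {X : Type u} [Group X] {k : ℕ} (h : ¬ Cfsg.PRankLE p k X) :
    ¬ Cfsg.RankLE k X := fun h' => h (h' p hp.out)

theorem pRankLE_mono {X : Type*} [Group X] {j k : ℕ} (hjk : j ≤ k) (h : Cfsg.PRankLE p j X) :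
    Cfsg.PRankLE p k X := fun A hc he => (h A hc he).trans (Nat.pow_le_pow_right hp.out.pos hjk)

theorem singleton_eq_of_prime {q : ℕ} {Q : Subgroup G} [Fact q.Prime] (hQ : IsPGroup q Q) (hqp : q ≠ p) :
    (Nat.card Q).Coprime p := by
  obtain ⟨n, hn⟩ := IsPGroup.iff_card.1 hQ
  rw [hn]
  exact ((Nat.coprime_primes (Fact.out : q.Prime) hp.out).2 hqp).pow_left n

/-- The first step of the uniqueness theorem: a signalizer criterion. -/
theorem inUniqueMax_of_signalizers (hG : Cfsg.IsMinSimpleOddOrder G) {M B : Subgroup G}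
    (hM : IsCoatom M) (hBp : IsPGroup p B) (hB1 : B ≠ ⊥) (hBM : B ≤ M)
    (hsig : ∀ Y : Subgroup G, (Nat.card Y).Coprime p → B ≤ normalizer (Y : Set G) → Y ≤ M) :
    Cfsg.InUniqueMaximal B := by
  have hpr := hp.out
  have hdvd := dvd_card_of_pGroup_ne_bot hBp hB1
  have hp2 := ne_two_of_dvd hG hdvd
  haveI := minSimple_isSolvable hG hM.1
  have hMn : M ≤ normalizer (oPrime p M : Set G) := le_normalizer.trans (le_normalizer_piCoreOf _ _)
  set O := oPrime p M with hOdef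
  -- invariant `p'`-subgroups under a Sylow subgroup of `M`
  have hPinv : ∀ P : Subgroup G, SylowIn p P M → B ≤ P → ∀ Y : Subgroup G,
      (Nat.card Y).Coprime p → P ≤ normalizer (Y : Set G) → Y ≤ O := fun P hP hBP Y hY hPY =>
    le_oPrime_of_sylow_invariant hp2 hP (hsig Y hY (hBP.trans hPY)) hPY hY
  have hZJnormal : ∀ P : Subgroup G, SylowIn p P M → O = ⊥ → P ≠ ⊥ →
      normalizer (Cfsg.centerThompsonOf p P : Set G) = M := by
    intro P hP hO hP1
    obtain ⟨S, hS⟩ := exists_sylow_subgroupOf hP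
    have hO' : Cfsg.pPrimeCore p M = ⊥ := by
      apply map_injective M.subtype_injective
      rw [← oPrime_eq, Subgroup.map_bot]; exact hO
    have hn := centerThompsonOf_normal (minSimple_odd hG M) hO' S
    have hle : M ≤ normalizer (Cfsg.centerThompsonOf p P : Set G) := by
      have h := le_normalizer_map (H := Cfsg.centerThompsonOf p (S : Subgroup M)) M.subtype
      rwa [normalizer_eq_top, ← MonoidHom.range_eq_map, range_subtype,
        centerThompsonOf_map M.subtype (fun _ _ h => Subtype.ext h), hS,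
        map_subgroupOf_eq_of_le hP.1] at h
    exact normalizer_eq_of_coatom hG hM (CfsgLib.Char.centerThompsonOf_ne_bot hP.2.1 hP1)
      ((centerThompsonOf_le P).trans hP.1) hle
  -- `N_G(P) ≤ M`
  have hNP : ∀ P : Subgroup G, SylowIn p P M → B ≤ P → normalizer (P : Set G) ≤ M := by
    intro P hP hBP g hg
    by_cases hO : O = ⊥
    · rw [← hZJnormal P hP hO fun h => hB1 (le_bot_iff.1 (h ▸ hBP))]
      exact normalizer_le_normalizer_centerThompsonOf P hg
    · rw [← normalizer_eq_of_coatom hG hM hO (piCoreOf_le _ _) hMn, mem_normalizer_iff_map_conj_eq]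
      refine eq_of_le_of_card_ge (hPinv P hP hBP _ ?_ ?_)
        (le_of_eq (card_map_of_injective (MulAut.conj g).injective).symm)
      · rw [card_map_of_injective (MulAut.conj g).injective]; exact coprime_oPrime M
      · have h := (map_mono (f := (MulAut.conj g).toMonoidHom) (hP.1.trans hMn)).trans (le_normalizer_map _)
        rwa [CfsgLib.Coprime.map_conj_of_mem_normalizer hg] at h
  -- Sylow subgroups of `M` over `B` are Sylow in `G`
  have hsyl : ∀ P : Subgroup G, SylowIn p P M → B ≤ P → ∃ S : Sylow p G, (S : Subgroup G) = P := by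
    intro P hP hBP
    obtain ⟨S, hS⟩ := hP.2.1.exists_le_sylow
    refine ⟨S, (eq_or_lt_of_le hS).elim Eq.symm fun hlt => absurd ?_ hlt.ne'⟩
    obtain ⟨g, hgS, hgN, hgP⟩ := CfsgLib.Transfer.exists_mem_normalizer_not_mem S.2 hlt
    have h := hP.eq_of_le (S.2.to_le (sup_le hlt.le (zpowers_le.2 hgS)))
      (sup_le hP.1 (zpowers_le.2 (hNP P hP hBP hgN))) le_sup_left
    exact absurd (h.ge (mem_sup_right (mem_zpowers g))) hgP
  -- `N_G(Z(J(P))) ≤ M`
  have hNZ : ∀ P : Subgroup G, SylowIn p P M → B ≤ P →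
      normalizer (Cfsg.centerThompsonOf p P : Set G) ≤ M := by
    intro P hP hBP
    have hP1 : P ≠ ⊥ := fun h => hB1 (le_bot_iff.1 (h ▸ hBP))
    by_cases hO : O = ⊥
    · exact (hZJnormal P hP hO hP1).le
    obtain ⟨S, rfl⟩ := hsyl P hP hBP
    set Z := Cfsg.centerThompsonOf p (S : Subgroup G)
    set L := normalizer (Z : Set G)
    have hL : L ≠ ⊤ := minSimple_normalizer_ne_top hG (CfsgLib.Char.centerThompsonOf_ne_bot hP.2.1 hP1)
      fun h => hM.1 (top_le_iff.1 (h ▸ (centerThompsonOf_le _).trans hP.1))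
    haveI := minSimple_isSolvable hG hL
    have hPL : SylowIn p (S : Subgroup G) L := by
      refine ⟨le_normalizer.trans (normalizer_le_normalizer_centerThompsonOf _), S.2, fun hd => ?_⟩
      exact S.not_dvd_index (hd.trans (relIndex_dvd_index_of_le
        (le_normalizer.trans (normalizer_le_normalizer_centerThompsonOf _))))
    have hOL : oPrime p L ≤ M :=
      hsig _ (coprime_oPrime L) (hBP.trans (hPL.1.trans (le_normalizer.trans (le_normalizer_piCoreOf _ _))))
    obtain ⟨T, hTP, hPT, hTmem, hfac⟩ := exists_pCore_factor hPL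
    suffices hNT : L ⊓ normalizer (T : Set G) ≤ M by
      intro h hh
      obtain ⟨o, ho, n, hnL, hn, rfl⟩ := hfac h hh
      exact mul_mem (hOL ho) (hNT ⟨hnL, hn⟩)
    by_cases hrk : Cfsg.PRankLE p 2 L
    · obtain ⟨-, -, hidx⟩ := rank_two_structure (minSimple_odd hG L) hp2 hrk
      have hST : (S : Subgroup G) ≤ T := fun x hx => hTmem x hx (hPL.1 hx) (by
        haveI := CfsgLib.Solvable.pPrimeCore_normal p L
        haveI := CfsgLib.Solvable.pCore_normal p (L ⧸ Cfsg.pPrimeCore p L)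
        haveI : (Cfsg.pPrimePCore p L).Normal := Subgroup.Normal.comap inferInstance _
        obtain ⟨k, hk⟩ := IsPGroup.iff_orderOf.1 S.2 ⟨x, hx⟩
        rw [Subgroup.orderOf_mk] at hk
        rw [← QuotientGroup.eq_one_iff, ← orderOf_eq_one_iff]
        refine Nat.eq_one_of_dvd_coprimes (hidx.symm.pow_left k)
          ?_ (index_eq_card (Cfsg.pPrimePCore p L) ▸ orderOf_dvd_natCard _)
        rw [← hk, ← Subgroup.orderOf_mk x (hPL.1 hx)]
        exact orderOf_map_dvd (QuotientGroup.mk' _) _)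
      rw [le_antisymm hTP hST]
      exact inf_le_right.trans (hNP _ hP hBP)
    -- rank at least three
    obtain ⟨E, hEc, hEe, hE⟩ : ∃ E : Subgroup L, IsMulCommutative E ∧ (∀ a ∈ E, a ^ p = 1) ∧
        p ^ 2 < Nat.card E := by
      rw [Cfsg.PRankLE] at hrk; push Not at hrk; exact hrk
    have hrkS : ¬ Cfsg.PRankLE p 2 (S : Subgroup G) := by
      intro h
      have hEp : IsPGroup p (E.map L.subtype) := by
        rintro ⟨_, a, ha, rfl⟩
        exact ⟨1, Subtype.ext (by simpa using congrArg Subtype.val (hEe a ha))⟩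
      obtain ⟨k, -, hk⟩ := hPL.exists_conj_le hEp (map_subtype_le _)
      haveI := hEc
      have h' := h ((conjMap k (E.map L.subtype)).subgroupOf (S : Subgroup G)) inferInstance fun a ha => by
        obtain ⟨_, ⟨b, hb, rfl⟩, hba⟩ := mem_subgroupOf.1 ha
        refine Subtype.ext ?_
        rw [SubmonoidClass.coe_pow, ← hba, ← map_pow, ← map_pow, hEe b hb, map_one, map_one]
        rfl
      rw [CfsgLib.Coprime.card_subgroupOf hk, CfsgLib.PLocal.card_conjMap,
        card_map_of_injective L.subtype_injective] at h'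
      exact absurd hE (not_lt.2 h')
    obtain ⟨A, hA, hAc, hAp, hA3⟩ := exists_isSCN_three hp2 _ S.2 hrkS
    have hA1 : ¬ Cfsg.PRankLE p 1 A := fun h => hA3 (pRankLE_mono one_le_two h)
    have hAne : A ≠ ⊥ := fun h => hA1 fun C _ _ => by
      subst h
      exact (card_le_card_group _).trans ((card_bot (G := G)).le.trans (Nat.one_le_pow _ _ hpr.pos))
    have hTH : Cfsg.TransitivityHypothesis A :=
      Cfsg.Agent.S1396.result hG p hdvd A hAp hAc (Or.inr ⟨S, hA, hA1⟩)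
    have hZ : ¬ Cfsg.RankLE 2 ↥(A ⊓ centralizer (A : Set G)) := by
      rw [inf_eq_left.2 (fun a ha => mem_centralizer_iff.2 fun b hb =>
        congrArg Subtype.val (hAc.is_comm.comm (⟨b, hb⟩ : A) ⟨a, ha⟩))]
      exact not_rankLE_of_not_pRankLE hA3
    have hAT : A ≤ T := fun a ha => hTmem a (hA.1 ha) (hPL.1 (hA.1 ha))
      (mem_pPrimePCore_of_normal_abelian (minSimple_odd hG L) hPL hA.1 hA.2.1 hAc ha)
    have hTne : T ≠ ⊥ := fun h => hAne (le_bot_iff.1 (h ▸ hAT))
    have hTtop : T ≠ ⊤ := fun h => hM.1 (top_le_iff.1 (h ▸ hTP.trans hP.1))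
    have hprimes : ∀ Q : Subgroup G, IsPGroup p Q → ∀ r : ℕ, r.Prime → r ∣ Nat.card Q → r ∣ Nat.card A := by
      intro Q hQ r hr hrd
      obtain ⟨n, hn⟩ := IsPGroup.iff_card.1 hQ
      rw [(Nat.prime_dvd_prime_iff_eq hr hpr).1 (hr.dvd_of_dvd_pow (hn ▸ hrd))]
      obtain ⟨m, hm⟩ := IsPGroup.iff_card.1 hAp
      exact hm ▸ dvd_pow_self p fun h => hAne (eq_bot_of_card_eq _ (by rw [hm, h, pow_zero]))
    have hsn : ∀ Q : Subgroup G, Q ≤ normalizer (A : Set G) → A ≤ Q → (A.subgroupOf Q).IsSubnormal :=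
      fun Q hQA hAQ => Subgroup.Normal.isSubnormal ((normal_subgroupOf_iff_le_normalizer hAQ).2 hQA)
    -- every `T`-invariant `p'`-subgroup lies in `O`
    have hTinv : ∀ Y : Subgroup G, (Nat.card Y).Coprime p → T ≤ normalizer (Y : Set G) → Y ≤ O := by
      intro Y hY hTY
      refine le_of_invariant_pGroups (S.2.to_le hTP) hY hTY fun q hq hqp Q _ hQ hTQ => ?_
      haveI := Fact.mk hq
      have hqA : ¬ q ∣ Nat.card A := fun h => by
        obtain ⟨n, hn⟩ := IsPGroup.iff_card.1 hAp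
        exact hqp ((Nat.prime_dvd_prime_iff_eq hq hpr).1 (hq.dvd_of_dvd_pow (hn ▸ h)))
      have htr := Cfsg.Agent.S1393.result hG A hTH hZ q hq hqA
      obtain ⟨-, htrT, -, -⟩ := Cfsg.Agent.S1395.result hG A hTH q hq hqA T hTtop
        (hprimes T (S.2.to_le hTP)) hAT (hsn T (hTP.trans hA.2.1) hAT) htr
      obtain ⟨-, -, hsubP, -⟩ := Cfsg.Agent.S1395.result hG A hTH q hq hqA (S : Subgroup G)
        (fun h => hM.1 (top_le_iff.1 (h ▸ hP.1))) (hprimes _ S.2) hA.1 (hsn _ hA.2.1 hA.1) htr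
      obtain ⟨Q₁, hQ₁, hQQ₁⟩ := exists_maxInv_ge (inv_of_isPGroup hQ hTQ)
      obtain ⟨Q₂, hQ₂, -⟩ := exists_maxInv_ge (bot_mem_invSubgroups ⊤ (S : Subgroup G) {q})
      have hQ₂T : Q₂ ∈ Cfsg.maxInvSubgroups ⊤ T {q} :=
        ⟨⟨le_top, hQ₂.1.2.1, hTP.trans hQ₂.1.2.2⟩, fun R hR hle =>
          (hsubP hQ₂).2 R ⟨le_top, hR.2.1, hAT.trans hR.2.2⟩ hle⟩
      obtain ⟨k, hk, hke⟩ := htrT Q₂ hQ₂T Q₁ hQ₁
      rw [primesNotDvd_eq hAp hAne] at hk
      have hKT : oPrime p (centralizer (T : Set G)) ≤ O :=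
        hPinv _ hP hBP _ (coprime_oPrime _) ((hPT.trans fun x hx => by
          refine map_conj_piCoreOf _ ?_
          rw [mem_normalizer_iff]
          intro y
          have hx' := mem_normalizer_iff''.1 hx
          have hx2 := mem_normalizer_iff.1 hx
          simp only [mem_centralizer_iff]
          constructor
          · intro h t ht
            have := h (x⁻¹ * t * x) ((hx' t).1 ht)
            calc t * (x * y * x⁻¹) = x * ((x⁻¹ * t * x) * y) * x⁻¹ := by group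
              _ = x * (y * (x⁻¹ * t * x)) * x⁻¹ := by rw [this]
              _ = x * y * x⁻¹ * t := by group
          · intro h t ht
            have := h (x * t * x⁻¹) ((hx2 t).1 ht)
            calc t * y = x⁻¹ * ((x * t * x⁻¹) * (x * y * x⁻¹)) * x := by group
              _ = x⁻¹ * ((x * y * x⁻¹) * (x * t * x⁻¹)) * x := by rw [this]
              _ = y * t := by group))
      have hQ₂p : IsPGroup q Q₂ := isPGroup_of_mem_inv hQ₂.1
      have hQ₂O : Q₂ ≤ O := hPinv _ hP hBP _ (singleton_eq_of_prime hQ₂p hqp) hQ₂.1.2.2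
      refine hQQ₁.trans ?_
      rw [hke]
      rintro _ ⟨x, hx, rfl⟩
      exact mul_mem (mul_mem (hKT hk) (hQ₂O hx)) (inv_mem (hKT hk))
    intro g hg
    rw [← normalizer_eq_of_coatom hG hM hO (piCoreOf_le _ _) hMn, mem_normalizer_iff_map_conj_eq]
    refine eq_of_le_of_card_ge (hTinv _ ?_ ?_) (le_of_eq (card_map_of_injective (MulAut.conj g).injective).symm)
    · rw [card_map_of_injective (MulAut.conj g).injective]; exact coprime_oPrime M
    · have h := (map_mono (f := (MulAut.conj g).toMonoidHom) ((hTP.trans hP.1).trans hMn)).trans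
        (le_normalizer_map _)
      rwa [CfsgLib.Coprime.map_conj_of_mem_normalizer hg.2] at h
  -- the main argument
  classical
  refine inUniqueMax_of hM hBM fun H₀ hH₀ hBH₀ => ?_
  by_contra hne₀
  obtain ⟨⟨H, R⟩, ⟨hH, hBH, hne, hR, hBR⟩, hmax⟩ := Set.exists_max_image
    {x : Subgroup G × Subgroup G | IsCoatom x.1 ∧ B ≤ x.1 ∧ x.1 ≠ M ∧ SylowIn p x.2 (x.1 ⊓ M) ∧ B ≤ x.2}
    (fun x => Nat.card x.2) (Set.toFinite _)
    (by
      obtain ⟨R, hR, hBR⟩ := CfsgLib.PLocal.exists_sylowIn_le hBp (le_inf hBH₀ hBM)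
      exact ⟨(H₀, R), hH₀, hBH₀, hne₀, hR, hBR⟩)
  simp only at hH hBH hne hR hBR hmax
  have hgrow : ∀ L : Subgroup G, IsCoatom L → ∀ R' : Subgroup G, IsPGroup p R' → R' ≤ L → R' ≤ M →
      B ≤ R' → Nat.card R < Nat.card R' → L = M := by
    intro L hL R' hR'p hR'L hR'M hBR' hlt
    by_contra hLne
    obtain ⟨T, hT, hR'T⟩ := CfsgLib.PLocal.exists_sylowIn_le hR'p (le_inf hR'L hR'M)
    have := hmax (L, T) ⟨hL, hBR'.trans hR'L, hLne, hT, hBR'.trans hR'T⟩
    exact absurd ((card_le_of_le hR'T).trans this) (not_le.2 hlt)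
  have hR1 : R ≠ ⊥ := fun h => hB1 (le_bot_iff.1 (h ▸ hBR))
  have hRM : R ≤ M := hR.1.trans inf_le_right
  have hRH : R ≤ H := hR.1.trans inf_le_left
  obtain ⟨P, hP, hRP⟩ := CfsgLib.PLocal.exists_sylowIn_le hR.2.1 hRM
  haveI := minSimple_isSolvable hG hH.1
  set Z := Cfsg.centerThompsonOf p R
  have hNRZ : normalizer (R : Set G) ≤ normalizer (Z : Set G) := normalizer_le_normalizer_centerThompsonOf R
  have hZtop : normalizer (Z : Set G) ≠ ⊤ :=
    minSimple_normalizer_ne_top hG (CfsgLib.Char.centerThompsonOf_ne_bot hR.2.1 hR1)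
      fun h => hM.1 (top_le_iff.1 (h ▸ (centerThompsonOf_le R).trans hRM))
  have hNZR : normalizer (Z : Set G) ≤ M := by
    rcases eq_or_lt_of_le hRP with heq | hlt
    · subst heq; exact hNZ R hP hBR
    · obtain ⟨g, hgP, hgN, hgR⟩ := CfsgLib.Transfer.exists_mem_normalizer_not_mem hP.2.1 hlt
      obtain ⟨L, hL, hNL⟩ := exists_coatom_ge hZtop
      have hLM : L = M := hgrow L hL (R ⊔ zpowers g) (hP.2.1.to_le (sup_le hlt.le (zpowers_le.2 hgP)))
        (sup_le ((le_normalizer.trans hNRZ).trans hNL) (zpowers_le.2 (hNL (hNRZ hgN))))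
        (sup_le hRM (zpowers_le.2 (hP.1 hgP))) (hBR.trans le_sup_left)
        (lt_of_le_of_ne (card_le_of_le le_sup_left) fun h =>
          hgR ((eq_of_le_of_card_ge le_sup_left h.ge).ge (mem_sup_right (mem_zpowers g))))
      exact hLM ▸ hNL
  -- `R` is Sylow in `H`
  obtain ⟨S, hS, hRS⟩ := CfsgLib.PLocal.exists_sylowIn_le hR.2.1 hRH
  rcases eq_or_lt_of_le hRS with heq | hlt
  · subst heq
    obtain ⟨S', hS'⟩ := exists_sylow_subgroupOf hS
    have hfac := centerThompsonOf_factorization (minSimple_odd hG H) S'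
    refine hne (eq_of_le_of_not_lt ?_ fun hlt => hM.1 (hH.2 M hlt))
    intro h hh
    haveI := CfsgLib.Solvable.pPrimeCore_normal p H
    obtain ⟨o, ho, n, hn, hon⟩ := (CfsgLib.Coprime.mem_sup_of_le_normalizer
      (le_top.trans (normalizer_eq_top (Cfsg.pPrimeCore p H)).ge)).1
      (hfac ▸ mem_top (⟨h, hh⟩ : H))
    rw [show h = (o : G) * n from congrArg Subtype.val hon.symm]
    refine mul_mem (hsig _ (coprime_oPrime H) (hBH.trans (le_normalizer.trans (le_normalizer_piCoreOf _ _))) ?_) (hNZR ?_)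
    · exact (oPrime_eq H).ge ⟨o, ho, rfl⟩
    · have h' := le_normalizer_map H.subtype ⟨n, hn, rfl⟩
      rwa [centerThompsonOf_map H.subtype (fun _ _ h => Subtype.ext h), hS',
        map_subgroupOf_eq_of_le hRH] at h'
  · obtain ⟨g, hgS, hgN, hgR⟩ := CfsgLib.Transfer.exists_mem_normalizer_not_mem hS.2.1 hlt
    have h := hR.eq_of_le (hS.2.1.to_le (sup_le hlt.le (zpowers_le.2 hgS)))
      (le_inf (sup_le hRH (zpowers_le.2 (hS.1 hgS))) (sup_le hRM (zpowers_le.2 (hNZR (hNRZ hgN)))))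
      le_sup_left
    exact hgR (h.ge (mem_sup_right (mem_zpowers g)))

end CfsgLib.OddLocal
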